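import Groth.Statements.S8840
import Groth.Agent.Frg27.RigPoints

set_option autoImplicit false
universe u
open AdicRing

namespace Groth.Agent.S8840

/-- Let A be a Noetherian ring complete for the adic topology of an ideal I, and B a Noetherian
A-algebra complete for the IB-adic topology with B/IB of finite type over A (an adic morphism,
topologically of finite type, of adic Noetherian topological rings). Let q be a prime of B which is
rig-closed (IB ⊄ q and q maximal among the primes not containing IB). Then there exists f ∈ A which
maps to a unit in B/q such that the following holds. Let A_{f} and B_{f} be the completed principal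
localizations (the I-adic completions of A_f and B_f) and ψ : A_{f} → B_{f} the canonical map,
characterised here as any ring map compatible with A_f → B_f (there is exactly one). Then the
inverse image p' under ψ of the ideal q' = q B_{f} is a rig-closed prime of A_{f}: p' is prime, I
A_{f} ⊄ p', and p' is maximal among the primes of A_{f} not containing I A_{f}. (That q B_{f} is
itself prime with quotient B/q holds because f is a unit modulo q; it is not restated.) -/
theorem result (A : Type u) [CommRing A] [IsNoetherianRing A] (I : Ideal A) [IsAdicComplete I A] (B : Type u) [CommRing B] [Algebra A B] [IsNoetherianRing B] [IsAdicComplete (I.map (algebraMap A B)) B] (hft : Algebra.FiniteType A (B ⧸ (I.map (algebraMap A B)))) (q : PrimeSpectrum B) (hq : (¬ (I.map (algebraMap A B)) ≤ q.asIdeal ∧ ∀ y : PrimeSpectrum B, q ≤ y → ¬ (I.map (algebraMap A B)) ≤ y.asIdeal → y = q)) : ∃ f : A, IsUnit (Ideal.Quotient.mk q.asIdeal (algebraMap A B f)) ∧ ∀ ψ : (AdicCompletion (I.map (algebraMap A (Localization.Away f))) (Localization.Away f)) →+* (AdicCompletion ((I.map (algebraMap A B)).map (algebraMap B (Localization.Away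 (algebraMap A B f)))) (Localization.Away (algebraMap A B f))), ψ.comp (algebraMap (Localization.Away f) (AdicCompletion (I.map (algebraMap A (Localization.Away f))) (Localization.Away f))) = (algebraMap (Localization.Away (algebraMap A B f)) (AdicCompletion ((I.map (algebraMap A B)).map (algebraMap B (Localization.Away (algebraMap A B f)))) (Localization.Away (algebraMap A B f)))).comp (Localization.awayMap (algebraMap A B) f) → (((q.asIdeal.map (algebraMap B (AdicCompletion ((I.map (algebraMap A B)).map (algebraMap B (Localization.Away (algebraMap A B f)))) (Localization.Away (algebraMap A B f))))).comap ψ).IsPrime ∧ ¬ (I.map (algebraMap A (AdicCompletion (I.map (algebraMap A (Localization.Away f))) (Localization.Away f)))) ≤ ((q.asIdeal.map (algebraMap B (AdicCompletion ((I.map (algebraMap A B)).map (algebraMap B (Localization.Away (algebraMap A B f)))) (Localization.Away (algebraMap A B f))))).comap ψ) ∧ ∀ y : PrimeSpectrum (AdicCompletion (I.map (algebraMap A (Localization.Away f))) (Localization.Away f)), ((q.asIdeal.map (algebraMap B (AdicCompletion ((I.map (algebraMap A B)).map (algebraMap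 B (Localization.Away (algebraMap A B f)))) (Localization.Away (algebraMap A B f))))).comap ψ) ≤ y.asIdeal → ¬ (I.map (algebraMap A (AdicCompletion (I.map (algebraMap A (Localization.Away f))) (Localization.Away f)))) ≤ y.asIdeal → y.asIdeal = ((q.asIdeal.map (algebraMap B (AdicCompletion ((I.map (algebraMap A B)).map (algebraMap B (Localization.Away (algebraMap A B f)))) (Localization.Away (algebraMap A B f))))).comap ψ)) := by
  set IB := I.map (algebraMap A B) with hIB
  obtain ⟨f, hf, hgood⟩ := Frg27.exists_good (J := I) hft hq
  have hf' : IsUnit (Ideal.Quotient.mk q.asIdeal (algebraMap A B f)) := hf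
  refine ⟨f, hf', fun ψ hψ => ?_⟩
  haveI := Frg27.cl_noetherian I f
  haveI := Frg27.cl_complete I f
  haveI := Frg27.cl_noetherian IB (algebraMap A B f)
  haveI := Frg27.cl_complete_base (J := I) (algebraMap A B f)
  haveI := Frg27.complete_quotient (R := A) (J := I) q.asIdeal
  haveI : IsAdicComplete (IB.map (algebraMap B (B ⧸ q.asIdeal))) (B ⧸ q.asIdeal) := by
    rw [hIB, Frg27.map_eq_of_tower]
    infer_instance
  let Φ : B →ₐ[A] Frg27.CL IB (algebraMap A B f) := IsScalarTower.toAlgHom A B _
  let π := Frg27.clLift IB (algebraMap A B f) (T := B ⧸ q.asIdeal) hf'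
  obtain ⟨q', hrig, hcomap, hsurj⟩ := Frg27.exists_point (J := I) hq Φ (π.restrictScalars A)
    (fun x => π.commutes x)
  let ψ' := Frg27.toAlgHomOfCompat ψ hψ
  have hfin := Frg27.finite_of_good hgood hcomap hsurj ψ' (Frg27.isUnit_cl I f)
  have hp := Frg27.isRig_comap hrig ψ' hfin
  have hmap : q.asIdeal.map (algebraMap B (Frg27.CL IB (algebraMap A B f))) = q'.asIdeal := by
    refine le_antisymm (Ideal.map_le_iff_le_comap.mpr fun x hx => ?_) fun x hx => ?_
    · rw [← hcomap] at hx
      exact hx
    · obtain ⟨b, hb⟩ := (S8837.result B IB q.asIdeal (algebraMap A B f) hf').2.2 (Ideal.Quotient.mk _ x)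
      obtain ⟨b, rfl⟩ := Ideal.Quotient.mk_surjective b
      rw [Ideal.quotientMap_mk, Ideal.Quotient.eq] at hb
      have hle : q.asIdeal.map (algebraMap B (Frg27.CL IB (algebraMap A B f))) ≤ q'.asIdeal :=
        Ideal.map_le_iff_le_comap.mpr fun y hy => by rw [← hcomap] at hy; exact hy
      have hb' : b ∈ q.asIdeal := by
        rw [← hcomap]
        change algebraMap B _ b ∈ q'.asIdeal
        have := add_mem (hle hb) hx
        rwa [sub_add_cancel] at this
      have h2 := sub_mem (Ideal.mem_map_of_mem (algebraMap B (Frg27.CL IB (algebraMap A B f))) hb') hb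
      rwa [sub_sub_cancel] at h2
  rw [hmap]
  refine ⟨Ideal.comap_isPrime _ _, hp.1, fun y hy hy' => ?_⟩
  exact congrArg PrimeSpectrum.asIdeal (hp.2 y hy hy')

end Groth.Agent.S8840
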