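import Groth.Statements.S8841
import Groth.Agent.Frg27.RigPoints

set_option autoImplicit false
universe u
open AdicRing

namespace Groth.Agent.S8841

/-- Let A be a Noetherian ring complete for the adic topology of an ideal I, and B a Noetherian
A-algebra complete for the IB-adic topology with B/IB of finite type over A (an adic morphism,
topologically of finite type, of adic Noetherian topological rings), and assume A/I is a Jacobson
ring. Suppose A → B is naively rig-flat: whenever q is a rig-closed prime of B (IB ⊄ q and q maximal
among the primes not containing IB), the localization B_q is an A-flat ring. Then A → B is rig-flat: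
for every f ∈ A, letting A_{f} and B_{f} be the completed principal localizations (the I-adic
completions of A_f and B_f) and ψ : A_{f} → B_{f} the canonical map, characterised here as any ring
map compatible with A_f → B_f (there is exactly one), the local ring (B_{f})_{q'} is flat over A_{f}
via ψ for every rig-closed prime q' of B_{f} (I B_{f} ⊄ q' and q' maximal among the primes not
containing I B_{f}). (That A_{f} → B_{f} is again adic and topologically of finite type is not
restated.) -/
theorem result (A : Type u) [CommRing A] [IsNoetherianRing A] (I : Ideal A) [IsAdicComplete I A] (B : Type u) [CommRing B] [Algebra A B] [IsNoetherianRing B] [IsAdicComplete (I.map (algebraMap A B)) B] (hft : Algebra.FiniteType A (B ⧸ (I.map (algebraMap A B)))) (hJ : IsJacobsonRing (A ⧸ I)) (hnaive : ∀ q : PrimeSpectrum B, (¬ (I.map (algebraMap A B)) ≤ q.asIdeal ∧ ∀ y : PrimeSpectrum B, q ≤ y → ¬ (I.map (algebraMap A B)) ≤ y.asIdeal → y = q) → (algebraMap A (Localization.AtPrime q.asIdeal)).Flat) (f : A) (ψ : (AdicCompletion (I.map (algebraMap A (Localization.Away f))) (Localization.Away f)) →+* (AdicCompletion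 ((I.map (algebraMap A B)).map (algebraMap B (Localization.Away (algebraMap A B f)))) (Localization.Away (algebraMap A B f)))) (hψ : ψ.comp (algebraMap (Localization.Away f) (AdicCompletion (I.map (algebraMap A (Localization.Away f))) (Localization.Away f))) = (algebraMap (Localization.Away (algebraMap A B f)) (AdicCompletion ((I.map (algebraMap A B)).map (algebraMap B (Localization.Away (algebraMap A B f)))) (Localization.Away (algebraMap A B f)))).comp (Localization.awayMap (algebraMap A B) f)) (q' : PrimeSpectrum (AdicCompletion ((I.map (algebraMap A B)).map (algebraMap B (Localization.Away (algebraMap A B f)))) (Localization.Away (algebraMap A B f)))) (hq' : (¬ ((((I.map (algebraMap A B))).map (algebraMap B (Localization.Away (algebraMap A B f)))).map (algebraMap (Localization.Away (algebraMap A B f)) (AdicCompletion ((I.map (algebraMap A B)).map (algebraMap B (Localization.Away (algebraMap A B f)))) (Localization.Away (algebraMap A B f))))) ≤ q'.asIdeal ∧ ∀ y : PrimeSpectrum (AdicCompletion ((I.map (algebraMap A B)).map (algebraMap B (Localization.Away (algebraMap A B f)))) (Localization.Away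 (algebraMap A B f))), q' ≤ y → ¬ ((((I.map (algebraMap A B))).map (algebraMap B (Localization.Away (algebraMap A B f)))).map (algebraMap (Localization.Away (algebraMap A B f)) (AdicCompletion ((I.map (algebraMap A B)).map (algebraMap B (Localization.Away (algebraMap A B f)))) (Localization.Away (algebraMap A B f))))) ≤ y.asIdeal → y = q')) : ((algebraMap (AdicCompletion ((I.map (algebraMap A B)).map (algebraMap B (Localization.Away (algebraMap A B f)))) (Localization.Away (algebraMap A B f))) (Localization.AtPrime q'.asIdeal)).comp ψ).Flat := by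
  haveI := hJ
  haveI := Frg27.cl_noetherian I f
  haveI := Frg27.cl_complete I f
  haveI := Frg27.cl_noetherian (I.map (algebraMap A B)) (algebraMap A B f)
  haveI hcB := Frg27.cl_complete (I.map (algebraMap A B)) (algebraMap A B f)
  haveI := Frg27.cl_complete_base (J := I) (algebraMap A B f)
  let E := Frg27.CL (I.map (algebraMap A B)) (algebraMap A B f)
  let ψ' := Frg27.toAlgHomOfCompat ψ hψ
  have hrig : Frg27.IsRig (I.map (algebraMap A E)) q' := by
    rw [← Frg27.map_map_cl]
    exact hq'
  have hftE := Frg27.cl_ft_base (J := I) hft (algebraMap A B f)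
  haveI hfin : Module.Finite A (E ⧸ q'.asIdeal) := Frg27.finite_of_residue hrig fun m hm _ => by
    haveI := hm
    obtain ⟨hFT, hle⟩ := Frg27.finiteType_quotient_maximal hftE m
    exact Frg27.finite_quotient_of_isJacobson m hle
  have hp : Frg27.IsRig I (PrimeSpectrum.comap (algebraMap A E) q') := Frg27.isRig_comap_of_finite hrig
  haveI : IsAdicComplete (I.map (algebraMap A B)) B := inferInstance
  let Φ : B →ₐ[A] E := IsScalarTower.toAlgHom A B E
  have hfinB : ((Ideal.Quotient.mk q'.asIdeal).comp Φ.toRingHom).Finite := by
    refine RingHom.Finite.of_comp_finite (f := algebraMap A B) ?_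
    rw [RingHom.comp_assoc]
    have : Φ.toRingHom.comp (algebraMap A B) = algebraMap A E := Φ.comp_algebraMap
    rw [this]
    exact RingHom.finite_algebraMap.mpr hfin
  have hqB := Frg27.isRig_comap hrig Φ hfinB
  set p := (PrimeSpectrum.comap (algebraMap A E) q').asIdeal with hpdef
  have hfp : IsUnit (Ideal.Quotient.mk p f) := by
    letI : Algebra (A ⧸ p) (E ⧸ q'.asIdeal) :=
      (Ideal.quotientMap q'.asIdeal (algebraMap A E) le_rfl).toAlgebra
    haveI : IsScalarTower A (A ⧸ p) (E ⧸ q'.asIdeal) := IsScalarTower.of_algebraMap_eq fun a => rfl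
    haveI : Module.Finite (A ⧸ p) (E ⧸ q'.asIdeal) := Module.Finite.of_restrictScalars_finite A _ _
    haveI : FaithfulSMul (A ⧸ p) (E ⧸ q'.asIdeal) :=
      (faithfulSMul_iff_algebraMap_injective _ _).mpr Ideal.quotientMap_injective
    haveI : IsLocalHom (algebraMap (A ⧸ p) (E ⧸ q'.asIdeal)) := Algebra.IsIntegral.isLocalHom _ _
    refine isUnit_of_map_unit (algebraMap (A ⧸ p) (E ⧸ q'.asIdeal)) _ ?_
    change IsUnit (Ideal.Quotient.mk q'.asIdeal (algebraMap A E f))
    rw [IsScalarTower.algebraMap_apply A B E]
    exact (Frg27.isUnit_cl (I.map (algebraMap A B)) (algebraMap A B f)).map _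
  let S := Localization.AtPrime q'.asIdeal
  haveI : IsNoetherianRing S := IsLocalization.isNoetherianRing q'.asIdeal.primeCompl _ inferInstance
  letI : Algebra (Frg27.CL I f) S := ((algebraMap E S).comp ψ).toAlgebra
  haveI : IsScalarTower A (Frg27.CL I f) S := IsScalarTower.of_algebraMap_eq fun a => by
    change _ = algebraMap E S (ψ' (algebraMap A _ a))
    rw [ψ'.commutes, ← IsScalarTower.algebraMap_apply]
  haveI : Module.Flat A S := by
    have h1 := hnaive (PrimeSpectrum.comap Φ.toRingHom q') (by
      exact hqB)
    have h1' : ((algebraMap B (Localization.AtPrime (PrimeSpectrum.comap Φ.toRingHom q').asIdeal)).comp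
        (algebraMap A B)).Flat := by
      rw [← IsScalarTower.algebraMap_eq A B (Localization.AtPrime (PrimeSpectrum.comap Φ.toRingHom q').asIdeal)]
      exact h1
    have h2 : ((algebraMap E S).comp Φ.toRingHom).Flat :=
      RingHom.Flat.comp (RingHom.flat_algebraMap_iff.mpr (Frg27.cl_flat (I.map (algebraMap A B)) (algebraMap A B f)))
        (RingHom.flat_algebraMap_iff.mpr (IsLocalization.flat S q'.asIdeal.primeCompl))
    have h3 := Frg27.flat_at_comp (φ := algebraMap A B) rfl h1' h2
    have e : (algebraMap E S).comp (Φ.toRingHom.comp (algebraMap A B)) = algebraMap A S := by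
      rw [show Φ.toRingHom.comp (algebraMap A B) = algebraMap A E from Φ.comp_algebraMap]
      exact (IsScalarTower.algebraMap_eq A E S).symm
    rw [e] at h3
    exact RingHom.flat_algebraMap_iff.mp h3
  refine Frg27.flat_of_flat_base_of_surjective (R := A) p S ?_ ?_
  · rw [IsLocalRing.jacobson_eq_maximalIdeal ⊥ bot_ne_top, Ideal.map_le_iff_le_comap]
    intro a ha
    rw [Ideal.mem_comap, IsScalarTower.algebraMap_apply A E S, IsLocalization.AtPrime.to_map_mem_maximal_iff S q'.asIdeal]
    exact ha
  · haveI : p.IsPrime := (PrimeSpectrum.comap (algebraMap A E) q').isPrime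
    intro y
    obtain ⟨a, ha⟩ := (S8837.result A I p f hfp).2.2 y
    obtain ⟨a, rfl⟩ := Ideal.Quotient.mk_surjective a
    exact ⟨a, ha⟩

end Groth.Agent.S8841
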