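import Groth.Statements.S8842
import Groth.Agent.GE14.GradedLimit

set_option autoImplicit false
universe u
open scoped BigOperators
attribute [local instance] CategoryTheory.Abelian.hasFiniteBiproducts
open Formal2

namespace Groth.Agent.S8842

open CategoryTheory CategoryTheory.Limits AlgebraicGeometry Opposite in
/-- Let A be a Noetherian ring, f_1, …, f_r ∈ A and I = (f_1, …, f_r) with cd(A, I) = 1; let c ≥ 1 and
φ_j : I^c → A be A-linear with x = Σ_j f_j φ_j(x) for x ∈ I^c. Let X be a Noetherian scheme over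
Spec A, (F_n) a coherent formal module for I on X (coherent O_X-modules with F_n = F_{n+1}/I^n
F_{n+1}; indices shifted by one) and F = lim F_n, the limit in O_X-modules. Then there is c' ≥ c
with the following property. Write φ_j again for the restrictions to I^{c'} and let Φ be a graded
A-algebra homomorphism from ⊕_{n ≥ 0} I^{nc'} to A[T_1, …, T_r] with Φ(g) = Σ_j φ_j(g) T_j on I^{c'}
(there is exactly one; encoded by functions Φ_n : A → A[T_1, …, T_r] additive and A-homogeneous on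
I^{nc'}, with values homogeneous of degree n, multiplicative across degrees, Φ_0 the structure map,
Φ_1 as prescribed). Then for every n there is a unique map of O_X-modules Φ_{F,n} from the submodule
I^{nc'}F to F[T_1, …, T_r]_n = ⊕_{|e| = n} F (one copy of F for each exponent tuple e of total
degree n) such that Φ_{F,n}(g s) = Φ_n(g) s for g ∈ I^{nc'} and local sections s of F, i.e.
precomposed with multiplication by g, F → I^{nc'}F, it is the map whose component at T^e is
multiplication by the coefficient of T^e in Φ_n(g); moreover composing Φ_{F,n} with the map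
⊕_{|e|=n} F → F which is multiplication by f^e = ∏ f_j^{e_j} on the copy at T^e gives the inclusion
I^{nc'}F → F. -/
theorem result (A : Type u) [CommRing A] [IsNoetherianRing A] (r : ℕ) (f : Fin r → A) (I : Ideal A) (hI : I = Ideal.span (Set.range f)) (h1 : LocCoh.CdLE A I 1) (h0 : ¬ LocCoh.CdLE A I 0) (c : ℕ) (hc : 1 ≤ c) (φ : Fin r → (↥(I ^ c) →ₗ[A] A)) (hφ : ∀ x : ↥(I ^ c), (x : A) = ∑ j, f j * φ j x) (X : Scheme.{u}) [X.Over (Spec (CommRingCat.of A))] [IsNoetherian X] (G : ℕᵒᵖ ⥤ X.Modules) (hG : Formal.IsCohFormal I G) : ∃ c' : ℕ, ∃ hcc' : c ≤ c', ∀ Φ : ℕ → A → MvPolynomial (Fin r) A, ((∀ n : ℕ, ∀ g ∈ I ^ (n * c'), ∀ h ∈ I ^ (n * c'), Φ n (g + h) = Φ n g + Φ n h) ∧ (∀ (n : ℕ) (a : A), ∀ g ∈ I ^ (n * c'), Φ n (a * g) = a • Φ n g) ∧ (∀ n : ℕ, ∀ g ∈ I ^ (n * c'), (Φ n g).IsHomogeneous n) ∧ (∀ n m : ℕ, ∀ g ∈ I ^ (n * c'), ∀ h ∈ I ^ (m * c'), Φ (n + m) (g * h) = Φ n g * Φ m h) ∧ (∀ a : A, Φ 0 a = MvPolynomial.C a) ∧ (∀ (g : A) (hg : g ∈ I ^ c'), Φ 1 g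 = ∑ j, MvPolynomial.C (φ j ⟨g, Ideal.pow_le_pow_right hcc' hg⟩) * MvPolynomial.X j)) → ∀ n : ℕ, ∃ ΦF : (Formal2.idealPowMod I (n * c') (limit G)) ⟶ ⨁ (fun _ : ↥(Finset.Nat.antidiagonalTuple r n) ↦ (limit G)), (∀ g ∈ I ^ (n * c'), ∀ γ : (limit G) ⟶ (Formal2.idealPowMod I (n * c') (limit G)), γ ≫ Formal2.idealPowModι I (n * c') (limit G) = Formal.smulMod A (limit G) g → γ ≫ ΦF = biproduct.lift (fun e : ↥(Finset.Nat.antidiagonalTuple r n) ↦ Formal.smulMod A (limit G) (MvPolynomial.coeff (Finsupp.equivFunOnFinite.symm e.1) (Φ n g)))) ∧ ΦF ≫ biproduct.desc (fun e : ↥(Finset.Nat.antidiagonalTuple r n) ↦ Formal.smulMod A (limit G) (∏ j, f j ^ (e.1 j))) = Formal2.idealPowModι I (n * c') (limit G) ∧ (∀ ΦF' : (Formal2.idealPowMod I (n * c') (limit G)) ⟶ ⨁ (fun _ : ↥(Finset.Nat.antidiagonalTuple r n) ↦ (limit G)), (∀ g ∈ I ^ (n * c'), ∀ γ : (limit G) ⟶ (Formal2.idealPowMod I (n * c') (limit G)), γ ≫ Formal2.idealPowModι I (n * c') (limit G) = Formal.smulMod A (limit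 G) g → γ ≫ ΦF' = biproduct.lift (fun e : ↥(Finset.Nat.antidiagonalTuple r n) ↦ Formal.smulMod A (limit G) (MvPolynomial.coeff (Finsupp.equivFunOnFinite.symm e.1) (Φ n g)))) → ΦF' = ΦF) := by
  classical
  obtain ⟨S, d, hS, hk⟩ := GE14.exists_uniform_inter_cover hG
  refine ⟨c + d, Nat.le_add_right c d, ?_⟩
  rintro Φ ⟨hadd, hsmul, hhom, hmul, h0Φ, h1Φ⟩ n
  have hφd : ∀ (j : Fin r) (g : A), g ∈ I ^ (c + d) → ∀ h : g ∈ I ^ c, φ j ⟨g, h⟩ ∈ I ^ d := by
    intro j g hg
    rw [add_comm, pow_add] at hg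
    induction hg using Submodule.mul_induction_on' with
    | mem_mul_mem a ha b hb =>
      intro h
      rw [show (⟨a * b, h⟩ : ↥(I ^ c)) = a • ⟨b, hb⟩ from Subtype.ext rfl, map_smul]
      exact Ideal.mul_mem_right _ _ ha
    | add x hx y hy hx' hy' =>
      intro h
      have hxc : x ∈ I ^ c := (Ideal.mul_le_right : I ^ d * I ^ c ≤ I ^ c) hx
      have hyc : y ∈ I ^ c := (Ideal.mul_le_right : I ^ d * I ^ c ≤ I ^ c) hy
      rw [show (⟨x + y, h⟩ : ↥(I ^ c)) = ⟨x, hxc⟩ + ⟨y, hyc⟩ from Subtype.ext rfl, map_add]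
      exact add_mem (hx' hxc) (hy' hyc)
  have hΦ1 : ∀ b ∈ I ^ (1 * (c + d)), Φ 1 b ∈ Ideal.map MvPolynomial.C (I ^ d) := by
    intro b hb
    rw [one_mul] at hb
    rw [h1Φ b hb]
    exact Ideal.sum_mem _ fun j _ => Ideal.mul_mem_right _ _ (Ideal.mem_map_of_mem _ (hφd j b hb _))
  have hsplit : ∀ m : ℕ, I ^ ((m + 1) * (c + d)) = I ^ (m * (c + d)) * I ^ (1 * (c + d)) := fun m => by
    rw [← pow_add, ← add_mul]
  have hle : ∀ m : ℕ, I ^ (m * (c + d)) * I ^ (1 * (c + d)) ≤ I ^ ((m + 1) * (c + d)) := fun m => (hsplit m).ge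
  have hΦd : ∀ m : ℕ, ∀ g ∈ I ^ ((m + 1) * (c + d)), Φ (m + 1) g ∈ Ideal.map MvPolynomial.C (I ^ d) := by
    intro m g hg
    rw [hsplit m] at hg
    induction hg using Submodule.mul_induction_on' with
    | mem_mul_mem a ha b hb =>
      rw [hmul m 1 a ha b hb]
      exact Ideal.mul_mem_left _ _ (hΦ1 b hb)
    | add x hx y hy hx' hy' =>
      rw [hadd _ x (hle m hx) y (hle m hy)]
      exact add_mem hx' hy'
  have heval : ∀ m : ℕ, ∀ g ∈ I ^ (m * (c + d)), MvPolynomial.eval f (Φ m g) = g := by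
    intro m
    induction m with
    | zero => exact fun g _ => by rw [h0Φ, MvPolynomial.eval_C]
    | succ m ih =>
      intro g hg
      rw [hsplit m] at hg
      induction hg using Submodule.mul_induction_on' with
      | mem_mul_mem a ha b hb =>
        rw [hmul m 1 a ha b hb, map_mul, ih a ha]
        congr 1
        have hb' : b ∈ I ^ (c + d) := by rwa [one_mul] at hb
        rw [h1Φ b hb', map_sum]
        refine Eq.trans (Finset.sum_congr rfl fun j _ => ?_)
          (hφ ⟨b, Ideal.pow_le_pow_right (Nat.le_add_right c d) hb'⟩).symm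
        rw [map_mul, MvPolynomial.eval_C, MvPolynomial.eval_X, mul_comm]
      | add x hx y hy hx' hy' =>
        rw [hadd _ x (hle m hx) y (hle m hy), map_add, hx', hy']
  let N := n * (c + d)
  let L : ↥(I ^ N) →ₗ[A] MvPolynomial (Fin r) A :=
    { toFun := fun g => Φ n g.1
      map_add' := fun g h => hadd n g.1 g.2 h.1 h.2
      map_smul' := fun a g => hsmul n a g.1 g.2 }
  obtain ⟨s, gen, hgen⟩ := Submodule.fg_iff_exists_fin_generating_family.1 (IsNoetherian.noetherian (I ^ N))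
  have hg : ∀ l, gen l ∈ I ^ N := fun l => hgen.le (Submodule.subset_span ⟨l, rfl⟩)
  have hspan : I ^ N ≤ Ideal.span (Set.range gen) := hgen.ge
  let v : (Fin r →₀ ℕ) → Fin s → A := fun e l => MvPolynomial.coeff e (Φ n (gen l))
  have hex : ∀ e : ↥(Finset.Nat.antidiagonalTuple r n), ∃ ψ : Formal2.idealPowMod I N (limit G) ⟶ limit G,
      ∀ (lam : Fin s → A) (γ : limit G ⟶ Formal2.idealPowMod I N (limit G)),
        γ ≫ Formal2.idealPowModι I N (limit G) = Formal.smulMod A (limit G) (∑ l, lam l * gen l) →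
          γ ≫ ψ = Formal.smulMod A (limit G) (∑ l, lam l * v (Finsupp.equivFunOnFinite.symm e.1) l) := fun e => by
    refine GE14.exists_powDesc gen hg hspan _ ?_
    rcases Nat.eq_zero_or_pos n with hn | hn
    · have he : e.1 = 0 := by
        funext i
        have h := (Finset.Nat.mem_antidiagonalTuple.1 e.2).trans hn
        exact (Finset.sum_eq_zero_iff.1 h) i (Finset.mem_univ i)
      have hv : v (Finsupp.equivFunOnFinite.symm e.1) = gen := by
        funext l
        show MvPolynomial.coeff _ (Φ n (gen l)) = gen l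
        rw [he, hn, h0Φ, show Finsupp.equivFunOnFinite.symm (0 : Fin r → ℕ) = 0 from Finsupp.ext fun _ => rfl,
          MvPolynomial.coeff_zero_C]
      rw [hv]
      exact kernel.condition _
    · obtain ⟨m, rfl⟩ := Nat.exists_eq_add_of_le hn
      obtain ⟨k, hk'⟩ := hk N
      refine GE14.kernel_limit_famMap_comp_eq_zero hG hS hk' gen _ (fun l => ?_) fun a ha => ?_
      · exact (MvPolynomial.mem_map_C_iff.1 (by
          rw [add_comm]
          exact hΦd m (gen l) (by rw [add_comm]; exact hg l))) _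
      · refine ⟨MvPolynomial.coeff (Finsupp.equivFunOnFinite.symm e.1) (Φ (Nat.succ 0 + m) a), fun l => ?_⟩
        have h1 := hsmul _ a (gen l) (hg l)
        rw [mul_comm, hsmul _ (gen l) a ha] at h1
        have h2 := congrArg (MvPolynomial.coeff (Finsupp.equivFunOnFinite.symm e.1)) h1
        rw [MvPolynomial.coeff_smul, MvPolynomial.coeff_smul, smul_eq_mul, smul_eq_mul] at h2
        exact h2.symm.trans (mul_comm _ _)
  choose ψ hψ using hex
  have hP : ∀ g ∈ I ^ N, ∀ γ : limit G ⟶ Formal2.idealPowMod I N (limit G),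
      γ ≫ Formal2.idealPowModι I N (limit G) = Formal.smulMod A (limit G) g →
        γ ≫ biproduct.lift ψ = biproduct.lift (fun e : ↥(Finset.Nat.antidiagonalTuple r n) ↦
          Formal.smulMod A (limit G) (MvPolynomial.coeff (Finsupp.equivFunOnFinite.symm e.1) (Φ n g))) := by
    intro g hgN γ hγ
    obtain ⟨lam, hlam⟩ := (Submodule.mem_span_range_iff_exists_fun A).1 (hspan hgN)
    refine biproduct.hom_ext _ _ fun e => ?_
    simp only [Category.assoc, biproduct.lift_π]
    rw [hψ e lam γ (hγ.trans (congrArg _ hlam.symm))]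
    congr 1
    have hL : L (∑ l, lam l • (⟨gen l, hg l⟩ : ↥(I ^ N))) = L ⟨g, hgN⟩ :=
      congrArg L (Subtype.ext (by simpa using hlam))
    rw [map_sum] at hL
    rw [show Φ n g = L ⟨g, hgN⟩ from rfl, ← hL, MvPolynomial.coeff_sum]
    refine Finset.sum_congr rfl fun l _ => ?_
    rw [map_smul, MvPolynomial.coeff_smul, smul_eq_mul]
    rfl
  refine ⟨biproduct.lift ψ, hP, ?_, fun ΦF' hΦF' => ?_⟩
  · refine GE14.idealPowMod_hom_ext gen hg hspan _ _ fun l γ hγ => ?_
    rw [hγ, ← Category.assoc, hP (gen l) (hg l) γ hγ, biproduct.lift_desc]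
    refine Eq.trans (Finset.sum_congr rfl fun e _ => ?_) ((GE14.smulMod_finset_sum _ _ _).symm.trans (congrArg _
      ((GE14.sum_coeff_mul_prod_eq_eval f (hhom n (gen l) (hg l))).trans (heval n (gen l) (hg l)))))
    rw [mul_comm (MvPolynomial.coeff _ _) _, Formal27.smulMod_mul]
  · refine GE14.idealPowMod_hom_ext gen hg hspan _ _ fun l γ hγ => ?_
    rw [hΦF' (gen l) (hg l) γ hγ, hP (gen l) (hg l) γ hγ]

end Groth.Agent.S8842
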