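import Groth.Statements.S8843
import Groth.Agent.Frg27.RigPoints

set_option autoImplicit false
universe u
open AdicRing

namespace Groth.Agent.S8843

/-- Let A be a Noetherian ring complete for the adic topology of an ideal I, B a Noetherian A-algebra
complete for the IB-adic topology with B/IB of finite type over A, and C a Noetherian B-algebra,
compatibly an A-algebra, complete for the IC-adic topology with C/IC of finite type over B (so A → B
→ C are adic morphisms of adic Noetherian topological rings, topologically of finite type). Assume A
→ B and B → C are rig-flat, in the following form: for every f ∈ A and the canonical map ψ : A_{f} →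
B_{f} of completed principal localizations (the I-adic completions of A_f → B_f; ψ is characterised
as any ring map compatible with A_f → B_f, and there is exactly one), the local ring (B_{f})_q is
flat over A_{f} via ψ for every rig-closed prime q of B_{f} (I B_{f} ⊄ q and q maximal among the
primes not containing I B_{f}); and likewise for B → C with g ∈ B and rig-closed primes of C_{g}.
Then A → C is rig-flat in the same form: for every f ∈ A, every ring map A_{f} → C_{f} compatible
with A_f → C_f, and every rig-closed prime q of C_{f}, the local ring (C_{f})_q is flat over A_{f}.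
(That A → C is again adic and topologically of finite type is not restated.) -/
theorem result (A : Type u) [CommRing A] [IsNoetherianRing A] (I : Ideal A) [IsAdicComplete I A] (B : Type u) [CommRing B] [Algebra A B] [IsNoetherianRing B] [IsAdicComplete (I.map (algebraMap A B)) B] (hftB : Algebra.FiniteType A (B ⧸ (I.map (algebraMap A B)))) (C : Type u) [CommRing C] [Algebra A C] [Algebra B C] [IsScalarTower A B C] [IsNoetherianRing C] [IsAdicComplete (I.map (algebraMap A C)) C] (hftC : Algebra.FiniteType B (C ⧸ (I.map (algebraMap A C)))) (hAB : (∀ f : A, ∀ ψf : (AdicCompletion (I.map (algebraMap A (Localization.Away f))) (Localization.Away f)) →+* (AdicCompletion ((I.map (algebraMap A B)).map (algebraMap B (Localization.Away (algebraMap A B f)))) (Localization.Away (algebraMap A B f))), ψf.comp (algebraMap (Localization.Away f) (AdicCompletion (I.map (algebraMap A (Localization.Away f))) (Localization.Away f))) = (algebraMap (Localization.Away (algebraMap A B f)) (AdicCompletion ((I.map (algebraMap A B)).map (algebraMap B (Localization.Away (algebraMap A B f)))) (Localization.Away (algebraMap A B f)))).comp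 (Localization.awayMap (algebraMap A B) f) → ∀ qf : PrimeSpectrum (AdicCompletion ((I.map (algebraMap A B)).map (algebraMap B (Localization.Away (algebraMap A B f)))) (Localization.Away (algebraMap A B f))), (¬ (((I.map (algebraMap A B)).map (algebraMap B (Localization.Away (algebraMap A B f)))).map (algebraMap (Localization.Away (algebraMap A B f)) (AdicCompletion ((I.map (algebraMap A B)).map (algebraMap B (Localization.Away (algebraMap A B f)))) (Localization.Away (algebraMap A B f))))) ≤ qf.asIdeal ∧ ∀ y : PrimeSpectrum (AdicCompletion ((I.map (algebraMap A B)).map (algebraMap B (Localization.Away (algebraMap A B f)))) (Localization.Away (algebraMap A B f))), qf ≤ y → ¬ (((I.map (algebraMap A B)).map (algebraMap B (Localization.Away (algebraMap A B f)))).map (algebraMap (Localization.Away (algebraMap A B f)) (AdicCompletion ((I.map (algebraMap A B)).map (algebraMap B (Localization.Away (algebraMap A B f)))) (Localization.Away (algebraMap A B f))))) ≤ y.asIdeal → y = qf) → ((algebraMap (AdicCompletion ((I.map (algebraMap A B)).map (algebraMap B (Localization.Away (algebraMap A B f)))) (Localization.Away (algebraMap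 A B f))) (Localization.AtPrime qf.asIdeal)).comp ψf).Flat)) (hBC : (∀ g : B, ∀ ψg : (AdicCompletion ((I.map (algebraMap A B)).map (algebraMap B (Localization.Away g))) (Localization.Away g)) →+* (AdicCompletion (((I.map (algebraMap A B)).map (algebraMap B C)).map (algebraMap C (Localization.Away (algebraMap B C g)))) (Localization.Away (algebraMap B C g))), ψg.comp (algebraMap (Localization.Away g) (AdicCompletion ((I.map (algebraMap A B)).map (algebraMap B (Localization.Away g))) (Localization.Away g))) = (algebraMap (Localization.Away (algebraMap B C g)) (AdicCompletion (((I.map (algebraMap A B)).map (algebraMap B C)).map (algebraMap C (Localization.Away (algebraMap B C g)))) (Localization.Away (algebraMap B C g)))).comp (Localization.awayMap (algebraMap B C) g) → ∀ qg : PrimeSpectrum (AdicCompletion (((I.map (algebraMap A B)).map (algebraMap B C)).map (algebraMap C (Localization.Away (algebraMap B C g)))) (Localization.Away (algebraMap B C g))), (¬ ((((I.map (algebraMap A B)).map (algebraMap B C)).map (algebraMap C (Localization.Away (algebraMap B C g)))).map (algebraMap (Localization.Away (algebraMap B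 C g)) (AdicCompletion (((I.map (algebraMap A B)).map (algebraMap B C)).map (algebraMap C (Localization.Away (algebraMap B C g)))) (Localization.Away (algebraMap B C g))))) ≤ qg.asIdeal ∧ ∀ y : PrimeSpectrum (AdicCompletion (((I.map (algebraMap A B)).map (algebraMap B C)).map (algebraMap C (Localization.Away (algebraMap B C g)))) (Localization.Away (algebraMap B C g))), qg ≤ y → ¬ ((((I.map (algebraMap A B)).map (algebraMap B C)).map (algebraMap C (Localization.Away (algebraMap B C g)))).map (algebraMap (Localization.Away (algebraMap B C g)) (AdicCompletion (((I.map (algebraMap A B)).map (algebraMap B C)).map (algebraMap C (Localization.Away (algebraMap B C g)))) (Localization.Away (algebraMap B C g))))) ≤ y.asIdeal → y = qg) → ((algebraMap (AdicCompletion (((I.map (algebraMap A B)).map (algebraMap B C)).map (algebraMap C (Localization.Away (algebraMap B C g)))) (Localization.Away (algebraMap B C g))) (Localization.AtPrime qg.asIdeal)).comp ψg).Flat)) : (∀ e : A, ∀ ψe : (AdicCompletion (I.map (algebraMap A (Localization.Away e))) (Localization.Away e)) →+* (AdicCompletion ((I.map (algebraMap A C)).map (algebraMap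 C (Localization.Away (algebraMap A C e)))) (Localization.Away (algebraMap A C e))), ψe.comp (algebraMap (Localization.Away e) (AdicCompletion (I.map (algebraMap A (Localization.Away e))) (Localization.Away e))) = (algebraMap (Localization.Away (algebraMap A C e)) (AdicCompletion ((I.map (algebraMap A C)).map (algebraMap C (Localization.Away (algebraMap A C e)))) (Localization.Away (algebraMap A C e)))).comp (Localization.awayMap (algebraMap A C) e) → ∀ qe : PrimeSpectrum (AdicCompletion ((I.map (algebraMap A C)).map (algebraMap C (Localization.Away (algebraMap A C e)))) (Localization.Away (algebraMap A C e))), (¬ (((I.map (algebraMap A C)).map (algebraMap C (Localization.Away (algebraMap A C e)))).map (algebraMap (Localization.Away (algebraMap A C e)) (AdicCompletion ((I.map (algebraMap A C)).map (algebraMap C (Localization.Away (algebraMap A C e)))) (Localization.Away (algebraMap A C e))))) ≤ qe.asIdeal ∧ ∀ y : PrimeSpectrum (AdicCompletion ((I.map (algebraMap A C)).map (algebraMap C (Localization.Away (algebraMap A C e)))) (Localization.Away (algebraMap A C e))), qe ≤ y → ¬ (((I.map (algebraMap A C)).map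 (algebraMap C (Localization.Away (algebraMap A C e)))).map (algebraMap (Localization.Away (algebraMap A C e)) (AdicCompletion ((I.map (algebraMap A C)).map (algebraMap C (Localization.Away (algebraMap A C e)))) (Localization.Away (algebraMap A C e))))) ≤ y.asIdeal → y = qe) → ((algebraMap (AdicCompletion ((I.map (algebraMap A C)).map (algebraMap C (Localization.Away (algebraMap A C e)))) (Localization.Away (algebraMap A C e))) (Localization.AtPrime qe.asIdeal)).comp ψe).Flat) := by
  have hAB' : Frg27.RigFlat I B := hAB
  have hBC' : Frg27.RigFlat (I.map (algebraMap A B)) C := hBC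
  suffices H : Frg27.RigFlat I C from H
  refine Frg27.rigFlat_intro fun e ψ q hq => ?_
  haveI := Frg27.cl_noetherian I e
  haveI := Frg27.cl_complete I e
  haveI := Frg27.cl_noetherian (I.map (algebraMap A C)) (algebraMap A C e)
  haveI := Frg27.cl_complete_base (J := I) (algebraMap A C e)
  let E := Frg27.CL (I.map (algebraMap A C)) (algebraMap A C e)
  obtain ⟨f, hf, hgood⟩ := Frg27.exists_good (J := I)
    (Frg27.cl_ft_base (Frg27.ft_trans hftB hftC) (algebraMap A C e)) hq
  let E' := Frg27.CL ((I.map (algebraMap A B)).map (algebraMap B C)) (algebraMap B C (algebraMap A B (e * f)))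
  haveI := Frg27.cl_noetherian ((I.map (algebraMap A B)).map (algebraMap B C)) (algebraMap B C (algebraMap A B (e * f)))
  haveI hcE' := Frg27.cl_complete ((I.map (algebraMap A B)).map (algebraMap B C)) (algebraMap B C (algebraMap A B (e * f)))
  haveI hcB : IsAdicComplete ((I.map (algebraMap A B)).map (algebraMap B E')) E' := Frg27.complete_of_map (S := C)
  haveI hcA : IsAdicComplete (I.map (algebraMap A E')) E' := Frg27.complete_of_map (S := B)
  haveI : IsAdicComplete ((I.map (algebraMap A C)).map (algebraMap C E')) E' := Frg27.complete_tower hcA
  haveI hcq := Frg27.complete_quotient (R := A) (J := I) q.asIdeal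
  haveI : IsAdicComplete ((I.map (algebraMap A C)).map (algebraMap C (E ⧸ q.asIdeal))) (E ⧸ q.asIdeal) := by
    exact Frg27.complete_tower hcq
  haveI : IsAdicComplete (((I.map (algebraMap A B)).map (algebraMap B C)).map (algebraMap C (E ⧸ q.asIdeal))) (E ⧸ q.asIdeal) :=
    (Frg27.map_eq_of_tower (J := I) (R := A) (S := B) (T := C)).symm ▸ Frg27.complete_tower hcq
  have hueq : IsUnit (algebraMap A (E ⧸ q.asIdeal) (e * f)) := by
    rw [map_mul]
    refine IsUnit.mul ?_ hf
    rw [IsScalarTower.algebraMap_apply A E (E ⧸ q.asIdeal), IsScalarTower.algebraMap_apply A C E]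
    exact (Frg27.isUnit_cl (I.map (algebraMap A C)) (algebraMap A C e)).map _
  let π := Frg27.clLift ((I.map (algebraMap A B)).map (algebraMap B C)) (algebraMap B C (algebraMap A B (e * f))) (T := E ⧸ q.asIdeal) (by
    rw [← IsScalarTower.algebraMap_apply A B C]
    exact Frg27.isUnit_tower_iff.mpr hueq)
  have huE' : IsUnit (algebraMap A E' (e * f)) := by
    refine (Frg27.isUnit_tower_iff (S := C)).mp ?_
    have h := Frg27.isUnit_cl ((I.map (algebraMap A B)).map (algebraMap B C)) (algebraMap B C (algebraMap A B (e * f)))
    exact (congrArg (fun z => algebraMap C E' z) (IsScalarTower.algebraMap_apply A B C (e * f))) ▸ h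
  let Φ : E →ₐ[C] E' := Frg27.clLift (I.map (algebraMap A C)) (algebraMap A C e) (T := E') (by
    refine Frg27.isUnit_tower_iff.mpr ?_
    exact isUnit_of_mul_isUnit_left (y := algebraMap A E' f) (by rw [← map_mul]; exact huE'))
  have hπ : ∀ x, π (Φ x) = Ideal.Quotient.mk q.asIdeal x := fun x =>
    AlgHom.congr_fun (Frg27.cl_algHom_ext (π.comp Φ) (Ideal.Quotient.mkₐ C q.asIdeal)) x
  obtain ⟨q', hrig, hcomap, hsurj⟩ := Frg27.exists_point (J := I) hq (Φ.restrictScalars A)
    (π.restrictScalars A) hπ
  -- base points
  haveI := Frg27.cl_noetherian I (e * f)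
  haveI := Frg27.cl_complete I (e * f)
  haveI := Frg27.cl_noetherian (I.map (algebraMap A B)) (algebraMap A B (e * f))
  haveI := Frg27.cl_complete_base (J := I) (algebraMap A B (e * f))
  let ψA : Frg27.CL I (e * f) →ₐ[A] Frg27.CL (I.map (algebraMap A B)) (algebraMap A B (e * f)) := Frg27.clLift I (e * f) (by
    exact (Frg27.isUnit_tower_iff (S := B)).mp (Frg27.isUnit_cl _ _))
  let ψB : Frg27.CL (I.map (algebraMap A B)) (algebraMap A B (e * f)) →ₐ[B] E' :=
    Frg27.clLift (I.map (algebraMap A B)) (algebraMap A B (e * f)) (T := E') (by
      exact Frg27.isUnit_tower_iff.mpr huE')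
  have hfin := Frg27.finite_of_good hgood (Φ := Φ.restrictScalars A) hcomap hsurj
    ((ψB.restrictScalars A).comp ψA) (by
      have := Frg27.isUnit_cl I (e * f)
      rw [map_mul] at this
      exact isUnit_of_mul_isUnit_right this)
  have hq1 := Frg27.isRig_comap hrig (ψB.restrictScalars A)
    (RingHom.Finite.of_comp_finite (f := ψA.toRingHom) hfin)
  have h1 := Frg27.rigFlat_apply hAB' ψA hq1
  have h2 := Frg27.rigFlat_apply hBC' ψB (q := q') (Frg27.isRig_tower_iff.mpr hrig)
  have h3 := Frg27.flat_at_comp (φ := ψA.toRingHom) (Φ := ψB.toRingHom) rfl h1 h2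
  haveI : Module.Flat A (Frg27.CL I (e * f)) := Frg27.cl_flat I (e * f)
  let χ : Frg27.CL I e →ₐ[A] Frg27.CL I (e * f) := Frg27.clLift I e (by
    have := Frg27.isUnit_cl I (e * f)
    rw [map_mul] at this
    exact isUnit_of_mul_isUnit_left this)
  have h4 := RingHom.Flat.comp (Frg27.flat_cl_algHom χ) h3
  haveI : Module.Flat C E' := Frg27.cl_flat ((I.map (algebraMap A B)).map (algebraMap B C)) (algebraMap B C (algebraMap A B (e * f)))
  refine Frg27.flat_at_descend (Frg27.flat_cl_algHom Φ) hcomap ?_
  have e1 : Φ.toRingHom.comp ψ.toRingHom = (ψB.toRingHom.comp ψA.toRingHom).comp χ.toRingHom :=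
    congrArg AlgHom.toRingHom (Frg27.cl_algHom_ext (((Φ.restrictScalars A).comp ψ))
      (((ψB.restrictScalars A).comp ψA).comp χ))
  rw [e1]
  exact h4

end Groth.Agent.S8843
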