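import Groth.Statements.S8844
import Groth.Agent.Frg27.RigPoints
import Groth.Agent.S8836
import Mathlib.RingTheory.Flat.FaithfullyFlat.Algebra

set_option autoImplicit false
universe u
open AdicRing

namespace Groth.Agent.S8844

/-- Consider a commutative square of adic Noetherian topological rings with all maps adic and
topologically of finite type: A a Noetherian ring complete for the adic topology of an ideal I; B,
A' and B' Noetherian algebras complete for the IB-, IA'- and IB'-adic topologies, B' an algebra over
B and over A' compatibly with A, with B/IB and A'/IA' of finite type over A and B'/IB' of finite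
type over B and over A'. Assume A → A' is flat and B → B' is faithfully flat. If A' → B' is rig-flat
— for every f' ∈ A', every ring map A'_{f'} → B'_{f'} of completed principal localizations
compatible with the map of ordinary localizations A'[1/f'] → B'[1/f'] (there is exactly one), and
every rig-closed prime q of B'_{f'} (I B'_{f'} ⊄ q and q maximal among the primes not containing I
B'_{f'}), the local ring (B'_{f'})_q is flat over A'_{f'} — then A → B is rig-flat in the same form:
for every f ∈ A, every ring map A_{f} → B_{f} of completed principal localizations compatible with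
the map of ordinary localizations A[1/f] → B[1/f], and every rig-closed prime q of B_{f}, the local
ring (B_{f})_q is flat over A_{f}. -/
theorem result (A : Type u) [CommRing A] [IsNoetherianRing A] (I : Ideal A) [IsAdicComplete I A] (B : Type u) [CommRing B] [Algebra A B] [IsNoetherianRing B] [IsAdicComplete (I.map (algebraMap A B)) B] (hftB : Algebra.FiniteType A (B ⧸ (I.map (algebraMap A B)))) (A' : Type u) [CommRing A'] [Algebra A A'] [IsNoetherianRing A'] [IsAdicComplete (I.map (algebraMap A A')) A'] (hftA' : Algebra.FiniteType A (A' ⧸ (I.map (algebraMap A A')))) (B' : Type u) [CommRing B'] [Algebra A B'] [Algebra B B'] [Algebra A' B'] [IsScalarTower A B B'] [IsScalarTower A A' B'] [IsNoetherianRing B'] [IsAdicComplete (I.map (algebraMap A B')) B'] (hftB'B : Algebra.FiniteType B (B' ⧸ (I.map (algebraMap A B')))) (hftB'A' : Algebra.FiniteType A' (B' ⧸ (I.map (algebraMap A B')))) [Module.Flat A A'] [Module.FaithfullyFlat B B'] (hA'B' : (∀ f' : A', ∀ ψf' : (AdicCompletion ((I.map (algebraMap A A')).map (algebraMap A' (Localization.Away f'))) (Localization.Away f'))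 →+* (AdicCompletion (((I.map (algebraMap A A')).map (algebraMap A' B')).map (algebraMap B' (Localization.Away (algebraMap A' B' f')))) (Localization.Away (algebraMap A' B' f'))), ψf'.comp (algebraMap (Localization.Away f') (AdicCompletion ((I.map (algebraMap A A')).map (algebraMap A' (Localization.Away f'))) (Localization.Away f'))) = (algebraMap (Localization.Away (algebraMap A' B' f')) (AdicCompletion (((I.map (algebraMap A A')).map (algebraMap A' B')).map (algebraMap B' (Localization.Away (algebraMap A' B' f')))) (Localization.Away (algebraMap A' B' f')))).comp (Localization.awayMap (algebraMap A' B') f') → ∀ qf' : PrimeSpectrum (AdicCompletion (((I.map (algebraMap A A')).map (algebraMap A' B')).map (algebraMap B' (Localization.Away (algebraMap A' B' f')))) (Localization.Away (algebraMap A' B' f'))), (¬ ((((I.map (algebraMap A A')).map (algebraMap A' B')).map (algebraMap B' (Localization.Away (algebraMap A' B' f')))).map (algebraMap (Localization.Away (algebraMap A' B' f')) (AdicCompletion (((I.map (algebraMap A A')).map (algebraMap A' B')).map (algebraMap B' (Localization.Away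 (algebraMap A' B' f')))) (Localization.Away (algebraMap A' B' f'))))) ≤ qf'.asIdeal ∧ ∀ y : PrimeSpectrum (AdicCompletion (((I.map (algebraMap A A')).map (algebraMap A' B')).map (algebraMap B' (Localization.Away (algebraMap A' B' f')))) (Localization.Away (algebraMap A' B' f'))), qf' ≤ y → ¬ ((((I.map (algebraMap A A')).map (algebraMap A' B')).map (algebraMap B' (Localization.Away (algebraMap A' B' f')))).map (algebraMap (Localization.Away (algebraMap A' B' f')) (AdicCompletion (((I.map (algebraMap A A')).map (algebraMap A' B')).map (algebraMap B' (Localization.Away (algebraMap A' B' f')))) (Localization.Away (algebraMap A' B' f'))))) ≤ y.asIdeal → y = qf') → ((algebraMap (AdicCompletion (((I.map (algebraMap A A')).map (algebraMap A' B')).map (algebraMap B' (Localization.Away (algebraMap A' B' f')))) (Localization.Away (algebraMap A' B' f'))) (Localization.AtPrime qf'.asIdeal)).comp ψf').Flat)) : (∀ f : A, ∀ ψf : (AdicCompletion (I.map (algebraMap A (Localization.Away f))) (Localization.Away f)) →+* (AdicCompletion ((I.map (algebraMap A B)).map (algebraMap B (Localization.Away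 (algebraMap A B f)))) (Localization.Away (algebraMap A B f))), ψf.comp (algebraMap (Localization.Away f) (AdicCompletion (I.map (algebraMap A (Localization.Away f))) (Localization.Away f))) = (algebraMap (Localization.Away (algebraMap A B f)) (AdicCompletion ((I.map (algebraMap A B)).map (algebraMap B (Localization.Away (algebraMap A B f)))) (Localization.Away (algebraMap A B f)))).comp (Localization.awayMap (algebraMap A B) f) → ∀ qf : PrimeSpectrum (AdicCompletion ((I.map (algebraMap A B)).map (algebraMap B (Localization.Away (algebraMap A B f)))) (Localization.Away (algebraMap A B f))), (¬ (((I.map (algebraMap A B)).map (algebraMap B (Localization.Away (algebraMap A B f)))).map (algebraMap (Localization.Away (algebraMap A B f)) (AdicCompletion ((I.map (algebraMap A B)).map (algebraMap B (Localization.Away (algebraMap A B f)))) (Localization.Away (algebraMap A B f))))) ≤ qf.asIdeal ∧ ∀ y : PrimeSpectrum (AdicCompletion ((I.map (algebraMap A B)).map (algebraMap B (Localization.Away (algebraMap A B f)))) (Localization.Away (algebraMap A B f))), qf ≤ y → ¬ (((I.map (algebraMap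 A B)).map (algebraMap B (Localization.Away (algebraMap A B f)))).map (algebraMap (Localization.Away (algebraMap A B f)) (AdicCompletion ((I.map (algebraMap A B)).map (algebraMap B (Localization.Away (algebraMap A B f)))) (Localization.Away (algebraMap A B f))))) ≤ y.asIdeal → y = qf) → ((algebraMap (AdicCompletion ((I.map (algebraMap A B)).map (algebraMap B (Localization.Away (algebraMap A B f)))) (Localization.Away (algebraMap A B f))) (Localization.AtPrime qf.asIdeal)).comp ψf).Flat) := by
  have hA'B'' : Frg27.RigFlat (I.map (algebraMap A A')) B' := hA'B'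
  suffices H : Frg27.RigFlat I B from H
  refine Frg27.rigFlat_intro fun f ψ q hq => ?_
  haveI := Frg27.cl_noetherian I f
  haveI := Frg27.cl_complete I f
  haveI := Frg27.cl_noetherian (I.map (algebraMap A B)) (algebraMap A B f)
  haveI hcBf := Frg27.cl_complete (I.map (algebraMap A B)) (algebraMap A B f)
  haveI := Frg27.cl_complete_base (J := I) (algebraMap A B f)
  haveI := Frg27.cl_noetherian (I.map (algebraMap A A')) (algebraMap A A' f)
  haveI := Frg27.cl_complete_base (J := I) (algebraMap A A' f)
  haveI := Frg27.cl_noetherian ((I.map (algebraMap A A')).map (algebraMap A' B')) (algebraMap A' B' (algebraMap A A' f))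
  haveI hcE := Frg27.cl_complete ((I.map (algebraMap A A')).map (algebraMap A' B')) (algebraMap A' B' (algebraMap A A' f))
  let Bf := Frg27.CL (I.map (algebraMap A B)) (algebraMap A B f)
  let E' := Frg27.CL ((I.map (algebraMap A A')).map (algebraMap A' B')) (algebraMap A' B' (algebraMap A A' f))
  haveI : IsAdicComplete ((I.map (algebraMap A A')).map (algebraMap A' E')) E' := Frg27.complete_of_map (S := B')
  haveI hcA : IsAdicComplete (I.map (algebraMap A E')) E' := Frg27.complete_of_map (S := A')
  haveI : IsAdicComplete ((I.map (algebraMap A B)).map (algebraMap B E')) E' := Frg27.complete_tower hcA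
  haveI : Module.Flat B' E' := Frg27.cl_flat ((I.map (algebraMap A A')).map (algebraMap A' B')) (algebraMap A' B' (algebraMap A A' f))
  haveI : Module.Flat B E' := Module.Flat.trans B B' E'
  have huE' : IsUnit (algebraMap A E' f) :=
    Frg27.isUnit_tower_iff.mp (Frg27.isUnit_tower_iff.mp (Frg27.isUnit_cl ((I.map (algebraMap A A')).map (algebraMap A' B')) (algebraMap A' B' (algebraMap A A' f))))
  let Φ : Bf →ₐ[B] E' := Frg27.clLift (I.map (algebraMap A B)) (algebraMap A B f) (T := E') (Frg27.isUnit_tower_iff.mpr huE')
  -- a point of the special fibre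
  obtain ⟨M, hM, hqM⟩ := Ideal.exists_le_maximal q.asIdeal (Ideal.IsPrime.ne_top q.isPrime)
  have hIM : I.map (algebraMap A Bf) ≤ M := (IsAdicComplete.le_jacobson_bot _).trans (sInf_le ⟨bot_le, hM⟩)
  haveI := hM
  obtain ⟨⟨Q0, hQ0⟩, hQ0n⟩ := PrimeSpectrum.comap_surjective_of_faithfullyFlat (B := B')
    (⟨M.comap (algebraMap B Bf), inferInstance⟩ : PrimeSpectrum B)
  have hQ0n' : ∀ b, algebraMap B B' b ∈ Q0 ↔ algebraMap B Bf b ∈ M := fun b =>
    SetLike.ext_iff.mp (congrArg PrimeSpectrum.asIdeal hQ0n) b
  haveI := hQ0
  let K := FractionRing (B' ⧸ Q0)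
  have hK : ∀ b : B, algebraMap B K b = 0 ↔ algebraMap B Bf b ∈ M := fun b => by
    rw [IsScalarTower.algebraMap_apply B (B' ⧸ Q0) K, map_eq_zero_iff _ (IsFractionRing.injective (B' ⧸ Q0) K),
      IsScalarTower.algebraMap_apply B B' (B' ⧸ Q0), Ideal.Quotient.algebraMap_eq,
      Ideal.Quotient.eq_zero_iff_mem, hQ0n']
  have hIK : I.map (algebraMap A K) = ⊥ := by
    rw [eq_bot_iff, Ideal.map_le_iff_le_comap]
    intro a ha
    rw [Ideal.mem_comap, Submodule.mem_bot, IsScalarTower.algebraMap_apply A B K, hK]
    exact hIM (Frg27.map_eq_of_tower (R := A) (S := B) (T := Bf) (J := I) ▸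
      Ideal.mem_map_of_mem _ (Ideal.mem_map_of_mem _ ha))
  haveI hcK : IsAdicComplete (I.map (algebraMap A K)) K := by rw [hIK]; infer_instance
  haveI : IsAdicComplete ((I.map (algebraMap A A')).map (algebraMap A' K)) K := Frg27.complete_tower hcK
  haveI : IsAdicComplete (((I.map (algebraMap A A')).map (algebraMap A' B')).map (algebraMap B' K)) K := Frg27.complete_tower (R := A') inferInstance
  have huM : algebraMap B Bf (algebraMap A B f) ∉ M := fun h =>
    hM.ne_top (Ideal.eq_top_of_isUnit_mem _ h (Frg27.isUnit_cl (I.map (algebraMap A B)) (algebraMap A B f)))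
  have hne : algebraMap A K f ≠ 0 := fun h => huM ((hK _).mp
    (((IsScalarTower.algebraMap_apply A B K f).symm).trans h))
  let χ : E' →ₐ[B'] K := Frg27.clLift ((I.map (algebraMap A A')).map (algebraMap A' B')) (algebraMap A' B' (algebraMap A A' f)) (T := K) (isUnit_iff_ne_zero.mpr fun h => hne (by
    rw [IsScalarTower.algebraMap_apply A B' K, IsScalarTower.algebraMap_apply A A' B']
    exact h))
  have hker : ∀ x, χ (Φ x) = 0 ↔ x ∈ M := by
    intro x
    obtain ⟨c, hc⟩ := Frg27.exists_sub_mem_compl (IsNoetherian.noetherian (I.map (algebraMap A B))) x 1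
    rw [pow_one] at hc
    obtain ⟨b, s, rfl⟩ := IsLocalization.exists_mk'_eq (Submonoid.powers (algebraMap A B f)) c
    have hsU : IsUnit (algebraMap B Bf (s : B)) := by
      rw [IsScalarTower.algebraMap_apply B (Localization.Away (algebraMap A B f)) Bf]
      exact (IsLocalization.map_units (Localization.Away (algebraMap A B f)) s).map _
    have hmul : algebraMap B Bf (s : B) * x - algebraMap B Bf b ∈ (I.map (algebraMap A B)).map (algebraMap B Bf) := by
      have h := Ideal.mul_mem_left _ (algebraMap B Bf (s : B)) hc
      rw [mul_sub, IsScalarTower.algebraMap_apply B (Localization.Away (algebraMap A B f)) Bf (s : B), ← map_mul,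
        IsLocalization.mk'_spec', ← IsScalarTower.algebraMap_apply B (Localization.Away (algebraMap A B f)) Bf,
        ← IsScalarTower.algebraMap_apply B (Localization.Away (algebraMap A B f)) Bf] at h
      exact h
    let τ : Bf →ₐ[B] K := (χ.restrictScalars B).comp Φ
    have hτ : τ (algebraMap B Bf (s : B) * x - algebraMap B Bf b) = 0 := by
      have h := Ideal.mem_map_of_mem τ.toRingHom hmul
      rw [Ideal.map_map] at h
      have e : τ.toRingHom.comp (algebraMap B Bf) = algebraMap B K := τ.comp_algebraMap
      rw [e, Frg27.map_eq_of_tower, hIK] at h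
      exact (Submodule.mem_bot _).mp h
    rw [map_sub, map_mul, τ.commutes, τ.commutes, sub_eq_zero] at hτ
    have hmulM : algebraMap B Bf (s : B) * x - algebraMap B Bf b ∈ M :=
      hIM (Frg27.map_eq_of_tower (R := A) (S := B) (T := Bf) (J := I) ▸ hmul)
    have hsK : algebraMap B K (s : B) ≠ 0 := fun h =>
      hM.ne_top (Ideal.eq_top_of_isUnit_mem _ ((hK _).mp h) hsU)
    change τ x = 0 ↔ _
    constructor
    · intro h
      rw [h, mul_zero, eq_comm, hK] at hτ
      have := add_mem hmulM hτ
      rw [sub_add_cancel] at this
      exact (hM.isPrime.mem_or_mem this).resolve_left fun h' => hM.ne_top (Ideal.eq_top_of_isUnit_mem _ h' hsU)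
    · intro h
      have h1 := sub_mem (Ideal.mul_mem_left _ (algebraMap B Bf (s : B)) h) hmulM
      rw [sub_sub_cancel, ← hK, ← hτ] at h1
      exact (mul_eq_zero.mp h1).resolve_left hsK
  letI : Algebra Bf E' := Φ.toRingHom.toAlgebra
  haveI : IsScalarTower B Bf E' := IsScalarTower.of_algebraMap_eq fun b => (Φ.commutes b).symm
  haveI : Module.Flat Bf E' := Frg27.flat_cl_algHom Φ
  haveI : IsAdicComplete (((I.map (algebraMap A B)).map (algebraMap B Bf)).map (algebraMap Bf E')) E' :=
    Frg27.complete_tower inferInstance
  have hft : Algebra.FiniteType Bf (E' ⧸ ((I.map (algebraMap A B)).map (algebraMap B Bf)).map (algebraMap Bf E')) := by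
    have h1 : Algebra.FiniteType B (B' ⧸ (I.map (algebraMap A B)).map (algebraMap B B')) :=
      Frg27.ft_congr Frg27.map_eq_of_tower.symm hftB'B
    have h2 : ((I.map (algebraMap A A')).map (algebraMap A' B')).map (algebraMap B' E') = (I.map (algebraMap A B)).map (algebraMap B E') :=
      ((Frg27.map_eq_of_tower (R := A')).trans Frg27.map_eq_of_tower).trans Frg27.map_eq_of_tower.symm
    have h3 := Frg27.ft_trans h1 (Frg27.ft_congr h2 (Frg27.cl_ft ((I.map (algebraMap A A')).map (algebraMap A' B')) (algebraMap A' B' (algebraMap A A' f))))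
    haveI := Frg27.ft_congr (Frg27.map_eq_of_tower (R := B) (S := Bf) (T := E') (J := (I.map (algebraMap A B)))).symm h3
    exact Algebra.FiniteType.of_restrictScalars_finiteType B _ _
  have hqB : Frg27.IsRig ((I.map (algebraMap A B)).map (algebraMap B Bf)) q := Frg27.isRig_tower_iff.mpr hq
  obtain ⟨q', hq'rig, hq'⟩ := (S8836.result Bf ((I.map (algebraMap A B)).map (algebraMap B Bf)) E' hft q hqB).mp ⟨
    ⟨RingHom.ker χ.toRingHom, RingHom.ker_isPrime _⟩, (by
      refine ((Frg27.map_eq_of_tower (R := B) (S := Bf) (T := E')).trans
        (Frg27.map_eq_of_tower (R := A) (S := B) (T := E'))).le.trans (Ideal.map_le_iff_le_comap.mpr ?_)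
      intro a ha
      change χ (algebraMap A E' a) = 0
      rw [IsScalarTower.algebraMap_apply A B' E', χ.commutes, ← IsScalarTower.algebraMap_apply A B' K]
      exact (Submodule.mem_bot _).mp (hIK ▸ Ideal.mem_map_of_mem _ ha)),
    fun x hx => (hker x).mpr (hqM hx), by
      have : (RingHom.ker χ.toRingHom).comap (algebraMap Bf E') = M := Ideal.ext fun x => hker x
      change ((RingHom.ker χ.toRingHom).comap (algebraMap Bf E')).IsMaximal
      rw [this]; exact hM⟩
  have hrig' : Frg27.IsRig (I.map (algebraMap A E')) q' :=
    Frg27.isRig_tower_iff.mp (Frg27.isRig_tower_iff.mp hq'rig)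
  let ψ' : Frg27.CL (I.map (algebraMap A A')) (algebraMap A A' f) →ₐ[A'] E' := Frg27.clLift (I.map (algebraMap A A')) (algebraMap A A' f) (T := E') (Frg27.isUnit_tower_iff.mpr huE')
  have h1 := Frg27.rigFlat_apply hA'B'' ψ' (q := q') (Frg27.isRig_tower_iff.mpr hrig')
  let χA : Frg27.CL I f →ₐ[A] Frg27.CL (I.map (algebraMap A A')) (algebraMap A A' f) :=
    Frg27.clLift I f (Frg27.isUnit_tower_iff.mp (Frg27.isUnit_cl (I.map (algebraMap A A')) (algebraMap A A' f)))
  haveI : Module.Flat A' (Frg27.CL (I.map (algebraMap A A')) (algebraMap A A' f)) := Frg27.cl_flat (I.map (algebraMap A A')) (algebraMap A A' f)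
  haveI : Module.Flat A (Frg27.CL (I.map (algebraMap A A')) (algebraMap A A' f)) := Module.Flat.trans A A' _
  have h2 := RingHom.Flat.comp (Frg27.flat_cl_algHom χA) h1
  refine Frg27.flat_at_descend (Frg27.flat_cl_algHom Φ) hq' ?_
  have e1 : Φ.toRingHom.comp ψ.toRingHom = ψ'.toRingHom.comp χA.toRingHom :=
    congrArg AlgHom.toRingHom (Frg27.cl_algHom_ext ((Φ.restrictScalars A).comp ψ)
      ((ψ'.restrictScalars A).comp χA))
  rw [e1]
  exact h2

end Groth.Agent.S8844
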