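import Groth.Statements.S8845
import Groth.Agent.Frg27.RigEtale
import Mathlib.RingTheory.Etale.Basic

set_option autoImplicit false
universe u
open AdicRing

namespace Groth.Agent.S8845

/-- Consider a commutative square of adic Noetherian topological rings with all maps adic and
topologically of finite type: A a Noetherian ring complete for the adic topology of an ideal I (the
ideal of definition used below); B, A' and B' Noetherian algebras complete for the IB-, IA'- and
IB'-adic topologies, B' an algebra over B and over A' compatibly with A, with B/IB and A'/IA' of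
finite type over A and B'/IB' of finite type over B and over A'. Assume A → A' and B → B' are flat
and A/I → A'/IA' is étale. If A → B is rig-flat — for every f ∈ A, every ring map ψ : A_{f} → B_{f}
of completed principal localizations compatible with the map of ordinary localizations A[1/f] →
B[1/f] (there is exactly one), and every rig-closed prime q of B_{f} (I B_{f} ⊄ q and q maximal
among the primes not containing I B_{f}), the local ring (B_{f})_q is flat over A_{f} via ψ — then
A' → B' is rig-flat in the same form: for every f' ∈ A', every ring map A'_{f'} → B'_{f'} of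
completed principal localizations compatible with the map of ordinary localizations A'[1/f'] →
B'[1/f'], and every rig-closed prime q' of B'_{f'}, the local ring (B'_{f'})_{q'} is flat over
A'_{f'}. -/
theorem result (A : Type u) [CommRing A] [IsNoetherianRing A] (I : Ideal A) [IsAdicComplete I A] (B : Type u) [CommRing B] [Algebra A B] [IsNoetherianRing B] [IsAdicComplete (I.map (algebraMap A B)) B] (hftB : Algebra.FiniteType A (B ⧸ (I.map (algebraMap A B)))) (A' : Type u) [CommRing A'] [Algebra A A'] [IsNoetherianRing A'] [IsAdicComplete (I.map (algebraMap A A')) A'] (hftA' : Algebra.FiniteType A (A' ⧸ (I.map (algebraMap A A')))) (B' : Type u) [CommRing B'] [Algebra A B'] [Algebra B B'] [Algebra A' B'] [IsScalarTower A B B'] [IsScalarTower A A' B'] [IsNoetherianRing B'] [IsAdicComplete (I.map (algebraMap A B')) B'] (hftB'B : Algebra.FiniteType B (B' ⧸ (I.map (algebraMap A B')))) (hftB'A' : Algebra.FiniteType A' (B' ⧸ (I.map (algebraMap A B')))) [Module.Flat A A'] [Module.Flat B B'] [Algebra.Etale (A ⧸ I) (A' ⧸ (I.map (algebraMap A A')))] (hAB : (∀ f : A,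 ∀ ψf : (AdicCompletion (I.map (algebraMap A (Localization.Away f))) (Localization.Away f)) →+* (AdicCompletion ((I.map (algebraMap A B)).map (algebraMap B (Localization.Away (algebraMap A B f)))) (Localization.Away (algebraMap A B f))), ψf.comp (algebraMap (Localization.Away f) (AdicCompletion (I.map (algebraMap A (Localization.Away f))) (Localization.Away f))) = (algebraMap (Localization.Away (algebraMap A B f)) (AdicCompletion ((I.map (algebraMap A B)).map (algebraMap B (Localization.Away (algebraMap A B f)))) (Localization.Away (algebraMap A B f)))).comp (Localization.awayMap (algebraMap A B) f) → ∀ qf : PrimeSpectrum (AdicCompletion ((I.map (algebraMap A B)).map (algebraMap B (Localization.Away (algebraMap A B f)))) (Localization.Away (algebraMap A B f))), (¬ (((I.map (algebraMap A B)).map (algebraMap B (Localization.Away (algebraMap A B f)))).map (algebraMap (Localization.Away (algebraMap A B f)) (AdicCompletion ((I.map (algebraMap A B)).map (algebraMap B (Localization.Away (algebraMap A B f)))) (Localization.Away (algebraMap A B f))))) ≤ qf.asIdeal ∧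 ∀ y : PrimeSpectrum (AdicCompletion ((I.map (algebraMap A B)).map (algebraMap B (Localization.Away (algebraMap A B f)))) (Localization.Away (algebraMap A B f))), qf ≤ y → ¬ (((I.map (algebraMap A B)).map (algebraMap B (Localization.Away (algebraMap A B f)))).map (algebraMap (Localization.Away (algebraMap A B f)) (AdicCompletion ((I.map (algebraMap A B)).map (algebraMap B (Localization.Away (algebraMap A B f)))) (Localization.Away (algebraMap A B f))))) ≤ y.asIdeal → y = qf) → ((algebraMap (AdicCompletion ((I.map (algebraMap A B)).map (algebraMap B (Localization.Away (algebraMap A B f)))) (Localization.Away (algebraMap A B f))) (Localization.AtPrime qf.asIdeal)).comp ψf).Flat)) : (∀ f' : A', ∀ ψf' : (AdicCompletion ((I.map (algebraMap A A')).map (algebraMap A' (Localization.Away f'))) (Localization.Away f')) →+* (AdicCompletion (((I.map (algebraMap A A')).map (algebraMap A' B')).map (algebraMap B' (Localization.Away (algebraMap A' B' f')))) (Localization.Away (algebraMap A' B' f'))), ψf'.comp (algebraMap (Localization.Away f') (AdicCompletion ((I.map (algebraMap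 A A')).map (algebraMap A' (Localization.Away f'))) (Localization.Away f'))) = (algebraMap (Localization.Away (algebraMap A' B' f')) (AdicCompletion (((I.map (algebraMap A A')).map (algebraMap A' B')).map (algebraMap B' (Localization.Away (algebraMap A' B' f')))) (Localization.Away (algebraMap A' B' f')))).comp (Localization.awayMap (algebraMap A' B') f') → ∀ qf' : PrimeSpectrum (AdicCompletion (((I.map (algebraMap A A')).map (algebraMap A' B')).map (algebraMap B' (Localization.Away (algebraMap A' B' f')))) (Localization.Away (algebraMap A' B' f'))), (¬ ((((I.map (algebraMap A A')).map (algebraMap A' B')).map (algebraMap B' (Localization.Away (algebraMap A' B' f')))).map (algebraMap (Localization.Away (algebraMap A' B' f')) (AdicCompletion (((I.map (algebraMap A A')).map (algebraMap A' B')).map (algebraMap B' (Localization.Away (algebraMap A' B' f')))) (Localization.Away (algebraMap A' B' f'))))) ≤ qf'.asIdeal ∧ ∀ y : PrimeSpectrum (AdicCompletion (((I.map (algebraMap A A')).map (algebraMap A' B')).map (algebraMap B' (Localization.Away (algebraMap A' B' f'))))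 (Localization.Away (algebraMap A' B' f'))), qf' ≤ y → ¬ ((((I.map (algebraMap A A')).map (algebraMap A' B')).map (algebraMap B' (Localization.Away (algebraMap A' B' f')))).map (algebraMap (Localization.Away (algebraMap A' B' f')) (AdicCompletion (((I.map (algebraMap A A')).map (algebraMap A' B')).map (algebraMap B' (Localization.Away (algebraMap A' B' f')))) (Localization.Away (algebraMap A' B' f'))))) ≤ y.asIdeal → y = qf') → ((algebraMap (AdicCompletion (((I.map (algebraMap A A')).map (algebraMap A' B')).map (algebraMap B' (Localization.Away (algebraMap A' B' f')))) (Localization.Away (algebraMap A' B' f'))) (Localization.AtPrime qf'.asIdeal)).comp ψf').Flat) := by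
  have hAB' : Frg27.RigFlat I B := hAB
  suffices H : Frg27.RigFlat (I.map (algebraMap A A')) B' from H
  refine Frg27.rigFlat_intro fun f' ψ q hq => ?_
  haveI := Frg27.cl_noetherian (I.map (algebraMap A A')) f'
  haveI := Frg27.cl_complete (I.map (algebraMap A A')) f'
  haveI := Frg27.cl_noetherian ((I.map (algebraMap A A')).map (algebraMap A' B')) (algebraMap A' B' f')
  haveI hcE := Frg27.cl_complete ((I.map (algebraMap A A')).map (algebraMap A' B')) (algebraMap A' B' f')
  let E := Frg27.CL ((I.map (algebraMap A A')).map (algebraMap A' B')) (algebraMap A' B' f')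
  haveI : IsAdicComplete ((I.map (algebraMap A A')).map (algebraMap A' E)) E := Frg27.complete_of_map (S := B')
  haveI : IsAdicComplete (I.map (algebraMap A E)) E := Frg27.complete_of_map (S := A')
  have hqA : Frg27.IsRig (I.map (algebraMap A E)) q := Frg27.isRig_tower_iff.mp hq
  have hKE : ((I.map (algebraMap A A')).map (algebraMap A' B')).map (algebraMap B' E) = I.map (algebraMap A E) :=
    (Frg27.map_eq_of_tower (R := A')).trans Frg27.map_eq_of_tower
  obtain ⟨f, hf, hgood⟩ := Frg27.exists_good (J := I)
    (Frg27.ft_trans (Frg27.ft_trans hftA' hftB'A') (Frg27.ft_congr hKE (Frg27.cl_ft ((I.map (algebraMap A A')).map (algebraMap A' B')) (algebraMap A' B' f')))) hqA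
  -- the refined charts
  haveI := Frg27.cl_noetherian I f
  haveI := Frg27.cl_complete I f
  haveI := Frg27.cl_noetherian (I.map (algebraMap A B)) (algebraMap A B f)
  haveI := Frg27.cl_complete_base (J := I) (algebraMap A B f)
  haveI := Frg27.cl_noetherian (I.map (algebraMap A A')) (f' * algebraMap A A' f)
  haveI := Frg27.cl_complete (I.map (algebraMap A A')) (f' * algebraMap A A' f)
  haveI := Frg27.cl_complete_base (J := I) (f' * algebraMap A A' f)
  haveI := Frg27.cl_noetherian ((I.map (algebraMap A A')).map (algebraMap A' B')) (algebraMap A' B' (f' * algebraMap A A' f))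
  haveI hcE' := Frg27.cl_complete ((I.map (algebraMap A A')).map (algebraMap A' B')) (algebraMap A' B' (f' * algebraMap A A' f))
  let E' := Frg27.CL ((I.map (algebraMap A A')).map (algebraMap A' B')) (algebraMap A' B' (f' * algebraMap A A' f))
  haveI : IsAdicComplete ((I.map (algebraMap A A')).map (algebraMap A' E')) E' := Frg27.complete_of_map (S := B')
  haveI hcA : IsAdicComplete (I.map (algebraMap A E')) E' := Frg27.complete_of_map (S := A')
  haveI : IsAdicComplete ((I.map (algebraMap A B)).map (algebraMap B E')) E' := Frg27.complete_tower hcA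
  haveI hcq := Frg27.complete_quotient (R := A) (J := I) q.asIdeal
  haveI : IsAdicComplete ((I.map (algebraMap A A')).map (algebraMap A' (E ⧸ q.asIdeal))) (E ⧸ q.asIdeal) := Frg27.complete_tower hcq
  haveI : IsAdicComplete (((I.map (algebraMap A A')).map (algebraMap A' B')).map (algebraMap B' (E ⧸ q.asIdeal))) (E ⧸ q.asIdeal) :=
    Frg27.complete_tower (R := A') inferInstance
  have hu2 : IsUnit (algebraMap A' E' (f' * algebraMap A A' f)) := Frg27.isUnit_tower_iff.mp (Frg27.isUnit_cl ((I.map (algebraMap A A')).map (algebraMap A' B')) (algebraMap A' B' (f' * algebraMap A A' f)))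
  have hu1 : IsUnit (algebraMap A' E' f') :=
    isUnit_of_mul_isUnit_left (y := algebraMap A' E' (algebraMap A A' f)) (by rw [← map_mul]; exact hu2)
  have huf : IsUnit (algebraMap A E' f) :=
    (Frg27.isUnit_tower_iff (S := A')).mp
      (isUnit_of_mul_isUnit_right (x := algebraMap A' E' f') (by rw [← map_mul]; exact hu2))
  have huq : IsUnit (algebraMap A' (E ⧸ q.asIdeal) (f' * algebraMap A A' f)) := by
    rw [map_mul]
    refine IsUnit.mul ?_ (Frg27.isUnit_tower_iff.mpr hf)
    refine Frg27.isUnit_tower_iff (S := E) |>.mp ?_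
    exact ((Frg27.isUnit_tower_iff (S := B')).mp (Frg27.isUnit_cl ((I.map (algebraMap A A')).map (algebraMap A' B')) (algebraMap A' B' f'))).map _
  let π := Frg27.clLift ((I.map (algebraMap A A')).map (algebraMap A' B')) (algebraMap A' B' (f' * algebraMap A A' f)) (T := E ⧸ q.asIdeal) (Frg27.isUnit_tower_iff.mpr huq)
  let Φ : E →ₐ[B'] E' := Frg27.clLift ((I.map (algebraMap A A')).map (algebraMap A' B')) (algebraMap A' B' f') (T := E') (Frg27.isUnit_tower_iff.mpr hu1)
  have hπ : ∀ x, π (Φ x) = Ideal.Quotient.mk q.asIdeal x := fun x =>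
    AlgHom.congr_fun (Frg27.cl_algHom_ext (π.comp Φ) (Ideal.Quotient.mkₐ B' q.asIdeal)) x
  obtain ⟨q', hrig, hcomap, hsurj⟩ := Frg27.exists_point (J := I) hqA (Φ.restrictScalars A)
    (π.restrictScalars A) hπ
  let A2 := Frg27.CL (I.map (algebraMap A A')) (f' * algebraMap A A' f)
  let ψ2 : A2 →ₐ[A'] E' := Frg27.clLift (I.map (algebraMap A A')) (f' * algebraMap A A' f) (T := E') hu2
  have hu2A : IsUnit (algebraMap A A2 f) :=
    (Frg27.isUnit_tower_iff (S := A')).mp (isUnit_of_mul_isUnit_right (x := algebraMap A' A2 f')
      (by rw [← map_mul]; exact Frg27.isUnit_cl (I.map (algebraMap A A')) (f' * algebraMap A A' f)))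
  let χA : Frg27.CL I f →ₐ[A] A2 := Frg27.clLift I f hu2A
  let ψf : Frg27.CL I f →ₐ[A] Frg27.CL (I.map (algebraMap A B)) (algebraMap A B f) :=
    Frg27.clLift I f ((Frg27.isUnit_tower_iff (S := B)).mp (Frg27.isUnit_cl _ _))
  let Λ : Frg27.CL (I.map (algebraMap A B)) (algebraMap A B f) →ₐ[B] E' := Frg27.clLift (I.map (algebraMap A B)) (algebraMap A B f) (T := E') (Frg27.isUnit_tower_iff.mpr huf)
  have hcomp : (ψ2.restrictScalars A).comp χA = (Λ.restrictScalars A).comp ψf := Frg27.cl_algHom_ext _ _
  have hfin := Frg27.finite_of_good hgood (Φ := Φ.restrictScalars A) hcomap hsurj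
    ((ψ2.restrictScalars A).comp χA) (Frg27.isUnit_cl I f)
  have hp2 := Frg27.isRig_comap hrig (ψ2.restrictScalars A)
    (RingHom.Finite.of_comp_finite (f := χA.toRingHom) hfin)
  have hfin' := hfin
  rw [hcomp] at hfin'
  have hqB := Frg27.isRig_comap hrig (Λ.restrictScalars A)
    (RingHom.Finite.of_comp_finite (f := ψf.toRingHom) hfin')
  have hp := Frg27.isRig_comap hrig ((ψ2.restrictScalars A).comp χA) hfin
  haveI : Module.Flat B' E' := Frg27.cl_flat ((I.map (algebraMap A A')).map (algebraMap A' B')) (algebraMap A' B' (f' * algebraMap A A' f))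
  haveI : Module.Flat B E' := Module.Flat.trans B B' E'
  let S := Localization.AtPrime q'.asIdeal
  have hΛ : ((algebraMap E' S).comp Λ.toRingHom).Flat :=
    RingHom.Flat.comp (Frg27.flat_cl_algHom Λ)
      (RingHom.flat_algebraMap_iff.mpr (IsLocalization.flat S q'.asIdeal.primeCompl))
  have hS := Frg27.flat_at_comp (φ := ψf.toRingHom) rfl (Frg27.rigFlat_apply hAB' ψf hqB) hΛ
  -- base change
  set p2 := PrimeSpectrum.comap ψ2.toRingHom q'
  let R2 := Localization.AtPrime p2.asIdeal
  letI : Algebra (Frg27.CL I f) A2 := χA.toRingHom.toAlgebra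
  haveI : IsScalarTower A (Frg27.CL I f) A2 :=
    IsScalarTower.of_algebraMap_eq fun a => (χA.commutes a).symm
  letI : Algebra R2 S := (Localization.localRingHom p2.asIdeal q'.asIdeal ψ2.toRingHom rfl).toAlgebra
  letI : Algebra (Frg27.CL I f) S := ((algebraMap E' S).comp (Λ.toRingHom.comp ψf.toRingHom)).toAlgebra
  haveI : IsScalarTower (Frg27.CL I f) R2 S := IsScalarTower.of_algebraMap_eq fun a => by
    change algebraMap E' S (Λ (ψf a)) =
      Localization.localRingHom p2.asIdeal q'.asIdeal ψ2.toRingHom rfl (algebraMap A2 R2 (χA a))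
    rw [Localization.localRingHom_to_map]
    exact congrArg (algebraMap E' S) (AlgHom.congr_fun hcomp a).symm
  haveI : Module.Flat (Frg27.CL I f) S := hS
  haveI : IsNoetherianRing S := IsLocalization.isNoetherianRing q'.asIdeal.primeCompl _ inferInstance
  haveI : IsNoetherianRing R2 := IsLocalization.isNoetherianRing p2.asIdeal.primeCompl _ inferInstance
  let I2 := I.map (algebraMap A (Frg27.CL I f))
  haveI : IsAdicComplete (I2.map (algebraMap (Frg27.CL I f) A2)) A2 := Frg27.complete_tower inferInstance
  have hKA2 : (I.map (algebraMap A A')).map (algebraMap A' A2) = I.map (algebraMap A A2) := Frg27.map_eq_of_tower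
  have hftA : Algebra.FiniteType A (A2 ⧸ I.map (algebraMap A A2)) :=
    Frg27.ft_trans hftA' (Frg27.ft_congr hKA2 (Frg27.cl_ft (I.map (algebraMap A A')) (f' * algebraMap A A' f)))
  have hft2 : Algebra.FiniteType (Frg27.CL I f) (A2 ⧸ I2.map (algebraMap (Frg27.CL I f) A2)) := by
    haveI := Frg27.ft_congr (Frg27.map_eq_of_tower (R := A) (S := Frg27.CL I f) (T := A2) (J := I)).symm hftA
    exact Algebra.FiniteType.of_restrictScalars_finiteType A _ _
  haveI : Algebra.FormallyUnramified (Frg27.CL I f) (A2 ⧸ I2.map (algebraMap (Frg27.CL I f) A2)) := by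
    set K := I2.map (algebraMap (Frg27.CL I f) A2)
    have hK : K = (I.map (algebraMap A A')).map (algebraMap A' A2) := Frg27.map_eq_of_tower.trans hKA2.symm
    haveI : Algebra.FormallyUnramified A (A' ⧸ (I.map (algebraMap A A'))) := Algebra.FormallyUnramified.comp A (A ⧸ I) _
    have hle : (I.map (algebraMap A A')) ≤ K.comap (algebraMap A' A2) := by
      rw [← Ideal.map_le_iff_le_comap, hK]
    letI : Algebra (A' ⧸ (I.map (algebraMap A A'))) (A2 ⧸ K) := (Ideal.quotientMap K (algebraMap A' A2) hle).toAlgebra
    haveI : IsScalarTower A' (A' ⧸ (I.map (algebraMap A A'))) (A2 ⧸ K) := IsScalarTower.of_algebraMap_eq fun a => rfl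
    haveI : IsScalarTower A (A' ⧸ (I.map (algebraMap A A'))) (A2 ⧸ K) := IsScalarTower.of_algebraMap_eq fun a =>
      congrArg (Ideal.Quotient.mk K) (IsScalarTower.algebraMap_apply A A' A2 a)
    haveI : Algebra.FormallyUnramified A' (Localization.Away (f' * algebraMap A A' f)) :=
      Algebra.FormallyUnramified.of_isLocalization (Submonoid.powers (f' * algebraMap A A' f))
    haveI : Algebra.FormallyUnramified A' (A2 ⧸ K) := by
      refine Algebra.FormallyUnramified.of_surjective
        ((Ideal.Quotient.mkₐ A' K).comp (IsScalarTower.toAlgHom A' (Localization.Away (f' * algebraMap A A' f)) A2)) fun y => ?_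
      obtain ⟨y, rfl⟩ := Ideal.Quotient.mk_surjective y
      obtain ⟨c, hc⟩ := Frg27.exists_sub_mem_compl (IsNoetherian.noetherian (I.map (algebraMap A A'))) y 1
      refine ⟨c, (Ideal.Quotient.eq.mpr ?_).symm⟩
      rw [pow_one] at hc
      exact hK ▸ hc
    haveI : Algebra.FormallyUnramified (A' ⧸ (I.map (algebraMap A A'))) (A2 ⧸ K) :=
      Algebra.FormallyUnramified.of_restrictScalars A' _ _
    haveI : Algebra.FormallyUnramified A (A2 ⧸ K) := Algebra.FormallyUnramified.comp A (A' ⧸ (I.map (algebraMap A A'))) _
    exact Algebra.FormallyUnramified.of_restrictScalars A _ _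
  have hmax := Frg27.map_comap_eq_maximal hft2 p2 hp
  have hRS : Module.Flat R2 S := by
    refine Frg27.flat_of_flat_base_of_isMaximal (R := Frg27.CL I f)
      (PrimeSpectrum.comap (algebraMap (Frg27.CL I f) A2) p2).asIdeal S ?_ ?_
    · rw [IsLocalRing.jacobson_eq_maximalIdeal ⊥ bot_ne_top, Ideal.map_le_iff_le_comap]
      intro a ha
      change algebraMap E' S (Λ (ψf a)) ∈ IsLocalRing.maximalIdeal S
      rw [IsLocalization.AtPrime.to_map_mem_maximal_iff S q'.asIdeal]
      have e : Λ (ψf a) = ψ2 (χA a) := (AlgHom.congr_fun hcomp a).symm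
      rw [e]
      exact ha
    · have e : (PrimeSpectrum.comap (algebraMap (Frg27.CL I f) A2) p2).asIdeal.map
          (algebraMap (Frg27.CL I f) R2) = IsLocalRing.maximalIdeal R2 :=
        (Ideal.map_map _ _).symm.trans hmax
      rw [e]
      infer_instance
  have h2 : ((algebraMap E' S).comp ψ2.toRingHom).Flat := by
    have h := RingHom.Flat.comp (RingHom.flat_algebraMap_iff.mpr (IsLocalization.flat R2 p2.asIdeal.primeCompl))
      (RingHom.flat_algebraMap_iff.mpr hRS)
    convert h using 1
    exact RingHom.ext fun x => (Localization.localRingHom_to_map p2.asIdeal q'.asIdeal _ rfl x).symm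
  let χ' : Frg27.CL (I.map (algebraMap A A')) f' →ₐ[A'] A2 := Frg27.clLift (I.map (algebraMap A A')) f'
    (isUnit_of_mul_isUnit_left (y := algebraMap A' A2 (algebraMap A A' f))
      (by rw [← map_mul]; exact Frg27.isUnit_cl (I.map (algebraMap A A')) (f' * algebraMap A A' f)))
  haveI : Module.Flat A' A2 := Frg27.cl_flat (I.map (algebraMap A A')) (f' * algebraMap A A' f)
  have h4 := RingHom.Flat.comp (Frg27.flat_cl_algHom χ') h2
  refine Frg27.flat_at_descend (Frg27.flat_cl_algHom Φ) hcomap ?_
  have e1 : Φ.toRingHom.comp ψ.toRingHom = ψ2.toRingHom.comp χ'.toRingHom :=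
    congrArg AlgHom.toRingHom (Frg27.cl_algHom_ext ((Φ.restrictScalars A').comp ψ) (ψ2.comp χ'))
  rw [e1]
  exact h4

end Groth.Agent.S8845
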