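import Groth.Statements.S8854
import Groth.Agent.Div89.UFD

set_option autoImplicit false
universe u
open SDiv

namespace Groth.Agent.S8854

/-- Let R be a Noetherian unique factorisation domain and I ⊆ R an ideal such that every associated
prime of R/I is minimal over I (R/I has no embedded primes) and every prime minimal over I has
height 1. Then I is principal: it is generated by one element. -/
theorem result (R : Type u) [CommRing R] [IsDomain R] [IsNoetherianRing R]
    [UniqueFactorizationMonoid R] (I : Ideal R)
    (h1 : ∀ p : Ideal R, p ∈ associatedPrimes R (R ⧸ I) → p ∈ I.minimalPrimes)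
    (h2 : ∀ p : Ideal R, p ∈ I.minimalPrimes → p.height = 1) :
    ∃ f : R, I = Ideal.span {f} := by
  obtain ⟨f, -, hf⟩ := Div89.principal_of_associated_height_one I fun P hP e he =>
    h2 P (h1 P (isAssociatedPrime_iff.2 ⟨hP, Ideal.Quotient.mk I e, Ideal.ext fun c => by
      rw [he, Submodule.mem_colon_singleton, Submodule.mem_bot, ← Ideal.Quotient.eq_zero_iff_mem, map_mul]
      rfl⟩))
  exact ⟨f, hf⟩

end Groth.Agent.S8854
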