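import Groth.Statements.S8856
import Groth.Agent.Div89.KoszulGeneric
import Groth.Agent.MP99.Basic
import Mathlib.AlgebraicGeometry.Morphisms.Smooth

set_option autoImplicit false
universe u
open CategoryTheory CategoryTheory.Limits AlgebraicGeometry TopologicalSpace
open SDiv

namespace Groth.Agent.S8856


set_option backward.isDefEq.respectTransparency.types false

theorem appLE_congr_of_eq {X Y : Scheme.{u}} {f g : X ⟶ Y} (h : f = g) (U : Y.Opens) (V : X.Opens)
    (e : V ≤ f ⁻¹ᵁ U) : f.appLE U V e = g.appLE U V (h ▸ e) := by subst h; rfl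

/-- On the image of an open immersion of a spectrum, the ring map is the given one. -/
theorem exists_iso_appLE {X X' : Scheme.{u}} {U : X.Opens} (hU : IsAffineOpen U) {B : CommRingCat.{u}}
    (φ : Γ(X, U) ⟶ B) (j : Spec B ⟶ X') [IsOpenImmersion j] (g : X' ⟶ X)
    (hjg : j ≫ g = Spec.map φ ≫ hU.fromSpec) (e : j ''ᵁ ⊤ ≤ g ⁻¹ᵁ U) :
    ∃ ε : B ≅ Γ(X', j ''ᵁ ⊤), g.appLE U (j ''ᵁ ⊤) e = φ ≫ ε.hom := by
  refine ⟨(Scheme.ΓSpecIso B).symm ≪≫ (j.appIso ⊤).symm, ?_⟩
  have e' : (⊤ : (Spec B).Opens) ≤ (j ≫ g) ⁻¹ᵁ U := fun x _ => e ⟨x, trivial, rfl⟩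
  have h1 : (j ≫ g).appLE U ⊤ e' = φ ≫ (Scheme.ΓSpecIso B).inv := by
    rw [appLE_congr_of_eq hjg, Scheme.Hom.comp_appLE, hU.fromSpec_app_self]
    simp only [Category.assoc, Scheme.Hom.map_appLE]
    rw [Scheme.ΓSpecIso_inv_naturality]
    congr 1
  rw [Iso.trans_hom, Iso.symm_hom, Iso.symm_hom, ← Category.assoc, ← h1, Iso.eq_comp_inv]
  rw [Scheme.Hom.appIso_hom', Scheme.Hom.appLE_comp_appLE]

/-- The complement of the image, and the generic-coefficient charts. -/
theorem exists_chart {Z X : Scheme.{u}} (i : Z ⟶ X) [IsClosedImmersion i]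
    (hi : RegImm.IsRegularImmersion RegImm.Kind.koszul i) (z : Z) :
    ∃ (U : X.affineOpens) (B : CommRingCat.{u}) (φ : Γ(X, U.1) ⟶ B) (l : List B), i z ∈ U.1 ∧
      Smooth (Spec.map φ) ∧ Surjective (Spec.map φ) ∧ RingTheory.Sequence.IsWeaklyRegular B l ∧
        Ideal.ofList l = (RingHom.ker (i.app U.1).hom).map φ.hom := by
  obtain ⟨U, hzU, -, rs, hrs, hker⟩ := hi.2 z
  obtain ⟨σ, hσ, l, hl, hlI⟩ := Groth.Agent.Div89.KoszulGeneric.exists_weaklyRegular rs.length Γ(X, U.1) rs rfl
    ((Groth.Agent.Koszul19.kR_iff rs).2 hrs)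
  refine ⟨U, CommRingCat.of (MvPolynomial σ Γ(X, U.1)), CommRingCat.ofHom MvPolynomial.C, l, hzU, ?_, ?_, hl, ?_⟩
  · rw [HasRingHomProperty.Spec_iff (P := @Smooth)]
    show (algebraMap Γ(X, U.1) (MvPolynomial σ Γ(X, U.1))).Smooth
    rw [RingHom.smooth_algebraMap]
    haveI := hσ
    haveI : Algebra.FinitePresentation Γ(X, U.1) (MvPolynomial σ Γ(X, U.1)) := inferInstance
    exact ⟨inferInstance, inferInstance⟩
  · constructor
    intro p
    refine ⟨PrimeSpectrum.comap (MvPolynomial.eval₂Hom (RingHom.id Γ(X, U.1)) 0) p, PrimeSpectrum.ext ?_⟩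
    show Ideal.comap MvPolynomial.C (Ideal.comap (MvPolynomial.eval₂Hom (RingHom.id Γ(X, U.1)) 0) p.asIdeal) = _
    rw [Ideal.comap_comap]
    conv_rhs => rw [← Ideal.comap_id (I := p.asIdeal)]
    congr 1
    exact RingHom.ext fun a => by simp
  · rw [hker]; exact hlI

/-- For a Koszul-regular closed immersion i : Z ⟶ X, some surjective smooth morphism g : X' ⟶ X makes
the base change Z ×_X X' ⟶ X' of i along g a regular immersion. -/
theorem result {Z X : Scheme.{u}} (i : Z ⟶ X) [IsClosedImmersion i]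
    (hi : RegImm.IsRegularImmersion RegImm.Kind.koszul i) :
    ∃ (X' : Scheme.{u}) (g : X' ⟶ X), Smooth g ∧ Surjective g ∧
      RegImm.IsRegularImmersion RegImm.Kind.regular (pullback.snd i g) := by
  classical
  choose U B φ l hzU hsm hsurj hl hlI using exists_chart i hi
  let V : X.Opens := ⟨(Set.range i.base)ᶜ, i.isClosedEmbedding.isClosed_range.isOpen_compl⟩
  let Y : Option Z → Scheme.{u} := fun k => k.elim V.toScheme fun z => Spec (B z)
  let gk : ∀ k, Y k ⟶ X := fun k => match k with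
    | none => V.ι
    | some z => Spec.map (φ z) ≫ (U z).2.fromSpec
  let g : (∐ Y) ⟶ X := Sigma.desc gk
  have hgι : ∀ k, Sigma.ι Y k ≫ g = gk k := fun k => Sigma.ι_desc _ _
  have hgs : Smooth g := by
    refine IsZariskiLocalAtSource.of_openCover (P := @Smooth) (sigmaOpenCover Y) fun k => ?_
    change Smooth (Sigma.ι Y k ≫ g)
    rw [hgι]
    cases k with
    | none => show Smooth V.ι; infer_instance
    | some z =>
      haveI := hsm z
      show Smooth (Spec.map (φ z) ≫ (U z).2.fromSpec)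
      infer_instance
  refine ⟨∐ Y, g, hgs, ⟨fun x => ?_⟩, inferInstance, fun p => ?_⟩
  · by_cases hx : x ∈ Set.range i.base
    · obtain ⟨z, rfl⟩ := hx
      obtain ⟨q, hq⟩ : i.base z ∈ Set.range (U z).2.fromSpec.base := by
        rw [(U z).2.range_fromSpec]; exact hzU z
      obtain ⟨b, hb⟩ := (hsurj z).surj q
      refine ⟨(Sigma.ι Y (some z)).base b, ?_⟩
      have h := congr($(hgι (some z)).base b)
      exact h.trans (by show (U z).2.fromSpec.base ((Spec.map (φ z)).base b) = _; rw [hb, hq])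
    · exact ⟨(Sigma.ι Y none).base ⟨x, hx⟩, congr($(hgι none).base ⟨x, hx⟩)⟩
  · obtain ⟨k, w, hw⟩ := (sigmaOpenCover Y).exists_eq ((pullback.snd i g).base p)
    change (Sigma.ι Y k).base w = _ at hw
    have hgw : g.base ((Sigma.ι Y k).base w) = i.base ((pullback.fst i g).base p) := by
      rw [hw]
      exact congr($(pullback.condition (f := i) (g := g)).base p).symm
    have hgk : g.base ((Sigma.ι Y k).base w) = (gk k).base w := congr($(hgι k).base w)
    cases k with
    | none =>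
      exfalso
      have h2 : (w : V.toScheme).1 ∈ V := (w : V.toScheme).2
      apply h2
      exact ⟨_, (hgw.symm.trans hgk)⟩
    | some z =>
      let j : Spec (B z) ⟶ ∐ Y := Sigma.ι Y (some z)
      haveI : IsOpenImmersion j := inferInstanceAs (IsOpenImmersion (Sigma.ι Y (some z)))
      have hjg : j ≫ g = Spec.map (φ z) ≫ (U z).2.fromSpec := hgι (some z)
      have e : j ''ᵁ ⊤ ≤ g ⁻¹ᵁ (U z).1 := by
        rintro x ⟨b, -, rfl⟩
        show g.base (j.base b) ∈ (U z).1
        have h := congr($(hjg).base b)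
        rw [show g.base (j.base b) = _ from h]
        have h2 : ∀ q, (U z).2.fromSpec.base q ∈ ((U z).1 : Set X) := fun q =>
          (U z).2.range_fromSpec.le (Set.mem_range_self q)
        exact h2 ((Spec.map (φ z)).base b)
      obtain ⟨ε, hε⟩ := exists_iso_appLE (U z).2 (φ z) j g hjg e
      let W : (∐ Y).affineOpens := ⟨j ''ᵁ ⊤, (isAffineOpen_top _).image_of_isOpenImmersion j⟩
      have hpW : (pullback.snd i g).base p ∈ W.1 := ⟨w, trivial, hw⟩
      refine ⟨W, hpW, IsZariskiLocalAtTarget.restrict (P := @IsClosedImmersion) inferInstance _,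
        (l z).map ε.commRingCatIsoToRingEquiv, ?_⟩
      have hk : RingHom.ker ((pullback.snd i g).app W.1).hom =
          Ideal.ofList ((l z).map ε.commRingCatIsoToRingEquiv) := by
        have h1 : (pullback.snd i g).ker = i.ker.comap g := by
          rw [← Scheme.IdealSheafData.ker_fst_of_isClosedImmersion i g,
            ← pullbackSymmetry_hom_comp_fst i g, Scheme.Hom.ker_comp_of_isIso]
        rw [← Scheme.Hom.ker_apply (pullback.snd i g) W, h1,
          Groth.Agent.MP99.ideal_comap i.ker g (U z) W e, Scheme.Hom.ker_apply, hε, CommRingCat.hom_comp,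
          ← Ideal.map_map, ← hlI z, Ideal.map_ofList]
        rfl
      refine ⟨?_, hk⟩
      refine ⟨Groth.Agent.Div89.KoszulGeneric.isWeaklyRegular_map_ringEquiv _ (hl z), ?_⟩
      rw [smul_eq_mul, Ideal.mul_top, ← hk]
      intro htop
      have h1 : (1 : Γ(∐ Y, W.1)) ∈ RingHom.ker ((pullback.snd i g).app W.1).hom := htop ▸ Submodule.mem_top
      rw [RingHom.mem_ker, map_one] at h1
      haveI : Nonempty ((pullback.snd i g) ⁻¹ᵁ W.1 : (pullback i g).Opens) := ⟨⟨p, hpW⟩⟩
      exact one_ne_zero h1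

end Groth.Agent.S8856
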