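import Groth.Statements.S9582
import Groth.Agent.CAlg5.WeakAss

set_option autoImplicit false
universe u
open CAlg

namespace Groth.Agent.S9582

/-- For a reduced ring R, the primes weakly associated to the R-module R (primes minimal over the
annihilator of some element) are exactly the minimal primes of R. -/
theorem result {R : Type u} [CommRing R] [IsReduced R] :
    FlatCA.weakAss R R = minimalPrimes R := by
  have hann1 : (Submodule.span R {(1 : R)}).annihilator = ⊥ := by
    ext r
    rw [CAlg5.mem_ann, Ideal.mem_bot, smul_eq_mul, mul_one]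
  refine Set.Subset.antisymm (fun p hp => ?_) (fun p hp => ⟨1, by rw [hann1]; exact hp⟩)
  have hpp := CAlg5.weakAss_isPrime hp
  obtain ⟨m, h1, h2⟩ := CAlg5.mem_weakAss_iff.mp hp
  obtain ⟨q, hq, hqp, hmq⟩ : ∃ q : Ideal R, q.IsPrime ∧ q ≤ p ∧ m ∉ q := by
    obtain ⟨q, hq, -, hqd⟩ := Ideal.exists_le_prime_disjoint (⊥ : Ideal R)
      (p.primeCompl ⊔ Submonoid.powers m) (by
        rw [Set.disjoint_left]
        intro x hx0 hx
        obtain ⟨y, hy, z, ⟨n, rfl⟩, hyz⟩ := Submonoid.mem_sup.mp hx
        rw [SetLike.mem_coe, Ideal.mem_bot] at hx0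
        rw [hx0] at hyz
        have hn : (y * m) ^ (n + 1) = 0 := by
          rw [pow_succ, mul_pow]
          linear_combination (y ^ n * m) * hyz
        exact hy (h1 y (by rw [smul_eq_mul]; exact IsReduced.eq_zero _ ⟨_, hn⟩)))
    refine ⟨q, hq, fun x hx => ?_, fun hm => ?_⟩
    · by_contra hxp
      exact Set.disjoint_left.mp hqd hx (Submonoid.mem_sup_left hxp)
    · exact Set.disjoint_left.mp hqd hm (Submonoid.mem_sup_right (Submonoid.mem_powers m))
  refine ⟨⟨hpp, bot_le⟩, fun q0 hq0 hq0p r hr => ?_⟩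
  obtain ⟨q1, hq1, hq1le⟩ := Ideal.exists_minimalPrimes_le (I := (⊥ : Ideal R)) (J := q) bot_le
  have h3 : p ≤ q1 := fun r hr => by
    obtain ⟨s, hs, n, hn⟩ := h2 r hr
    have hz : (s * r ^ n) * m ∈ q1 := by
      rw [← smul_eq_mul, hn]; exact zero_mem _
    have := hq1.1.1
    refine this.mem_of_pow_mem n ?_
    rcases this.mem_or_mem hz with h | h
    · exact (this.mem_or_mem h).resolve_left fun h' => hs (hqp (hq1le h'))
    · exact absurd (hq1le h) hmq
  exact hq1.2 hq0 (hq0p.trans h3) (h3 hr)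


end Groth.Agent.S9582
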