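import Groth.Statements.S8869
import Groth.Agent.Div89.WeakAss
import Groth.Agent.S9582

set_option autoImplicit false
universe u
open CategoryTheory CategoryTheory.Limits AlgebraicGeometry TopologicalSpace
open SDiv

namespace Groth.Agent.S8869

/-- Assume X is a reduced scheme and x is a point of X. Then x is weakly associated to the structure
sheaf O_X exactly when every generization of x equals x itself; equivalently, x is a generic point
of some irreducible component of X. -/
theorem result (X : Scheme.{u}) [IsReduced X] (x : ↥X) :
    Curv2.IsWeakAssPoint (Coh.structureModule X) x ↔ ∀ y : ↥X, y ⤳ x → y = x := by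
  obtain ⟨U, hU⟩ := Div89.exists_affine_mem x
  rw [Div89.isWeakAssPoint_structureModule_iff U x hU, S9582.result]
  constructor
  · intro hmin y hy
    have hyU := Div89.mem_affine_of_specializes hy hU
    exact Div89.primeAt_inj U hyU hU (le_antisymm ((Div89.specializes_iff_primeAt_le U hU hyU).1 hy)
      (hmin.2 ⟨inferInstance, bot_le⟩ ((Div89.specializes_iff_primeAt_le U hU hyU).1 hy)))
  · intro h
    refine ⟨⟨inferInstance, bot_le⟩, fun q hq hle => ?_⟩
    haveI := hq.1
    obtain ⟨y, hy, rfl⟩ := Div89.exists_point U q
    obtain rfl := h y ((Div89.specializes_iff_primeAt_le U hU hy).2 hle)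
    exact le_rfl

end Groth.Agent.S8869
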