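import Groth.Statements.S8880
import Groth.Agent.EGA73.NrmDescent
import Groth.Agent.Amp73.QA

set_option autoImplicit false
universe u
open CategoryTheory CategoryTheory.Limits AlgebraicGeometry TopologicalSpace
open SDiv

namespace Groth.Agent.S8880

/-- Let π : X ⟶ Y be a finite morphism of schemes such that a norm of degree d exists for π, and assume
X is quasi-affine. Then Y is quasi-affine. -/
theorem result {X Y : Scheme.{u}} (π : X ⟶ Y) [IsFinite π] (d : ℕ) (hN : Nrm.HasNorm π d)
    (hX : X.IsQuasiAffine) : Y.IsQuasiAffine := by
  obtain ⟨N⟩ := hN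
  refine Amp73.isQuasiAffine_of_isAmple ((EGA73.fnormOfNorm N).isAmple EGA73.isInvertible_structureModule ?_)
  exact Amp73.isAmple_of_iso (PicLoc.pullbackStructureIso π).symm
    (Amp73.isAmple_of_isQuasiAffine EGA73.isInvertible_structureModule)


end Groth.Agent.S8880
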