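import Groth.Statements.S8888
import Groth.Agent.DCK91.PullStalk
import Mathlib.LinearAlgebra.Dimension.Localization

set_option autoImplicit false
universe u
open CategoryTheory CategoryTheory.Limits AlgebraicGeometry TopologicalSpace
open SDiv

namespace Groth.Agent.S8888

/-- Let f : X ⟶ Y be a dominant morphism of integral schemes and G a quasi-coherent O_Y-module. Then the
rank of f^*G on X, the dimension of its stalk at the generic point of X over the function field of
X, equals the rank of G on Y. -/
theorem result {X Y : Scheme.{u}} [IsIntegral X] [IsIntegral Y] (f : X ⟶ Y) [IsDominant f]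
    (G : Y.Modules) (hG : Coh.IsQCoh G) :
    Module.rank ↑(X.presheaf.stalk (genericPoint ↥X)) ↑(((Scheme.Modules.pullback f).obj G).presheaf.stalk (genericPoint ↥X)) =
      Module.rank ↑(Y.presheaf.stalk (genericPoint ↥Y)) ↑(G.presheaf.stalk (genericPoint ↥Y)) := by
  have hη : f (genericPoint X) = genericPoint Y :=
    ((genericPoint_spec X).image f.continuous).eq (by
      rw [Set.image_univ, f.denseRange.closure_range]; exact genericPoint_spec Y)
  have key : ∀ y : Y, y = genericPoint Y →
      Module.rank (Y.presheaf.stalk y) (G.presheaf.stalk y) =
        Module.rank (Y.presheaf.stalk (genericPoint Y)) (G.presheaf.stalk (genericPoint Y)) := by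
    rintro _ rfl; rfl
  rw [← key _ hη]
  letI := (f.stalkMap (genericPoint X)).hom.toAlgebra
  letI := Module.compHom (((Scheme.Modules.pullback f).obj G).presheaf.stalk (genericPoint X))
    (f.stalkMap (genericPoint X)).hom
  haveI : IsScalarTower (Y.presheaf.stalk (f (genericPoint X))) (X.presheaf.stalk (genericPoint X))
      (((Scheme.Modules.pullback f).obj G).presheaf.stalk (genericPoint X)) :=
    IsScalarTower.of_algebraMap_smul fun r e => rfl
  let Y' : Field (Y.presheaf.stalk (f (genericPoint X))) :=
    (show IsField (Y.presheaf.stalk (f (genericPoint X))) from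
      hη.symm ▸ (Field.toIsField Y.functionField)).toField
  haveI : IsDomain (X.presheaf.stalk (genericPoint X)) := inferInstanceAs (IsDomain X.functionField)
  haveI : FaithfulSMul (Y.presheaf.stalk (f (genericPoint X))) (X.presheaf.stalk (genericPoint X)) :=
    (faithfulSMul_iff_algebraMap_injective _ _).2 (by
      letI := Y'
      exact RingHom.injective (algebraMap (Y.presheaf.stalk (f (genericPoint X))) (X.presheaf.stalk (genericPoint X))))
  exact (Groth.Agent.DCK91.isBaseChange_pullη f G (genericPoint X)).rank_eq

end Groth.Agent.S8888
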