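import Groth.Statements.S8913
import Groth.Agent.Div89.StrictFit
import Groth.Agent.Stage62.NoethDescent
import Groth.Agent.LimTop61.ModDescent
import Groth.Agent.DCX42.Coh

set_option autoImplicit false
universe u
open CategoryTheory CategoryTheory.Limits AlgebraicGeometry TopologicalSpace
open SDiv

namespace Groth.Agent.S8913

/-- Let X be a scheme, F a finitely presented O_X-module and U ⊆ X an open subscheme which is
scheme-theoretically dense and over which F is locally free of constant finite rank r. Then: (1)
Fit_r(F) is of finite type with support disjoint from U, so a blowing up b : X' ⟶ X of X in Fit_r(F)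
is U-admissible; (2) the strict transform G of F along such b is locally free of rank r; (3) the
kernel of the surjection b^*F ⟶ G is finitely presented and restricts to zero over b⁻¹U. This row
does not assert that b^*F and the kernel are perfect of tor dimension at most one. -/
theorem result (X : Scheme.{u}) (F : X.Modules) (hF : CohB1.IsFP F)
    (U : X.Opens) (hU : CInt.IsSchematicallyDense U) (r : ℕ) (hfree : FlatMod.IsFinLocFreeOfRank r (F.restrict U.ι)) :
    BlowUp.IsAdmissibleFor U (Fitt.sheafIdeal F r) ∧
      ∀ (X' : Scheme.{u}) (b : X' ⟶ X), BlowUp.IsBlowUp b (Fitt.sheafIdeal F r) →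
        ∀ (G : X'.Modules) (π : (Scheme.Modules.pullback b).obj F ⟶ G), BlowUp.IsStrictTransform b (Fitt.sheafIdeal F r) F G π →
          FlatMod.IsFinLocFreeOfRank r G ∧ CohB1.IsFP (kernel π) ∧ IsZero ((kernel π).restrict (b ⁻¹ᵁ U).ι) := by
  haveI := hF
  haveI hq : F.IsQuasicoherent := Groth.Agent.DCX42.isQCoh_of_isFP hF
  have hft : CohB1.IsFT F := Groth.Agent.Stage62.isFiniteType_of_isFP hF
  have hdisj : Disjoint ((Fitt.sheafIdeal F r).support : Set ↥X) (U : Set ↥X) := Set.disjoint_left.2 fun x hx hxU =>
    (Groth.Agent.Div89.StrictFit.stalkIdeal_fitting_of_free hq hft U hfree x hxU).2 hx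
  refine ⟨⟨Groth.Agent.Div89.fitting_fg F hF r, hdisj⟩, fun X' b hb G π hG => ?_⟩
  have hlf : FlatMod.IsFinLocFreeOfRank r G := Groth.Agent.Div89.StrictFit.isFinLocFreeOfRank hq hft hb hG
    fun j hj => by
      rw [Groth.Agent.Div89.StrictFit.fitting_eq_bot_of_dense hq hft hU hfree j hj]
      exact Scheme.IdealSheafData.comap_bot b
  have hlf' : FlatMod.IsFinLocFree G := fun y =>
    ⟨_, r, (hlf y).choose_spec.1, (hlf y).choose_spec.2⟩
  refine ⟨hlf, ?_, Groth.Agent.Div89.StrictFit.isZero_kernel_restrict hb hG _ fun y hy hys => ?_⟩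
  · haveI : Coh.IsQCoh ((Scheme.Modules.pullback b).obj F) := Groth.Agent.QCPull72.isQuasicoherent_pullback b F
    haveI : Coh.IsQCoh G := Groth.Agent.Props58.LocFree.isQuasicoherent_of_isFinLocFree hlf'
    haveI := hG.1
    exact Groth.Agent.E4O.isFP_kernel_of_epi (𝟙 X') _ G (Groth.Agent.LimTop61.isFP_pullback b F)
      (Groth.Agent.Props58.LocFree.isFP_of_isFinLocFree hlf')
      (Groth.Agent.RB70.isFlatOver_of_isFinLocFree (𝟙 X') hlf') π
  · rw [Scheme.IdealSheafData.support_comap] at hys
    exact Set.disjoint_left.1 hdisj hys hy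

end Groth.Agent.S8913
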