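import Groth.Statements.S8922
import Groth.Agent.FlatCrit65.Blow.Main
import Groth.Agent.FMK72.BaseChange
import Groth.Agent.CartMod7.Affine
import Groth.Agent.QC70.Comap
import Groth.Agent.QC70.Closure

set_option autoImplicit false
universe u
open CategoryTheory CategoryTheory.Limits AlgebraicGeometry TopologicalSpace
open SDiv

namespace Groth.Agent.S8922

set_option backward.isDefEq.respectTransparency.types false

/-- Powers of a pulled back ideal on the preimage of an affine open. -/
theorem pow_comap_preimage {X' Y' : Scheme.{u}} (g : X' ⟶ Y') [IsAffineHom g] (E : Y'.IdealSheafData) (n : ℕ)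
    (V : Y'.affineOpens) :
    ((E.comap g) ^ n).ideal ⟨g ⁻¹ᵁ V.1, V.2.preimage g⟩ = ((E ^ n).ideal V).map (g.app V.1).hom := by
  simp only [Scheme.IdealSheafData.ideal_pow, Pi.pow_apply]
  rw [Groth.Agent.QC70.ideal_comap_preimage g E V, ← Ideal.map_pow]

theorem killed_pushforward {X' Y' : Scheme.{u}} (g : X' ⟶ Y') [IsAffineHom g] (E : Y'.IdealSheafData) (n : ℕ)
    (M : X'.Modules) (V : Y'.affineOpens) (m : Γ((Scheme.Modules.pushforward g).obj M, V.1)) :
    (∀ a ∈ ((E.comap g) ^ n).ideal ⟨g ⁻¹ᵁ V.1, V.2.preimage g⟩, a • (show Γ(M, g ⁻¹ᵁ V.1) from m) = 0) ↔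
      ∀ a : Γ(Y', V.1), a ∈ (E ^ n).ideal V → a • m = 0 := by
  rw [pow_comap_preimage g E n V]
  refine ⟨fun h a ha => h _ (Ideal.mem_map_of_mem _ ha), fun h b hb => ?_⟩
  induction hb using Submodule.span_induction with
  | mem x hx => obtain ⟨a, ha, rfl⟩ := hx; exact h a ha
  | zero => exact zero_smul _ _
  | add x y _ _ hx hy => rw [add_smul, hx, hy, add_zero]
  | smul r x _ hx => rw [smul_eq_mul, mul_smul, hx, smul_zero]

/-- A quasi-coherent strict transform pushes forward along an affine morphism. -/
theorem push_core {X Y PX PY : Scheme.{u}} (fX : PX ⟶ X) (fY : PY ⟶ Y) (g : X ⟶ Y) (g' : PX ⟶ PY)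
    [IsAffineHom g] [IsAffineHom g'] (H : IsPullback fX g' g fY) (J : Y.IdealSheafData) (F : X.Modules)
    [F.IsQuasicoherent] (F' : PX.Modules) [F'.IsQuasicoherent] (π : (Scheme.Modules.pullback fX).obj F ⟶ F')
    (hπ : BlowUp.IsStrictTransform fX (J.comap g) F F' π) :
    ∃ π' : (Scheme.Modules.pullback fY).obj ((Scheme.Modules.pushforward g).obj F) ⟶
        (Scheme.Modules.pushforward g').obj F',
      BlowUp.IsStrictTransform fY J ((Scheme.Modules.pushforward g).obj F) ((Scheme.Modules.pushforward g').obj F') π' := by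
  haveI : Epi π := hπ.1
  haveI : ((Scheme.Modules.pullback fX).obj F).IsQuasicoherent := Groth.Agent.QCPull72.isQuasicoherent_pullback fX F
  haveI hiso := Groth.Agent.FMK72.isIso_bcNat_app H.w.symm H.flip F
  let c : (Scheme.Modules.pullback fY).obj ((Scheme.Modules.pushforward g).obj F) ⟶
      (Scheme.Modules.pushforward g').obj ((Scheme.Modules.pullback fX).obj F) :=
    (Groth.Agent.FMK72.bcNat H.w.symm).app F
  haveI : IsIso c := hiso
  refine ⟨c ≫ (Scheme.Modules.pushforward g').map π, ?_, fun V m => ?_⟩
  · haveI : Epi ((Scheme.Modules.pushforward g').map π) :=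
      Groth.Agent.CartMod7.epi_of_locally_surjective _ fun V s y hy => by
        obtain ⟨O, hO, hyO, hOV⟩ := exists_isAffineOpen_mem_and_subset (U := V) hy
        obtain ⟨t, ht⟩ := Groth.Agent.CartMod7.app_surjective_of_epi π (hO.preimage g')
          ((((Scheme.Modules.pushforward g').obj F').val.map (homOfLE (show O ≤ V from hOV)).op).hom s)
        exact ⟨O, hOV, hyO, t, ht⟩
    infer_instance
  · have h1 := hπ.2 ⟨g' ⁻¹ᵁ V.1, V.2.preimage g'⟩ (c.app V.1 m)
    have hE : BlowUp.exceptional fX (J.comap g) = (BlowUp.exceptional fY J).comap g' := by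
      show (J.comap g).comap fX = (J.comap fY).comap g'
      rw [← Scheme.IdealSheafData.comap_comp, ← Scheme.IdealSheafData.comap_comp, H.w]
    have hinj : Function.Injective (c.app V.1) :=
      (ConcreteCategory.bijective_of_isIso (c.app V.1)).1
    refine h1.trans (exists_congr fun n => ?_)
    rw [hE]
    refine (killed_pushforward g' (BlowUp.exceptional fY J) n _ V (c.app V.1 m)).trans
      ⟨fun h a ha => hinj ?_, fun h a ha => ?_⟩
    · rw [map_zero, Scheme.Modules.Hom.app_smul]
      exact h a ha
    · rw [← Scheme.Modules.Hom.app_smul, h a ha, map_zero]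

/-- Let S be a scheme, 𝓘 a quasi-coherent ideal sheaf on S with closed subscheme Z, b : S' ⟶ S a blowing
up of S in Z, g : X ⟶ Y an affine morphism of schemes over S, F a quasi-coherent O_X-module, and π :
pr_X^*F ⟶ F' a strict transform of F along b (on X ×_S S'). Write g' : X ×_S S' ⟶ Y ×_S S' for the
base change of g. Then g'_*F' is a strict transform of g_*F along b: there is an epimorphism
pr_Y^*(g_*F) ⟶ g'_*F' whose kernel consists, affine-locally, exactly of the sections annihilated by
a power of the inverse image of 𝓘. The published statement identifies g'_*F' with the strict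
transform through the canonical base-change isomorphism; this row asserts only that some epimorphism
from pr_Y^*(g_*F) onto g'_*F' has the strict-transform property. -/
theorem result {X Y S S' : Scheme.{u}} (hX : X ⟶ S) (hY : Y ⟶ S) (g : X ⟶ Y) [IsAffineHom g]
    (h : g ≫ hY = hX) (𝓘 : S.IdealSheafData) (b : S' ⟶ S) (hb : BlowUp.IsBlowUp b 𝓘) (F : X.Modules) (hF : Coh.IsQCoh F)
    (F' : (pullback hX b).Modules) (π : (Scheme.Modules.pullback (pullback.fst hX b)).obj F ⟶ F')
    (hπ : BlowUp.IsStrictTransform (pullback.fst hX b) (𝓘.comap hX) F F' π) :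
    ∃ π' : (Scheme.Modules.pullback (pullback.fst hY b)).obj ((Scheme.Modules.pushforward g).obj F) ⟶
        (Scheme.Modules.pushforward (pullback.map hX b hY b g (𝟙 S') (𝟙 S)
          ((Category.comp_id hX).trans h.symm) ((Category.comp_id b).trans (Category.id_comp b).symm))).obj F',
      BlowUp.IsStrictTransform (pullback.fst hY b) (𝓘.comap hY) ((Scheme.Modules.pushforward g).obj F)
        ((Scheme.Modules.pushforward (pullback.map hX b hY b g (𝟙 S') (𝟙 S)
          ((Category.comp_id hX).trans h.symm) ((Category.comp_id b).trans (Category.id_comp b).symm))).obj F') π' := by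
  let g' := pullback.map hX b hY b g (𝟙 S') (𝟙 S)
    ((Category.comp_id hX).trans h.symm) ((Category.comp_id b).trans (Category.id_comp b).symm)
  have h1 : g' ≫ pullback.fst hY b = pullback.fst hX b ≫ g := pullback.lift_fst _ _ _
  have h2 : g' ≫ pullback.snd hY b = pullback.snd hX b := (pullback.lift_snd _ _ _).trans (Category.comp_id _)
  have H : IsPullback (pullback.fst hX b) g' g (pullback.fst hY b) := by
    refine IsPullback.of_bot ?_ h1.symm (IsPullback.of_hasPullback hY b)
    rw [h2, h]
    exact IsPullback.of_hasPullback hX b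
  haveI : IsAffineHom g' := MorphismProperty.of_isPullback H ‹IsAffineHom g›
  haveI : F.IsQuasicoherent := hF
  haveI : ((Scheme.Modules.pullback (pullback.fst hX b)).obj F).IsQuasicoherent :=
    Groth.Agent.QCPull72.isQuasicoherent_pullback _ F
  haveI : Epi π := hπ.1
  haveI hk : (kernel π).IsQuasicoherent :=
    Groth.Agent.FlatCrit65.Blow.isQuasicoherent_kernel_strictTransform (IsPullback.of_hasPullback hX b) 𝓘 hb.1 F F' π hπ
  let S₁ := ShortComplex.mk (kernel.ι π) π (kernel.condition π)
  have hS₁ : S₁.ShortExact :=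
    { exact := ShortComplex.exact_of_f_is_kernel _ (kernelIsKernel π)
      mono_f := (inferInstance : Mono (kernel.ι π))
      epi_g := (inferInstance : Epi π) }
  haveI : F'.IsQuasicoherent :=
    haveI : S₁.X₁.IsQuasicoherent := hk
    haveI : S₁.X₂.IsQuasicoherent := ‹((Scheme.Modules.pullback (pullback.fst hX b)).obj F).IsQuasicoherent›
    Groth.Agent.QC70.isQuasicoherent_X₃ S₁ hS₁
  have hcen : 𝓘.comap hX = (𝓘.comap hY).comap g := by
    rw [← Scheme.IdealSheafData.comap_comp, h]
  exact push_core (pullback.fst hX b) (pullback.fst hY b) g g' H (𝓘.comap hY) F F' π (hcen ▸ hπ)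

end Groth.Agent.S8922
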