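import Groth.Statements.S8932
import Groth.Agent.DR39.GorFibre

set_option autoImplicit false
universe u
open CategoryTheory
open scoped TensorProduct
attribute [local instance] HasDerivedCategory.standard
open Dual

namespace Groth.Agent.S8932

/-- For a field extension K/k, a finite type k-algebra A and a dualizing complex ω for A, the derived
base change of ω along A → K ⊗_k A is a dualizing complex for K ⊗_k A (the derived base change
functor being assumed to exist). -/
theorem result (k K : Type u) [Field k] [Field K] [Algebra k K] (A : Type u) [CommRing A] [Algebra k A] [Algebra.FiniteType k A] [DRing.HasLBaseChange (Algebra.TensorProduct.includeRight : A →ₐ[k] K ⊗[k] A).toRingHom] (ω : Dual.D A) (hω : Dual.IsDualizing A ω) : Dual.IsDualizing (K ⊗[k] A) ((DRing.LBaseChange (Algebra.TensorProduct.includeRight : A →ₐ[k] K ⊗[k] A).toRingHom).obj ω) := by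
  letI : Algebra A (K ⊗[k] A) := Algebra.TensorProduct.rightAlgebra
  haveI : Module.Flat A (K ⊗[k] A) := DR39.flat_fieldExt k K A
  haveI : IsNoetherianRing (K ⊗[k] A) := Algebra.FiniteType.isNoetherianRing K _
  haveI : DRing.HasLBaseChange (algebraMap A (K ⊗[k] A)) :=
    ‹DRing.HasLBaseChange (Algebra.TensorProduct.includeRight : A →ₐ[k] K ⊗[k] A).toRingHom›
  obtain ⟨e⟩ := DR39.lbcIso (K ⊗[k] A) ω
  exact DR39.isDualizing_of_iso (DR39.isDualizing_fieldExt k K hω) e.symm

end Groth.Agent.S8932
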