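import Groth.Statements.S8936
import Groth.Agent.InjHull18.Basic


set_option autoImplicit false
universe u v
open InjHull

namespace Groth.Agent.S8936

/-- For a directed system (E_i) of R-modules over a nonempty directed preorder and a compatible family
of essential injections M → E_i, the induced map from M to the direct limit of the E_i is an
essential injection. -/
theorem result (R : Type u) [CommRing R] (ι : Type v) [Preorder ι] [IsDirectedOrder ι] [DecidableEq ι] (i₀ : ι) (E : ι → Type v) [∀ i, AddCommGroup (E i)] [∀ i, Module R (E i)] (f : ∀ i j, i ≤ j → E i →ₗ[R] E j) [DirectedSystem E fun i j h => f i j h] (M : Type v) [AddCommGroup M] [Module R M] (g : ∀ i, M →ₗ[R] E i) (hg : ∀ i j (h : i ≤ j), f i j h ∘ₗ g i = g j) (he : ∀ i, InjHull.IsEssentialInj (g i)) : InjHull.IsEssentialInj (Module.DirectLimit.of R ι E f i₀ ∘ₗ g i₀) := by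
  rw [InjHull18.isEssentialInj_iff]
  constructor
  · intro a b hab
    rw [← sub_eq_zero, ← map_sub] at hab
    obtain ⟨k, hk, h0⟩ := Module.DirectLimit.of.zero_exact hab
    have hg' : g k (a - b) = 0 := by rw [← hg i₀ k hk]; exact h0
    exact sub_eq_zero.1 ((he k).injective (by rw [hg', map_zero]))
  · intro x hx
    have : Nonempty ι := ⟨i₀⟩
    obtain ⟨j, y, rfl⟩ := Module.DirectLimit.exists_of x
    obtain ⟨k, hjk, hik⟩ := exists_ge_ge j i₀
    have h1 := Module.DirectLimit.of_f (R := R) (G := E) (f := f) (hij := hjk) (x := y)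
    have hy : f j k hjk y ≠ 0 := fun h => hx (by rw [← h1, h, map_zero])
    obtain ⟨r, ⟨m, hm⟩, hr0⟩ := InjHull18.exists_smul_mem_range (he k) hy
    have h2 : Module.DirectLimit.of R ι E f i₀ (g i₀ m) = r • Module.DirectLimit.of R ι E f j y := by
      rw [← Module.DirectLimit.of_f (hij := hik), show f i₀ k hik (g i₀ m) = g k m from LinearMap.congr_fun (hg i₀ k hik) m, hm,
        map_smul, h1]
    refine ⟨r, ⟨m, h2⟩, fun h0 => hr0 ?_⟩
    have hinj : g i₀ m = g i₀ 0 := by
      obtain ⟨l, hl, hl0⟩ := Module.DirectLimit.of.zero_exact (h2.trans h0)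
      have : g l m = 0 := by rw [← hg i₀ l hl]; exact hl0
      rw [(he l).injective (this.trans (map_zero _).symm)]
    rw [← hm, (he i₀).injective hinj, map_zero]

end Groth.Agent.S8936
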