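import Groth.Statements.S8937
import Groth.Agent.LC16.BlowFibreCd
import Groth.Agent.Div89.BlowSpec
import Groth.Agent.S0380

set_option autoImplicit false
universe u
open CategoryTheory AlgebraicGeometry
attribute [local instance] HasDerivedCategory.standard
open LocCoh
open scoped Topology

namespace Groth.Agent.S8937

/-- Let A be a Noetherian ring, I an ideal and b : X → Spec A a blowing up of Spec A in I. If the fibres
of b have dimension at most d, then cd(A, I) ≤ d + 1, i.e. H^i_I(M) = 0 for all A-modules M and all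
i > d + 1. -/
theorem result (A : Type u) [CommRing A] [IsNoetherianRing A] (I : Ideal A) (X : Scheme.{u}) (b : X ⟶ Spec (CommRingCat.of A)) (hb : BlowUp.IsBlowUp b (Curv2.idealSheaf A I)) (d : ℕ) (hd : Dual3.FibreDimLE b d) : LocCoh.CdLE A I (d + 1) := by
  have hb' : BlowUp.IsBlowUp b (FSch.idealSpec A I) := by
    rw [Div89.idealSpec_eq_ofIdealTop]; exact hb
  refine (S0380.result A I (d + 1)).2 fun p _ => LC16.BlowFibreCd.cdLE I d (fun a ha q l hq hl => ?_) p
  obtain ⟨e, he⟩ := FBlow13.exists_iso_chartOpen b hb' ha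
  let j := e.hom ≫ (FBlow13.chartOpen b I a).ι
  have hj : Topology.IsInducing ⇑j := j.isOpenEmbedding.isInducing
  let s : Spec (CommRingCat.of A) := ⟨q, hq⟩
  have hmem : ∀ i, b (j (l i)) = s := fun i => by
    refine (Scheme.Hom.comp_apply j b (l i)).symm.trans ?_
    refine (congrArg (fun f : _ ⟶ Spec (CommRingCat.of A) => f (l i))
      ((Category.assoc _ _ _).trans he)).trans ?_
    exact PrimeSpectrum.ext (hl i)
  let T := ↥(⇑b ⁻¹' {s})
  let pt : Fin (l.length + 1) → T := fun i => ⟨j (l i), hmem i⟩
  let C : T → TopologicalSpace.IrreducibleCloseds T := fun x => ⟨closure {x}, isIrreducible_singleton.closure, isClosed_closure⟩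
  have hspec : ∀ i i', pt i ⤳ pt i' ↔ l i ≤ l i' := fun i i' => by
    rw [subtype_specializes_iff]
    exact hj.specializes_iff.trans (PrimeSpectrum.le_iff_specializes _ _).symm
  let L : LTSeries (TopologicalSpace.IrreducibleCloseds T) := LTSeries.mk l.length (fun i => C (pt i.rev)) fun i i' hii => by
    have hlt : l i'.rev < l i.rev := l.strictMono (Fin.rev_lt_rev.2 hii)
    refine lt_of_le_not_ge ?_ fun h => hlt.not_ge ?_
    · exact (specializes_iff_closure_subset.1 ((hspec _ _).2 hlt.le))
    · exact (hspec _ _).1 (specializes_iff_closure_subset.2 h)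
  have h1 : (l.length : WithBot ℕ∞) ≤ topologicalKrullDim T := Order.LTSeries.length_le_krullDim L
  have h2 : topologicalKrullDim T = topologicalKrullDim ↥(b.fiber s) :=
    (IsHomeomorph.topologicalKrullDim_eq _ (b.fiberHomeo s).isHomeomorph).symm
  have h3 := h1.trans (h2.le.trans (hd s))
  exact_mod_cast h3

end Groth.Agent.S8937
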