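import Groth.Statements.S8949
import Groth.Agent.Gor18.FieldExt


set_option autoImplicit false
universe u
open scoped TensorProduct
open Goren

namespace Groth.Agent.S8949

/-- Gorenstein fibres are preserved by composing with a regular map. For flat maps A → B → C of
Noetherian rings, if the fibres of A → B are Gorenstein rings and B → C is regular, then the fibres
of A → C are Gorenstein rings. -/
theorem result (A B C : Type u) [CommRing A] [CommRing B] [CommRing C] [IsNoetherianRing A] [IsNoetherianRing B] [IsNoetherianRing C] [Algebra A B] [Algebra B C] [Algebra A C] [IsScalarTower A B C] [Module.Flat A B] [Module.Flat B C] (hAB : ∀ (q : Ideal A) [q.IsPrime], LocCoh.IsGorensteinRing (q.Fiber B)) (hBC : CAlg.IsRegularHom B C) : ∀ (q : Ideal A) [q.IsPrime], LocCoh.IsGorensteinRing (q.Fiber C) := by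
  intro q _
  have hN : IsNoetherianRing (C ⊗[A] q.ResidueField) := Algebra.EssFiniteType.isNoetherianRing C _
  have : LocCoh.IsGorensteinRing (B ⊗[A] q.ResidueField) := Gor18.gorRing_of_ringEquiv
    (R := q.Fiber B) (Algebra.TensorProduct.comm A q.ResidueField B).toRingEquiv
  let e : (B ⊗[A] q.ResidueField) ⊗[B] C ≃+* C ⊗[A] q.ResidueField :=
    (Algebra.TensorProduct.comm B (B ⊗[A] q.ResidueField) C).toRingEquiv.trans
      (Algebra.TensorProduct.cancelBaseChange A B B C q.ResidueField).toRingEquiv
  have : IsNoetherianRing ((B ⊗[A] q.ResidueField) ⊗[B] C) := isNoetherianRing_of_ringEquiv _ e.symm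
  have hS : LocCoh.IsGorensteinRing ((B ⊗[A] q.ResidueField) ⊗[B] C) := by
    refine Gor18.gorRing_of_fibres (R := B ⊗[A] q.ResidueField) fun P _ => ?_
    let p := P.under B
    have : P.LiesOver p := ⟨rfl⟩
    let _ := Localization.AtPrime.algebraOfLiesOver p P
    have hfg : ∃ s : Finset P.ResidueField,
        IntermediateField.adjoin p.ResidueField (s : Set P.ResidueField) = ⊤ :=
      IntermediateField.fg_top_iff.2 inferInstance
    obtain ⟨hn, hg⟩ := hBC.2 p
    have hreg : IsRegularRing (p.ResidueField ⊗[p.ResidueField] p.Fiber C) :=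
      hg p.ResidueField inferInstance
    have : LocCoh.IsGorensteinRing (p.ResidueField ⊗[p.ResidueField] p.Fiber C) :=
      { isGorensteinLocalRing_localization := fun m _ => Gor18.regular_gor _ }
    have : LocCoh.IsGorensteinRing (p.Fiber C) := Gor18.gorRing_of_ringEquiv (R := p.ResidueField ⊗[p.ResidueField] p.Fiber C)
      (Algebra.TensorProduct.lid p.ResidueField (p.Fiber C)).toRingEquiv
    have := Gor18.gorRing_tensor_fg p.ResidueField P.ResidueField (p.Fiber C) hfg
    exact Gor18.gorRing_of_ringEquiv
      ((Algebra.TensorProduct.cancelBaseChange B p.ResidueField p.ResidueField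
        P.ResidueField C).toRingEquiv.trans
      (Algebra.TensorProduct.cancelBaseChange B (B ⊗[A] q.ResidueField) (B ⊗[A] q.ResidueField)
        P.ResidueField C).toRingEquiv.symm)
  exact Gor18.gorRing_of_ringEquiv
    (e.trans (Algebra.TensorProduct.comm A C q.ResidueField).toRingEquiv)

end Groth.Agent.S8949
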