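import Groth.Statements.S8956
import Groth.Agent.DR39.DualShriek

set_option autoImplicit false
universe u
open CategoryTheory
attribute [local instance] HasDerivedCategory.standard
open Dual2

namespace Groth.Agent.S8956

/-- Let φ : A → B be a finite type map of Noetherian rings, ω_A a dualizing complex for A and ω_B =
φ^!(ω_A), with φ^! computed through a presentation ψ : A[x_1, …, x_n] → B (derived base change
assumed to exist, RHom_P(B, −) a right adjoint of restriction of scalars); write D_A = RHom_A(−,
ω_A) and D_B = RHom_B(−, ω_B). For every complex K of A-modules with finite cohomology modules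
(RHom_A(K, −) assumed to exist) and every complex E of B-modules representing D_A(K) ⊗^L_A B
(RHom_B(E, −) assumed to exist), φ^!(K) is isomorphic in D(B) to RHom_B(E, ω_B) = D_B(D_A(K) ⊗^L_A
B). -/
theorem result (A B : Type u) [CommRing A] [CommRing B] [IsNoetherianRing A] [IsNoetherianRing B] [Algebra A B] (n : ℕ) (ψ : MvPolynomial (Fin n) A →ₐ[A] B) (hψ : Function.Surjective ψ) [DRing.HasLBaseChange (algebraMap A (MvPolynomial (Fin n) A))] (Rψ : Dual.D (MvPolynomial (Fin n) A) ⥤ Dual.D B) (adj : DRing.restrictD ψ.toRingHom ⊣ Rψ) [DRing.HasLBaseChange (algebraMap A B)] (ω : Dual.D A) (hω : Dual.IsDualizing A ω) (K : DRing.Cx A) [DRing.HasRHomCx K] (hK : ∀ i : ℤ, Module.Finite A (Dual.HD A (DRing.toD K) i)) (E : DRing.Cx B) [DRing.HasRHomCx E] (hE : Nonempty (DRing.toD E ≅ (DRing.LBaseChange (algebraMap A B)).obj ((DRing.RHomCx K).obj ω))) : Nonempty (Dual2.shriekVia n Rψ (DRing.toD K) ≅ (DRing.RHomCx E).obj (Dual2.shriekVia n Rψ ω)) := by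
    exact Groth.Agent.DR39.shriekVia_dual n ψ Rψ adj ω hω K hK E hE

end Groth.Agent.S8956
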