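import Groth.Statements.S8960
import Mathlib.RingTheory.Flat.EquationalCriterion

set_option autoImplicit false
universe u
open QFDual

namespace Groth.Agent.S8960

/-- Suppose the Dedekind different of A → B is defined: A is Noetherian, B is a finite A-algebra,
nonzerodivisors of A are nonzerodivisors on B, and with K = Q(A) the total ring of fractions and L =
B ⊗_A K the map K → L is étale (here with L finite free over K). If A → B is flat, then
Trace_{L/K}(b) lies in A for every b ∈ B; equivalently 1 ∈ 𝓛_{B/A}, the Dedekind complementary
module. -/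
theorem result (A K B L : Type u) [CommRing A] [CommRing K] [CommRing B] [CommRing L] [Algebra A K] [Algebra A B] [Algebra B L] [Algebra K L] [Algebra A L] [IsScalarTower A K L] [IsScalarTower A B L] (h : QFDual.IsDedekindDefined A K B L) [Module.Flat A B] : (1 : L) ∈ QFDual.complementary A K B L := by
  obtain ⟨hK, hLoc, hN, hfin, -, -, hfree, hfinKL⟩ := h
  haveI := hK; haveI := hLoc; haveI := hN; haveI := hfin; haveI := hfree; haveI := hfinKL
  haveI : Module.FinitePresentation A B := Module.finitePresentation_of_finite A B
  haveI : Module.Projective A B := Module.Flat.projective_of_finitePresentation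
  obtain ⟨n, f, g, -, -, hfg⟩ := Module.Finite.exists_comp_eq_id_of_projective A B
  have hbc : IsBaseChange K (IsScalarTower.toAlgHom A B L).toLinearMap := by
    rw [← isLocalizedModule_iff_isBaseChange (nonZeroDivisors A) K,
      isLocalizedModule_iff_isLocalization]
    exact hLoc
  let x : Fin n → L := fun i => algebraMap B L (f (Pi.single i 1))
  let F : Fin n → (L →ₗ[K] K) := fun i =>
    hbc.lift ((Algebra.linearMap A K) ∘ₗ (LinearMap.proj i) ∘ₗ g)
  intro b
  have key : Algebra.lmul K L (algebraMap B L b) =
      ∑ i, (F i).smulRight (algebraMap B L b * x i) := by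
    apply hbc.algHom_ext
    intro y
    have hy : ∑ i, (g y i) • f (Pi.single i 1) = y := by
      conv_rhs => rw [← LinearMap.id_apply (R := A) (M := B) y, ← hfg, LinearMap.comp_apply]
      conv_rhs => rw [pi_eq_sum_univ' (g y), map_sum]
      simp [map_smul]
    simp only [LinearMap.coe_sum, Finset.sum_apply, LinearMap.smulRight_apply]
    simp only [F, IsBaseChange.lift_eq, LinearMap.comp_apply, LinearMap.proj_apply,
      Algebra.linearMap_apply, algebraMap_smul]
    rw [show (Algebra.lmul K L (algebraMap B L b)) _ = _ * _ from rfl]
    simp only [x, ← mul_smul_comm, ← Finset.mul_sum]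
    congr 1
    conv_lhs => rw [← hy]
    simp [map_sum]
  rw [one_mul, Algebra.trace_apply, key, map_sum]
  refine Subring.sum_mem _ fun i _ => ?_
  rw [LinearMap.trace_smulRight]
  refine ⟨g (b * f (Pi.single i 1)) i, ?_⟩
  simp only [x, ← map_mul]
  exact (hbc.lift_eq ((Algebra.linearMap A K) ∘ₗ (LinearMap.proj i) ∘ₗ g) _).symm

end Groth.Agent.S8960
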