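import Groth.Statements.S8963
import Groth.Agent.DR39.QFInvertible

set_option autoImplicit false
universe u
open TensorProduct
open QFDual

namespace Groth.Agent.S8963

/-- Invertibility of the relative dualizing module is a fibrewise condition. Let A → B be a flat
homomorphism of Noetherian rings with a factorization A → B' → B, A → B' finite and Spec B → Spec B'
an open immersion, so that A → B is quasi-finite and ω_{B/A} = B ⊗_{B'} Hom_A(B', A). The B-module
ω_{B/A} is invertible exactly when, for every prime p of A and every presentation of the fibre rings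
B'_p = B' ⊗_A κ(p), B_p = B ⊗_A κ(p) as cocartesian squares over the residue field κ(p) (compatibly
with B' → B), the module ω_{B_p/κ(p)} = B_p ⊗_{B'_p} Hom_{κ(p)}(B'_p, κ(p)) is an invertible
B_p-module. -/
theorem result (A B' B : Type u) [CommRing A] [CommRing B'] [CommRing B] [IsNoetherianRing A] [IsNoetherianRing B] [Algebra A B'] [Algebra B' B] [Algebra A B] [IsScalarTower A B' B] [Module.Flat A B] (hf : QFDual.IsQFFactor A B' B) : Module.Invertible B (QFDual.omega A B' B) ↔ ∀ (p : Ideal A) [p.IsPrime] (B'₁ B₁ : Type u) [CommRing B'₁] [CommRing B₁] [Algebra B' B'₁] [Algebra p.ResidueField B'₁] [Algebra A B'₁] [IsScalarTower A p.ResidueField B'₁] [IsScalarTower A B' B'₁] [Algebra B B₁] [Algebra p.ResidueField B₁] [Algebra A B₁] [IsScalarTower A p.ResidueField B₁] [IsScalarTower A B B₁] [Algebra B'₁ B₁] [Algebra B' B₁] [IsScalarTower B' B'₁ B₁] [IsScalarTower B' B B₁] [IsScalarTower p.ResidueField B'₁ B₁], Algebra.IsPushout A p.ResidueField B' B'₁ → Algebra.IsPushout A p.ResidueField B B₁ → Module.Invertible B₁ (QFDual.omega p.ResidueField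 B'₁ B₁) := by
  haveI := hf.finite
  constructor
  · intro hinv p _ B'₁ B₁ i1 i2 i3 i4 i5 i6 i7 i8 i9 i10 i11 i12 i13 i14 i15 i16 i17 hp' hp
    obtain ⟨e⟩ := DR39.nonempty_omega_bcEquiv (A := A) (B := B) (B₁ := B₁) hf.isOpenImmersion hp'
    exact Module.Invertible.congr e
  · intro h
    refine DR39.invertible_omega_of_fibres hf.isOpenImmersion fun p _ => ?_
    letI : Algebra B' (p.ResidueField ⊗[A] B') := Algebra.TensorProduct.rightAlgebra
    letI : Algebra B (p.ResidueField ⊗[A] B) := Algebra.TensorProduct.rightAlgebra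
    letI a1 : Algebra (p.ResidueField ⊗[A] B') (p.ResidueField ⊗[A] B) := (Algebra.TensorProduct.map
        (AlgHom.id p.ResidueField p.ResidueField) (IsScalarTower.toAlgHom A B' B)).toRingHom.toAlgebra
    letI a2 : Algebra B' (p.ResidueField ⊗[A] B) :=
      ((algebraMap B (p.ResidueField ⊗[A] B)).comp (algebraMap B' B)).toAlgebra
    haveI : IsScalarTower B' B (p.ResidueField ⊗[A] B) := IsScalarTower.of_algebraMap_eq' rfl
    haveI : IsScalarTower B' (p.ResidueField ⊗[A] B') (p.ResidueField ⊗[A] B) :=
      IsScalarTower.of_algebraMap_eq fun b => by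
        show (1 : p.ResidueField) ⊗ₜ[A] algebraMap B' B b = Algebra.TensorProduct.map
          (AlgHom.id p.ResidueField p.ResidueField) (IsScalarTower.toAlgHom A B' B) (1 ⊗ₜ b)
        rw [Algebra.TensorProduct.map_tmul]; rfl
    haveI : IsScalarTower p.ResidueField (p.ResidueField ⊗[A] B') (p.ResidueField ⊗[A] B) :=
      IsScalarTower.of_algebraMap_eq fun c => by
        show c ⊗ₜ[A] (1 : B) = Algebra.TensorProduct.map
          (AlgHom.id p.ResidueField p.ResidueField) (IsScalarTower.toAlgHom A B' B) (c ⊗ₜ 1)
        rw [Algebra.TensorProduct.map_tmul, map_one]; rfl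
    exact h p (p.ResidueField ⊗[A] B') (p.ResidueField ⊗[A] B) (TensorProduct.isPushout (R := A))
      (TensorProduct.isPushout (R := A))

end Groth.Agent.S8963
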