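import Groth.Statements.S8964
import Groth.Agent.DR39.QFInvertible
import Groth.Agent.S1830
import Groth.Agent.RelGCI94.SyntKoszul

set_option autoImplicit false
universe u
open TensorProduct
open QFDual

namespace Groth.Agent.S8964

/-- A quasi-finite syntomic map has an invertible relative dualizing module. Let A be a Noetherian ring
and A → B a syntomic ring map (flat, of finite presentation, with fibres local complete
intersections), and suppose it factors through an intermediate ring B', with A → B' a finite map and
the induced morphism Spec B → Spec B' an open immersion, so that A → B is quasi-finite and ω_{B/A} =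
B ⊗_{B'} Hom_A(B', A). Then ω_{B/A} is an invertible B-module. (The published statement is for a
locally quasi-finite syntomic morphism of locally Noetherian schemes and the sheaf ω_{Y/X}; this row
is its form over a pair of affine opens.) -/
theorem result (A B' B : Type u) [CommRing A] [CommRing B'] [CommRing B] [IsNoetherianRing A] [Algebra A B'] [Algebra B' B] [Algebra A B] [IsScalarTower A B' B] (hf : QFDual.IsQFFactor A B' B) (hs : Synt.IsSyntomic A B) : Module.Invertible B (QFDual.omega A B' B) := by
  haveI := hf.finite
  haveI : Algebra.FinitePresentation A B := hs.2.1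
  haveI : Module.Flat A B := hs.1
  haveI : IsNoetherianRing B := Algebra.FiniteType.isNoetherianRing A B
  have hl : LCI.IsLCI A B := (RelGCI94.isSyntomic_iff_flat_and_isLCI.1 hs).2
  refine DR39.invertible_omega_of_fibres hf.isOpenImmersion fun p _ => ?_
  letI a1 : Algebra (p.ResidueField ⊗[A] B') (p.ResidueField ⊗[A] B) := (Algebra.TensorProduct.map
      (AlgHom.id p.ResidueField p.ResidueField) (IsScalarTower.toAlgHom A B' B)).toRingHom.toAlgebra
  haveI : IsScalarTower p.ResidueField (p.ResidueField ⊗[A] B') (p.ResidueField ⊗[A] B) :=
    IsScalarTower.of_algebraMap_eq fun c => by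
      show c ⊗ₜ[A] (1 : B) = Algebra.TensorProduct.map
        (AlgHom.id p.ResidueField p.ResidueField) (IsScalarTower.toAlgHom A B' B) (c ⊗ₜ 1)
      rw [Algebra.TensorProduct.map_tmul, map_one]; rfl
  exact DR39.invertible_omega_field p.ResidueField (p.ResidueField ⊗[A] B') (p.ResidueField ⊗[A] B)
    (DR39.openImmersion_baseChange (A := A) hf.isOpenImmersion p.ResidueField)
    (DR39.gorRing_of_ringEquiv (Algebra.TensorProduct.comm A B p.ResidueField).toRingEquiv
      (S1830.result A B hl ⟨p, inferInstance⟩))

end Groth.Agent.S8964
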