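import Groth.Statements.S8967
import Groth.Agent.DR39.OmegaBC

set_option autoImplicit false
universe u
open QFDual

namespace Groth.Agent.S8967

/-- Flat base change, affine finite free case. Let A and A' be Noetherian rings, B an A-algebra which is
finite free as an A-module, A → A' a ring map and B' a ring making A → A', B → B' cocartesian (B' =
B ⊗_A A', again finite free over A'). Write 𝔇 ⊆ B and 𝔇' ⊆ B' for the differents: the ideals of
elements b with b · Hom_A(B, A) ⊆ B · Trace_{B/A}, respectively b' · Hom_{A'}(B', A') ⊆ B' ·
Trace_{B'/A'}. If A → A' is flat, then 𝔇B' = 𝔇'. (The published statement is for the different of a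
flat quasi-finite morphism of Noetherian schemes under base change, phrased with the closed
subschemes the differents cut out; this row is the affine finite free case, where the relative
dualizing module is Hom_A(B, A) and the trace element is the trace.) -/
theorem result (A B A' B' : Type u) [CommRing A] [CommRing B] [CommRing A'] [CommRing B'] [IsNoetherianRing A] [IsNoetherianRing A'] [Algebra A B] [Module.Finite A B] [Module.Free A B] [Algebra A A'] [Algebra B B'] [Algebra A' B'] [Algebra A B'] [IsScalarTower A A' B'] [IsScalarTower A B B'] (hB : Algebra.IsPushout A A' B B') [Module.Finite A' B'] [Module.Free A' B'] [Module.Flat A A'] : Ideal.map (algebraMap B B') (QFDual.different B (Disc.Omega.trace A B)) = QFDual.different B' (Disc.Omega.trace A' B') := by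
  haveI : Module.FinitePresentation A B := Module.finitePresentation_of_finite A B
  haveI : Module.Flat B B' := Module.Flat.isBaseChange A B A' B'
    (show IsBaseChange B (IsScalarTower.toAlgHom A A' B').toLinearMap from hB.symm.out)
  haveI : IsNoetherianRing B := IsNoetherianRing.of_finite A B
  haveI : Module.Finite B (Disc.Omega A B) := by
    letI modA : Module A (Disc.Omega A B) := Module.compHom _ (algebraMap A B)
    haveI : IsScalarTower A B (Disc.Omega A B) :=
      IsScalarTower.of_algebraMap_smul fun _ _ => rfl
    let e₁ : (Disc.Omega A B) ≃ₗ[A] (B →ₗ[A] A) :=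
      { toFun := Disc.Omega.toLinearMap
        invFun := Disc.Omega.mk
        left_inv := fun _ => rfl
        right_inv := fun _ => rfl
        map_add' := fun _ _ => rfl
        map_smul' := fun a φ => by
          ext x
          show φ.toLinearMap (algebraMap A B a * x) = a • φ.toLinearMap x
          rw [← Algebra.smul_def, map_smul] }
    haveI : Module.Finite A (Disc.Omega A B) := Module.Finite.equiv e₁.symm
    exact Module.Finite.of_restrictScalars_finite A B (Disc.Omega A B)
  rw [DR39.OmegaBC.map_different_eq (Disc.Omega.trace A B)
    (LinearEquiv.ofBijective _ (DR39.OmegaBC.liftBC_bijective hB))]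
  congr 1
  rw [LinearEquiv.ofBijective_apply, DR39.OmegaBC.liftBC_tmul, one_smul]
  apply Disc.Omega.ext
  show hB.out.toDual (Algebra.trace A B) = Algebra.trace A' B'
  apply hB.out.algHom_ext
  intro b
  rw [hB.out.toDual_comp_apply]
  change algebraMap A A' _ = Algebra.trace A' B' (algebraMap B B' b)
  rw [Algebra.trace_apply, Algebra.trace_apply, ← LinearMap.trace_baseChange]
  rw [← LinearMap.trace_conj' _ hB.out.equiv]
  congr 1
  apply hB.out.algHom_ext
  intro y
  show hB.out.equiv (LinearMap.baseChange A' (LinearMap.mul A B b)
    (hB.out.equiv.symm ((IsScalarTower.toAlgHom A B B').toLinearMap y))) =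
    algebraMap B B' b * algebraMap B B' y
  rw [IsBaseChange.equiv_symm_apply, LinearMap.baseChange_tmul, IsBaseChange.equiv_tmul, one_smul]
  simp

end Groth.Agent.S8967
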