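import Groth.Statements.S8974
import Mathlib.RingTheory.SimpleModule.Basic
import Mathlib.RingTheory.HopkinsLevitzki
import Mathlib.RingTheory.PowerSeries.Inverse
import Mathlib.RingTheory.PowerSeries.Trunc
import Mathlib.Algebra.Field.ZMod
import Mathlib.RingTheory.Localization.Integer
import Mathlib.LinearAlgebra.Dimension.Localization

set_option autoImplicit false
universe u
open Synt

namespace Groth.Agent.S8974

/-- Let R be a ring, n, d ≥ 1 and g_1, …, g_n ∈ R[y_1, …, y_n] of total degree at most d. Then there is
a ring map φ : A = ℤ[a_{i,E}] → R (E running over exponent vectors with |E| ≤ d) such that applying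
φ to the coefficients of the universal polynomial f_i = Σ_E a_{i,E} x^E gives g_i for each i. (The
published statement is for a locally quasi-finite syntomic morphism of schemes and asserts, locally,
a cartesian square with the universal family; this row is its affine core: the coefficient map.) -/
theorem result (R : Type u) [CommRing R] (n d : ℕ) (hn : 1 ≤ n) (hd : 1 ≤ d) (g : Fin n → MvPolynomial (Fin n) R) (hg : ∀ i, (g i).totalDegree ≤ d) : ∃ φ : Synt.UnivBase n d →+* R, ∀ i, MvPolynomial.map φ (Synt.univPoly n d i) = g i := by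
  classical
  refine ⟨MvPolynomial.eval₂Hom (Int.castRingHom R) fun p => (g p.1).coeff p.2.exponent, fun i => ?_⟩
  simp only [Synt.univPoly, map_sum, MvPolynomial.map_monomial, MvPolynomial.eval₂Hom_X']
  conv_rhs => rw [(g i).as_sum]
  refine Finset.sum_bij_ne_zero (fun E _ _ => E.exponent) ?_ ?_ ?_ ?_
  · intro E _ hE; rw [MvPolynomial.mem_support_iff]; intro h; exact hE (by rw [h]; simp)
  · intro a _ _ b _ _ h
    apply Subtype.ext; funext j; apply Fin.ext
    exact DFunLike.congr_fun h j
  · intro e he _
    have hb : ∑ j, e j ≤ d := le_trans (by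
      rw [← Finsupp.sum_fintype e (fun _ x => x) (fun _ => rfl)]
      exact MvPolynomial.le_totalDegree he) (hg i)
    have hj : ∀ j, e j < d + 1 := fun j => Nat.lt_succ_of_le ((Finset.single_le_sum (fun x _ => Nat.zero_le (e x)) (Finset.mem_univ j)).trans hb)
    refine ⟨⟨fun j => ⟨e j, hj j⟩, hb⟩, Finset.mem_univ _, ?_, ?_⟩
    · have : Synt.UnivIdx.exponent (⟨fun j => ⟨e j, hj j⟩, hb⟩ : Synt.UnivIdx n d) = e := by ext j; rfl
      rw [this]; exact MvPolynomial.monomial_eq_zero.not.2 (MvPolynomial.mem_support_iff.1 he)
    · ext j; rfl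
  · intros; rfl


end Groth.Agent.S8974
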