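import Groth.Statements.S8975


set_option autoImplicit false
universe u
open TensorProduct
open QFDual

namespace Groth.Agent.S8975

/-- The relative dualizing module of a product. Suppose A, B, C are Noetherian rings and the ring maps A
→ B, A → C are quasi-finite, presented by factorizations A → B' → B and A → C' → C with A → B', A →
C' finite and Spec B → Spec B', Spec C → Spec C' open immersions, and let B × C carry the product
algebra structure over B' × C' (so that A → B' × C' → B × C is a factorization of the same kind).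
Then ω_{(B × C)/A} = (B × C) ⊗_{B' × C'} Hom_A(B' × C', A) is identified with ω_{B/A} × ω_{C/A}:
there is an A-linear isomorphism sending (b, c) ⊗ φ to (b ⊗ φ∘ι_{B'}, c ⊗ φ∘ι_{C'}), where ι_{B'},
ι_{C'} are the inclusions of the factors; this formula determines the isomorphism and makes it (B ×
C)-linear. -/
theorem result (A B' B C' C : Type u) [CommRing A] [CommRing B'] [CommRing B] [CommRing C'] [CommRing C] [IsNoetherianRing A] [IsNoetherianRing B] [IsNoetherianRing C] [Algebra A B'] [Algebra B' B] [Algebra A B] [IsScalarTower A B' B] [Algebra A C'] [Algebra C' C] [Algebra A C] [IsScalarTower A C' C] (hB : QFDual.IsQFFactor A B' B) (hC : QFDual.IsQFFactor A C' C) [Algebra (B' × C') (B × C)] [IsScalarTower A (B' × C') (B × C)] (halg : algebraMap (B' × C') (B × C) = (algebraMap B' B).prodMap (algebraMap C' C)) : ∃ e : QFDual.omega A (B' × C') (B × C) ≃ₗ[A] QFDual.omega A B' B × QFDual.omega A C' C, ∀ (b : B) (c : C) (φ : Disc.Omega A (B' × C')), e ((b, c) ⊗ₜ[B' × C'] φ) = (b ⊗ₜ[B'] Disc.Omega.mk (φ.toLinearMap ∘ₗ LinearMap.inl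 A B' C'), c ⊗ₜ[C'] Disc.Omega.mk (φ.toLinearMap ∘ₗ LinearMap.inr A B' C')) := by
  letI modB : Module (B' × C') (QFDual.omega A B' B) := Module.compHom _ (RingHom.fst B' C')
  letI modC : Module (B' × C') (QFDual.omega A C' C) := Module.compHom _ (RingHom.snd B' C')
  have hsmul : ∀ (r : B' × C') (x : B × C), r • x = (r.1 • x.1, r.2 • x.2) := fun r x => by
    rw [Algebra.smul_def, halg, Algebra.smul_def, Algebra.smul_def]; rfl
  let pf : Disc.Omega A (B' × C') → Disc.Omega A B' :=
    fun φ => ⟨φ.toLinearMap ∘ₗ LinearMap.inl A B' C'⟩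
  let qf : Disc.Omega A (B' × C') → Disc.Omega A C' :=
    fun φ => ⟨φ.toLinearMap ∘ₗ LinearMap.inr A B' C'⟩
  have hp : ∀ (r : B' × C') φ, pf (r • φ) = r.1 • pf φ := fun r φ => by
    ext x; simp [pf, Prod.mul_def]
  have hq : ∀ (r : B' × C') φ, qf (r • φ) = r.2 • qf φ := fun r φ => by
    ext x; simp [qf, Prod.mul_def]
  let fwd : QFDual.omega A (B' × C') (B × C) →+ QFDual.omega A B' B × QFDual.omega A C' C :=
    TensorProduct.liftAddHom
      (AddMonoidHom.mk' (fun (x : B × C) => AddMonoidHom.mk' (fun φ => (x.1 ⊗ₜ[B'] pf φ, x.2 ⊗ₜ[C'] qf φ))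
        (fun φ ψ => by
          simp only [Prod.mk_add_mk, ← TensorProduct.tmul_add]; rfl))
        (fun x y => by
          ext φ <;> simp [TensorProduct.add_tmul]))
      (fun r x φ => by
        simp only [AddMonoidHom.mk'_apply, hsmul, hp, hq, TensorProduct.smul_tmul])
  let iB : Disc.Omega A B' → Disc.Omega A (B' × C') :=
    fun φ => ⟨φ.toLinearMap ∘ₗ LinearMap.fst A B' C'⟩
  let iC : Disc.Omega A C' → Disc.Omega A (B' × C') :=
    fun φ => ⟨φ.toLinearMap ∘ₗ LinearMap.snd A B' C'⟩
  let bwB : QFDual.omega A B' B →+ QFDual.omega A (B' × C') (B × C) :=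
    TensorProduct.liftAddHom
      (AddMonoidHom.mk' (fun b => AddMonoidHom.mk' (fun φ => ((b, 0) : B × C) ⊗ₜ[B' × C'] iB φ)
        (fun φ ψ => by
          rw [← TensorProduct.tmul_add]; rfl))
        (fun b c => by
          ext φ
          simp [← TensorProduct.add_tmul]))
      (fun r b φ => by
        simp only [AddMonoidHom.mk'_apply]
        rw [show ((r • b, 0) : B × C) = ((r, 0) : B' × C') • ((b, 0) : B × C) by simp [hsmul],
          TensorProduct.smul_tmul]
        congr 1
        skip)
  let bwC : QFDual.omega A C' C →+ QFDual.omega A (B' × C') (B × C) :=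
    TensorProduct.liftAddHom
      (AddMonoidHom.mk' (fun c => AddMonoidHom.mk' (fun φ => ((0, c) : B × C) ⊗ₜ[B' × C'] iC φ)
        (fun φ ψ => by
          rw [← TensorProduct.tmul_add]; rfl))
        (fun b c => by
          ext φ
          simp [← TensorProduct.add_tmul]))
      (fun r c φ => by
        simp only [AddMonoidHom.mk'_apply]
        rw [show ((0, r • c) : B × C) = ((0, r) : B' × C') • ((0, c) : B × C) by simp [hsmul],
          TensorProduct.smul_tmul]
        congr 1
        skip)
  have hfwd : ∀ (b : B) (c : C) φ, fwd ((b, c) ⊗ₜ[B' × C'] φ) = (b ⊗ₜ[B'] pf φ, c ⊗ₜ[C'] qf φ) :=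
    fun b c φ => rfl
  have left : ∀ z, bwB (fwd z).1 + bwC (fwd z).2 = z := by
    intro z
    induction z using TensorProduct.induction_on with
    | zero => simp
    | tmul x φ =>
      obtain ⟨b, c⟩ := x
      rw [hfwd]
      show ((b, 0) : B × C) ⊗ₜ[B' × C'] iB (pf φ) + ((0, c) : B × C) ⊗ₜ[B' × C'] iC (qf φ) = _
      have h1 : iB (pf φ) = ((1, 0) : B' × C') • φ := by
        apply Disc.Omega.ext
        refine LinearMap.ext fun x => ?_
        show φ.toLinearMap (x.1, 0) = φ.toLinearMap ((1, 0) * x)
        congr 1; simp [Prod.ext_iff]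
      have h2 : iC (qf φ) = ((0, 1) : B' × C') • φ := by
        apply Disc.Omega.ext
        refine LinearMap.ext fun x => ?_
        show φ.toLinearMap (0, x.2) = φ.toLinearMap ((0, 1) * x)
        congr 1; simp [Prod.ext_iff]
      rw [h1, h2, ← TensorProduct.smul_tmul, ← TensorProduct.smul_tmul, ← TensorProduct.add_tmul]
      simp [hsmul]
    | add x y hx hy =>
      simp only [map_add, Prod.fst_add, Prod.snd_add]
      rw [← hx, ← hy]; simp only [hx, hy]
      conv_rhs => rw [← hx, ← hy]
      abel
  have rightB : ∀ z, fwd (bwB z) = (z, 0) := by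
    intro z
    induction z using TensorProduct.induction_on with
    | zero => simp only [map_zero]; rfl
    | tmul b φ =>
      show fwd (((b, 0) : B × C) ⊗ₜ[B' × C'] iB φ) = _
      rw [hfwd, TensorProduct.zero_tmul]
      rfl
    | add x y hx hy => simp [hx, hy]
  have rightC : ∀ z, fwd (bwC z) = (0, z) := by
    intro z
    induction z using TensorProduct.induction_on with
    | zero => simp only [map_zero]; rfl
    | tmul b φ =>
      show fwd (((0, b) : B × C) ⊗ₜ[B' × C'] iC φ) = _
      rw [hfwd, TensorProduct.zero_tmul]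
      rfl
    | add x y hx hy => simp [hx, hy]
  refine ⟨{ toFun := fwd, invFun := fun w => bwB w.1 + bwC w.2, map_add' := map_add fwd,
            map_smul' := fun a z => ?_, left_inv := left,
            right_inv := fun w => by simp [rightB, rightC] }, fun b c φ => rfl⟩
  induction z using TensorProduct.induction_on with
  | zero => simp
  | tmul x φ =>
    obtain ⟨b, c⟩ := x
    rw [TensorProduct.smul_tmul', Prod.smul_mk, hfwd, hfwd, RingHom.id_apply, Prod.smul_mk,
      TensorProduct.smul_tmul', TensorProduct.smul_tmul']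
  | add x y hx hy => simp only [RingHom.id_apply] at hx hy ⊢; simp [hx, hy]

end Groth.Agent.S8975
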