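import Groth.Statements.S8992
import Mathlib.RingTheory.SimpleModule.Basic
import Mathlib.RingTheory.HopkinsLevitzki
import Mathlib.RingTheory.PowerSeries.Inverse
import Mathlib.RingTheory.PowerSeries.Trunc
import Mathlib.Algebra.Field.ZMod
import Mathlib.RingTheory.Localization.Integer
import Mathlib.LinearAlgebra.Dimension.Localization

set_option autoImplicit false
universe u
open HTop

namespace Groth.Agent.S8992

/-- An algebra over the prime field with p elements is absolutely weakly normal if and only if its p-th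
power map is bijective (the algebra is perfect). -/
theorem result (p : ℕ) [Fact p.Prime] (A : Type u) [CommRing A] [Algebra (ZMod p) A] : HTop.IsAWNRing A ↔ PerfectRing A p := by
  have hpA : (p : A) = 0 := by rw [← map_natCast (algebraMap (ZMod p) A), ZMod.natCast_self, map_zero]
  have hp0 : p ≠ 0 := (Fact.out : p.Prime).ne_zero
  constructor
  · intro h
    refine ⟨Function.bijective_iff_existsUnique _ |>.2 fun x => ?_⟩
    obtain ⟨a, ⟨ha, -⟩, hu⟩ := h.2 p Fact.out x 0 (by simp [hpA, hp0])
    exact ⟨a, ha.symm, fun b hb => hu b ⟨hb.symm, by simp [hpA]⟩⟩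
  · intro h
    obtain ⟨hinj, hsurj⟩ := h.bijective_frobenius
    have red : ∀ a : A, a ^ 3 = 0 → a = 0 := by
      intro a ha
      rcases le_or_gt 3 p with h3 | h3
      · exact hinj (by show a ^ p = 0 ^ p; rw [pow_eq_zero_of_le h3 ha, zero_pow hp0])
      · have h2 : p = 2 := by have := (Fact.out : p.Prime).two_le; omega
        have : a ^ 2 = 0 := hinj (by show (a ^ 2) ^ p = 0 ^ p; rw [← pow_mul, pow_eq_zero_of_le (by omega) ha, zero_pow hp0])
        exact hinj (by show a ^ p = 0 ^ p; rw [h2, this, zero_pow two_ne_zero])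
    refine ⟨fun x y hxy => ?_, fun q hq x y hxy => ?_⟩
    · have huniq : ∀ a b : A, a ^ 2 = b ^ 2 → a ^ 3 = b ^ 3 → a = b := by
        intro a b e2 e3
        refine sub_eq_zero.1 (red _ ?_)
        linear_combination (-3 * (a + b)) * e2 + (4 : A) * e3
      obtain ⟨a, ha2, ha3⟩ : ∃ a : A, a ^ 2 = x ∧ a ^ 3 = y := by
        rcases (Fact.out : p.Prime).eq_two_or_odd with h2 | hodd
        · subst h2
          obtain ⟨a, ha⟩ := hsurj x
          refine ⟨a, ha, hinj ?_⟩
          show (a ^ 3) ^ 2 = y ^ 2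
          rw [← hxy, ← ha]; ring
        · obtain ⟨m, rfl⟩ : ∃ m, p = 2 * m + 3 := ⟨(p - 3) / 2, by have := (Fact.out : p.Prime).two_le; omega⟩
          obtain ⟨a, ha⟩ := hsurj (x ^ m * y)
          simp only at ha
          refine ⟨a, hinj ?_, hinj ?_⟩
          · show (a ^ 2) ^ (2 * m + 3) = _
            rw [← pow_mul, Nat.mul_comm, pow_mul, ha]
            linear_combination -(x ^ (2 * m)) * hxy
          · show (a ^ 3) ^ (2 * m + 3) = _
            rw [← pow_mul, Nat.mul_comm, pow_mul, ha, mul_pow, ← pow_mul, Nat.mul_comm, pow_mul, hxy, ← pow_mul, ← pow_add]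
      exact ⟨a, ⟨ha2.symm, ha3.symm⟩, fun b hb => huniq b a (hb.1.symm.trans ha2.symm) (hb.2.symm.trans ha3.symm)⟩
    · by_cases hqp : q = p
      · subst hqp
        have hy : y = 0 := hinj (by show y ^ q = 0 ^ q; rw [← hxy, hpA, zero_pow hp0, zero_mul])
        obtain ⟨a, ha⟩ := hsurj x
        exact ⟨a, ⟨ha.symm, by simp [hy, hpA]⟩, fun b hb => hinj (hb.1.symm.trans ha.symm)⟩
      · have hu : IsUnit (q : A) := by
          rw [← map_natCast (algebraMap (ZMod p) A)]
          exact ((ZMod.isUnit_iff_coprime q p).2 ((Nat.coprime_primes hq Fact.out).2 hqp)).map _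
        obtain ⟨u, hu⟩ := hu
        refine ⟨(u⁻¹ : Aˣ) * y, ⟨?_, ?_⟩, fun b hb => ?_⟩
        · rw [mul_pow, ← hxy, ← hu, ← mul_assoc, ← mul_pow]; simp
        · rw [← hu, ← mul_assoc]; simp
        · rw [hb.2, ← hu, ← mul_assoc]; simp


end Groth.Agent.S8992
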