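import Groth.Statements.S8993
import Mathlib
import Groth.Agent.AWN93.Ring
import Groth.Agent.S8992

set_option autoImplicit false
universe u
open HTop

namespace Groth.Agent.S8993

/-- For a ring A of prime characteristic p, the map from A to the direct limit of A along Frobenius (the
perfect closure) is an absolute weak normalization of A. (The published statement also identifies,
over a base of characteristic p, the h sheafification of the structure sheaf on quasi-compact
quasi-separated objects with this colimit; that part is not stated here.) -/
theorem result (p : ℕ) [Fact p.Prime] (A : Type u) [CommRing A] [CharP A p] : HTop.IsRingAWN (PerfectClosure.of A p) := by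
  let B := PerfectClosure A p
  letI : Algebra A B := (PerfectClosure.of A p).toAlgebra
  have hp : p.Prime := Fact.out
  haveI : IsPRadical (PerfectClosure.of A p) p := PerfectClosure.isPRadical A p
  refine (Groth.Agent.AWN93.isRingAWN_iff _).2 ⟨?_, ?_⟩
  · refine (Groth.Agent.UH57.isUnivHomeo_iff (A := A) (B := B)).2 ⟨⟨fun x => ?_⟩, Groth.Agent.UH57.hInj_iff.1 ?_, ?_⟩
    · obtain ⟨n, y, hy⟩ := IsPRadical.pow_mem (PerfectClosure.of A p) p x
      refine IsIntegral.of_pow (pow_pos hp.pos n) ?_
      rw [← hy]
      exact isIntegral_algebraMap
    · intro L _ g₁ g₂ h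
      haveI : CharP L p := (CharP.charP_iff_prime_eq_zero hp).2 (by rw [← map_natCast g₁, CharP.cast_eq_zero, map_zero])
      haveI : ExpChar L p := ExpChar.prime hp
      refine RingHom.ext fun x => ?_
      obtain ⟨n, y, hy⟩ := IsPRadical.pow_mem (PerfectClosure.of A p) p x
      refine iterateFrobenius_inj L p n ?_
      rw [iterateFrobenius_def, iterateFrobenius_def, ← map_pow, ← map_pow, ← hy]
      exact RingHom.congr_fun h y
    · exact (IsPRadical.ker_le (PerfectClosure.of A p) p).trans (pNilradical_le_nilradical)
  · letI := ZMod.algebra B p
    exact (Groth.Agent.S8992.result p B).2 inferInstance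

end Groth.Agent.S8993
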