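import Groth.Statements.S8994
import Groth.Agent.HTop50.AlmostCriterion

set_option autoImplicit false
universe w u
open HTop

namespace Groth.Agent.S8994

open CategoryTheory CategoryTheory.Limits AlgebraicGeometry Opposite in
/-- A presheaf of sets on schemes over S is an h sheaf if and only if it is a Zariski sheaf, satisfies
the sheaf condition for surjective flat proper morphisms of finite presentation onto affine
S-schemes, and turns into a cartesian square every almost blow up square over an affine corner X
whose centre is cut out by at most two global sections of the structure sheaf of X. (The published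
statement asks the last condition only for two explicit almost blow up squares attached to one,
respectively two, generators; this row asks it for every almost blow up square whose centre is
generated by two global sections, a condition that still follows from being an h sheaf and that
implies the published one.) -/
theorem result (S : Scheme.{u}) (F : (Over S)ᵒᵖ ⥤ Type w) : Presieve.IsSheaf (HTop.Jh S) F ↔ (Presieve.IsSheaf (Scheme.zariskiTopology.over S) F ∧ (∀ (X Y : Over S) (f : X ⟶ Y), IsAffine Y.left → Surjective f.left → Flat f.left → IsProper f.left → LocallyOfFinitePresentation f.left → Presieve.IsSheafFor F (Presieve.singleton f)) ∧ ∀ (E Z X' X : Over S) (e : E ⟶ X') (π : E ⟶ Z) (b : X' ⟶ X) (i : Z ⟶ X), IsAffine X.left → HTop.IsAlmostBlowUpSquare e.left π.left b.left i.left → (∃ f₁ f₂ : Γ(X.left, ⊤), i.left.ker = Scheme.IdealSheafData.ofIdealTop (Ideal.span {f₁, f₂})) → ∀ (t : F.obj (op Z)) (s' : F.obj (op X')), F.map π.op t = F.map e.op s' → ∃! s : F.obj (op X), F.map i.op s = t ∧ F.map b.op s = s') := by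
  exact Groth.Agent.HTop50.isSheaf_jh_iff_two F

end Groth.Agent.S8994
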