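import Groth.Statements.S9000
import Groth.Agent.FlatMor67.ImpurityTransfer
import Groth.Agent.FlatMor67.FlatMul
import Groth.Agent.Henz21.LocalLift
import Groth.Agent.S0506
import Groth.Agent.S0509

set_option autoImplicit false
universe u
open FlatMor

namespace Groth.Agent.S9000

open IsLocalRing in
/-- For Spec B → Spec A of finite type, a finite B-module N and a prime p of A, an impurity of N above p
over an elementary etale neighbourhood of (A, p) yields an impurity of N above p over the
henselization of the local ring of A at p, based at its closed point. (The other implications of the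
published equivalence are separate results: from the henselization to an elementary etale
neighbourhood, and between elementary etale neighbourhoods and base rings quasi-finite at the
point.) -/
theorem result {A B : Type u} [CommRing A] [CommRing B] [Algebra A B] [Algebra.FiniteType A B] (N : Type u) [AddCommGroup N] [Module B N] [Module.Finite B N] (p : Ideal A) [p.IsPrime] (h : FlatCA.HasImpurity A B N p (fun A' _ _ t => ∃ _ : t.IsPrime, FlatCA.IsEtaleNhd A A' p t)) : FlatCA.HasImpurity A B N p (fun A' _ _ t => ∃ (_ : IsLocalRing A') (_ : Algebra (Localization.AtPrime p) A') (_ : IsScalarTower A (Localization.AtPrime p) A') (_ : IsLocalHom (algebraMap (Localization.AtPrime p) A')), Hensel.IsHenselization (Localization.AtPrime p) A' ∧ t = maximalIdeal A') := by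
  classical
  obtain ⟨A', B', N', _, _, _, _, _, _, _, _, _, _, _, _, _, _, f, t', t, _, _, P, _, himp, _, het⟩ := h
  obtain ⟨hetale, hlo, hres⟩ := het
  haveI := hetale
  haveI := hlo
  obtain ⟨H, _, _, _, hloc, hH⟩ := Groth.Agent.S0506.result (Localization.AtPrime p)
  haveI := hH
  haveI : HenselianLocalRing H := hH.henselian
  haveI := Groth.Agent.S0509.result (Localization.AtPrime p) H
  letI : Algebra A H := ((algebraMap (Localization.AtPrime p) H).comp (algebraMap A (Localization.AtPrime p))).toAlgebra
  haveI : IsScalarTower A (Localization.AtPrime p) H := IsScalarTower.of_algebraMap_eq' rfl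
  -- the point of `A'` in the residue field of `H`
  let χ := RingEquiv.ofBijective (Ideal.ResidueField.mapₐ p t (Algebra.ofId A A') hlo.over) hres
  let ψ : p.ResidueField →+* ResidueField H := ResidueField.map (algebraMap (Localization.AtPrime p) H)
  let σ₀ : A' →+* ResidueField H := ψ.comp (χ.symm.toRingHom.comp (algebraMap A' t.ResidueField))
  have hσ₀ : ∀ a : A, σ₀ (algebraMap A A' a) = algebraMap A (ResidueField H) a := fun a => by
    have h1 : χ.symm (algebraMap A' t.ResidueField (algebraMap A A' a)) = algebraMap A p.ResidueField a := by
      rw [RingEquiv.symm_apply_eq, ← IsScalarTower.algebraMap_apply]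
      exact ((Ideal.ResidueField.mapₐ p t (Algebra.ofId A A') hlo.over).commutes a).symm
    show ψ (χ.symm (algebraMap A' t.ResidueField (algebraMap A A' a))) = _
    rw [h1]
    rfl
  let σ : A' →ₐ[A] ResidueField H := { σ₀ with commutes' := hσ₀ }
  obtain ⟨g, hg, -⟩ := Groth.Agent.Henz21.existsUnique_lift (T := H) σ
  letI : Algebra A' H := g.toRingHom.toAlgebra
  haveI : IsScalarTower A A' H := IsScalarTower.of_algebraMap_eq fun a => (g.commutes a).symm
  haveI hut : (IsLocalRing.maximalIdeal H).LiesOver t := ⟨by
    ext a
    rw [Ideal.under, Ideal.mem_comap, ← residue_eq_zero_iff]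
    show a ∈ t ↔ residue H (g a) = 0
    rw [show residue H (g a) = σ a from DFunLike.congr_fun hg a]
    show a ∈ t ↔ ψ (χ.symm (algebraMap A' t.ResidueField a)) = 0
    rw [map_eq_zero_iff ψ ψ.injective, map_eq_zero_iff _ χ.symm.injective, Ideal.algebraMap_residueField_eq_zero]⟩
  haveI : Module.Flat (Localization.AtPrime p) H := (Groth.Agent.S0509.result (Localization.AtPrime p) H).toFlat
  haveI : Module.Flat A H := Module.Flat.trans A (Localization.AtPrime p) H
  haveI : Module.Flat A' H := Groth.Agent.FlatMor67.flat_of_flat_lmul' (A := A) (B := A')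
    (Algebra.WeaklyEtale.flat_lmul' (R := A) (S := A')) H
  obtain ⟨u', hu', _, hlo'⟩ := Ideal.exists_ideal_le_liesOver_of_le (IsLocalRing.maximalIdeal H)
    (p := t') (q := t) himp.2.2.1
  exact Groth.Agent.FlatMor67.PurePush.isImpurity_transfer N p f t' t P himp H u' (IsLocalRing.maximalIdeal H) hu' _
    ⟨inferInstance, inferInstance, inferInstance, hloc, hH, rfl⟩

end Groth.Agent.S9000
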