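import Groth.Agent.S1217
import Groth.Agent.S1246
import Groth.Agent.S1247
import Groth.Agent.S1248
import Groth.Agent.S9000
import Groth.Agent.FlatCrit65.Purity.Transfer
import Groth.Agent.FlatMor67.PurePush
import Groth.Agent.Henz21.EssFtHenz
import Groth.Statements.S8998

set_option autoImplicit false
universe u
open FlatMor

namespace Groth.Agent.S8998

theorem aux {A B : Type u} [CommRing A] [CommRing B] [Algebra A B] [Algebra.FiniteType A B] (N : Type u)
    [AddCommGroup N] [Module B N] [Module.Finite B N] (p : Ideal A) [p.IsPrime]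
    (Ap Bp Np : Type u) [CommRing Ap] [IsLocalRing Ap] [IsNoetherianRing Ap] [CommRing Bp] [Algebra A Ap]
    [IsLocalization.AtPrime Ap p] [Algebra B Bp] [Algebra Ap Bp] [Algebra A Bp] [IsScalarTower A B Bp]
    [IsScalarTower A Ap Bp] [Algebra.IsPushout A B Ap Bp] [Algebra.FiniteType Ap Bp]
    [AddCommGroup Np] [Module Bp Np] [Module B Np] [IsScalarTower B Bp Np] [Module.Finite Bp Np]
    (f : N →ₗ[B] Np) (hf : IsBaseChange Bp f)
    (hpure : FlatCA.IsPureAlong A B N p) : FlatCA.IsUnivPureAlong A B N p := by
  classical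
  rw [Groth.Agent.FlatMor67.PurePush.isPureAlong_iff_not_hasImpurity] at hpure
  let m := IsLocalRing.maximalIdeal Ap
  haveI : m.LiesOver p := ⟨(IsLocalization.AtPrime.under_maximalIdeal Ap p).symm⟩
  haveI : Module.Flat A Ap := IsLocalization.flat Ap p.primeCompl
  haveI : Module.Flat Ap (Localization.AtPrime m) := IsLocalization.flat _ m.primeCompl
  haveI : Module.Flat A (Localization.AtPrime m) := Module.Flat.trans A Ap _
  refine (Groth.Agent.S1217.result N p Ap Bp Np f hf m).2 ?_
  rw [Groth.Agent.FlatMor67.PurePush.isUnivPureAlong_iff_not_hasImpurity]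
  intro h
  have h3 := Groth.Agent.S9000.result Np m (Groth.Agent.S1246.result Np m (Groth.Agent.S1247.result Np m h))
  refine hpure (Groth.Agent.S1248.result N p ?_)
  refine Groth.Agent.FlatCrit65.Purity.hasImpurity_of_baseChange f hf m ?_ h3
  rintro H _ _ _ _ t _ _ ⟨hloc, alg, htow, hl, hH, ht⟩
  haveI := hloc; haveI := htow; haveI := hl; haveI := hH
  let e : Ap ≃+* Localization.AtPrime m := (IsLocalization.atUnits Ap m.primeCompl (S := Localization.AtPrime m)
    (fun x hx => of_not_not fun h => hx ((IsLocalRing.mem_maximalIdeal x).2 h))).toRingEquiv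
  let e' : Localization.AtPrime p ≃+* Localization.AtPrime m :=
    (IsLocalization.algEquiv p.primeCompl (Localization.AtPrime p) Ap).toRingEquiv.trans e
  letI : Algebra (Localization.AtPrime p) H := ((algebraMap (Localization.AtPrime m) H).comp e'.toRingHom).toAlgebra
  obtain ⟨hl', hH'⟩ := Groth.Agent.Henz21.isHenselization_of_ringEquiv (M := H) e' rfl
  refine ⟨hloc, inferInstance, IsScalarTower.of_algebraMap_eq fun a => ?_, hl', hH', ht⟩
  show algebraMap A H a = algebraMap (Localization.AtPrime m) H (e (IsLocalization.algEquiv p.primeCompl (Localization.AtPrime p) Ap (algebraMap A _ a)))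
  rw [AlgEquiv.commutes, IsScalarTower.algebraMap_apply A Ap H, IsScalarTower.algebraMap_apply Ap (Localization.AtPrime m) H]
  rfl


set_option maxHeartbeats 400000 in
theorem result {A B : Type u} [CommRing A] [CommRing B] [Algebra A B] [Algebra.FiniteType A B] (N : Type u) [AddCommGroup N] [Module B N] [Module.Finite B N] (p : Ideal A) [p.IsPrime] [IsNoetherianRing (Localization.AtPrime p)] : FlatCA.IsPureAlong A B N p ↔ FlatCA.IsUnivPureAlong A B N p := by
  classical
  refine ⟨fun hpure => ?_, fun h A' B' N' => ?_⟩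
  swap
  · intro _ _ _ _ _ _ _ _ _ _ _ _ _ _ f t' t _ _ P _ _
    exact h A' B' N' f t' t P
  let Ap := Localization.AtPrime p
  letI : Algebra B (TensorProduct A Ap B) := Algebra.TensorProduct.rightAlgebra
  let Bp := TensorProduct A Ap B
  haveI : IsScalarTower A B Bp := IsScalarTower.of_algebraMap_eq fun a =>
    ((Algebra.TensorProduct.includeRight : B →ₐ[A] Bp).commutes a).symm
  haveI : Algebra.IsPushout A Ap B Bp := TensorProduct.isPushout
  haveI : Algebra.IsPushout A B Ap Bp := Algebra.IsPushout.symm inferInstance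
  obtain ⟨Np, _, _, _, _, _, f, hf⟩ : ∃ (Np : Type u) (_ : AddCommGroup Np) (_ : Module Bp Np) (_ : Module B Np)
      (_ : IsScalarTower B Bp Np) (_ : Module.Finite Bp Np) (f : N →ₗ[B] Np), IsBaseChange Bp f :=
    ⟨TensorProduct B Bp N, inferInstance, TensorProduct.leftModule, TensorProduct.instModule, inferInstance, inferInstance,
      TensorProduct.mk B Bp N 1, TensorProduct.isBaseChange B N Bp⟩
  exact aux N p Ap Bp Np f hf hpure

end Groth.Agent.S8998
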