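import Groth.Statements.S8999
import Groth.Agent.FlatMor67.PurePush

set_option autoImplicit false
universe u
open FlatMor

namespace Groth.Agent.S8999

/-- For affine finite type schemes over Spec A: purity and universal purity along a fibre of a finite
module are unchanged when the module is pushed forward along a closed immersion Spec C → Spec B (a
surjective algebra map B → C). -/
theorem result {A B C : Type u} [CommRing A] [CommRing B] [CommRing C] [Algebra A B] [Algebra B C] [Algebra A C] [IsScalarTower A B C] [Algebra.FiniteType A B] (hBC : Function.Surjective (algebraMap B C)) (N : Type u) [AddCommGroup N] [Module C N] [Module B N] [IsScalarTower B C N] [Module.Finite C N] (p : Ideal A) [p.IsPrime] : (FlatCA.IsPureAlong A C N p ↔ FlatCA.IsPureAlong A B N p) ∧ (FlatCA.IsUnivPureAlong A C N p ↔ FlatCA.IsUnivPureAlong A B N p) := by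
  open Groth.Agent.FlatMor67.PurePush in
  exact ⟨by rw [isPureAlong_iff_not_hasImpurity, isPureAlong_iff_not_hasImpurity, hasImpurity_iff N p _ hBC],
    by rw [isUnivPureAlong_iff_not_hasImpurity, isUnivPureAlong_iff_not_hasImpurity, hasImpurity_iff N p _ hBC]⟩

end Groth.Agent.S8999
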