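import Groth.Statements.S9001
import Groth.Agent.S0589
import Groth.Agent.FlatCrit65.OneSub

set_option autoImplicit false
universe u
open FlatMor

namespace Groth.Agent.S9001

open IsLocalRing TensorProduct in
/-- Over a henselian local ring R with maximal ideal m, for an R-algebra S and an S-module N which is
countably generated and Mittag-Leffler as an R-module, every associated prime q of the S-module N
⊗_R M (M any R-module) satisfies q + mS ≠ S. (Associated primes are taken here in the sense of
primes equal to the radical of the annihilator of some element, a larger set than the annihilators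
of elements used in the published statement; the published argument goes through once the chosen
element of q is replaced by a suitable power of it, so the row states this slightly stronger form.) -/
theorem result {R S : Type u} [CommRing R] [HenselianLocalRing R] [CommRing S] [Algebra R S] (N : Type u) [AddCommGroup N] [Module S N] [Module R N] [IsScalarTower R S N] (hcg : CAlg.IsCountablyGenerated R N) (hML : CAlg.IsMittagLeffler R N) (M : Type u) [AddCommGroup M] [Module R M] (q : Ideal S) [q.IsPrime] (hq : q ∈ associatedPrimes S (N ⊗[R] M)) : q ⊔ (maximalIdeal R).map (algebraMap R S) ≠ ⊤ := by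
  classical
  obtain ⟨ι, F, hF, hfp⟩ := Groth.Agent.S0589.result R N hcg hML
  intro htop
  obtain ⟨f, hf, a, ha, hfa⟩ := Submodule.mem_sup.mp
    (show (1 : S) ∈ q ⊔ (maximalIdeal R).map (algebraMap R S) from htop ▸ Submodule.mem_top)
  have hinj := Groth.Agent.FlatCrit65.rTensor_injective_one_sub_of_internal (M := M) ι F hF
    (fun i => inferInstanceAs (Module.Finite R (F i))) ha
  have key : ∀ y : N ⊗[R] M,
      (((LinearMap.lsmul S N) (1 - a)).restrictScalars R).rTensor M y = (1 - a) • y := by
    intro y
    induction y with
    | zero => simp
    | add u v hu hv => rw [map_add, hu, hv, smul_add]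
    | tmul n x => rw [smul_tmul']; rfl
  have hpow : ∀ (k : ℕ) (y : N ⊗[R] M), f ^ k • y = 0 → y = 0 := by
    intro k
    induction k with
    | zero => intro y hy; simpa using hy
    | succ k ih =>
      intro y hy
      refine ih y (hinj ?_)
      rw [key, map_zero, smul_smul, show (1 - a) = f by rw [← hfa, add_sub_cancel_right], ← pow_succ']
      exact hy
  obtain ⟨-, m, hm⟩ := hq
  rw [hm, Ideal.mem_radical_iff] at hf
  obtain ⟨k, hk⟩ := hf
  rw [Submodule.mem_colon_singleton, Submodule.mem_bot] at hk
  refine ‹q.IsPrime›.ne_top ?_
  rw [hm, hpow k m hk, eq_top_iff]
  exact fun x _ => Ideal.le_radical (by rw [Submodule.mem_colon_singleton, smul_zero]; exact Submodule.zero_mem _)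

end Groth.Agent.S9001
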