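import Groth.Statements.S9004
import Groth.Agent.FlatMor67.FreeFromTrunc

set_option autoImplicit false
universe u
open FlatMor

open CategoryTheory CategoryTheory.Limits AlgebraicGeometry TopologicalSpace Opposite
open Groth.Agent.QC70 Groth.Agent.Props58.LocFree Groth.Agent.Amp73
open Groth.Agent.FlatMor67.LiftBound (par)

set_option backward.isDefEq.respectTransparency.types false
set_option linter.style.haveILetI false

noncomputable section

namespace Groth.Agent.S9004

variable {R : Type u} [CommRing R] [IsDomain R] [IsDiscreteValuationRing R] {ϖ : R} {X : Scheme.{u}}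
  (f : X ⟶ Spec (CommRingCat.of R)) [IsProper f]

/-- The geometric part. -/
theorem main (hϖ : Irreducible ϖ) :
    ∃ n : ℕ, ∀ (E : X.Modules), FlatMod.IsFinLocFree E →
      (∃ r : ℕ, Nonempty ((Scheme.Modules.pullback (pullback.fst f (Spec.map (CommRingCat.ofHom
        (algebraMap R (FractionRing R)))))).obj E ≅ FlatMod.freeMod _ r)) →
      (∃ r : ℕ, Nonempty ((Scheme.Modules.pullback (pullback.fst f (Spec.map (CommRingCat.ofHom
        (Ideal.Quotient.mk (Ideal.span {ϖ ^ n})))))).obj E ≅ FlatMod.freeMod _ r)) →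
      ∃ r : ℕ, Nonempty (E ≅ FlatMod.freeMod X r) := by
  classical
  obtain ⟨c, τ, hc, hlift⟩ := FlatMor67.LiftBound.exists_bound ϖ f
  obtain ⟨C, hC⟩ : ∃ C, C = 2 * c + τ := ⟨_, rfl⟩
  refine ⟨C + (c + 1), ?_⟩
  set n := C + (c + 1) with hn
  intro E hE ⟨rK, ⟨αK⟩⟩ ⟨r, ⟨α⟩⟩
  haveI := isQuasicoherent_of_isFinLocFree hE
  let sq := Spec.map (CommRingCat.ofHom (Ideal.Quotient.mk (Ideal.span {ϖ ^ n})))
  let i : pullback f sq ⟶ X := pullback.fst f sq
  haveI : IsClosedImmersion sq :=
    IsClosedImmersion.spec_of_surjective (CommRingCat.ofHom (Ideal.Quotient.mk (Ideal.span {ϖ ^ n})))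
      Ideal.Quotient.mk_surjective
  haveI : IsClosedImmersion i := inferInstanceAs (IsClosedImmersion (pullback.fst f sq))
  have H : IsPullback i (pullback.snd f sq) f sq := IsPullback.of_hasPullback f sq
  obtain ⟨e, he⟩ := FlatMor67.SpreadBasis.exists_stalkBasis_top α
  let m₀ : PrimeSpectrum R := IsLocalRing.closedPoint R
  -- points over the closed point
  have hclosed : ∀ x : X, f x = m₀ → ∃ z, i z = x := fun x hx => by
    have h1 : x ∈ Set.range i := by
      rw [show (i : pullback f sq ⟶ X) = pullback.fst f sq from rfl, Scheme.Pullback.range_fst]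
      show f x ∈ Set.range (PrimeSpectrum.comap (Ideal.Quotient.mk (Ideal.span {ϖ ^ n})))
      rw [range_comap_of_surjective _ _ Ideal.Quotient.mk_surjective, hx, Ideal.mk_ker]
      show ((Ideal.span {ϖ ^ n} : Ideal R) : Set R) ⊆ (m₀.asIdeal : Set R)
      intro a ha
      obtain ⟨b, rfl⟩ := Ideal.mem_span_singleton'.1 ha
      refine Ideal.mul_mem_left _ b (Ideal.pow_mem_of_mem _ ?_ n (by omega))
      show ϖ ∈ IsLocalRing.maximalIdeal R
      exact hϖ.not_isUnit
    exact h1
  have hnil : IsNilpotent (i.appTop (par f ϖ)) := by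
    refine ⟨n, ?_⟩
    have := FlatMor67.LiftBound.app_par_pow ϖ f H.w ⊤
    rw [resO_self] at this
    rw [← map_pow]
    exact this
  have hopen : ∀ x ∈ X.basicOpen (par f ϖ), f x ≠ m₀ := fun x hx hfx => by
    obtain ⟨z, rfl⟩ := hclosed x hfx
    have h1 : z ∈ (pullback f sq).basicOpen (i.appTop (par f ϖ)) := by
      rw [← Scheme.preimage_basicOpen_top]
      exact hx
    exact (hnil.map ((pullback f sq).presheaf.germ ⊤ z trivial).hom).not_isUnit
      ((Scheme.mem_basicOpen (pullback f sq) (U := ⊤) (i.appTop (par f ϖ)) z trivial).1 h1)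
  have hspec : ∀ x : X, ∃ z, x ⤳ i z := fun x => by
    have hcl : IsClosed (f '' closure {x}) := f.isClosedMap _ isClosed_closure
    have hy : m₀ ∈ f '' closure {x} :=
      (IsLocalRing.specializes_closedPoint (R := R) (f x)).mem_closed hcl ⟨x, subset_closure rfl, rfl⟩
    obtain ⟨p, hp, hfp⟩ := hy
    obtain ⟨z, rfl⟩ := hclosed p hfp
    exact ⟨z, specializes_iff_mem_closure.2 hp⟩
  -- the rank
  have hrank : ∀ x : X, Module.finrank (X.presheaf.stalk x) (E.presheaf.stalk x) = r := fun x => by
    obtain ⟨z, hz⟩ := hspec x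
    obtain ⟨W, m, b, hzW, hb⟩ := isFinLocFree_iff.1 hE (i z)
    rw [FlatMor67.FibreFree.finrank_stalk_eq x (hz.mem_open W.2 hzW) (hb x _), ← FlatMor67.FibreFree.finrank_stalk_eq (i z) hzW (hb _ _),
      ← FlatMor67.FibreFree.finrank_stalk_pullback i hE z]
    exact FlatMor67.FibreFree.finrank_stalk_eq (U := ⊤) (s := e) z trivial (he z trivial)
  -- generic sections
  obtain ⟨σ, hσ⟩ : ∃ σ : Fin r → Γ(E, ⊤), ∀ x ∈ X.basicOpen (par f ϖ), Function.Bijective (germComb σ x trivial) := by
    haveI : Flat (Spec.map (CommRingCat.ofHom (algebraMap R (FractionRing R)))) :=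
      (HasRingHomProperty.Spec_iff (P := @Flat)).2 (RingHom.flat_algebraMap_iff.2
        (IsLocalization.flat (FractionRing R) (nonZeroDivisors R)))
    obtain ⟨σ, hσ⟩ := FlatMor67.GenericBasis.exists_sections_basis (algebraMap R (FractionRing R)) (fun a => by
      obtain ⟨⟨b, t⟩, h⟩ := IsLocalization.surj (nonZeroDivisors R) a
      exact ⟨t, b, IsLocalization.map_units _ t, by rw [mul_comm]; exact h⟩) f E αK
    have hgen : ∀ x ∈ X.basicOpen (par f ϖ),
        x ∈ Set.range (pullback.fst f (Spec.map (CommRingCat.ofHom (algebraMap R (FractionRing R))))) := fun x hx => by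
      rw [Scheme.Pullback.range_fst]
      refine ⟨(⟨⊥, Ideal.isPrime_bot⟩ : PrimeSpectrum (FractionRing R)), PrimeSpectrum.ext ?_⟩
      have hb : (f x : PrimeSpectrum R).asIdeal = ⊥ := by
        by_contra h
        exact hopen x hx (PrimeSpectrum.ext
          (IsLocalRing.eq_maximalIdeal ((f x : PrimeSpectrum R).isPrime.isMaximal h)))
      rw [hb]
      exact Ideal.comap_bot_of_injective _ (IsFractionRing.injective R (FractionRing R))
    by_cases hne : ∃ x, x ∈ X.basicOpen (par f ϖ)
    · obtain ⟨x, hx⟩ := hne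
      obtain rfl : rK = r := (FlatMor67.FibreFree.finrank_stalk_eq (U := ⊤) x trivial (hσ x (hgen x hx))).symm.trans (hrank x)
      exact ⟨σ, fun y hy => hσ y (hgen y hy)⟩
    · exact ⟨fun _ => 0, fun y hy => absurd ⟨y, hy⟩ hne⟩
  -- lifts
  have hex : ∀ j, ∃ φ : Γ(E, ⊤), ∀ p : X, ∃ (V : X.Opens) (w : Γ((Scheme.Modules.pullback i).obj E, i ⁻¹ᵁ V)), p ∈ V ∧
      res _ (i.preimage_mono (le_top : V ≤ ⊤)) (pullS i E ⊤ φ) =
        res _ le_top (e j) + i.app V (resO X le_top (par f ϖ) ^ (c + 1)) • w := fun j => by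
    obtain ⟨s, hs⟩ := FlatMor67.FreeFromTrunc.exists_pow_lift_basis f hϖ (τ := τ) (by omega) hc i
      (pullback.snd f sq) H (hlift n (by omega) _ i _ H) hE he σ hσ j
    rw [← hC] at hs
    exact FlatMor67.FreeFromTrunc.exists_congr_lift f rfl (by omega) hc i (pullback.snd f sq) H hE (e j) s hs
  choose φ hφ using hex
  have hbas : ∀ z, Function.Bijective (germComb φ (i z) trivial) := fun z => by
    have h1 : Function.Bijective (germComb (fun j => pullS i E ⊤ (φ j)) z (U := i ⁻¹ᵁ ⊤) trivial) := by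
      refine FlatMor67.FreeFromTrunc.germComb_bijective_of_congr (U := i ⁻¹ᵁ ⊤) e _ z trivial (he z trivial)
        (ε := (pullback f sq).presheaf.germ ⊤ z trivial (i.appTop (par f ϖ)) ^ (c + 1)) ?_ fun j => ?_
      · exact (hnil.map ((pullback f sq).presheaf.germ ⊤ z trivial).hom).pow_succ c
      · obtain ⟨V, w, hzV, hw⟩ := hφ j (i z)
        refine ⟨germM _ (i ⁻¹ᵁ V) z hzV w, ?_⟩
        have h2 := congrArg (germM ((Scheme.Modules.pullback i).obj E) (i ⁻¹ᵁ V) z hzV) hw
        rw [germM_res] at h2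
        refine h2.trans ?_
        refine (map_add _ _ _).trans (congrArg₂ (· + ·) (germM_res _ _ _) ?_)
        refine (germM_smul _ _ _).trans (congrArg (· • _) ?_)
        rw [map_pow, map_pow, QCqs72.app_resO]
        exact congrArg (· ^ (c + 1)) (germ_resO (i.preimage_mono (le_top : V ≤ ⊤)) hzV _)
    haveI := (FlatMor67.FibreFree.free_finite_stalk hE (i z)).1
    haveI := (FlatMor67.FibreFree.free_finite_stalk hE (i z)).2
    exact (FlatMor67.FibreFree.germComb_pullS_iff i φ z trivial).1 h1
  refine ⟨r, FlatMor67.FreeFromTrunc.nonempty_iso_freeMod φ fun x hx => ?_⟩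
  obtain ⟨z, hz⟩ := hspec x
  obtain ⟨W, hzW, -, hW⟩ := FlatMor67.SpreadBasis.exists_nhd_basis hE φ (i z) trivial (hbas z)
  exact hW x hx (hz.mem_open W.2 hzW)

end Groth.Agent.S9004

end

namespace Groth.Agent.S9004

open CategoryTheory CategoryTheory.Limits AlgebraicGeometry in
/-- For a proper morphism X → Spec R with geometrically connected fibres over a discrete valuation ring
R with uniformizer ϖ, there is an n such that a finite locally free module on X is free as soon as
its restrictions to the generic fibre and to the closed subscheme cut out by ϖ^n are free.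
(Geometrically connected is Mathlib's notion, which asks the geometric fibres to be nonempty and
connected.) -/
theorem result {R : Type u} [CommRing R] [IsDomain R] [IsDiscreteValuationRing R] (ϖ : R) (hϖ : Irreducible ϖ) {X : Scheme.{u}} (f : X ⟶ Spec (CommRingCat.of R)) [IsProper f] [GeometricallyConnected f] : ∃ n : ℕ, ∀ (E : X.Modules), FlatMod.IsFinLocFree E → (∃ r : ℕ, Nonempty ((Scheme.Modules.pullback (pullback.fst f (Spec.map (CommRingCat.ofHom (algebraMap R (FractionRing R)))))).obj E ≅ FlatMod.freeMod _ r)) → (∃ r : ℕ, Nonempty ((Scheme.Modules.pullback (pullback.fst f (Spec.map (CommRingCat.ofHom (Ideal.Quotient.mk (Ideal.span {ϖ ^ n})))))).obj E ≅ FlatMod.freeMod _ r)) → ∃ r : ℕ, Nonempty (E ≅ FlatMod.freeMod X r) := by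
  exact main f hϖ

end Groth.Agent.S9004
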