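import Groth.Statements.S9005
import Groth.Agent.FlatMor67.ProjPure

set_option autoImplicit false
universe u
open FlatMor

namespace Groth.Agent.S9005

/-- For an affine finite type morphism Spec B → Spec A: a finite B-module which is projective as an
A-module is universally pure over Spec A. (The published statement allows any base scheme S and asks
the direct image to be locally projective; over an affine base a projective module gives such a
direct image, so this row is that case.) -/
theorem result {A B : Type u} [CommRing A] [CommRing B] [Algebra A B] [Algebra.FiniteType A B] (N : Type u) [AddCommGroup N] [Module B N] [Module A N] [IsScalarTower A B N] [Module.Finite B N] [Module.Projective A N] : FlatCA.IsUnivPure A B N := by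
  exact Groth.Agent.FlatMor67.ProjPure.isUnivPure_of_projective N

end Groth.Agent.S9005
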