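import Groth.Statements.S9007
import Mathlib.AlgebraicGeometry.Morphisms.Separated
import Mathlib.AlgebraicGeometry.Morphisms.Proper

set_option linter.style.haveILetI false

set_option autoImplicit false
universe u
open FlatMor

namespace Groth.Agent.S9007

open CategoryTheory CategoryTheory.Limits AlgebraicGeometry in
/-- For a morphism f of compactifications of X over a quasi-compact quasi-separated S whose source
contains X as a dense open, the preimage under f of the image of X in the target is the image of X
in the source. -/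
theorem result {X S : Scheme.{u}} [CompactSpace S] [QuasiSeparatedSpace S] (p : X ⟶ S) [IsSeparated p] [QuasiCompact p] [LocallyOfFiniteType p] {Y Y' : Scheme.{u}} (j : X ⟶ Y) (q : Y ⟶ S) [IsOpenImmersion j] [IsProper q] (h : j ≫ q = p) (j' : X ⟶ Y') (q' : Y' ⟶ S) [IsOpenImmersion j'] [IsProper q'] (h' : j' ≫ q' = p) (f : Y' ⟶ Y) (hf : f ≫ q = q') (hfj : j' ≫ f = j) (hd : Dense (Set.range j'.base)) : f ⁻¹ᵁ j.opensRange = j'.opensRange := by
  haveI : IsSeparated (f ≫ q) := hf ▸ inferInstance
  haveI : IsSeparated f := IsSeparated.of_comp f q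
  let k : X ⟶ pullback f j := pullback.lift j' (𝟙 X) (by rw [hfj, Category.id_comp])
  have hk : k ≫ pullback.snd f j = 𝟙 X := pullback.lift_snd _ _ _
  haveI : IsClosedImmersion (k ≫ pullback.snd f j) := hk ▸ inferInstance
  haveI : IsClosedImmersion k := IsClosedImmersion.of_comp k (pullback.snd f j)
  have hd' : Dense ((pullback.fst f j).base ⁻¹' Set.range j'.base) :=
    hd.preimage (pullback.fst f j).isOpenEmbedding.isOpenMap
  have hsub : (pullback.fst f j).base ⁻¹' Set.range j'.base ⊆ Set.range k.base := by
    rintro p ⟨x, hx⟩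
    refine ⟨x, (pullback.fst f j).isOpenEmbedding.injective ?_⟩
    show (k ≫ pullback.fst f j) x = _
    rw [pullback.lift_fst]
    exact hx
  have hall : Set.range k.base = Set.univ := by
    rw [← Set.univ_subset_iff, ← hd'.closure_eq]
    exact closure_minimal hsub k.isClosedEmbedding.isClosed_range
  apply TopologicalSpace.Opens.ext
  rw [Scheme.Hom.coe_opensRange]
  ext y
  constructor
  · intro hy
    have : y ∈ Set.range (pullback.fst f j) := by
      rw [Scheme.Pullback.range_fst]; exact hy
    obtain ⟨p, rfl⟩ := this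
    obtain ⟨x, rfl⟩ : p ∈ Set.range k.base := hall ▸ Set.mem_univ p
    refine ⟨x, ?_⟩
    show j' x = (k ≫ pullback.fst f j) x
    rw [pullback.lift_fst]
  · rintro ⟨x, rfl⟩
    exact ⟨x, (congr($hfj x)).symm⟩

end Groth.Agent.S9007
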