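import Groth.Statements.S9008
import Mathlib

set_option autoImplicit false
universe u
open FlatMor

namespace Groth.Agent.S9008

/-- For Spec B → Spec A affine of finite type: a finite B-module is universally pure along the fibre
over a prime p of A exactly when every base change of it along a ring map A → A' is pure along the
fibre over every prime of A' above p. -/
theorem result {A B : Type u} [CommRing A] [CommRing B] [Algebra A B] [Algebra.FiniteType A B] (N : Type u) [AddCommGroup N] [Module B N] [Module.Finite B N] (p : Ideal A) [p.IsPrime] : FlatCA.IsUnivPureAlong A B N p ↔ ∀ (A' B' N' : Type u) [CommRing A'] [CommRing B'] [Algebra A A'] [Algebra B B'] [Algebra A' B'] [Algebra A B'] [IsScalarTower A B B'] [IsScalarTower A A' B'] [Algebra.IsPushout A B A' B'] [AddCommGroup N'] [Module B' N'] [Module B N'] [IsScalarTower B B' N'] (g : N →ₗ[B] N'), IsBaseChange B' g → ∀ (p' : Ideal A') [p'.IsPrime], p'.LiesOver p → FlatCA.IsPureAlong A' B' N' p' := by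
  constructor
  · intro h A' B' N' _ _ _ _ _ _ _ _ _ _ _ _ _ g hg p' _ hp'
    intro A'' B'' N'' _ _ _ _ _ _ _ _ _ _ _ _ _ _ f t' t _ _ P _ het himp
    obtain ⟨hpush, hf, hle, hto, hPo, hass, hmiss⟩ := himp
    let : Algebra A A'' := ((algebraMap A' A'').comp (algebraMap A A')).toAlgebra
    have : IsScalarTower A A' A'' := IsScalarTower.of_algebraMap_eq' rfl
    let : Algebra B B'' := ((algebraMap B' B'').comp (algebraMap B B')).toAlgebra
    have : IsScalarTower B B' B'' := IsScalarTower.of_algebraMap_eq' rfl
    let : Algebra A B'' := ((algebraMap A' B'').comp (algebraMap A A')).toAlgebra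
    have : IsScalarTower A A' B'' := IsScalarTower.of_algebraMap_eq' rfl
    have : IsScalarTower A B B'' := IsScalarTower.of_algebraMap_eq fun a => by
      rw [IsScalarTower.algebraMap_apply A A' B'', IsScalarTower.algebraMap_apply A' B' B'',
        ← IsScalarTower.algebraMap_apply A A' B', IsScalarTower.algebraMap_apply A B B',
        ← IsScalarTower.algebraMap_apply B B' B'']
    have : IsScalarTower A A'' B'' := IsScalarTower.of_algebraMap_eq fun a => by
      rw [IsScalarTower.algebraMap_apply A A' B'', IsScalarTower.algebraMap_apply A' A'' B'',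
        ← IsScalarTower.algebraMap_apply A A' A'']
    have : IsScalarTower A B' B'' := IsScalarTower.of_algebraMap_eq fun a => by
      rw [IsScalarTower.algebraMap_apply A A' B'', IsScalarTower.algebraMap_apply A' B' B'',
        ← IsScalarTower.algebraMap_apply A A' B']
    let : Module B N'' := Module.compHom N'' (algebraMap B B')
    have : IsScalarTower B B' N'' := IsScalarTower.of_algebraMap_smul fun _ _ => rfl
    have : IsScalarTower B B'' N'' := IsScalarTower.of_algebraMap_smul fun b n => by
      rw [IsScalarTower.algebraMap_apply B B' B'', algebraMap_smul]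
      rfl
    have : Algebra.IsPushout A A' B B' := .symm inferInstance
    have : Algebra.IsPushout A' A'' B' B'' := .symm hpush
    have := (Algebra.IsPushout.comp_iff A A' B B' (T := A'') (T' := B'')).2 inferInstance
    have : t.LiesOver p := Ideal.LiesOver.trans t p' p
    exact h A'' B'' N'' (f.restrictScalars B ∘ₗ g) t' t P
      ⟨.symm inferInstance, hg.comp hf, hle, inferInstance, hPo, hass, hmiss⟩
  · intro h A' B' N' _ _ _ _ _ _ _ _ _ _ _ _ _ _ f t' t _ _ P _ himp
    obtain ⟨hpush, hf, hle, hto, hPo, hass, hmiss⟩ := himp
    have := hpush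
    have : t.LiesOver t := ⟨by simp [Ideal.under]⟩
    refine h A' B' N' f hf t hto A' B' N' LinearMap.id t' t P ?_
      ⟨inferInstance, IsBaseChange.ofEquiv (LinearEquiv.refl B' N'), hle, inferInstance, hPo, hass, hmiss⟩
    refine ⟨inferInstance, inferInstance, ?_⟩
    convert Function.bijective_id
    ext x
    exact congrArg (fun g : t.ResidueField →ₐ[A'] t.ResidueField => g x)
      (Ideal.ResidueField.algHom_ext (f := Ideal.ResidueField.mapₐ t t (Algebra.ofId A' A') _) (g := AlgHom.id A' _) (AlgHom.ext fun a => by simp))

end Groth.Agent.S9008
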