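import Groth.Statements.S9009
import Groth.Agent.FlatMor67.FibreFlatOpen
import Groth.Agent.Open62.FlatLocus
import Groth.Agent.Cyc90.FlatRelDim
import Groth.Agent.VarGal.ProjDim
import Groth.Agent.QCRes72.Basic

set_option autoImplicit false
universe u
open FlatMor

namespace Groth.Agent.S9009

open CategoryTheory CategoryTheory.Limits AlgebraicGeometry TopologicalSpace

variable {X S : Scheme.{u}} (f : X ⟶ S) [LocallyOfFiniteType f] (F : X.Modules) [Coh.IsQCoh F]

theorem isClosed_nonflat (hF : CohB1.IsFT F) (s : S) :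
    IsClosed {x : {x : X // f.base x = s} | ¬ FlatMod.IsFlatOverAt f F x.1} := by
  haveI := hF
  haveI : F.IsQuasicoherent := inferInstance
  refine ⟨isOpen_iff_forall_mem_open.mpr fun x hx => ?_⟩
  have hflat : FlatMod.IsFlatOverAt f F x.1 := by simpa using hx
  obtain ⟨V, hV, hxV, -⟩ :=
    exists_isAffineOpen_mem_and_subset (show s ∈ (⊤ : S.Opens) from trivial)
  obtain ⟨U, hU, hxU, e⟩ :=
    exists_isAffineOpen_mem_and_subset (show x.1 ∈ f ⁻¹ᵁ V from (show f.base x.1 ∈ V from x.2.symm ▸ hxV))
  letI : Algebra Γ(S, V) Γ(X, U) := (f.appLE V U e).hom.toAlgebra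
  letI : Module Γ(S, V) Γ(F, U) := Module.compHom _ (f.appLE V U e).hom
  haveI : IsScalarTower Γ(S, V) Γ(X, U) Γ(F, U) := IsScalarTower.of_algebraMap_smul fun r s => rfl
  haveI : Algebra.FiniteType Γ(S, V) Γ(X, U) := LocallyOfFiniteType.finiteType_appLE f hV hU e
  haveI : Module.Finite Γ(X, U) Γ(F, U) := QC70.finite_sections_of_isFiniteType F hU
  let p := hV.primeIdealOf ⟨s, hxV⟩
  have hcomap : ∀ y : U, f.base y.1 = s →
      PrimeSpectrum.comap (algebraMap Γ(S, V) Γ(X, U)) (hU.primeIdealOf y) = p := fun y hy => by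
    subst hy
    exact PrimeSpectrum.ext (FlatMor66.primeIdealOf_image f hV hU e y.2).symm
  let h := PrimeSpectrum.preimageHomeomorphFiber Γ(S, V) Γ(X, U) p
  let O : Set {x : X // f.base x = s} := Subtype.val ⁻¹' (U : Set X)
  let φ : O → PrimeSpectrum (p.asIdeal.Fiber Γ(X, U)) := fun y =>
    h ⟨hU.primeIdealOf ⟨y.1.1, y.2⟩, hcomap _ y.1.2⟩
  have hφ : Continuous φ := by
    refine h.continuous.comp (Continuous.subtype_mk ?_ _)
    exact hU.isoSpec.hom.continuous.comp
      ((continuous_subtype_val.comp continuous_subtype_val).subtype_mk fun y => y.2)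
  have hkey : ∀ y : O, FlatMod.IsFlatOverAt f F y.1.1 ↔
      φ y ∈ {z : PrimeSpectrum (p.asIdeal.Fiber Γ(X, U)) | FlatCA.FlatAt Γ(S, V)
        (z.asIdeal.comap (Algebra.TensorProduct.includeRight (R := Γ(S, V)) (A := p.asIdeal.ResidueField)
          (B := Γ(X, U))).toRingHom) Γ(F, U)} := fun y => by
    refine (Open62.isFlatOverAt_iff_localized f e hU hV (QC70.isLocAt_of_isQuasicoherent F hU) y.2).trans ?_
    have hy : (φ y).asIdeal.comap (Algebra.TensorProduct.includeRight (R := Γ(S, V)) (A := p.asIdeal.ResidueField)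
        (B := Γ(X, U))).toRingHom = (hU.primeIdealOf ⟨y.1.1, y.2⟩).asIdeal :=
      congrArg (fun z => z.1.asIdeal) (h.symm_apply_apply ⟨hU.primeIdealOf ⟨y.1.1, y.2⟩, hcomap _ y.1.2⟩)
    simp only [Set.mem_ofPred_eq, hy]
    rfl
  refine ⟨Subtype.val '' {y : O | FlatMod.IsFlatOverAt f F y.1.1}, ?_, ?_, ⟨x, hxU⟩, hflat, rfl⟩
  · rintro _ ⟨y, hy, rfl⟩
    simpa using hy
  · refine (U.2.preimage continuous_subtype_val).isOpenMap_subtype_val _ ?_
    rw [show {y : O | FlatMod.IsFlatOverAt f F y.1.1} = φ ⁻¹' {z : PrimeSpectrum (p.asIdeal.Fiber Γ(X, U)) |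
      FlatCA.FlatAt Γ(S, V) (z.asIdeal.comap (Algebra.TensorProduct.includeRight (R := Γ(S, V))
        (A := p.asIdeal.ResidueField) (B := Γ(X, U))).toRingHom) Γ(F, U)} from Set.ext hkey]
    exact (FlatMor67.isOpen_fibre_flatLocus Γ(F, U) p.asIdeal).preimage hφ

open CategoryTheory CategoryTheory.Limits AlgebraicGeometry in
/-- For f : X → S locally of finite type and a finite type quasi-coherent O_X-module F, the non-flat
locus of F in every fibre has dimension less than n if and only if every point where F is not flat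
over S has residue field of transcendence degree less than n over the residue field of its image.
(The non-flat locus of the fibre over s is taken with the subspace topology from X, which is that of
the fibre. The published statement adds that when these conditions hold they continue to hold after
any base change S' → S; this row states only the equivalence.) -/
theorem result {X S : Scheme.{u}} (f : X ⟶ S) [LocallyOfFiniteType f] (F : X.Modules) [Coh.IsQCoh F] (hF : CohB1.IsFT F) (n : ℕ) : (∀ s : S, topologicalKrullDim {x : X // f.base x = s ∧ ¬ FlatMod.IsFlatOverAt f F x} < n) ↔ ∀ x : X, ¬ FlatMod.IsFlatOverAt f F x → ∀ [Algebra (S.residueField (f.base x)) (X.residueField x)], algebraMap (S.residueField (f.base x)) (X.residueField x) = (f.residueFieldMap x).hom → Algebra.trdeg (S.residueField (f.base x)) (X.residueField x) < n := by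
  haveI := hF
  classical
  have htr : ∀ x : X, ∀ [Algebra (S.residueField (f.base x)) (X.residueField x)],
      algebraMap (S.residueField (f.base x)) (X.residueField x) = (f.residueFieldMap x).hom →
      Algebra.trdeg (S.residueField (f.base x)) (X.residueField x) = (E4O.fdeg f x : Cardinal.{u}) := by
    intro x inst hinst
    obtain rfl : inst = (f.residueFieldMap x).hom.toAlgebra :=
      Algebra.algebra_ext _ _ fun r => RingHom.congr_fun hinst r
    exact Cyc90.trdeg_residueField_eq_fdeg f x
  have hmain : ∀ s : S, topologicalKrullDim {x : X // f.base x = s ∧ ¬ FlatMod.IsFlatOverAt f F x} < n ↔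
      ∀ x : X, f.base x = s → ¬ FlatMod.IsFlatOverAt f F x → E4O.fdeg f x < n := by
    intro s
    let e : f.fiber s ≃ₜ {x : X // f.base x = s} := f.fiberHomeo s
    let W : Set (f.fiber s) := {z | ¬ FlatMod.IsFlatOverAt f F (f.fiberι s z)}
    have hW : IsClosed W := (isClosed_nonflat f F hF s).preimage e.continuous
    have hemb := E4O.isEmbedding_fiberι f s
    have himg : f.fiberι s '' W = {x | f.base x = s ∧ ¬ FlatMod.IsFlatOverAt f F x} := by
      ext x
      constructor
      · rintro ⟨z, hz, rfl⟩
        exact ⟨E4O.apply_fiberι f s z, hz⟩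
      · rintro ⟨hs, hx⟩
        obtain ⟨z, rfl⟩ := E4O.exists_fiberι_eq f hs
        exact ⟨z, hx, rfl⟩
    let eW : W ≃ₜ {x : X // f.base x = s ∧ ¬ FlatMod.IsFlatOverAt f F x} :=
      (hemb.homeomorphImage W).trans (Homeomorph.setCongr himg)
    have hdim : topologicalKrullDim {x : X // f.base x = s ∧ ¬ FlatMod.IsFlatOverAt f F x} = topologicalKrullDim W :=
      (IsHomeomorph.topologicalKrullDim_eq eW eW.isHomeomorph).symm
    rw [hdim]
    constructor
    · intro hlt x hx hnf
      obtain ⟨z, rfl⟩ := E4O.exists_fiberι_eq f hx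
      have hsub : closure {z} ⊆ W := closure_minimal (Set.singleton_subset_iff.mpr hnf) hW
      have h1 := (Topology.IsEmbedding.inclusion hsub).isInducing.topologicalKrullDim_le
      rw [E4O.dim_closure_fiber f s z] at h1
      exact_mod_cast lt_of_le_of_lt h1 hlt
    · intro h
      cases n with
      | zero =>
        haveI : IsEmpty W := ⟨fun z => Nat.not_lt_zero _ (h _ (E4O.apply_fiberι f s z.1) z.2)⟩
        haveI : IsEmpty (IrreducibleCloseds W) := ⟨fun Z => isEmptyElim Z.isIrreducible.nonempty.some⟩
        rw [topologicalKrullDim, Order.krullDim_eq_bot]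
        exact WithBot.bot_lt_coe _
      | succ m =>
        refine lt_of_le_of_lt (VarGal.topologicalKrullDim_le_of_forall (fun z => E4O.fdeg f (f.fiberι s z))
          (fun a b hab hba => E4O.fdeg_lt ((E4O.specializes_fiberι_iff f s a b).2 hab)
            (by rw [E4O.apply_fiberι, E4O.apply_fiberι])
            fun h => hba (by rw [hemb.injective h])) hW
          (n := m) fun z hz => Nat.lt_succ_iff.mp (h _ (E4O.apply_fiberι f s z) hz)) ?_
        exact_mod_cast Nat.lt_succ_self m
  constructor
  · intro h x hx inst hinst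
    rw [htr x hinst, Nat.cast_lt]
    exact (hmain _).mp (h _) x rfl hx
  · intro h s
    rw [hmain]
    intro x hs hx
    have := @h x hx (f.residueFieldMap x).hom.toAlgebra rfl
    rw [@htr x (f.residueFieldMap x).hom.toAlgebra rfl, Nat.cast_lt] at this
    exact this

end Groth.Agent.S9009
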