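import Groth.Statements.S9036
import Groth.Agent.Mod48.QcCoprod
import Groth.Agent.CohDer42.CompactBdd
import Groth.Agent.Coh69.Grothendieck
import Groth.Agent.SiteMod.Basics

set_option autoImplicit false
universe u
open CategoryTheory CategoryTheory.Limits Opposite
open ModSite

namespace Groth.Agent.S9036

/-- Let (C, O) be a ringed site in which every object has a covering by quasi-compact objects (an object
U is called quasi-compact here when the sheaf h_U^# is a quasi-compact object of the topos, which is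
equivalent to the site-level definition). Then every compact object of D(O) is a retract in D(O) of
the image of a bounded complex whose terms are finite direct sums of modules of the form j_{U!} O_U
with U quasi-compact. The derived category of O-modules, direct sums in it and finite biproducts of
O-modules (automatic) are instance hypotheses. -/
theorem result
    {C : Type u} [SmallCategory C] {J : GrothendieckTopology C} (O : Sheaf J CommRingCat.{u})
    [HasFiniteBiproducts (ModSite.Mod O)]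
    [HasDerivedCategory.{u} (ModSite.Mod O)] [HasCoproducts.{u} (DerivedCategory (ModSite.Mod O))]
    (hC : ∀ V : C, ∃ R ∈ J V, ∀ ⦃W : C⦄ (g : W ⟶ V), R g →
      ∃ (U : C) (a : W ⟶ U) (b : U ⟶ V), CohCx.IsQcObject ((presheafToSheaf J (Type u)).obj (yoneda.obj U)) ∧ a ≫ b = g)
    (K : DerivedCategory (ModSite.Mod O)) (hK : CohDer.IsCompactObject K) :
    ∃ (L : CochainComplex (ModSite.Mod O) ℤ) (a b : ℤ),
      (∀ i : ℤ, i < a ∨ b < i → IsZero (L.X i)) ∧
      (∀ i : ℤ, ∃ (n : ℕ) (U : Fin n → C),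
        (∀ j, CohCx.IsQcObject ((presheafToSheaf J (Type u)).obj (yoneda.obj (U j)))) ∧
        Nonempty (L.X i ≅ ⨁ fun j => ModSite.freeOn O (U j))) ∧
      Nonempty (Retract K (DerivedCategory.Q.obj L)) := by
  classical
  have := Coh69.sheafOfModules_isGrothendieckAbelian (ModSite.ringSh O)
  let G : Set C := {U | CohCx.IsQcObject ((presheafToSheaf J (Type u)).obj (yoneda.obj U))}
  have hG : ∀ X : C, ∃ (ι : Type u) (Y : ι → C) (f : ∀ i, Y i ⟶ X), Sieve.ofArrows Y f ∈ J X ∧ ∀ i, Y i ∈ G := by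
    intro X
    obtain ⟨R, hR, h⟩ := hC X
    refine ⟨Σ U : G, ((U : C) ⟶ X), fun i => (i.1 : C), fun i => i.2, J.superset_covering ?_ hR, fun i => i.1.2⟩
    intro W g hg
    obtain ⟨U, a, b, hU, rfl⟩ := h g hg
    exact Sieve.downward_closed _ (Sieve.ofArrows_mk _ _ (⟨⟨U, hU⟩, b⟩ : Σ U : G, ((U : C) ⟶ X))) _
  have hsep := (SiteMod.generating (O := O) G hG).2
  let S : Set (ModSite.Mod O) := Set.range fun X : G => ModSite.freeOn O (X : C)
  have h1 : ∀ X : ModSite.Mod O, ∃ (ι : Type u) (E : ι → ModSite.Mod O) (π : ∐ E ⟶ X), (∀ i, E i ∈ S) ∧ Epi π := by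
    intro X
    refine ⟨Σ U : G, (ModSite.freeOn O (U : C) ⟶ X), fun i => ModSite.freeOn O (i.1 : C),
      Sigma.desc fun i => i.2, fun i => ⟨i.1, rfl⟩, ⟨fun {Z} p q h => hsep p q ?_⟩⟩
    rintro _ ⟨U⟩ a
    have h2 := Sigma.ι (fun i : Σ U : G, (ModSite.freeOn O (U : C) ⟶ X) => ModSite.freeOn O (i.1 : C)) ⟨U, a⟩ ≫= h
    simpa using h2
  have h2 : ∀ E ∈ S, ∀ ι : Type u, PreservesColimitsOfShape (Discrete ι) (preadditiveCoyoneda.obj (op E)) := by
    rintro _ ⟨U, rfl⟩ ι
    exact Mod48.preservesCoproducts_freeOn U.2 ι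
  obtain ⟨L, a, b, hz, hfin, hr⟩ := CohDer42.CompactBdd.exists_retract S h1 h2 hK
  refine ⟨L, a, b, hz, fun i => ?_, hr⟩
  obtain ⟨n, E, hE, ⟨e⟩⟩ := hfin i
  choose U hU using hE
  exact ⟨n, fun j => (U j : C), fun j => (U j).2, ⟨e ≪≫ biproduct.mapIso fun j => eqToIso (hU j).symm⟩⟩

end Groth.Agent.S9036
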