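import Groth.Statements.S9037
import Groth.Agent.Mod48.QcCoprod
import Groth.Agent.Mod48.CompactProjective
import Groth.Agent.Coh69.Grothendieck

set_option autoImplicit false
universe u
open CategoryTheory CategoryTheory.Limits Opposite
open ModSite

namespace Groth.Agent.S9037

/-- On a ringed site (C, O), if U is a quasi-compact object (h_U^# is a quasi-compact object of the
topos, which is equivalent to the site-level notion) which is weakly contractible, then j_{U!} O_U,
placed in degree zero, is a compact object of the derived category D(O). The derived category of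
O-modules and direct sums in it are instance hypotheses. -/
theorem result
    {C : Type u} [SmallCategory C] {J : GrothendieckTopology C} (O : Sheaf J CommRingCat.{u})
    [HasDerivedCategory.{u} (ModSite.Mod O)] [HasCoproducts.{u} (DerivedCategory (ModSite.Mod O))]
    (U : C) (hqc : CohCx.IsQcObject ((presheafToSheaf J (Type u)).obj (yoneda.obj U)))
    (hwc : CohSite.IsWeaklyContractible J U) :
    CohDer.IsCompactObject ((DerivedCategory.singleFunctor (ModSite.Mod O) 0).obj (ModSite.freeOn O U)) := by
  have := Coh69.sheafOfModules_isGrothendieckAbelian (ModSite.ringSh O)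
  have : Projective (ModSite.freeOn O U) := ⟨fun {M N} φ p _ => by
    have := Mod48.toSheaf_preservesColimits (O := O)
    have : PreservesFiniteColimits (SheafOfModules.toSheaf.{u} (ModSite.ringSh O)) :=
      PreservesColimitsOfSize.preservesFiniteColimits _
    let q := (SheafOfModules.toSheaf (ModSite.ringSh O)).map p
    have hq : Sheaf.IsLocallySurjective q := (Sheaf.isLocallySurjective_iff_epi' AddCommGrpCat.{u} q).2 inferInstance
    have : Sheaf.IsLocallySurjective ((sheafCompose J (forget AddCommGrpCat.{u})).map q) :=
      (Presheaf.isLocallySurjective_iff_whisker_forget J q.hom).1 hq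
    obtain ⟨s, hs⟩ := hwc _ _ ((sheafCompose J (forget AddCommGrpCat.{u})).map q) inferInstance
      (Mod48.freeOnEquiv U N φ)
    refine ⟨(Mod48.freeOnEquiv U M).symm s, (Mod48.freeOnEquiv U N).injective ?_⟩
    rw [Mod48.freeOnEquiv_comp, Equiv.apply_symm_apply]
    exact hs⟩
  exact Mod48.isCompactObject_single_of_projective (ModSite.freeOn O U)
    (fun κ => Mod48.preservesCoproducts_freeOn hqc κ)

end Groth.Agent.S9037
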