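import Groth.Statements.S9038

set_option autoImplicit false
universe u
open Topology
open CohTop

namespace Groth.Agent.S9038

/-- In the category of Hausdorff locally quasi-compact spaces, call a family of continuous maps f_i :
X_i → X a qc covering when every point of X has a neighbourhood of the form ⋃_{i ∈ t} f_i(E_i) with
t a finite set of indices and E_i ⊆ X_i quasi-compact. If (f_i : X_i → X) is a qc covering and for
each i the family (g_{ij} : X_{ij} → X_i)_j is a qc covering, then the family of composites X_{ij} →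
X, indexed by the pairs (i, j), is a qc covering. -/
theorem result
    {B : Type u} [TopologicalSpace B] [T2Space B] [LocallyCompactSpace B]
    {ι : Type u} {X : ι → Type u} [∀ i, TopologicalSpace (X i)] [∀ i, T2Space (X i)]
    [∀ i, LocallyCompactSpace (X i)]
    (f : ∀ i, X i → B) (hf : ∀ i, Continuous (f i))
    (hcov : ∀ x : B, ∃ (t : Finset ι) (E : ∀ i, Set (X i)),
      (∀ i ∈ t, IsCompact (E i)) ∧ (⋃ i ∈ t, f i '' E i) ∈ 𝓝 x)
    {κ : ι → Type u} {Y : ∀ i, κ i → Type u} [∀ i j, TopologicalSpace (Y i j)] [∀ i j, T2Space (Y i j)]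
    [∀ i j, LocallyCompactSpace (Y i j)]
    (g : ∀ i j, Y i j → X i) (hg : ∀ i j, Continuous (g i j))
    (hcov' : ∀ (i : ι) (x : X i), ∃ (t : Finset (κ i)) (E : ∀ j, Set (Y i j)),
      (∀ j ∈ t, IsCompact (E j)) ∧ (⋃ j ∈ t, g i j '' E j) ∈ 𝓝 x) :
    ∀ x : B, ∃ (t : Finset (Σ i, κ i)) (E : ∀ p : (Σ i, κ i), Set (Y p.1 p.2)),
      (∀ p ∈ t, IsCompact (E p)) ∧ (⋃ p ∈ t, f p.1 '' (g p.1 p.2 '' E p)) ∈ 𝓝 x := by
  classical
  intro x
  obtain ⟨t, E, hE, hx⟩ := hcov x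
  choose s D hD hnhds using hcov'
  have hfin : ∀ i ∈ t, ∃ P : Finset (X i), E i ⊆ ⋃ z ∈ P, interior (⋃ j ∈ s i z, g i j '' D i z j) := by
    intro i hi
    refine (hE i hi).elim_finite_subcover (fun z => interior (⋃ j ∈ s i z, g i j '' D i z j)) (fun z => isOpen_interior) ?_
    exact fun z _ => Set.mem_iUnion.2 ⟨z, mem_interior_iff_mem_nhds.2 (hnhds i z)⟩
  choose P hP using hfin
  let Q : ∀ i, Finset (X i) := fun i => if hi : i ∈ t then P i hi else ∅
  refine ⟨t.sigma fun i => (Q i).biUnion (s i), fun p => ⋃ z ∈ (Q p.1).filter (fun z => p.2 ∈ s p.1 z), D p.1 z p.2, ?_, ?_⟩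
  · intro p hp
    refine Finset.isCompact_biUnion _ fun z hz => ?_
    exact hD p.1 z p.2 (Finset.mem_filter.1 hz).2
  · refine Filter.mem_of_superset hx ?_
    intro b hb
    simp only [Set.mem_iUnion, Set.mem_image] at hb
    obtain ⟨i, hi, e, he, rfl⟩ := hb
    obtain ⟨z, hz, hez⟩ := Set.mem_iUnion₂.1 (hP i hi he)
    obtain ⟨j, hj, w, hw, rfl⟩ := Set.mem_iUnion₂.1 (interior_subset hez)
    have hQ : z ∈ Q i := by simpa [Q, hi] using hz
    refine Set.mem_iUnion₂.2 ⟨⟨i, j⟩, Finset.mem_sigma.2 ⟨hi, Finset.mem_biUnion.2 ⟨z, hQ, hj⟩⟩, ?_⟩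
    exact ⟨g i j w, ⟨w, Set.mem_iUnion₂.2 ⟨z, Finset.mem_filter.2 ⟨hQ, hj⟩, hw⟩, rfl⟩, rfl⟩

end Groth.Agent.S9038
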