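import Groth.Statements.S9040

set_option autoImplicit false
universe u
open Topology
open CohTop

namespace Groth.Agent.S9040

/-- Let X be a Hausdorff locally quasi-compact space, Y a Hausdorff space and f : X → Y a proper
surjective continuous map. Then {f : X → Y} is a qc covering: every point of Y has a neighbourhood
f(E) with E ⊆ X quasi-compact. (The published statement also assumes Y locally quasi-compact, in
which case the claim is immediate from properness; the published proof does not use that assumption,
and the row is stated without it, so that it shows in particular that Y is locally quasi-compact.) -/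
theorem result
    {X Y : Type u} [TopologicalSpace X] [T2Space X] [LocallyCompactSpace X] [TopologicalSpace Y] [T2Space Y]
    (f : X → Y) (hf : IsProperMap f) (hsurj : Function.Surjective f) (y : Y) :
    ∃ E : Set X, IsCompact E ∧ f '' E ∈ 𝓝 y := by
  choose K hK hKnhds using fun x : X => exists_compact_mem_nhds x
  obtain ⟨t, -, ht⟩ := (hf.isCompact_preimage (isCompact_singleton (x := y))).elim_nhds_subcover K (fun x _ => hKnhds x)
  classical
  obtain ⟨s, -, hs⟩ := (hf.isCompact_preimage (isCompact_singleton (x := y))).elim_nhds_subcover (fun x => interior (K x)) (fun x _ => interior_mem_nhds.2 (hKnhds x))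
  refine ⟨⋃ x ∈ s, K x, s.isCompact_biUnion fun x _ => hK x, ?_⟩
  have hclosed : IsClosed (f '' (⋃ x ∈ s, interior (K x))ᶜ) :=
    hf.isClosedMap _ (isOpen_biUnion fun x _ => isOpen_interior).isClosed_compl
  refine Filter.mem_of_superset (hclosed.isOpen_compl.mem_nhds ?_) fun z hz => ?_
  · rintro ⟨x, hx, hxy⟩
    exact hx (hs (by simp [hxy]))
  · obtain ⟨x, rfl⟩ := hsurj z
    have : x ∈ ⋃ i ∈ s, interior (K i) := by_contra fun h => hz ⟨x, h, rfl⟩
    obtain ⟨i, hi, hxi⟩ := Set.mem_iUnion₂.1 this
    exact ⟨x, Set.mem_iUnion₂.2 ⟨i, hi, interior_subset hxi⟩, rfl⟩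

end Groth.Agent.S9040
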