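import Groth.Statements.S9071
import Groth.Agent.Mod48.ModEps

set_option autoImplicit false
universe u
open CategoryTheory CategoryTheory.Limits Opposite
attribute [local instance] HasDerivedCategory.standard
open SiteCmp

namespace Groth.Agent.S9071

/-- Let τ' be a coarser topology than τ on a category C, O a τ-sheaf of rings and ε the comparison
morphism from (C_τ, O) to (C_τ', O). Let B be a set of objects and A a full subcategory of
presheaves of O-modules such that (1) every object of A is a τ-sheaf, (2) A forms a weak Serre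
subcategory inside Mod(O_τ), (3) each object of C admits a τ'-covering by members of B, and (4)
H^p_τ(U, F) = 0 for U ∈ B, F ∈ A, p > 0. Then the essential image of A under ε_* forms a weak Serre
subcategory inside Mod(O_τ') and ε^*, Rε_* are quasi-inverse equivalences between D_A(O_τ') and
D_A(O_τ): on objects with cohomology sheaves in the respective subcategory, ε^* and Rε_* preserve
that condition and the unit and counit are isomorphisms. In the order of topologies used here the
finer topology τ is the larger one, J, and τ' is J' ≤ J; A is given as a property of τ-sheaves of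
modules (condition (1) built in); flatness of ε, existence of the unbounded Rε_* and an adjunction
ε^* ⊣ Rε_* are hypotheses. -/
theorem result
    {C : Type u} [SmallCategory C] {J J' : GrothendieckTopology C} (h : J' ≤ J) (O : Sheaf J CommRingCat.{u})
    [PreservesFiniteLimits (SiteCmp.eps h O).pull] [SiteCmp.HasRpushD (SiteCmp.eps h O)]
    (adj : SiteCmp.pullD (SiteCmp.eps h O) ⊣ SiteCmp.RpushD (SiteCmp.eps h O))
    (A : ObjectProperty (ModSite.Mod O)) [WSerre.IsWeakSerre A] (B : Set C)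
    (h3 : ∀ U : C, ∃ (ι : Type u) (Y : ι → C) (g : ∀ i, Y i ⟶ U), Sieve.ofArrows Y g ∈ J' U ∧ ∀ i, Y i ∈ B)
    (h4 : ∀ U ∈ B, ∀ F : ModSite.Mod O, A F → ∀ p : ℕ, 0 < p → Subsingleton (ModSite.HU O F p U)) :
    WSerre.IsWeakSerre (A.map (SiteCmp.eps h O).push) ∧
    (∀ Y : DerivedCategory (ModSite.Mod (SiteCmp.epsRing h O)), WSerre.cohIn (A.map (SiteCmp.eps h O).push) Y →
      WSerre.cohIn A ((SiteCmp.pullD (SiteCmp.eps h O)).obj Y) ∧ IsIso (adj.unit.app Y)) ∧
    (∀ X : DerivedCategory (ModSite.Mod O), WSerre.cohIn A X →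
      WSerre.cohIn (A.map (SiteCmp.eps h O).push) ((SiteCmp.RpushD (SiteCmp.eps h O)).obj X) ∧
      IsIso (adj.counit.app X)) := by
  have hW := Groth.Agent.Mod48.isWeakSerre_map_eps h O A B h3 h4
  refine ⟨hW, ?_⟩
  have h2c : ∀ F : ModSite.Mod O, A F → ∃ F' : ModSite.Mod (SiteCmp.epsRing h O),
      (A.map (SiteCmp.eps h O).push) F' ∧ Nonempty ((SiteCmp.eps h O).pull.obj F' ≅ F) :=
    fun F hF => ⟨(SiteCmp.eps h O).push.obj F, A.prop_map_obj _ hF, ⟨asIso ((SiteCmp.eps h O).adj.counit.app F)⟩⟩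
  have hJ : ∀ U : C, ∃ (ι : Type u) (Y : ι → C) (g : ∀ i, Y i ⟶ U), Sieve.ofArrows Y g ∈ J U ∧ ∀ i, Y i ∈ B := by
    intro U
    obtain ⟨ι, Y, g, hcov, hmem⟩ := h3 U
    exact ⟨ι, Y, g, h _ hcov, hmem⟩
  refine Groth.Agent.Mod48.mod_equivalence_cohIn (SiteCmp.eps h O) adj A (A.map (SiteCmp.eps h O).push) h2c
    (Groth.Agent.Mod48.isIso_eps_unit h O A B h3 h4 adj) (Groth.Agent.Mod48.eps_pull_push_prop h O A) B B hJ
    (fun V _ => ⟨0, fun T hT => ?_⟩) h3 (fun V _ => ⟨0, fun T hT => ?_⟩)
  · obtain ⟨ι, Y, g, h₁, h₂, hY⟩ := Groth.Agent.Mod48.exists_refinement B hJ T hT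
    exact ⟨ι, Y, g, h₁, h₂, fun i F hF k hk => h4 _ (hY i) F hF k hk⟩
  · obtain ⟨ι, Y, g, h₁, h₂, hY⟩ := Groth.Agent.Mod48.exists_refinement B h3 T hT
    exact ⟨ι, Y, g, h₁, h₂, fun i F hF k hk => h4 _ (hY i) F hF k hk⟩

end Groth.Agent.S9071
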