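import Groth.Statements.S9074
import Groth.Agent.Mod48.CmpMain

set_option autoImplicit false
universe u
open CategoryTheory CategoryTheory.Limits Opposite
open SiteCmp
attribute [local instance] HasDerivedCategory.standard

namespace Groth.Agent.S9074

/-- Setting (two topologies τ' coarser than τ on a category C, rendered as J' ≤ J with J the finer one;
for each object X the comparison morphism ε_X between the localised sites C_τ/X and C_τ'/X, whose
direct image ε_{X,*} regards a τ-sheaf as a τ'-sheaf): P is a class of arrows of C and for every X a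
weak Serre subcategory A'_X of the abelian τ'-sheaves on C/X is given, such that (1) arrows of P
admit all base changes and these stay in P; (2) restriction along any f : X → Y sends A'_Y into
A'_X; (3) members of A'_X satisfy the sheaf condition for τ; (4) for f : X → Y in P the higher
direct images R^i f_{τ',*} (right derived functors of the relocalisation pushforward on τ'-sheaves)
send A'_X into A'_Y for all i ≥ 0; (5) every τ-covering of any U is refined by a family obtained
from a τ'-covering {V_j → U}, single arrows W_j → V_j in P that are τ-coverings, and τ'-coverings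
{W_jk → W_j}. Write A_X for the abelian τ-sheaves F on C/X with ε_{X,*}F in A'_X. Then for every X
the subcategory A_X of the abelian τ-sheaves on C/X is a weak Serre subcategory. (The published
lemma also asserts that Rε_{X,*} is an equivalence from the bounded below derived category with
cohomology in A_X to that with cohomology in A'_X, with quasi-inverse ε_X^{-1}; that part is not
stated here.) -/
theorem result
    {C : Type u} [SmallCategory C] {J J' : GrothendieckTopology C} (h : J' ≤ J)
    (P : MorphismProperty C)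
    (A' : ∀ X : C, ObjectProperty (Sheaf (J'.over X) AddCommGrpCat.{u})) [∀ X : C, WSerre.IsWeakSerre (A' X)]
    (h1 : ∀ ⦃X Y : C⦄ (f : X ⟶ Y), P f → ∀ ⦃Y' : C⦄ (g : Y' ⟶ Y),
      ∃ (W : C) (p : W ⟶ Y') (q : W ⟶ X), IsPullback p q g f ∧ P p)
    (h2 : ∀ ⦃X Y : C⦄ (f : X ⟶ Y) (F' : Sheaf (J'.over Y) AddCommGrpCat.{u}), A' Y F' →
      A' X ((CohSite.push (J'.over Y) (J'.over X) (Over.map f)).obj F'))
    (h3 : ∀ (X : C) (F' : Sheaf (J'.over X) AddCommGrpCat.{u}), A' X F' → Presheaf.IsSheaf (J.over X) F'.obj)
    (h4 : ∀ ⦃X Y : C⦄ (f : X ⟶ Y)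
      [((Over.map f).sheafPushforwardCocontinuous AddCommGrpCat.{u} (J'.over X) (J'.over Y)).Additive],
      P f → ∀ (F' : Sheaf (J'.over X) AddCommGrpCat.{u}), A' X F' → ∀ i : ℕ,
        A' Y ((((Over.map f).sheafPushforwardCocontinuous AddCommGrpCat.{u} (J'.over X) (J'.over Y)).rightDerived i).obj F'))
    (h5 : ∀ (U : C) (S : Sieve U), S ∈ J U → ∃ (ι : Type u) (V : ι → C) (v : ∀ j, V j ⟶ U),
      Sieve.ofArrows V v ∈ J' U ∧ ∀ j, ∃ (W : C) (w : W ⟶ V j), P w ∧
        Sieve.ofArrows (fun _ : PUnit.{u + 1} => W) (fun _ => w) ∈ J (V j) ∧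
        ∃ (κ : Type u) (Wk : κ → C) (wk : ∀ k, Wk k ⟶ W), Sieve.ofArrows Wk wk ∈ J' W ∧
          ∀ k, S.arrows (wk k ≫ w ≫ v j))
    (X : C) :
    WSerre.IsWeakSerre ((A' X).inverseImage (SiteCmp.epsSh (SiteCmp.over_le h X) AddCommGrpCat.{u})) := by
  let H : Groth.Agent.Mod48.CmpHyp h P A' := ⟨h1, h2, h3, h4, h5⟩
  let hX := SiteCmp.over_le h X
  have hpl : PreservesFiniteLimits (Groth.Agent.Mod48.epsAb hX) :=
    ⟨fun _ _ _ => ((Groth.Agent.Mod48.epsAbAdj hX).rightAdjoint_preservesLimits :
      PreservesLimitsOfSize.{0, 0} (Groth.Agent.Mod48.epsAb hX)).preservesLimitsOfShape⟩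
  exact
    { exists_zero := ⟨_, isZero_zero _, by
        obtain ⟨Z, hZ, hP⟩ := (A' X).exists_prop_of_containsZero
        exact (A' X).prop_of_iso (hZ.iso ((Groth.Agent.Mod48.epsAb hX).map_isZero (isZero_zero _))) hP⟩
      kernels_le := by
        rintro _ ⟨f, k, hk, hf⟩
        exact (A' X).prop_of_isLimit_kernelFork (KernelFork.mapIsLimit k hk (Groth.Agent.Mod48.epsAb hX)) hf.1 hf.2
      cokernels_le := by
        rintro _ ⟨f, k, hk, hf⟩
        exact (H.cokernel_mem f (Cofork.π k) (CokernelCofork.condition k)
          (IsColimit.ofIsoColimit hk (Cofork.ext (Iso.refl _))) hf.1 hf.2).1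
      prop_X₂_of_shortExact := fun {S} hS h₁ h₃ => by
        let := (Groth.Agent.Mod48.rdAdj (Groth.Agent.Mod48.epsAbAdj hX)).rightAdjointCommShift ℤ
        have := (Groth.Agent.Mod48.rdAdj (Groth.Agent.Mod48.epsAbAdj hX)).commShift_of_leftAdjoint ℤ
        have := (Groth.Agent.Mod48.rdAdj (Groth.Agent.Mod48.epsAbAdj hX)).isTriangulated_rightAdjoint
        have hT := (Groth.Agent.Mod48.epsD hX).map_distinguished _ hS.singleTriangle_distinguished
        obtain ⟨a⟩ := Groth.Agent.Mod48.nonempty_homology_rd_single_iso (R := Groth.Agent.Mod48.epsAb hX) S.X₁ 1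
        have hz := (H.vn 1 X S.X₁ h₁ 1 le_rfl le_rfl).of_iso a
        have he : Epi ((DerivedCategory.homologyFunctor _ 0).map
            ((Groth.Agent.Mod48.epsD hX).map ((DerivedCategory.singleFunctor _ 0).map S.g))) :=
          (DerivedCategory.HomologySequence.epi_homologyMap_mor₂_iff _ hT 0 1 rfl).2 (hz.eq_of_tgt _ _)
        have hi := Groth.Agent.Mod48.isIso_eta_of_isGE (Groth.Agent.Mod48.epsAbAdj hX) 0
          ((DerivedCategory.singleFunctor _ 0).obj S.X₃) inferInstance
        have hn := Groth.Agent.Mod48.eta_naturality (Groth.Agent.Mod48.epsAbAdj hX) 0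
          ((DerivedCategory.singleFunctor _ 0).map S.g)
        have h2 : Epi ((Groth.Agent.Mod48.epsAb hX).map ((DerivedCategory.homologyFunctor _ 0).map
            ((DerivedCategory.singleFunctor _ 0).map S.g))) := epi_of_epi_fac hn.symm
        have hg : Epi ((Groth.Agent.Mod48.epsAb hX).map S.g) := by
          have hnat := (DerivedCategory.singleFunctorCompHomologyFunctorIso _ 0).hom.naturality S.g
          simp only [Functor.comp_map, Functor.id_map] at hnat
          have h3 := congrArg (Groth.Agent.Mod48.epsAb hX).map hnat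
          rw [Functor.map_comp, Functor.map_comp] at h3
          exact epi_of_epi_fac h3.symm
        have := hS.mono_f
        refine (A' X).prop_X₂_of_shortExact (S := S.map (Groth.Agent.Mod48.epsAb hX))
          (ShortComplex.ShortExact.mk' (hS.exact.map_of_mono_of_preservesKernel _ hS.mono_f inferInstance)
            (inferInstanceAs (Mono ((Groth.Agent.Mod48.epsAb hX).map S.f))) hg) h₁ h₃ }

end Groth.Agent.S9074
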