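import Groth.Statements.S9087
import Groth.Agent.SiteMod.ExtZero

set_option autoImplicit false
universe u
open CategoryTheory
open ModSite

namespace Groth.Agent.S9087

/-- The reflection direction: on a small ringed site (C, O) with O commutative, localised at an object U
of C: if a complex G₁ → G₂ → G₃ of O_U-modules becomes exact in the middle after applying the
extension by zero functor j_{U!} (as a complex of O-modules), then it is exact in the middle. In
words, j_{U!} reflects exactness; that j_{U!} is exact is a separate statement and is not part of
this one. -/
theorem result {C : Type u} [SmallCategory C] {J : GrothendieckTopology C}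
    (O : Sheaf J CommRingCat.{u}) (U : C) (S : ShortComplex (ModSite.Mod (O.over U)))
    (h : (S.map (ModSite.extZero O U)).Exact) : S.Exact := by
  have H := (Groth.Agent.SGA45.ExtByZero.main J U (ModSite.ringSh O)).2 (ModSite.extZero O U)
    (ModSite.extZeroAdj O U)
  have : CategoryTheory.Limits.PreservesFiniteLimits (ModSite.extZero O U) := H.1
  have : CategoryTheory.Limits.PreservesFiniteColimits (ModSite.extZero O U) := H.2.1
  have : (ModSite.extZero O U).Faithful := H.2.2
  have : (ModSite.extZero O U).PreservesHomology := Functor.preservesHomologyOfExact _
  exact (S.exact_map_iff_of_faithful (ModSite.extZero O U)).1 h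

end Groth.Agent.S9087
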