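import Groth.Statements.S9097
import Groth.Agent.Fib44.ConstSections
import Mathlib.Algebra.Homology.ShortComplex.Ab

set_option autoImplicit false
universe u
open CategoryTheory Opposite
open CohSite

namespace Groth.Agent.S9097

/-- If 0 → A → B → C → 0 is short exact in the category of abelian groups then, for every object U, the
sequence 0 → A̲(U) → B̲(U) → C̲(U) → 0 of sections of the constant abelian sheaves is short exact;
in other words the sequence of constant sheaves is exact even as a sequence of abelian presheaves.
The instance binder on the sections-of-constant-sheaf functor (it preserves zero morphisms) always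
holds and is only needed to form the complex. -/
theorem result {C : Type u} [SmallCategory C] (J : GrothendieckTopology C)
    (S : ShortComplex AddCommGrpCat.{u}) (hS : S.ShortExact) (U : C)
    [(constantSheaf J AddCommGrpCat.{u} ⋙ (sheafSections J AddCommGrpCat.{u}).obj (op U)).PreservesZeroMorphisms] :
    (S.map (constantSheaf J AddCommGrpCat.{u} ⋙ (sheafSections J AddCommGrpCat.{u}).obj (op U))).ShortExact := by
  have h := Groth.Agent.Fib44.Const.map_shortExact J hS
  have := hS.epi_g
  have := h.mono_f
  exact
    { exact := h.exact.map_of_mono_of_preservesKernel
        (sheafToPresheaf J AddCommGrpCat.{u} ⋙ (evaluation Cᵒᵖ AddCommGrpCat.{u}).obj (Opposite.op U))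
        h.mono_f inferInstance
      mono_f := (inferInstance : Mono ((sheafToPresheaf J AddCommGrpCat.{u} ⋙
        (evaluation Cᵒᵖ AddCommGrpCat.{u}).obj (Opposite.op U)).map
        (S.map (constantSheaf J AddCommGrpCat.{u})).f))
      epi_g := (AddCommGrpCat.epi_iff_surjective _).2 (Groth.Agent.Fib44.Const.app_surjective J S.g
        ((AddCommGrpCat.epi_iff_surjective _).1 inferInstance) (Opposite.op U)) }

end Groth.Agent.S9097
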