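import Groth.Statements.S9109
import Mathlib.Algebra.Homology.ShortComplex.ExactFunctor
import Mathlib.CategoryTheory.Limits.Shapes.ConcreteCategory
import Mathlib.CategoryTheory.Sites.EpiMono

set_option autoImplicit false
universe u
open CategoryTheory CategoryTheory.Limits
open CohSite

namespace Groth.Agent.S9109

/-- Part (1): on a small site (C, J) with a point p: the skyscraper functor p_* from abelian groups to
abelian sheaves on C (right adjoint to the stalk functor at p; its value on A is the sheaf U ↦ ∏_{x
∈ p⁻¹U} A) is exact. As a right adjoint it preserves limits; the statement here is that it also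
preserves finite colimits. -/
theorem result {C : Type u} [SmallCategory C] {J : GrothendieckTopology C}
    (p : GrothendieckTopology.Point.{u} J) :
    PreservesFiniteColimits (p.skyscraperSheafFunctor (A := AddCommGrpCat.{u})) := by
  have : (p.skyscraperSheafFunctor (A := AddCommGrpCat.{u})).Additive :=
    have : PreservesBinaryBiproducts (p.skyscraperSheafFunctor (A := AddCommGrpCat.{u})) :=
      preservesBinaryBiproducts_of_preservesBinaryProducts _
    Functor.additive_of_preservesBinaryBiproducts _
  rw [Functor.preservesFiniteColimits_iff_forall_exact_map_and_epi]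
  intro S hS
  have := hS.mono_f
  refine ⟨hS.exact.map_of_mono_of_preservesKernel _ hS.mono_f inferInstance, ?_⟩
  have : Sheaf.IsLocallySurjective (p.skyscraperSheafFunctor.map S.g) := by
    refine Presheaf.isLocallySurjective_of_surjective J _ fun V => ?_
    intro y
    have hg : Function.Surjective S.g := (AddCommGrpCat.epi_iff_surjective _).1 hS.epi_g
    choose x hx using fun i => hg (Pi.π (fun _ : p.fiber.obj V.unop => S.X₃) i y)
    refine ⟨(Concrete.productEquiv (fun _ : p.fiber.obj V.unop => S.X₂)).symm x, ?_⟩
    apply (Concrete.productEquiv (fun _ : p.fiber.obj V.unop => S.X₃)).injective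
    funext i
    refine (Concrete.productEquiv_apply_apply (fun _ : p.fiber.obj V.unop => S.X₃) _ i).trans
      (Eq.trans ?_ (Concrete.productEquiv_apply_apply (fun _ : p.fiber.obj V.unop => S.X₃) y i).symm)
    change (Limits.Pi.map (fun _ : p.fiber.obj V.unop => S.g) ≫ Pi.π _ i) _ = _
    rw [Limits.Pi.map_π, ConcreteCategory.comp_apply, ← hx i]
    exact congrArg S.g (Concrete.productEquiv_symm_apply_π _ x i)
  infer_instance

end Groth.Agent.S9109
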