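import Groth.Statements.S9112
import Groth.Agent.Mod48.Exact
import Mathlib.CategoryTheory.Sites.Point.Skyscraper

set_option autoImplicit false
universe u
open CategoryTheory
open ModSite

namespace Groth.Agent.S9112

/-- Part (1): on a small ringed site (C, O) with O commutative, for a point p of the site: the stalk
functor F ↦ F_p from O-modules to O_p-modules is exact. Stated on a short exact sequence 0 → F₁ → F₂
→ F₃ → 0 of O-modules: the induced O_p-linear map F₁,p → F₂,p is injective, F₂,p → F₃,p is
surjective, and the range of the first is the kernel of the second. -/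
theorem result {C : Type u} [SmallCategory C] {J : GrothendieckTopology C}
    (O : Sheaf J CommRingCat.{u}) (S : ShortComplex (ModSite.Mod O)) (hS : S.ShortExact)
    (p : GrothendieckTopology.Point.{u} J) :
    Function.Injective (ModSite.stalkMap p S.f).hom ∧ Function.Surjective (ModSite.stalkMap p S.g).hom ∧
      LinearMap.range (ModSite.stalkMap p S.f).hom = LinearMap.ker (ModSite.stalkMap p S.g).hom := by
  have : Limits.PreservesFiniteColimits (SheafOfModules.toSheaf.{u} (ModSite.ringSh O)) :=
    (Groth.Agent.Mod48.toSheaf_preservesColimits (O := O)).preservesFiniteColimits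
  let Φ := p.sheafFiber (A := AddCommGrpCat.{u})
  have h1 : (S.map (SheafOfModules.toSheaf (ModSite.ringSh O))).ShortExact := hS.map_of_exact _
  have : Limits.PreservesFiniteColimits Φ := inferInstance
  have : Limits.PreservesFiniteLimits Φ := inferInstance
  have : Φ.Additive := Functor.additive_of_preserves_binary_products _
  have h2 := h1.map_of_exact Φ
  refine ⟨(AddCommGrpCat.mono_iff_injective _).1 h2.mono_f, (AddCommGrpCat.epi_iff_surjective _).1 h2.epi_g, ?_⟩
  have h3 := ShortComplex.ab_exact_iff_ker_le_range.1 h2.exact
  ext x
  constructor
  · rintro ⟨y, rfl⟩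
    exact ConcreteCategory.congr_hom ((S.map (SheafOfModules.toSheaf (ModSite.ringSh O))).map Φ).zero y
  · intro hx
    exact h3 hx

end Groth.Agent.S9112
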