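import Groth.Statements.S9129
import Groth.Agent.CAlg4.CMFlat

set_option autoImplicit false
universe u
open CAlg

namespace Groth.Agent.S9129

/-- Suppose R → S is a flat local homomorphism between Noetherian local rings, with R Cohen–Macaulay.
Assume either that S is finite over R or that the Krull dimension of S is at most that of R. Then
the two rings have equal dimension and S is itself Cohen–Macaulay. -/
theorem result (R S : Type u) [CommRing R] [CommRing S]
    [LocCoh.IsCohenMacaulayLocalRing R] [IsNoetherianRing S] [IsLocalRing S] [Algebra R S]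
    [IsLocalHom (algebraMap R S)] [Module.Flat R S]
    (h : Module.Finite R S ∨ ringKrullDim S ≤ ringKrullDim R) :
    LocCoh.IsCohenMacaulayLocalRing S ∧ ringKrullDim R = ringKrullDim S := by
  have h0 := Groth.Agent.CAlg4.CMFlat.dim_fibre_eq_zero (A := R) (B := S) h
  refine ⟨(Groth.Agent.CAlg4.CMFlat.cm_iff (A := R) (B := S) h0).1 inferInstance, ?_⟩
  rw [Groth.Agent.CAlg4.CMFlat.dim_eq_add (A := R) (B := S), h0, add_zero]

end Groth.Agent.S9129
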