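import Groth.Statements.S9130
import Groth.Agent.E4O.DimFormula

set_option autoImplicit false
universe u
open CAlg

namespace Groth.Agent.S9130

/-- Let A ⊆ B be domains with B of finite type over A and A Noetherian, and assume every element of B is
algebraic over A. For a height-one prime p of A, only finitely many primes of B lie over p and each
of them has height one. (The published statement assumes that Frac(B) is finite over Frac(A); this
row assumes B algebraic over A, which is equivalent for a finite type extension of domains.) -/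
theorem result (A B : Type u) [CommRing A] [IsDomain A]
    [IsNoetherianRing A] [CommRing B] [IsDomain B] [Algebra A B] [FaithfulSMul A B]
    [Algebra.FiniteType A B] [Algebra.IsAlgebraic A B] (p : Ideal A) [p.IsPrime]
    (hp : p.height = 1) :
    (p.primesOver B).Finite ∧ ∀ q ∈ p.primesOver B, q.height = 1 := by
  have : IsNoetherianRing B := Algebra.FiniteType.isNoetherianRing A B
  have hne : p ≠ ⊥ := fun h => by
    subst h
    rw [Ideal.height_eq_zero_iff.2 (by rw [IsDomain.minimalPrimes_eq_singleton_bot]; rfl)] at hp
    exact zero_ne_one hp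
  have hprop : ∀ q ∈ p.primesOver B, q.height = 1 ∧ p.map (algebraMap A B) ≤ q := by
    intro q hq
    have := hq.1
    have := hq.2
    have hle := Groth.Agent.E4O.height_add_trdeg_le A B p q
    rw [hp, trdeg_eq_zero (R := A) (A := B), add_zero] at hle
    have h1 : (q.height : Cardinal) ≤ ((1 : ℕ∞) : Cardinal) := le_trans le_self_add hle
    have hmap : p.map (algebraMap A B) ≤ q := Ideal.map_le_iff_le_comap.2 (Ideal.LiesOver.over (p := p) (P := q)).le
    refine ⟨le_antisymm (Cardinal.ofENat_le_ofENat.1 h1) ?_, hmap⟩
    refine Order.one_le_iff_pos.2 (pos_iff_ne_zero.2 fun h0 => ?_)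
    rw [Ideal.height_eq_zero_iff, IsDomain.minimalPrimes_eq_singleton_bot, Set.mem_singleton_iff] at h0
    subst h0
    exact hne (le_bot_iff.1 fun x hx => by
      have : algebraMap A B x = 0 := hmap (Ideal.mem_map_of_mem _ hx)
      exact (map_eq_zero_iff _ (FaithfulSMul.algebraMap_injective A B)).1 this)
  refine ⟨((p.map (algebraMap A B)).finite_minimalPrimes_of_isNoetherianRing B).subset fun q hq => ?_,
    fun q hq => (hprop q hq).1⟩
  obtain ⟨hh, hle⟩ := hprop q hq
  refine ⟨⟨hq.1, hle⟩, fun q' hq' hle' => ?_⟩
  have := hq'.1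
  have := hq.1
  have hne' : q' ≠ ⊥ := fun h => hne (le_bot_iff.1 fun x hx => by
    have : algebraMap A B x = 0 := (h ▸ hq'.2 : p.map (algebraMap A B) ≤ ⊥) (Ideal.mem_map_of_mem _ hx)
    exact (map_eq_zero_iff _ (FaithfulSMul.algebraMap_injective A B)).1 this)
  by_contra hlt
  have hlt' : q' < q := lt_of_le_not_ge hle' hlt
  have := hq'.1
  have h2 := Ideal.height_strict_mono_of_isPrime hlt'
  rw [hh, Order.lt_one_iff_nonpos, nonpos_iff_eq_zero, Ideal.height_eq_zero_iff, IsDomain.minimalPrimes_eq_singleton_bot,
    Set.mem_singleton_iff] at h2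
  exact hne' h2

end Groth.Agent.S9130
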