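import Groth.Statements.S9132
import Groth.Agent.CAlg4.DimOneOverring

set_option autoImplicit false
universe u
open CAlg

namespace Groth.Agent.S9132

/-- A Noetherian local domain R that is not a field is dominated by a Noetherian local ring R' of
dimension one lying between R and its fraction field, with R' essentially of finite type over R. -/
theorem result (R : Type u) [CommRing R] [IsDomain R]
    [IsNoetherianRing R] [IsLocalRing R] (hR : ¬ IsField R) :
    ∃ R' : Subalgebra R (FractionRing R), ∃ _ : IsLocalRing R',
      IsNoetherianRing R' ∧ ringKrullDim R' = 1 ∧ IsLocalHom (algebraMap R R') ∧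
        Algebra.EssFiniteType R R' := by
  exact Groth.Agent.CAlg4.DimOneOverring.main R hR

end Groth.Agent.S9132
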