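import Groth.Statements.S9135
import Groth.Agent.CAlg4.GenericFinite

set_option autoImplicit false
universe u
open CAlg

namespace Groth.Agent.S9135

/-- Let R → S be of finite type and p a minimal prime of R over which only finitely many primes of S
lie. Then for some g ∈ R outside p the localized map R_g → S_g is finite. -/
theorem result (R S : Type u) [CommRing R] [CommRing S]
    [Algebra R S] [Algebra.FiniteType R S] (p : Ideal R) (hp : p ∈ minimalPrimes R)
    (hfin : (p.primesOver S).Finite) :
    ∃ g : R, g ∉ p ∧ (Localization.awayMap (algebraMap R S) g).Finite := by
  have := hp.1.1
  exact Groth.Agent.CAlg4.GenericFinite.exists_finite R S p hp hfin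

end Groth.Agent.S9135
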