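import Groth.Statements.S9136
import Groth.Agent.CAlg4.DegreeSum

set_option autoImplicit false
universe u
open CAlg

namespace Groth.Agent.S9136

/-- Let A ⊆ B be a finite type extension of domains, A Noetherian local of dimension one, with
compatible fraction fields K ⊆ L and L finite over K. Then B has finitely many maximal ideals, and
for a nonzero x in the maximal ideal of A the sum over the maximal ideals m of B of (length of B/m
over A, i.e. the residue degree) times (length of B_m / x B_m over B_m) is at most the degree of L
over K times the length of A/xA; equality holds exactly when B is a finite A-module. -/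
theorem result (A B K L : Type u)
    [CommRing A] [IsDomain A] [IsNoetherianRing A] [IsLocalRing A] (hdim : ringKrullDim A = 1)
    [CommRing B] [IsDomain B] [Algebra A B] [FaithfulSMul A B] [Algebra.FiniteType A B]
    [Field K] [Field L] [Algebra A K] [IsFractionRing A K] [Algebra B L] [IsFractionRing B L]
    [Algebra K L] [Algebra A L] [IsScalarTower A K L] [IsScalarTower A B L] [FiniteDimensional K L]
    (x : A) (hx : x ∈ IsLocalRing.maximalIdeal A) (hx0 : x ≠ 0) :
    Finite (MaximalSpectrum B) ∧
      (∑ᶠ m : MaximalSpectrum B,
          Module.length A (B ⧸ m.asIdeal) *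
            Module.length (Localization.AtPrime m.asIdeal)
              (Localization.AtPrime m.asIdeal ⧸
                Ideal.span ({algebraMap A (Localization.AtPrime m.asIdeal) x} : Set _)) ≤
        (Module.finrank K L : ℕ∞) * Module.length A (A ⧸ Ideal.span ({x} : Set A))) ∧
      ((∑ᶠ m : MaximalSpectrum B,
          Module.length A (B ⧸ m.asIdeal) *
            Module.length (Localization.AtPrime m.asIdeal)
              (Localization.AtPrime m.asIdeal ⧸
                Ideal.span ({algebraMap A (Localization.AtPrime m.asIdeal) x} : Set _)) =
        (Module.finrank K L : ℕ∞) * Module.length A (A ⧸ Ideal.span ({x} : Set A))) ↔ Module.Finite A B) := by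
  have : Ring.KrullDimLE 1 A := Ring.krullDimLE_iff.2 hdim.le
  have hs := Groth.Agent.CAlg4.DegreeSum.sum_eq_length A B K L x hx0
  refine ⟨Groth.Agent.CAlg4.DegreeSum.finite_maximalSpectrum A B K L x hx0 hx, ?_, ?_⟩
  · rw [hs]
    exact Groth.Agent.CAlg4.DegreeSum.length_le A B K L x hx0
  · rw [hs]
    exact ⟨Groth.Agent.CAlg4.DegreeSum.finite_of_eq A B K L x hx0 hx,
      fun _ => Groth.Agent.CAlg4.DegreeSum.eq_of_finite A B K L x hx0⟩

end Groth.Agent.S9136
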