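import Groth.Statements.S9140
import Groth.Agent.CAlg4.NilSurj

set_option autoImplicit false
universe u
open CAlg

namespace Groth.Agent.S9140

/-- Let I be a locally nilpotent ideal of a ring R and S → S' a map of R-algebras with S of finite type
over R and S' of finite presentation and flat over R. If the induced map S/IS → S'/IS' is bijective
(stated as: S → S'/IS' is surjective with kernel IS), then S → S' is bijective. -/
theorem result (R S S' : Type u)
    [CommRing R] [CommRing S] [CommRing S'] [Algebra R S] [Algebra R S'] [Algebra.FiniteType R S]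
    [Algebra.FinitePresentation R S'] [Module.Flat R S'] (I : Ideal R) (hI : ∀ x ∈ I, IsNilpotent x)
    (f : S →ₐ[R] S')
    (hsurj : Function.Surjective ((Ideal.Quotient.mk (I.map (algebraMap R S'))).comp f.toRingHom))
    (hker : ∀ s : S, f s ∈ I.map (algebraMap R S') → s ∈ I.map (algebraMap R S)) :
    Function.Bijective f := by
  have hs := Groth.Agent.CAlg4.NilSurj.surjective_of_nil I hI f fun y => by
    obtain ⟨s, hs⟩ := hsurj (Ideal.Quotient.mk _ y)
    exact ⟨s, Ideal.Quotient.eq.mp hs.symm⟩
  exact ⟨Groth.Agent.CAlg4.NilSurj.injective_of_nil I hI f hs hker, hs⟩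

end Groth.Agent.S9140
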