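import Groth.Statements.S9142
import Groth.Agent.RelGCI94.SyntLocal
import Groth.Agent.CAlg1.Miracle
import Groth.Agent.CAlg1.FlatFibre

set_option autoImplicit false
universe u
open Synt

namespace Groth.Agent.S9142

open IsLocalRing Groth.Agent.RelGCI94 Groth.Agent.CAlg1 Groth.Agent.EGA4Alg4

theorem cm_ci {k : Type u} [Field k] {T : Type u} [CommRing T] [Algebra k T] [IsLocalRing T] (h : Synt.IsCIOver k T) :
    LocCoh.IsCohenMacaulayLocalRing T := by
  obtain ⟨R, _, _, _, _, rs, hm, hreg, ⟨e⟩⟩ := h
  refine cm_of_ringEquiv e.toRingEquiv.symm ?_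
  let J := Ideal.ofList rs
  have : Nontrivial (R ⧸ J) := Ideal.Quotient.nontrivial_iff.2
    (ne_top_of_le_ne_top (maximalIdeal.isMaximal R).ne_top (Ideal.span_le.2 hm))
  have : IsLocalRing (R ⧸ J) := IsLocalRing.of_surjective' (Ideal.Quotient.mk J) Ideal.Quotient.mk_surjective
  have hcm : LocCoh.IsCohenMacaulayModule R R := (cm_of_isRegularLocalRing R).supportDim_eq_depth
  have hq := isCohenMacaulayModule_quotient hcm hreg.toIsWeaklyRegular hm
  let e' := Submodule.quotEquivOfEq (Ideal.ofList rs • (⊤ : Submodule R R)) J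
    (by rw [smul_eq_mul, Ideal.mul_top])
  rw [LocCoh.IsCohenMacaulayModule, Module.supportDim_eq_of_equiv e', depth_eq_of_equiv e',
    Module.supportDim_quotient_eq_ringKrullDim, depth_quotient_self] at hq
  exact cmLocal_iff.mpr hq.le

/-- A local complete intersection over a field is a Cohen–Macaulay ring. -/
theorem result (k S : Type u) [Field k] [CommRing S] [Algebra k S]
    (h : Synt.IsLCIOver k S) : LocCoh.IsCohenMacaulayRing S := by
  have := h.1
  have := Algebra.FiniteType.isNoetherianRing k S
  exact { isCohenMacaulayLocalRing_localization := fun q _ => cm_ci (isCIOver_atPrime_of_isLCIOver h q) }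

end Groth.Agent.S9142
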