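import Groth.Statements.S9144
import Groth.Agent.RelGCI94.SyntLocal

set_option autoImplicit false
universe u
open Synt

namespace Groth.Agent.S9144

/-- For a finite type algebra S over a field k and a prime q of S, the local ring S_q is a complete
intersection over k if and only if some basic open neighbourhood S_g (g ∉ q) is a local complete
intersection over k, if and only if some S_g (g ∉ q) is a global complete intersection over k. -/
theorem result (k S : Type u) [Field k] [CommRing S] [Algebra k S]
    [Algebra.FiniteType k S] (q : Ideal S) [q.IsPrime] :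
    (Synt.IsCIOver k (Localization.AtPrime q) ↔ ∃ g : S, g ∉ q ∧ Synt.IsLCIOver k (Localization.Away g)) ∧
      (Synt.IsCIOver k (Localization.AtPrime q) ↔
        ∃ g : S, g ∉ q ∧ Synt.IsGlobalCI k (Localization.Away g)) := by
  open Groth.Agent.RelGCI94 in
  have hback : ∀ g : S, g ∉ q → Synt.IsLCIOver k (Localization.Away g) →
      Synt.IsCIOver k (Localization.AtPrime q) := fun g hg hG => by
    obtain ⟨Q₁, hQ₁, -, ⟨e⟩⟩ := exists_prime_away (k := k) g q hg
    exact isCIOver_congr e.symm (isCIOver_atPrime_of_isLCIOver hG Q₁)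
  open Groth.Agent.RelGCI94 in
  exact ⟨⟨fun h => let ⟨g, hg, hG⟩ := exists_globalCI_nhd q h; ⟨g, hg, isLCIOver_of_isGlobalCI hG⟩,
      fun ⟨g, hg, hG⟩ => hback g hg hG⟩,
    ⟨fun h => exists_globalCI_nhd q h, fun ⟨g, hg, hG⟩ => hback g hg (isLCIOver_of_isGlobalCI hG)⟩⟩

end Groth.Agent.S9144
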