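import Groth.Statements.S9148
import Groth.Agent.RelGCI94.SyntProperty

set_option autoImplicit false
universe u
open Synt

namespace Groth.Agent.S9148

open MvPolynomial Groth.Agent.RelGCI94

theorem descend {R : Type u} [CommRing R] {n c : ℕ}
    (F : Fin c → MvPolynomial (Fin n) R) (h : Synt.IsRelGCI R n c F) :
    ∃ (R₀ : Subalgebra ℤ R) (F₀ : Fin c → MvPolynomial (Fin n) R₀), Algebra.FiniteType ℤ R₀ ∧
      (∀ i, MvPolynomial.map (algebraMap R₀ R) (F₀ i) = F i) ∧ Synt.IsRelGCI R₀ n c F₀ := by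
  classical
  let cF : Finset R := Finset.univ.biUnion fun i => (F i).coeffs
  have hlift : ∀ (A : Subalgebra ℤ R) (p : MvPolynomial (Fin n) R), (↑p.coeffs : Set R) ⊆ A →
      ∃ p₀ : MvPolynomial (Fin n) A, MvPolynomial.map (algebraMap A R) p₀ = p := fun A p hp => by
    refine MvPolynomial.mem_range_map_iff_coeffs_subset.2 ?_
    intro x hx
    exact ⟨⟨x, hp hx⟩, rfl⟩
  let A₀ : Subalgebra ℤ R := Algebra.adjoin ℤ (cF : Set R)
  choose F₀ hF₀ using fun i => hlift A₀ (F i) fun x hx =>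
    Algebra.subset_adjoin (Finset.mem_biUnion.2 ⟨i, Finset.mem_univ _, hx⟩)
  let φ := MvPolynomial.map (σ := Fin n) (algebraMap A₀ R)
  let s : Set (MvPolynomial (Fin n) A₀) :=
    {g | Synt.IsRelGCI A₀ (n + 1) (c + 1) (F' A₀ n c F₀ g)} ∪ Set.range F₀
  have htop : Ideal.span (φ '' s) = ⊤ := by
    by_contra hne
    obtain ⟨Q, hQm, hle⟩ := Ideal.exists_le_maximal _ hne
    have hs : ∀ g ∈ s, φ g ∈ Q := fun g hg => hle (Ideal.subset_span ⟨g, hg, rfl⟩)
    have hQF : ∀ i, F i ∈ Q := fun i => hF₀ i ▸ hs (F₀ i) (Or.inr ⟨i, rfl⟩)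
    have hreg := (isRelGCI_iff_regAt F).1 h Q hQF
    have h0 : RegAt F₀ (Q.comap φ) := (regAt_map_iff (A := R) F₀ Q).1 (by simpa only [hF₀] using hreg)
    obtain ⟨-, g, hg, hg'⟩ := exists_isRelGCI_away F₀ (Q.comap φ) (fun i => hs (F₀ i) (Or.inr ⟨i, rfl⟩)) h0
    exact hg (hs g (Or.inl hg'))
  obtain ⟨l, hl⟩ := (Finsupp.mem_span_iff_linearCombination _ _ _).1 (htop.ge (Submodule.mem_top (x := (1 : MvPolynomial (Fin n) R))))
  let cl : Finset R := cF ∪ l.support.biUnion fun y => (l y).coeffs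
  let A₁ : Subalgebra ℤ R := Algebra.adjoin ℤ (cl : Set R)
  have hle : A₀ ≤ A₁ := Algebra.adjoin_mono (Finset.coe_subset.2 Finset.subset_union_left)
  let := (Subalgebra.inclusion hle).toRingHom.toAlgebra
  let ψ := MvPolynomial.map (σ := Fin n) (algebraMap A₀ A₁)
  have hψ : ∀ g, MvPolynomial.map (algebraMap A₁ R) (ψ g) = φ g := fun g => by
    rw [MvPolynomial.map_map]; rfl
  refine ⟨A₁, fun i => ψ (F₀ i), (Subalgebra.fg_iff_finiteType A₁).1 ⟨cl, rfl⟩,
    fun i => (hψ _).trans (hF₀ i), (isRelGCI_iff_regAt _).2 fun Q _ hQ => ?_⟩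
  refine (regAt_map_iff (A := A₁) F₀ Q).2 ?_
  suffices ∃ g ∈ s, ψ g ∉ Q by
    obtain ⟨g, hg, hgQ⟩ := this
    rcases hg with hg | ⟨i, rfl⟩
    · exact (isRelGCI_away_iff F₀ g).1 hg (Q.comap ψ) (fun i => hQ i) hgQ
    · exact absurd (hQ i) hgQ
  by_contra hne
  push Not at hne
  have hl' : ∀ y : φ '' s, y ∈ l.support → ∃ p : MvPolynomial (Fin n) A₁, MvPolynomial.map (algebraMap A₁ R) p = l y :=
    fun y hy => hlift A₁ (l y) fun x hx =>
      Algebra.subset_adjoin (Finset.mem_union_right _ (Finset.mem_biUnion.2 ⟨y, hy, hx⟩))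
  choose p hp using hl'
  choose g hg hgy using fun y : φ '' s => y.2
  let E : MvPolynomial (Fin n) A₁ := ∑ y ∈ l.support.attach, p y.1 y.2 * ψ (g y.1)
  have hE : E ∈ Q := sum_mem fun y _ => Ideal.mul_mem_left _ _ (hne _ (hg y.1))
  have hE1 : E = 1 := by
    refine MvPolynomial.map_injective (algebraMap A₁ R) Subtype.val_injective ?_
    rw [map_one, map_sum, ← hl, Finsupp.linearCombination_apply, Finsupp.sum, ← Finset.sum_attach l.support]
    refine Finset.sum_congr rfl fun y _ => ?_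
    rw [map_mul, hp, hψ, hgy, smul_eq_mul]
  exact Ideal.IsPrime.ne_top inferInstance ((Ideal.eq_top_iff_one Q).2 (hE1 ▸ hE))

/-- A relative global complete intersection over a ring R descends to a relative global complete
intersection over a finite type ℤ-subalgebra of R containing the coefficients. -/
theorem result (R : Type u) [CommRing R] (n c : ℕ)
    (F : Fin c → MvPolynomial (Fin n) R) (h : Synt.IsRelGCI R n c F) :
    ∃ (R₀ : Subalgebra ℤ R) (F₀ : Fin c → MvPolynomial (Fin n) R₀), Algebra.FiniteType ℤ R₀ ∧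
      (∀ i, MvPolynomial.map (algebraMap R₀ R) (F₀ i) = F i) ∧ Synt.IsRelGCI R₀ n c F₀ := by
  exact descend F h

end Groth.Agent.S9148
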