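import Groth.Statements.S9149
import Groth.Agent.Synt18.Split


set_option autoImplicit false
universe u
open Synt

namespace Groth.Agent.S9149

open Polynomial in
/-- A monic polynomial over a ring A splits into linear factors over some A-algebra A' that is syntomic,
finite free and faithfully flat over A. -/
theorem result (A : Type u) [CommRing A] (P : A[X]) (hP : P.Monic) :
    ∃ (A' : Type u) (_ : CommRing A') (_ : Algebra A A'),
      Synt.IsSyntomic A A' ∧ Module.Finite A A' ∧ Module.Free A A' ∧ Module.FaithfullyFlat A A' ∧
        ∃ s : Multiset A', P.map (algebraMap A A') = (s.map fun b => X - C b).prod := by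
  obtain ⟨B', i1, i2, f, k1, k2, k3, k4, s, hs⟩ :=
    Groth.Agent.Synt18.exists_splitting P.natDegree A P hP rfl (Groth.Agent.Synt18.hasSquarePres_self A)
      inferInstance inferInstance inferInstance
  refine ⟨B', i1, i2, Groth.Agent.Synt18.isSyntomic_of_squarePres k1, k2, k3, k4, s, ?_⟩
  rw [← hs]
  congr 1
  exact (Subsingleton.elim f (Algebra.ofId A B') ▸ rfl)

end Groth.Agent.S9149
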