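import Groth.Statements.S9150
import Groth.Agent.RelGCI94.LiftQuot

set_option autoImplicit false
universe u
open Synt

namespace Groth.Agent.S9150

/-- Let I be an ideal of a ring R and S̄ an R-algebra killed by I which is syntomic over R/I. Then S̄ is
covered by finitely many basic opens S̄_g each isomorphic, as an R-algebra, to S/IS for some
relative global complete intersection S over R. -/
theorem result (R : Type u) [CommRing R] (I : Ideal R) (Sb : Type u) [CommRing Sb]
    [Algebra R Sb] [Algebra (R ⧸ I) Sb] [IsScalarTower R (R ⧸ I) Sb] (h : Synt.IsSyntomic (R ⧸ I) Sb) :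
    ∃ s : Finset Sb, Ideal.span (s : Set Sb) = ⊤ ∧ ∀ g ∈ s,
      ∃ (n c : ℕ) (F : Fin c → MvPolynomial (Fin n) R), Synt.IsRelGCI R n c F ∧
        Nonempty (Localization.Away g ≃ₐ[R]
          (Synt.RelGCIRing R n c F ⧸ I.map (algebraMap R (Synt.RelGCIRing R n c F)))) := by
  classical
  have hq : ∀ q : PrimeSpectrum Sb, ∃ a, a ∉ q.asIdeal ∧ ∃ (n c : ℕ) (F : Fin c → MvPolynomial (Fin n) (R ⧸ I)),
      Synt.IsRelGCI (R ⧸ I) n c F ∧ Nonempty (Localization.Away a ≃ₐ[R ⧸ I] Synt.RelGCIRing (R ⧸ I) n c F) := by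
    intro q
    have h1 : Synt.IsSyntomic (R ⧸ I) (Localization.Away (1 : Sb)) :=
      RelGCI94.isSyntomic_congr (IsLocalization.atOne Sb (Localization.Away (1 : Sb)) |>.restrictScalars (R ⧸ I)) h
    exact RelGCI94.exists_relGCI_of_syntomic_away q.asIdeal 1 ((Ideal.ne_top_iff_one _).1 q.2.ne_top) h1
  choose a ha n c F hF e using hq
  have hspan : Ideal.span (Set.range a) = ⊤ := by
    by_contra hne
    obtain ⟨M, hM, hle⟩ := Ideal.exists_le_maximal _ hne
    exact ha ⟨M, hM.isPrime⟩ (hle (Ideal.subset_span (Set.mem_range_self _)))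
  obtain ⟨s, hs, hs'⟩ := Submodule.mem_span_finite_of_mem_span ((Ideal.eq_top_iff_one _).1 hspan :
    (1 : Sb) ∈ Submodule.span Sb (Set.range a))
  refine ⟨s, (Ideal.eq_top_iff_one _).2 hs', fun g hg => ?_⟩
  obtain ⟨q, rfl⟩ := hs hg
  exact RelGCI94.exists_lift_relGCI R I (n q) (c q) (F q) (hF q) (e q).some

end Groth.Agent.S9150
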