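import Groth.Statements.S9152
import Groth.Agent.EGA4H10.CodepthOpen
import Mathlib

set_option autoImplicit false
universe u
open CAlg

namespace Groth.Agent.S9152

/-- The Cohen–Macaulay locus of a finite type algebra over a field is open. -/
theorem result (k S : Type u) [Field k] [CommRing S] [Algebra k S]
    [Algebra.FiniteType k S] :
    IsOpen {q : PrimeSpectrum S | LocCoh.IsCohenMacaulayLocalRing (Localization.AtPrime q.asIdeal)} := by
  have : IsNoetherianRing S := Algebra.FiniteType.isNoetherianRing k S
  obtain ⟨n, f, hf⟩ := Algebra.FiniteType.iff_quotient_mvPolynomial''.1 ‹Algebra.FiniteType k S›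
  let := f.toRingHom.toAlgebra
  have hC := Groth.Agent.EGA4H10.Codepth.cmu_of_quotient_regular (MvPolynomial (Fin n) k) S hf
  convert Groth.Agent.EGA4H10.Codepth.isOpen_codepthLE (M := S) hC 0 using 1
  ext q
  show LocCoh.IsCohenMacaulayLocalRing _ ↔ Groth.Agent.EGA4H10.Codepth.CodepthLE S 0 q.asIdeal
  have : IsNoetherianRing (Localization.AtPrime q.asIdeal) :=
    IsLocalization.isNoetherianRing q.asIdeal.primeCompl _ inferInstance
  have hle := Groth.Agent.EGA4Alg4.depth_le_supportDim (A := Localization.AtPrime q.asIdeal)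
    (M := Localization.AtPrime q.asIdeal)
  rw [Groth.Agent.EGA4H10.Codepth.CodepthLE, Groth.Agent.EGA4H10.Codepth.Dim, Groth.Agent.EGA4H10.Codepth.Dep,
    Groth.Agent.CAlg1.depth_locSelf, Module.supportDim_eq_of_equiv (Groth.Agent.CAlg1.locSelfEquiv q.asIdeal),
    Nat.cast_zero, add_zero]
  exact ⟨fun h => h.supportDim_eq_depth.le,
    fun h => { supportDim_eq_depth := le_antisymm h hle }⟩

end Groth.Agent.S9152
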