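import Groth.Statements.S9153
import Groth.Agent.CAlgH2.LocalDimField

set_option autoImplicit false
universe u
open CAlg

namespace Groth.Agent.S9153

/-- In a polynomial ring in finitely many variables over a field, every saturated chain of primes
between two primes p ⊆ q has length equal to the difference of their heights (stated additively:
length + height p = height q). -/
theorem result (k : Type u) [Field k] (n : ℕ)
    (s : LTSeries (PrimeSpectrum (MvPolynomial (Fin n) k)))
    (hsat : ∀ i : Fin s.length, s (Fin.castSucc i) ⋖ s (Fin.succ i)) :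
    (s.length : ℕ∞) + s.head.asIdeal.height = s.last.asIdeal.height := by
  classical
  let P := MvPolynomial (Fin n) k
  have hD : ∀ q : Ideal P, [q.IsPrime] → q.height + Groth.Agent.CAlgH2.trdegQuot k q =
      (Groth.Agent.CAlgH2.trdegQuot k (⊥ : Ideal P) : ℕ∞) := by
    intro q _
    rw [Groth.Agent.CAlgH2.height_add_trdegQuot_eq_dimAt k q]
    obtain ⟨Q, hQ, -, he⟩ := Groth.Agent.CAlgH2.exists_dimAt_eq k q
    rw [IsDomain.minimalPrimes_eq_singleton_bot, Set.mem_singleton_iff] at hQ
    rw [he, hQ]
  have step : ∀ p q : PrimeSpectrum P, p ⋖ q → q.asIdeal.height = p.asIdeal.height + 1 := by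
    intro p q hpq
    have hle : p.asIdeal ≤ q.asIdeal := hpq.le
    have := Ideal.isPrime_map_quotientMk_of_isPrime hle
    let π := Ideal.Quotient.mk p.asIdeal
    have hcomap : (q.asIdeal.map π).comap π = q.asIdeal := by
      rw [Ideal.comap_map_of_surjective' _ Ideal.Quotient.mk_surjective, Ideal.mk_ker, sup_eq_left.2 hle]
    have h1 : (q.asIdeal.map π).height = 1 := by
      refine le_antisymm ?_ (Order.one_le_iff_pos.2 (pos_iff_ne_zero.2 fun h0 => ?_))
      · rw [show (1 : ℕ∞) = ((1 : ℕ) : ℕ∞) from rfl, Ideal.height_le_iff]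
        intro J hJ hlt
        rw [Nat.cast_one, Order.lt_one_iff_nonpos, nonpos_iff_eq_zero, Ideal.height_eq_zero_iff,
          IsDomain.minimalPrimes_eq_singleton_bot, Set.mem_singleton_iff]
        by_contra hne
        have hp : p < (⟨J.comap π, Ideal.IsPrime.comap π⟩ : PrimeSpectrum P) := by
          refine lt_of_le_not_ge (fun x hx => ?_) fun hge => hne (le_bot_iff.1 ?_)
          · show π x ∈ J
            rw [Ideal.Quotient.eq_zero_iff_mem.2 hx]; exact zero_mem _
          · rw [← Ideal.map_comap_of_surjective π Ideal.Quotient.mk_surjective J, Ideal.map_le_iff_le_comap]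
            intro x hx
            exact Ideal.mem_bot.2 (Ideal.Quotient.eq_zero_iff_mem.2 (hge hx))
        refine hpq.2 hp (lt_of_le_not_ge (fun x hx => hcomap.le (Ideal.comap_mono hlt.le hx)) fun hge => ?_)
        refine hlt.not_ge ((Ideal.map_le_iff_le_comap.2 ?_))
        exact hge
      · rw [Ideal.height_eq_zero_iff, IsDomain.minimalPrimes_eq_singleton_bot, Set.mem_singleton_iff] at h0
        rw [h0, ← RingHom.ker_eq_comap_bot, Ideal.mk_ker] at hcomap
        exact hpq.ne (PrimeSpectrum.ext hcomap)
    have h2 := Groth.Agent.CAlgH2.height_add_trdegQuot k p.asIdeal q.asIdeal hle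
    rw [h1] at h2
    have h3 := hD q.asIdeal
    rw [← hD p.asIdeal, ← h2, ← add_assoc] at h3
    exact WithTop.add_right_cancel (ENat.coe_ne_top _) h3
  have key : ∀ i : ℕ, ∀ h : i < s.length + 1, (i : ℕ∞) + s.head.asIdeal.height = (s ⟨i, h⟩).asIdeal.height := by
    intro i
    induction i with
    | zero => intro h; simp [RelSeries.head]
    | succ i ih =>
      intro h
      rw [step (s ⟨i, Nat.lt_of_succ_lt h⟩) (s ⟨i + 1, h⟩) (hsat ⟨i, Nat.lt_of_succ_lt_succ h⟩),
        ← ih (Nat.lt_of_succ_lt h)]
      push_cast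
      ring
  exact key s.length (Nat.lt_succ_self _)

end Groth.Agent.S9153
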