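import Groth.Statements.S9154
import Groth.Agent.CAlg4.CMFiniteType

set_option autoImplicit false
universe u
open CAlg

namespace Groth.Agent.S9154

/-- Let S be a Cohen–Macaulay finite type algebra over a field k, equidimensional of dimension d, and
f_1, …, f_i elements (i ≤ d) generating a proper ideal whose zero locus has dimension at most d − i.
Then that dimension equals d − i and the f_j form a regular sequence in S_q for every prime q
containing them. (The published statement also allows the f_j to generate the unit ideal, where the
zero locus is empty and the equality fails, e.g. f_1 = 1 in k[x]; this row assumes the ideal is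
proper.) -/
theorem result (k S : Type u) [Field k] [CommRing S] [Algebra k S]
    [Algebra.FiniteType k S] [LocCoh.IsCohenMacaulayRing S] (d : ℕ)
    (heq : ∀ p ∈ minimalPrimes S, ringKrullDim (S ⧸ p) = d) (f : List S) (hi : f.length ≤ d)
    (hne : Ideal.ofList f ≠ ⊤)
    (hle : ringKrullDim (S ⧸ Ideal.ofList f) ≤ ((d - f.length : ℕ) : WithBot ℕ∞)) :
    ringKrullDim (S ⧸ Ideal.ofList f) = ((d - f.length : ℕ) : WithBot ℕ∞) ∧
      ∀ (q : Ideal S) [q.IsPrime], Ideal.ofList f ≤ q →
        RingTheory.Sequence.IsRegular (Localization.AtPrime q)
          (f.map (algebraMap S (Localization.AtPrime q))) := by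
  exact ⟨le_antisymm hle (Groth.Agent.CAlg4.CMFiniteType.le_dim k heq f hi hne),
    fun q _ hq => Groth.Agent.CAlg4.CMFiniteType.regular_at k heq f hi hle q hq⟩

end Groth.Agent.S9154
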