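import Groth.Statements.S9160
import Mathlib.RingTheory.OrderOfVanishing.Basic

set_option autoImplicit false
universe u
open CAlg

namespace Groth.Agent.S9160

/-- In a semi-local Noetherian ring of dimension one, for nonzerodivisors a and b the length of R/(ab)
is the sum of the lengths of R/(a) and R/(b), and these lengths are finite. -/
theorem result (R : Type u) [CommRing R] [IsNoetherianRing R]
    (hsemi : Finite (MaximalSpectrum R)) (hdim : ringKrullDim R = 1) (a b : R) (ha : IsRegular a)
    (hb : IsRegular b) :
    Module.length R (R ⧸ Ideal.span ({a * b} : Set R)) =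
        Module.length R (R ⧸ Ideal.span ({a} : Set R)) + Module.length R (R ⧸ Ideal.span ({b} : Set R)) ∧
      Module.length R (R ⧸ Ideal.span ({a} : Set R)) ≠ ⊤ ∧
      Module.length R (R ⧸ Ideal.span ({b} : Set R)) ≠ ⊤ := by
  have : Ring.KrullDimLE 1 R := Ring.krullDimLE_iff.mpr hdim.le
  have ha' : a ∈ nonZeroDivisors R := isRegular_iff_mem_nonZeroDivisors.mp ha
  have hb' : b ∈ nonZeroDivisors R := isRegular_iff_mem_nonZeroDivisors.mp hb
  exact ⟨Ring.ord_mul R hb', Ring.ord_ne_top ha', Ring.ord_ne_top hb'⟩

end Groth.Agent.S9160
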