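import Groth.Statements.S9161
import Mathlib.Tactic.Abel


set_option autoImplicit false
universe u
open CAlg

namespace Groth.Agent.S9161

/-- If two two-term complexes of R-modules A₁ → A₀ and B₁ → B₀ are homotopy equivalent (maps of
complexes both ways whose composites are homotopic to the identity maps), then A₁ ⊕ B₀ and B₁ ⊕ A₀
are isomorphic R-modules. -/
theorem result (R : Type u) [CommRing R]
    (A₁ A₀ B₁ B₀ : Type u) [AddCommGroup A₁] [Module R A₁] [AddCommGroup A₀] [Module R A₀]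
    [AddCommGroup B₁] [Module R B₁] [AddCommGroup B₀] [Module R B₀]
    (dA : A₁ →ₗ[R] A₀) (dB : B₁ →ₗ[R] B₀) (φ₁ : A₁ →ₗ[R] B₁) (φ₀ : A₀ →ₗ[R] B₀)
    (ψ₁ : B₁ →ₗ[R] A₁) (ψ₀ : B₀ →ₗ[R] A₀) (hφ : dB ∘ₗ φ₁ = φ₀ ∘ₗ dA) (hψ : dA ∘ₗ ψ₁ = ψ₀ ∘ₗ dB)
    (h : A₀ →ₗ[R] A₁) (hh₁ : LinearMap.id - ψ₁ ∘ₗ φ₁ = h ∘ₗ dA) (hh₀ : LinearMap.id - ψ₀ ∘ₗ φ₀ = dA ∘ₗ h)
    (h' : B₀ →ₗ[R] B₁) (hh'₁ : LinearMap.id - φ₁ ∘ₗ ψ₁ = h' ∘ₗ dB)
    (hh'₀ : LinearMap.id - φ₀ ∘ₗ ψ₀ = dB ∘ₗ h') :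
    Nonempty ((A₁ × B₀) ≃ₗ[R] (B₁ × A₀)) := by
  have h1 : ∀ a, φ₀ (dA a) = dB (φ₁ a) := fun a => (LinearMap.congr_fun hφ a).symm
  have e1 : ∀ a, a - ψ₁ (φ₁ a) = h (dA a) := fun a => LinearMap.congr_fun hh₁ a
  have e0 : ∀ a, a - ψ₀ (φ₀ a) = dA (h a) := fun a => LinearMap.congr_fun hh₀ a
  have f1 : ∀ b, b - φ₁ (ψ₁ b) = h' (dB b) := fun b => LinearMap.congr_fun hh'₁ b
  have f0 : ∀ b, b - φ₀ (ψ₀ b) = dB (h' b) := fun b => LinearMap.congr_fun hh'₀ b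
  have g0 : ∀ b, dA (ψ₁ b) = ψ₀ (dB b) := fun b => LinearMap.congr_fun hψ b
  let i : A₁ →ₗ[R] B₁ × A₀ := φ₁.prod (-dA)
  let p : B₁ × A₀ →ₗ[R] B₀ := dB.coprod φ₀
  let r : B₁ × A₀ →ₗ[R] A₁ := ψ₁.coprod (-h)
  let s : B₀ →ₗ[R] B₁ × A₀ := h'.prod ψ₀
  have hpi : ∀ a, p (i a) = 0 := fun a => by simp [p, i, h1]
  have hps : ∀ b, p (s b) = b := fun b => by
    simp only [p, s, LinearMap.coprod_apply, LinearMap.prod_apply]
    show dB (h' b) + φ₀ (ψ₀ b) = b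
    rw [← f0, sub_add_cancel]
  have hri : ∀ a, r (i a) = a := fun a => by
    simp only [r, i, LinearMap.coprod_apply, LinearMap.prod_apply]
    show ψ₁ (φ₁ a) + (-h) ((-dA) a) = a
    simp [← e1]
  have hker : ∀ x, p x = 0 → ∀ a, (x - i (r x)).2 = 0 ∧ (a = x - i (r x) → a - i (r a) = 0) := by
    rintro ⟨b, a⟩ hx a'
    have hx' : dB b + φ₀ a = 0 := hx
    have hz : ((b, a) - i (r (b, a))).2 = 0 := by
      show a - (-dA) (ψ₁ b + (-h) a) = 0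
      rw [LinearMap.neg_apply, LinearMap.neg_apply, map_add, map_neg, ← e0, g0]
      calc a - -(ψ₀ (dB b) + -(a - ψ₀ (φ₀ a))) = ψ₀ (dB b) + ψ₀ (φ₀ a) := by abel
        _ = 0 := by rw [← map_add, hx', map_zero]
    refine ⟨hz, fun ha' => ?_⟩
    have hp' : p a' = 0 := by rw [ha', map_sub, hx, hpi, sub_zero]
    obtain ⟨b', a''⟩ := a'
    have : a'' = 0 := (congrArg Prod.snd ha').trans hz
    subst this
    have hb : dB b' = 0 := by simpa [p] using hp'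
    ext
    · show b' - φ₁ (ψ₁ b' + (-h) 0) = 0
      simp [f1, hb]
    · show (0 : A₀) - (-dA) (ψ₁ b' + (-h) 0) = 0
      simp [g0, hb]
  let Φ : (A₁ × B₀) →ₗ[R] B₁ × A₀ := i.coprod s
  refine ⟨LinearEquiv.ofBijective Φ ⟨?_, fun x => ?_⟩⟩
  · rw [injective_iff_map_eq_zero]
    rintro ⟨a, b⟩ hab
    have hb : b = 0 := by simpa [Φ, hpi, hps] using congrArg p hab
    subst hb
    have ha : a = 0 := by simpa [Φ, hri] using congrArg r hab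
    simp [ha]
  · set y := x - s (p x)
    have hy : p y = 0 := by simp [y, hps]
    obtain ⟨-, h2⟩ := hker y hy (y - i (r y))
    have h3 := sub_eq_zero.mp (h2 rfl)
    refine ⟨(r y + r (y - i (r y)), p x), ?_⟩
    show i (r y + r (y - i (r y))) + s (p x) = x
    rw [map_add, ← h3, add_sub_cancel]
    exact sub_add_cancel x (s (p x))

end Groth.Agent.S9161
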