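import Groth.Statements.S9163
import Mathlib

set_option autoImplicit false
universe u
open CAlg

namespace Groth.Agent.S9163

/-- If S is integral over R, then any finitely many elements of R and of S lie in a pair R₀ ⊆ R, S₀ ⊆ S
with R₀ a finite type ℤ-subalgebra, S₀ an R₀-subalgebra of S, and S₀ finite as an R₀-module; so R →
S is the directed colimit of finite maps between finite type ℤ-algebras. -/
theorem result (R S : Type u) [CommRing R] [CommRing S] [Algebra R S]
    [Algebra.IsIntegral R S] (E : Finset R) (F : Finset S) :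
    ∃ (R₀ : Subalgebra ℤ R) (S₀ : Subalgebra R₀ S), Algebra.FiniteType ℤ R₀ ∧ (E : Set R) ⊆ R₀ ∧
      (F : Set S) ⊆ S₀ ∧ Module.Finite R₀ S₀ := by
  classical
  let P : S → Polynomial R := fun x => minpoly R x
  let G : Set R := (E : Set R) ∪ ⋃ x ∈ F, ((P x).coeffs : Set R)
  have hG : G.Finite := E.finite_toSet.union (F.finite_toSet.biUnion fun x _ => (P x).coeffs.finite_toSet)
  let R₀ := Algebra.adjoin ℤ G
  refine ⟨R₀, Algebra.adjoin R₀ (F : Set S), (Subalgebra.fg_iff_finiteType _).1 ((Subalgebra.fg_def).2 ⟨G, hG, rfl⟩),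
    Set.subset_union_left.trans Algebra.subset_adjoin, Algebra.subset_adjoin, ?_⟩
  refine Module.Finite.iff_fg.2 (fg_adjoin_of_finite F.finite_toSet fun x hx => ?_)
  have hl : P x ∈ Polynomial.lifts (algebraMap R₀ R) := by
    rw [Polynomial.lifts_iff_coeff_lifts]
    intro n
    by_cases h0 : (P x).coeff n = 0
    · exact ⟨0, by rw [map_zero, h0]⟩
    · exact ⟨⟨(P x).coeff n, Algebra.subset_adjoin (Set.subset_union_right
        (Set.mem_biUnion hx (Polynomial.coeff_mem_coeffs h0)))⟩, rfl⟩
  obtain ⟨p, hp, -, hpm⟩ := Polynomial.lifts_and_natDegree_eq_and_monic hl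
    (minpoly.monic (Algebra.IsIntegral.isIntegral x))
  refine ⟨p, hpm, ?_⟩
  rw [show algebraMap R₀ S = (algebraMap R S).comp (algebraMap R₀ R) from rfl, ← Polynomial.eval₂_map, hp]
  exact minpoly.aeval R x

end Groth.Agent.S9163
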