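import Groth.Statements.S9164
import Groth.Agent.CAlg4.LatticeDimOne
import Mathlib.RingTheory.KrullDimension.Field

set_option autoImplicit false
universe u
open CAlg

namespace Groth.Agent.S9164

/-- Let R be a one-dimensional Noetherian local domain with fraction field K and V a finite-dimensional
K-vector space; a lattice is a finitely generated R-submodule of V spanning V over K. (1) For a
lattice M and an R-submodule M' ⊇ M: M' is a lattice iff M'/M has finite length over R iff M' is
finitely generated. (2) For a lattice M and M' ⊆ M: M' is a lattice iff M/M' has finite length. (3)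
The intersection of two lattices is a lattice. (The published statement also asserts that the sum M
+ M' of two lattices is a lattice and two identities between lengths of quotients of nested
lattices; this row states (1), (2) and the intersection half of (3).) -/
theorem result (R K V : Type u) [CommRing R] [IsDomain R]
    [IsNoetherianRing R] [IsLocalRing R] (hdim : ringKrullDim R = 1) [Field K] [Algebra R K]
    [IsFractionRing R K] [AddCommGroup V] [Module K V] [Module R V] [IsScalarTower R K V]
    [FiniteDimensional K V] (M : Submodule R V) [Submodule.IsLattice K M] :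
    (∀ M' : Submodule R V, M ≤ M' →
        (Submodule.IsLattice K M' ↔ Module.length R (M' ⧸ Submodule.comap M'.subtype M) ≠ ⊤) ∧
          (Submodule.IsLattice K M' ↔ M'.FG)) ∧
      (∀ M' : Submodule R V, M' ≤ M →
        (Submodule.IsLattice K M' ↔ Module.length R (M ⧸ Submodule.comap M.subtype M') ≠ ⊤)) ∧
      ∀ M' : Submodule R V, Submodule.IsLattice K M' → Submodule.IsLattice K (M ⊓ M') := by
  have : Ring.KrullDimLE 1 R := Ring.krullDimLE_iff.mpr hdim.le
  have hR : ¬ IsField R := fun h => by
    let := h.toField
    rw [ringKrullDim_eq_zero_of_field] at hdim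
    exact absurd hdim (by norm_num)
  have hfg : ∀ M' : Submodule R V, M ≤ M' → (Submodule.IsLattice K M' ↔ M'.FG) := fun M' hle =>
    ⟨fun h => h.fg, fun h => Submodule.IsLattice.of_le_of_isLattice_of_fg K hle h⟩
  refine ⟨fun M' hle => ⟨⟨fun h => Groth.Agent.CAlg4.LatticeDimOne.length_ne_top (K := K) M M' h.fg,
      fun h => (hfg M' hle).2 (Groth.Agent.CAlg4.LatticeDimOne.fg_of_length_ne_top (K := K) M M' hle h)⟩,
      hfg M' hle⟩, fun M' hle => ⟨fun h => ?_, fun h => ?_⟩, fun M' hM' => ?_⟩
  · exact Groth.Agent.CAlg4.LatticeDimOne.length_ne_top (K := K) M' M Submodule.IsLattice.fg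
  · exact Groth.Agent.CAlg4.LatticeDimOne.isLattice_of_length_ne_top (K := K) hR M M' hle h
  · have : IsNoetherian R M := isNoetherian_of_fg_of_noetherian _ Submodule.IsLattice.fg
    refine ⟨?_, Groth.Agent.CAlg4.LatticeDimOne.span_eq_top_of_smul_mem (K := K) M _ fun v hv => ?_⟩
    · rw [← Submodule.map_comap_subtype]
      exact (IsNoetherian.noetherian _).map _
    · obtain ⟨r, hr, hrv⟩ := Groth.Agent.CAlg4.LatticeDimOne.exists_smul_mem (K := K) M' v
      exact ⟨r, hr, M.smul_mem r hv, hrv⟩

end Groth.Agent.S9164
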