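import Groth.Statements.S9166
import Groth.Agent.CAlg4.NilSurj
import Mathlib

set_option autoImplicit false
universe u
open CAlg

namespace Groth.Agent.S9166

/-- Let I be an ideal of a ring R, S → S' a surjective homomorphism of R-algebras with S of finite type
and S' of finite presentation over R, and q a prime of S containing IS. Assume S'_q is flat over R
and that S_q/IS_q → S'_q/IS'_q is an isomorphism, which for a surjection says: every element of the
kernel of S → S' maps into I·S_q. Then for some g ∉ q the localized map S_g → S'_g is bijective. -/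
theorem result (R S S' : Type u) [CommRing R] [CommRing S]
    [CommRing S'] [Algebra R S] [Algebra R S'] [Algebra.FiniteType R S] [Algebra.FinitePresentation R S']
    (I : Ideal R) (f : S →ₐ[R] S') (hf : Function.Surjective f) (q : Ideal S) [q.IsPrime]
    (hq : I.map (algebraMap R S) ≤ q)
    (hker : ∀ j : S, f j = 0 →
      algebraMap S (Localization.AtPrime q) j ∈ I.map (algebraMap R (Localization.AtPrime q)))
    (hflat : letI : Module S S' := f.toRingHom.toModule
      Module.Flat R (LocalizedModule q.primeCompl S')) :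
    ∃ g : S, g ∉ q ∧ Function.Bijective (Localization.awayMap f.toRingHom g) := by
  classical
  letI : Module S S' := f.toRingHom.toModule
  have hq' : I.map (algebraMap R S) ≤ q := hq
  let Sq := Localization.AtPrime q
  let J := RingHom.ker f.toRingHom
  obtain ⟨k, π, hπ⟩ := Algebra.FiniteType.iff_quotient_mvPolynomial''.mp ‹Algebra.FiniteType R S›
  have hJ : J.FG := by
    have h := Ideal.FG.map (Algebra.FinitePresentation.ker_fG_of_surjective (f.comp π) (hf.comp hπ))
      π.toRingHom
    convert h using 1
    exact (Ideal.map_comap_of_surjective π.toRingHom hπ J).symm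
  let g₀ : S →ₗ[S] S' := LinearMap.toSpanSingleton S S' 1
  have hg₀ : ∀ s, g₀ s = f s := fun s => mul_one (f s)
  let gS := IsLocalizedModule.map q.primeCompl (Algebra.linearMap S Sq)
    (LocalizedModule.mkLinearMap q.primeCompl S') g₀
  let gq : Sq →ₗ[R] LocalizedModule q.primeCompl S' := gS.restrictScalars R
  have hg₀s : Function.Surjective g₀ := fun y => by
    obtain ⟨s, rfl⟩ := hf y
    exact ⟨s, hg₀ s⟩
  have hsurj : Function.Surjective gq := IsLocalizedModule.map_surjective q.primeCompl _ _ g₀ hg₀s
  have hker' : LinearMap.ker gq = (J.map (algebraMap S Sq)).restrictScalars R := by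
    refine le_antisymm (fun x hx => ?_) (fun x hx => ?_)
    · obtain ⟨⟨s, t⟩, rfl⟩ := IsLocalizedModule.mk'_surjective q.primeCompl (Algebra.linearMap S Sq) x
      have h0 : gS (IsLocalizedModule.mk' (Algebra.linearMap S Sq) s t) = 0 := hx
      rw [IsLocalizedModule.map_mk', IsLocalizedModule.mk'_eq_zero'] at h0
      obtain ⟨v, hv⟩ := h0
      have hvs : (v : S) * s ∈ J := by
        show f ((v : S) * s) = 0
        rw [map_mul, ← hg₀ s]; exact hv
      show IsLocalizedModule.mk' (Algebra.linearMap S Sq) s t ∈ J.map (algebraMap S Sq)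
      have hu : IsUnit (algebraMap S Sq ((v : S) * t)) := IsLocalization.map_units Sq (v * t)
      rw [← Ideal.unit_mul_mem_iff_mem _ hu, map_mul, mul_assoc, ← Algebra.smul_def, ← Algebra.smul_def,
        ← Submonoid.smul_def t, IsLocalizedModule.mk'_cancel', Algebra.linearMap_apply, Algebra.smul_def, ← map_mul]
      exact Ideal.mem_map_of_mem _ hvs
    · show gS x = 0
      refine Submodule.span_induction (p := fun y _ => gS y = 0) ?_ (map_zero gS)
        (fun a b _ _ ha hb => by rw [map_add, ha, hb, add_zero]) ?_ hx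
      · rintro _ ⟨j, hj, rfl⟩
        show gS (Algebra.linearMap S Sq j) = 0
        rw [IsLocalizedModule.map_apply, hg₀, show f j = 0 from hj, map_zero]
      · intro c a _ ha
        obtain ⟨⟨s, t⟩, rfl⟩ := IsLocalization.mk'_surjective q.primeCompl c
        show gS (IsLocalization.mk' Sq s t * a) = 0
        have h1 : (t : S) • gS (IsLocalization.mk' Sq s t * a) = 0 := by
          rw [← map_smul, Algebra.smul_def, ← mul_assoc, IsLocalization.mk'_spec', ← Algebra.smul_def,
            map_smul, ha, smul_zero]
        exact (IsLocalizedModule.smul_inj (LocalizedModule.mkLinearMap q.primeCompl S') t _ _).1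
          (h1.trans (smul_zero _).symm)
  have hK : J.map (algebraMap S Sq) = ⊥ := by
    refine Submodule.eq_bot_of_le_smul_of_le_jacobson_bot (I.map (algebraMap R Sq)) _ (hJ.map _) ?_ ?_
    · intro x hx
      have hxI : x ∈ (I • ⊤ : Submodule R Sq) := by
        rw [Ideal.smul_top_eq_map]
        exact (Ideal.map_le_iff_le_comap.2 (fun j hj => Ideal.mem_comap.2 (hker j hj)) :
          J.map (algebraMap S Sq) ≤ I.map (algebraMap R Sq)) hx
      have h := Groth.Agent.CAlg4.NilSurj.inf_smul_le I gq hsurj ⟨hxI, hker'.ge hx⟩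
      rw [hker'] at h
      refine Submodule.smul_induction_on h (fun r hr n hn => ?_) (fun a b ha hb => add_mem ha hb)
      rw [show r • n = algebraMap R Sq r • n from Algebra.smul_def r n]
      exact Submodule.smul_mem_smul (Ideal.mem_map_of_mem (algebraMap R Sq) hr) hn
    · refine le_trans ?_ (IsLocalRing.maximalIdeal_le_jacobson ⊥)
      rw [Ideal.map_le_iff_le_comap]
      intro r hr
      rw [Ideal.mem_comap, IsScalarTower.algebraMap_apply R S Sq,
        IsLocalization.AtPrime.to_map_mem_maximal_iff Sq q]
      exact hq' (Ideal.mem_map_of_mem _ hr)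
  obtain ⟨gs, hgs⟩ := hJ
  have hv : ∀ j ∈ gs, ∃ v : S, v ∉ q ∧ v * j = 0 := fun j hj => by
    have hjJ : j ∈ J := hgs ▸ Submodule.subset_span hj
    have h0 : algebraMap S Sq j = 0 := by
      have := Ideal.mem_map_of_mem (algebraMap S Sq) hjJ
      rwa [hK] at this
    obtain ⟨v, hv⟩ := (IsLocalization.map_eq_zero_iff q.primeCompl Sq j).1 h0
    exact ⟨v, v.2, hv⟩
  choose! v hvq hv0 using hv
  have hgq : ∏ j ∈ gs, v j ∉ q := fun h => by
    obtain ⟨j, hj, hjq⟩ := (Ideal.IsPrime.prod_mem_iff).1 h
    exact hvq j hj hjq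
  refine ⟨∏ j ∈ gs, v j, hgq, ?_⟩
  have hkill : ∀ j ∈ J, (∏ i ∈ gs, v i) * j = 0 := fun j hj => by
    rw [← hgs] at hj
    induction hj using Submodule.span_induction with
    | mem x hx => rw [← Finset.prod_erase_mul gs v hx, mul_assoc, hv0 x hx, mul_zero]
    | zero => rw [mul_zero]
    | add a b _ _ ha hb => rw [mul_add, ha, hb, add_zero]
    | smul c a _ ha => rw [smul_eq_mul, mul_left_comm, ha, mul_zero]
  generalize (∏ i ∈ gs, v i) = g at hkill ⊢
  constructor
  · rw [injective_iff_map_eq_zero]
    intro x hx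
    obtain ⟨⟨s, t⟩, rfl⟩ := IsLocalization.mk'_surjective (Submonoid.powers g) x
    rw [Localization.awayMap, IsLocalization.Away.map, IsLocalization.map_mk', IsLocalization.mk'_eq_zero_iff] at hx
    obtain ⟨⟨_, n, rfl⟩, hn⟩ := hx
    rw [IsLocalization.mk'_eq_zero_iff]
    refine ⟨⟨g ^ (n + 1), n + 1, rfl⟩, ?_⟩
    have : g ^ n * s ∈ J := by
      show f (g ^ n * s) = 0
      rw [map_mul, map_pow]; exact hn
    show g ^ (n + 1) * s = 0
    rw [pow_succ, mul_comm (g ^ n), mul_assoc]
    exact hkill _ this
  · intro y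
    obtain ⟨⟨s, ⟨_, n, rfl⟩⟩, rfl⟩ := IsLocalization.mk'_surjective (Submonoid.powers (f.toRingHom g)) y
    obtain ⟨s, rfl⟩ := hf s
    refine ⟨IsLocalization.mk' _ s (⟨g ^ n, n, rfl⟩ : Submonoid.powers g), ?_⟩
    rw [Localization.awayMap, IsLocalization.Away.map, IsLocalization.map_mk']
    congr 1
    exact Subtype.ext (map_pow f.toRingHom g n)

end Groth.Agent.S9166
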