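import Groth.Statements.S9180
import Groth.Agent.CAlg4.FieldExtDim

set_option autoImplicit false
universe u
open CAlg

namespace Groth.Agent.S9180

open TensorProduct in
/-- Let S be of finite type over a field k, K an extension field of k, S_K = S ⊗_k K, q a prime of S
whose residue field has transcendence degree r over k, and q_K a prime of S_K lying over q whose
residue field has transcendence degree r_K over K. Then the local ring at q_K of the fibre of S →
S_K over q has dimension dim (S_K)_{q_K} − dim S_q = r − r_K (stated additively), and there is a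
prime of S_K over q for which this dimension is zero. -/
theorem result (k S K : Type u) [Field k] [CommRing S] [Algebra k S]
    [Algebra.FiniteType k S] [Field K] [Algebra k K] (q : Ideal S) [q.IsPrime] (r : ℕ)
    (hr : Algebra.trdeg k q.ResidueField = r) (qK : Ideal (S ⊗[k] K)) [qK.IsPrime] [qK.LiesOver q]
    (rK : ℕ)
    (hrK : letI : Algebra K (S ⊗[k] K) := Algebra.TensorProduct.rightAlgebra
      Algebra.trdeg K qK.ResidueField = rK) :
    ringKrullDim (EGA4.FibLocRing S (S ⊗[k] K) qK) + ringKrullDim (Localization.AtPrime q) =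
        ringKrullDim (Localization.AtPrime qK) ∧
      ringKrullDim (EGA4.FibLocRing S (S ⊗[k] K) qK) + (rK : WithBot ℕ∞) = (r : WithBot ℕ∞) ∧
      ∃ (q' : Ideal (S ⊗[k] K)) (_ : q'.IsPrime), q'.LiesOver q ∧
        ringKrullDim (EGA4.FibLocRing S (S ⊗[k] K) q') = 0 := by
  let := Algebra.TensorProduct.rightAlgebra (R := k) (A := S) (B := K)
  let e := Algebra.TensorProduct.commRight k K S
  have he : ∀ s : S, e (1 ⊗ₜ[k] s) = algebraMap S (S ⊗[k] K) s := fun s => rfl
  have := Groth.Agent.CAlg4.FieldExtDim.finiteType e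
  have hr' : Groth.Agent.CAlgH2.trdegQuot k q = r := by
    rw [Groth.Agent.CAlgH2.trdegQuot, ← Groth.Agent.CAlgH2.trdeg_residueField k q, hr, Cardinal.toNat_natCast]
  have hrK' : Groth.Agent.CAlgH2.trdegQuot K qK = rK := by
    rw [Groth.Agent.CAlgH2.trdegQuot, ← Groth.Agent.CAlgH2.trdeg_residueField K qK, hrK, Cardinal.toNat_natCast]
  have := Ideal.isPrime_map_quotientMk_of_isPrime (I := q.map (algebraMap S (S ⊗[k] K))) (p := qK)
    (Ideal.map_le_iff_le_comap.2 (Ideal.LiesOver.over (P := qK) (p := q)).le)
  refine ⟨?_, ?_, Groth.Agent.CAlg4.FieldExtDim.exists_dim_zero e he q qK⟩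
  · rw [Groth.Agent.CAlg4.FieldExtDim.dim_fibLocRing q qK, IsLocalization.AtPrime.ringKrullDim_eq_height q,
      IsLocalization.AtPrime.ringKrullDim_eq_height qK, ← Groth.Agent.CAlg4.FieldExtDim.height_add_height e q qK]
    rfl
  · have h := Groth.Agent.CAlg4.FieldExtDim.height_add_trdeg e he q qK
    rw [hr', hrK'] at h
    rw [Groth.Agent.CAlg4.FieldExtDim.dim_fibLocRing q qK]
    exact_mod_cast h

end Groth.Agent.S9180
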