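import Groth.Statements.S9185
import Groth.Agent.DiffOpCalc.Basic
import Mathlib.LinearAlgebra.Quotient.Basic
import Mathlib.LinearAlgebra.TensorProduct.Tower

set_option autoImplicit false
universe u
open Diff16

open scoped TensorProduct

namespace Groth.Agent.S9185

/-- For a ring map R → S, an S-module M and k ≥ 0 there is an S-module P together with a differential
operator D : M → P of order at most k (relative to R → S) such that every differential operator of
order at most k from M to an S-module N is α ∘ D for a unique S-linear map α : P → N; that is,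
differential operators of order ≤ k out of M are represented by P. (Target modules N are taken in
the same universe.) -/
theorem result (R S : Type u) [CommRing R] [CommRing S] [Algebra R S] (M : Type u)
    [AddCommGroup M] [Module S M] [Module R M] [IsScalarTower R S M] (k : ℕ) :
    ∃ (P : Type u) (_ : AddCommGroup P) (_ : Module S P) (_ : Module R P) (_ : IsScalarTower R S P)
      (D : M →ₗ[R] P), Diff16.IsDiffOpLE R S M P k D ∧
        ∀ (N : Type u) [AddCommGroup N] [Module S N] [Module R N] [IsScalarTower R S N] (D' : M →ₗ[R] N),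
          Diff16.IsDiffOpLE R S M N k D' → ∃! α : P →ₗ[S] N, α.restrictScalars R ∘ₗ D = D' := by
  let gen : (Fin (k + 1) → S) × M → S ⊗[R] M := fun bt =>
    ∑ H : Finset (Fin (k + 1)), ((-1 : ℤ) ^ H.card) •
      ((∏ i ∈ H, bt.1 i) • ((1 : S) ⊗ₜ[R] ((∏ i ∈ Hᶜ, bt.1 i) • bt.2)))
  let K : Submodule S (S ⊗[R] M) := Submodule.span S (Set.range gen)
  let D₀ : M →ₗ[R] (S ⊗[R] M) ⧸ K := K.mkQ.restrictScalars R ∘ₗ TensorProduct.mk R S M 1
  refine ⟨(S ⊗[R] M) ⧸ K, inferInstance, inferInstance, inferInstance, inferInstance, D₀, ?_, ?_⟩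
  · rw [DiffOpCalc.le_iff_alternating_sum]
    intro b t
    have h : K.mkQ (gen (b, t)) = 0 :=
      (Submodule.Quotient.mk_eq_zero K).2 (Submodule.subset_span ⟨(b, t), rfl⟩)
    simpa [gen, D₀, map_sum, map_zsmul, map_smul] using h
  · intro N _ _ _ _ D' hD'
    rw [DiffOpCalc.le_iff_alternating_sum] at hD'
    have hK : K ≤ LinearMap.ker (D'.liftBaseChange S) := by
      refine Submodule.span_le.2 ?_
      rintro _ ⟨⟨b, t⟩, rfl⟩
      simpa [gen, map_sum, map_zsmul, map_smul] using hD' b t
    refine ⟨K.liftQ _ hK, ?_, ?_⟩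
    · ext m
      simp [D₀]
    · intro α hα
      refine Submodule.linearMap_qext _ ?_
      ext m
      simpa [D₀] using LinearMap.congr_fun hα m

end Groth.Agent.S9185
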