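import Groth.Statements.S9212
import Groth.Agent.LimTop61.DvrDense

set_option autoImplicit false
universe u
open CategoryTheory CategoryTheory.Limits AlgebraicGeometry
open Lim

namespace Groth.Agent.S9212

/-- Let S be a locally Noetherian scheme and f : X → S a morphism of finite type. Then f is proper if
and only if: for every generic point η of an irreducible component of X, every discrete valuation
ring A contained in the residue field κ(η) with fraction field κ(η) (a valuation subring of κ(η)
which is a discrete valuation ring), and every morphism Spec A → S whose restriction to Spec κ(η) is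
the canonical morphism Spec κ(η) → X followed by f, there is exactly one morphism Spec A → X over S
restricting to the canonical morphism on Spec κ(η). -/
theorem result {X S : Scheme.{u}} [IsLocallyNoetherian S] (f : X ⟶ S)
    [LocallyOfFiniteType f] [QuasiCompact f] :
    IsProper f ↔ ∀ (η : X), closure {η} ∈ irreducibleComponents (X : Type u) →
      ∀ (A : ValuationSubring (X.residueField η)), IsDiscreteValuationRing A →
        ∀ y : Spec (CommRingCat.of A) ⟶ S,
          Spec.map (CommRingCat.ofHom A.subtype) ≫ y = X.fromSpecResidueField η ≫ f →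
          ∃! l : Spec (CommRingCat.of A) ⟶ X,
            l ≫ f = y ∧ Spec.map (CommRingCat.ofHom A.subtype) ≫ l = X.fromSpecResidueField η := by
  constructor
  · intro hf η _ A hA y hy
    have hv : ValuativeCriterion f := ((IsProper.eq_valuativeCriterion ▸ hf :
      (ValuativeCriterion ⊓ @QuasiCompact ⊓ @QuasiSeparated ⊓ @LocallyOfFiniteType) f)).1.1.1
    obtain ⟨hu⟩ := hv { R := A, K := X.residueField η, i₁ := X.fromSpecResidueField η, i₂ := y, commSq := ⟨hy.symm⟩ }
    exact ⟨hu.default.l, ⟨hu.default.fac_right, hu.default.fac_left⟩,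
      fun l hl => congrArg CommSq.LiftStruct.l (hu.uniq ⟨l, hl.2, hl.1⟩)⟩
  · intro H
    have hd : ∀ x : X, ∃ η ∈ {η : X | closure {η} ∈ irreducibleComponents (X : Type u)}, (𝟙 X : X ⟶ X) η ⤳ x := fun x => by
      obtain ⟨η, hη, hηx⟩ := Groth.Agent.LimTop61.exists_generic_specializes x
      exact ⟨η, hη, by simpa using hηx⟩
    have : IsSeparated f := by
      refine Groth.Agent.LimTop61.isSeparated_of_dvr_points f (𝟙 X) _ hd fun u hu A hA l₁ l₂ hl h₁ h₂ => ?_
      rw [Category.comp_id] at h₁ h₂
      obtain ⟨l, -, hl'⟩ := H u hu A hA (l₁ ≫ f) (by rw [← Category.assoc, h₁])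
      exact (hl' l₁ ⟨rfl, h₁⟩).trans (hl' l₂ ⟨hl.symm, h₂⟩).symm
    have : UniversallyClosed f := by
      refine Groth.Agent.LimTop61.universallyClosed_of_dvr_points f (𝟙 X) _ hd fun u hu A hA y hy => ?_
      rw [Category.id_comp] at hy
      obtain ⟨l, hl, -⟩ := H u hu A hA y hy
      exact ⟨l, hl.1, by rw [Category.comp_id]; exact hl.2⟩
    exact { }

end Groth.Agent.S9212
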