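import Groth.Statements.S9216
import Groth.Agent.Approx60.ClosedLimit
import Groth.Agent.LimTop61.DimLim

set_option autoImplicit false
universe u
open CategoryTheory CategoryTheory.Limits AlgebraicGeometry
open Lim

namespace Groth.Agent.S9216

/-- Let S be a quasi-compact quasi-separated scheme, f : X → S a morphism of finite presentation and d a
natural number. Let Z be a closed subscheme of X such that every fibre of Z → S has dimension at
most d. Then there is a closed subscheme Z' of X containing Z such that Z' → X is of finite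
presentation and every fibre of Z' → S has dimension at most d. -/
theorem result {X S Z : Scheme.{u}} [CompactSpace S]
    [QuasiSeparatedSpace S] (f : X ⟶ S) [LocallyOfFinitePresentation f] [QuasiCompact f] [QuasiSeparated f]
    (d : ℕ) (ι : Z ⟶ X) [IsClosedImmersion ι] (hZ : ∀ s : S, topologicalKrullDim ↥((ι ≫ f).fiber s) ≤ d) :
    ∃ (Z' : Scheme.{u}) (ι' : Z' ⟶ X) (k : Z ⟶ Z'), IsClosedImmersion ι' ∧ LocallyOfFinitePresentation ι' ∧
      k ≫ ι' = ι ∧ ∀ s : S, topologicalKrullDim ↥((ι' ≫ f).fiber s) ≤ d := by
  have : CompactSpace X := QuasiCompact.compactSpace_of_compactSpace f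
  have : QuasiSeparatedSpace X := quasiSeparatedSpace_of_quasiSeparated f
  obtain ⟨α, _, _, _, D, π, ⟨hl⟩, hobj, hmap, hπ⟩ := Groth.Agent.Approx60.exists_closed_limit ι
  have : IsConnected αᵒᵖ := IsCofiltered.isConnected _
  let DS : αᵒᵖ ⥤ Scheme.{u} := (Functor.const αᵒᵖ).obj S
  let φ : D ⋙ Over.forget X ⟶ DS :=
    { app := fun i => (D.obj i).hom ≫ f
      naturality := fun i j a => by simp [DS] }
  let cS : Cone DS := ⟨S, 𝟙 _⟩
  have hS : IsLimit cS :=
    { lift := fun s => s.π.app (IsCofiltered.nonempty (C := αᵒᵖ)).some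
      fac := fun s j => by
        simp only [cS, NatTrans.id_app]
        refine (Category.comp_id _).trans ?_
        exact constant_of_preserves_morphisms (α := s.pt ⟶ S) (fun j => s.π.app j) (fun i j a => by
          have := s.w a
          simpa [DS] using this) _ _
      uniq := fun s m hm => by
        have := hm (IsCofiltered.nonempty (C := αᵒᵖ)).some
        simpa [cS, DS] using this }
  have hcl : ∀ (i j : αᵒᵖ) (a : i ⟶ j),
      IsClosedImmersion (pullback.lift ((D ⋙ Over.forget X).map a) (φ.app i) (φ.naturality a)) := by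
    intro i j a
    have h1 : pullback.lift ((D ⋙ Over.forget X).map a) (φ.app i) (φ.naturality a) ≫
        pullback.fst (φ.app j) (DS.map a) = (D.map a).left := pullback.lift_fst _ _ _
    have : IsClosedImmersion (pullback.lift ((D ⋙ Over.forget X).map a) (φ.app i) (φ.naturality a) ≫
        pullback.fst (φ.app j) (DS.map a)) := by rw [h1]; exact hmap i j a
    have : IsIso (DS.map a) := inferInstanceAs (IsIso (𝟙 S))
    exact IsClosedImmersion.of_comp _ (pullback.fst (φ.app j) (DS.map a))
  have : ∀ i, LocallyOfFiniteType (φ.app i) := fun i => by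
    have := (hobj i).1; exact inferInstanceAs (LocallyOfFiniteType ((D.obj i).hom ≫ f))
  have : ∀ i, QuasiCompact (φ.app i) := fun i => by
    have := (hobj i).1; exact inferInstanceAs (QuasiCompact ((D.obj i).hom ≫ f))
  have : ∀ (i j : αᵒᵖ) (a : i ⟶ j), IsAffineHom (DS.map a) := fun i j a =>
    inferInstanceAs (IsAffineHom (𝟙 S))
  have : ∀ i, CompactSpace (DS.obj i) := fun i => inferInstanceAs (CompactSpace S)
  obtain ⟨i, hi⟩ := Groth.Agent.LimTop61.exists_fibre_dim_le_stage φ _ cS
    (isLimitOfPreserves (Over.forget X) hl) hS hcl (ι ≫ f) (fun i => by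
      simp only [cS, φ, NatTrans.id_app]
      refine (Category.comp_id _).trans ?_
      exact ((reassoc_of% (Over.w (π.app i))) f).symm) d hZ
  exact ⟨(D.obj i).left, (D.obj i).hom, (π.app i).left, (hobj i).1, (hobj i).2, Over.w (π.app i), hi⟩

end Groth.Agent.S9216
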