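import Groth.Statements.S9221
import Groth.Agent.Approx60.ProperStage
import Groth.Agent.QCPull72.Support
import Groth.Agent.FlatMor68.ThickeningFT
import Groth.Agent.S0020

set_option autoImplicit false
universe u
open CategoryTheory AlgebraicGeometry
open Lim

namespace Groth.Agent.S9221

/-- Let S = lim S_i be a cofiltered limit of schemes with affine transition morphisms, S_{i₀} a
quasi-compact quasi-separated stage, f₀ : X₀ → Y₀ a morphism of quasi-compact quasi-separated
schemes over S_{i₀}, and f : X → Y its base change along S → S_{i₀} (base changes expressed by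
pullback squares). Let F₀ be a quasi-coherent O_{X₀}-module of finite type, with pullbacks F to X
and F_i to X_i, and assume f₀ is locally of finite type. If the support of F (a closed subset of X,
taken with its reduced structure; equivalently the scheme-theoretic support of F) is proper over Y,
then for some index i over i₀, with f_i : X_i → Y_i the base change of f₀ along S_i → S_{i₀}, the
support of F_i is proper over Y_i. -/
theorem result {I : Type u} [SmallCategory I] [IsCofiltered I]
    (D : I ⥤ Scheme.{u}) (c : Limits.Cone D) (hc : Limits.IsLimit c)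
    [∀ (i j : I) (f : i ⟶ j), IsAffineHom (D.map f)] (i₀ : I) [CompactSpace (D.obj i₀)]
    [QuasiSeparatedSpace (D.obj i₀)] {X₀ Y₀ : Scheme.{u}} (f₀ : X₀ ⟶ Y₀) (g₀ : Y₀ ⟶ D.obj i₀)
    [CompactSpace X₀] [QuasiSeparatedSpace X₀] [CompactSpace Y₀] [QuasiSeparatedSpace Y₀]
    [LocallyOfFiniteType f₀] (F₀ : X₀.Modules) [Coh.IsQCoh F₀] (hF₀ : CohB1.IsFT F₀)
    {X Y : Scheme.{u}} (f : X ⟶ Y) (g : Y ⟶ c.pt) (qY : Y ⟶ Y₀) (qX : X ⟶ X₀)
    (hY : IsPullback qY g g₀ (c.π.app i₀)) (hX : IsPullback qX f f₀ qY) (hF : ClSub.IsProperOver f (CohB1.support ((Scheme.Modules.pullback qX).obj F₀))) :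
    ∃ (i : I) (φ : i ⟶ i₀) (Xi Yi : Scheme.{u}) (fi : Xi ⟶ Yi) (gi : Yi ⟶ D.obj i) (pY : Yi ⟶ Y₀)
      (pX : Xi ⟶ X₀), IsPullback pY gi g₀ (D.map φ) ∧ IsPullback pX fi f₀ pY ∧ ClSub.IsProperOver fi (CohB1.support ((Scheme.Modules.pullback pX).obj F₀)) := by
  have : F₀.IsQuasicoherent := ‹Coh.IsQCoh F₀›
  have : F₀.IsFiniteType := hF₀
  let Z₀ : TopologicalSpace.Closeds X₀ := ⟨CohB1.support F₀, Groth.Agent.S0020.result X₀ F₀ hF₀⟩
  let ι₀ := (Scheme.IdealSheafData.vanishingIdeal Z₀).subschemeι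
  have hι₀ : Set.range ι₀ = CohB1.support F₀ := by
    rw [Scheme.IdealSheafData.range_subschemeι, Scheme.IdealSheafData.coe_support_vanishingIdeal]; rfl
  have : QuasiCompact ι₀ := inferInstance
  have : CompactSpace (Scheme.IdealSheafData.vanishingIdeal Z₀).subscheme :=
    QuasiCompact.compactSpace_of_compactSpace ι₀
  have : QuasiSeparatedSpace (Scheme.IdealSheafData.vanishingIdeal Z₀).subscheme :=
    quasiSeparatedSpace_of_quasiSeparated ι₀
  let z : Limits.pullback ι₀ qX ⟶ X := Limits.pullback.snd ι₀ qX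
  have hsq : IsPullback (Limits.pullback.fst ι₀ qX) (z ≫ f) (ι₀ ≫ f₀) qY :=
    (IsPullback.of_hasPullback ι₀ qX).paste_vert hX
  have hsupp : ∀ {W : Scheme.{u}} (q : W ⟶ X₀) {T : Scheme.{u}} (t : T ⟶ W) (r : T ⟶ _),
      IsPullback r t ι₀ q → Set.range t = CohB1.support ((Scheme.Modules.pullback q).obj F₀) :=
    fun {W} q {T} t r h => by
      rw [Groth.Agent.QCPull72.support_pullback, ← hι₀]
      refine Set.Subset.antisymm ?_ fun w hw => ?_
      · rintro _ ⟨a, rfl⟩
        refine ⟨r a, ?_⟩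
        rw [← Scheme.Hom.comp_apply, h.w, Scheme.Hom.comp_apply]
      · obtain ⟨y, hy⟩ := hw
        obtain ⟨o, -, ho⟩ := Scheme.exists_preimage_of_isPullback h y w hy
        exact ⟨o, ho⟩
  have hz := hsupp qX z _ (IsPullback.of_hasPullback ι₀ qX)
  obtain ⟨hcl, hP⟩ := hF
  let V := Scheme.IdealSheafData.vanishingIdeal (X := X)
    ⟨CohB1.support ((Scheme.Modules.pullback qX).obj F₀), hcl⟩
  have hker : z.ker ≤ V := by
    rw [← Scheme.IdealSheafData.le_support_iff_le_vanishingIdeal, ← SetLike.coe_subset_coe, Scheme.Hom.support_ker]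
    exact (subset_closure).trans' hz.symm.subset
  let k : V.subscheme ⟶ Limits.pullback ι₀ qX :=
    IsClosedImmersion.lift z V.subschemeι (by rw [Scheme.IdealSheafData.ker_subschemeι]; exact hker)
  have hk : k ≫ z = V.subschemeι := IsClosedImmersion.lift_fac _ _ _
  have : IsClosedImmersion k := by
    have : IsClosedImmersion (k ≫ z) := by rw [hk]; infer_instance
    exact IsClosedImmersion.of_comp k z
  have : Surjective k := ⟨fun w => by
    have : z w ∈ Set.range V.subschemeι := by
      rw [Scheme.IdealSheafData.range_subschemeι, Scheme.IdealSheafData.coe_support_vanishingIdeal]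
      exact hz.subset (Set.mem_range_self w)
    obtain ⟨v, hv⟩ := this
    refine ⟨v, z.isClosedEmbedding.injective ?_⟩
    rw [← hv, ← hk]; rfl⟩
  have : IsProper (k ≫ z ≫ f) := by rw [← Category.assoc, hk]; exact hP
  have : LocallyOfFiniteType (z ≫ f) :=
    MorphismProperty.of_isPullback hsq (inferInstance : LocallyOfFiniteType (ι₀ ≫ f₀))
  have : IsSeparated (z ≫ f) := Groth.Agent.FlatMor68.ThickeningFT.isSeparated_of_comp_surjective k (z ≫ f)
  have : UniversallyClosed (z ≫ f) := UniversallyClosed.of_comp_surjective k (z ≫ f)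
  have : IsProper (z ≫ f) := {}
  obtain ⟨i, φ, Zi, Yi, fzi, gi, pY, pZ, hYi, hZi, hfzi⟩ :=
    Groth.Agent.Approx60.S2074 D c hc i₀ (ι₀ ≫ f₀) g₀ (z ≫ f) g qY _ hY hsq
  let Xi := Limits.pullback f₀ pY
  let zi : Zi ⟶ Xi := Limits.pullback.lift (pZ ≫ ι₀) fzi (by rw [Category.assoc, hZi.w])
  have hzi : IsPullback pZ zi ι₀ (Limits.pullback.fst f₀ pY) := by
    refine IsPullback.of_bot ?_ (Limits.pullback.lift_fst _ _ _).symm (IsPullback.of_hasPullback f₀ pY)
    rw [show zi ≫ Limits.pullback.snd f₀ pY = fzi from Limits.pullback.lift_snd _ _ _]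
    exact hZi
  refine ⟨i, φ, Xi, Yi, Limits.pullback.snd f₀ pY, gi, pY, Limits.pullback.fst f₀ pY, hYi,
    IsPullback.of_hasPullback f₀ pY, ?_⟩
  have hr := hsupp _ zi _ hzi
  have : IsClosedImmersion zi :=
    MorphismProperty.of_isPullback hzi (inferInstance : IsClosedImmersion ι₀)
  have hcl' : IsClosed (CohB1.support ((Scheme.Modules.pullback (Limits.pullback.fst f₀ pY)).obj F₀)) :=
    hr ▸ zi.isClosedEmbedding.isClosed_range
  refine ⟨hcl', ?_⟩
  let V' := Scheme.IdealSheafData.vanishingIdeal (X := Xi) ⟨_, hcl'⟩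
  let k' : V'.subscheme ⟶ Zi := IsClosedImmersion.lift zi V'.subschemeι (by
    rw [Scheme.IdealSheafData.ker_subschemeι, ← Scheme.IdealSheafData.le_support_iff_le_vanishingIdeal,
      ← SetLike.coe_subset_coe, Scheme.Hom.support_ker]
    exact subset_closure.trans' hr.symm.subset)
  have hk' : k' ≫ zi = V'.subschemeι := IsClosedImmersion.lift_fac _ _ _
  have : IsClosedImmersion k' := by
    have : IsClosedImmersion (k' ≫ zi) := by rw [hk']; infer_instance
    exact IsClosedImmersion.of_comp k' zi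
  have e : V'.subschemeι ≫ Limits.pullback.snd f₀ pY = k' ≫ fzi := by
    rw [← hk', Category.assoc, Limits.pullback.lift_snd]
  show IsProper (V'.subschemeι ≫ Limits.pullback.snd f₀ pY)
  rw [e]
  exact MorphismProperty.comp_mem _ _ _ (inferInstance : IsProper k') hfzi

end Groth.Agent.S9221
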