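import Groth.Statements.S9227
import Groth.Agent.CAlg4.DerivRegular

set_option autoImplicit false
universe u
open CAlg

namespace Groth.Agent.S9227

/-- Let R be a regular ring, f an element of R and D a derivation of R with D(f) a unit of R. Then for
every polynomial p with integer coefficients the ring R[z]/(p(z) - f) is regular; in particular
R[z]/(z^n - f) is regular for every n ≥ 1. -/
theorem result (R : Type u) [CommRing R]
    [IsRegularRing R] (f : R) (D : Derivation ℤ R R) (hD : IsUnit (D f)) (p : Polynomial ℤ) :
    IsRegularRing (Polynomial R ⧸
      Ideal.span ({Polynomial.map (Int.castRingHom R) p - Polynomial.C f} : Set (Polynomial R))) := by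
  let D' : Derivation ℤ (Polynomial R) (Polynomial R) :=
    Derivation.mk' ((PolynomialModule.equivPolynomialSelf (R := R)).toLinearMap.restrictScalars ℤ ∘ₗ
      D.mapCoeffs.toLinearMap) fun a b => by
        simp [Derivation.leibniz, map_add]
  refine Groth.Agent.CAlg4.DerivRegular.regular_quotient_addHom _ _ D'.toLinearMap.toAddMonoidHom
    (fun a b => D'.leibniz a b) ?_
  have h : D' (Polynomial.map (Int.castRingHom R) p - Polynomial.C f) = -Polynomial.C (D f) := by
    rw [map_sub]
    have h1 : D' (Polynomial.map (Int.castRingHom R) p) = 0 := by
      induction p using Polynomial.induction_on' with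
      | add p q hp hq => rw [Polynomial.map_add, map_add, hp, hq, add_zero]
      | monomial n c => simp [D']
    rw [h1, zero_sub]
    simp [D']
  change IsUnit (Ideal.Quotient.mk _ (D' _))
  rw [h, map_neg]
  exact ((hD.map Polynomial.C).map _).neg

end Groth.Agent.S9227
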