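import Groth.Statements.S9230
import Groth.Agent.Brnch26.UnivCat

set_option autoImplicit false
universe u
open EGA4

namespace Groth.Agent.S9230

/-- For a Noetherian local ring A whose formal fibres are geometrically normal, every henselization S of
A is universally catenary. -/
theorem result (A S : Type u) [CommRing A]
    [IsLocalRing A] [IsNoetherianRing A] [CommRing S] [IsLocalRing S] [Algebra A S]
    [IsLocalHom (algebraMap A S)] [Hensel.IsHenselization A S]
    (hA : EGA4.HasGeomNormalFormalFibres A) : CAlg.IsUniversallyCatenary S := by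
  haveI : HenselianLocalRing S := (inferInstance : Hensel.IsHenselization A S).henselian
  haveI : IsNoetherianRing S :=
    isNoetherianRing_of_ringEquiv _ (Henz21.henselizationEquiv (R := A) S).toRingEquiv
  have hS := Brnch26.hasGeomNormalFormalFibres_henselization A S hA
  refine EGA4H10.isUniversallyCatenary_of_quotients S fun P hP n => ?_
  obtain ⟨q, hq, hqP⟩ := Ideal.exists_minimalPrimes_le (I := (⊥ : Ideal S)) (J := P) bot_le
  haveI : q.IsPrime := hq.1.1
  haveI : Nontrivial (S ⧸ q) := Ideal.Quotient.nontrivial_iff.2 hq.1.1.ne_top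
  haveI : IsLocalRing (S ⧸ q) :=
    IsLocalRing.of_surjective' (Ideal.Quotient.mk q) Ideal.Quotient.mk_surjective
  haveI : Algebra.IsIntegral S (S ⧸ q) :=
    ⟨fun z => by obtain ⟨a, rfl⟩ := Ideal.Quotient.mk_surjective z; exact isIntegral_algebraMap⟩
  haveI : HenselianLocalRing (S ⧸ q) := Henz21.henselianLocalRing_of_isIntegral (A := S)
  haveI : IsDomain (EGA4.Cpl (S ⧸ q)) := Hensel20.isDomain_cpl (S ⧸ q) (S4754.result S hS q)
  haveI : Subsingleton (minimalPrimes (EGA4.Cpl (S ⧸ q))) := by
    rw [IsDomain.minimalPrimes_eq_singleton_bot]; infer_instance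
  have huc := Brnch26.isUniversallyCatenary_of_formallyEquidim (S ⧸ q)
    (Brnch26.isEquidim_of_subsingleton_minimalPrimes (EGA4.Cpl (S ⧸ q)))
  letI : Algebra (S ⧸ q) (S ⧸ P) := (Ideal.Quotient.factor hqP).toAlgebra
  haveI : Algebra.FiniteType (S ⧸ q) (S ⧸ P) :=
    Algebra.FiniteType.of_surjective (Algebra.ofId (S ⧸ q) (S ⧸ P))
      (Ideal.Quotient.factor_surjective hqP)
  exact huc.2 _ (Algebra.FiniteType.trans (S := S ⧸ P) inferInstance inferInstance)

end Groth.Agent.S9230
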