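import Groth.Statements.S9231
import Groth.Agent.Hens22.CompletionUnrAdic

set_option autoImplicit false
universe u
open CAlg Groth.Agent

namespace Groth.Agent.S9231

/-- For a local ring map A → B between Noetherian local rings, let ψ be the induced map from the
completion of A at its maximal ideal to that of B (here: a ring map of the completions whose
composite with A → A^ is the composite A → B → B^; since A is Noetherian such a map is unique, hence
is the canonical one). Then ψ is flat exactly when A → B is flat. -/
theorem result (A B : Type u) [CommRing A] [CommRing B] [IsLocalRing A]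
    [IsLocalRing B] [IsNoetherianRing A] [IsNoetherianRing B] [Algebra A B]
    [IsLocalHom (algebraMap A B)]
    (ψ : AdicCompletion (IsLocalRing.maximalIdeal A) A →+* AdicCompletion (IsLocalRing.maximalIdeal B) B)
    (hψ : ψ.comp (algebraMap A (AdicCompletion (IsLocalRing.maximalIdeal A) A)) =
      (algebraMap B (AdicCompletion (IsLocalRing.maximalIdeal B) B)).comp (algebraMap A B)) :
    ψ.Flat ↔ (algebraMap A B).Flat := by
  open IsLocalRing in
  let _ : Algebra (AdicCompletion (maximalIdeal A) A) (AdicCompletion (maximalIdeal B) B) := ψ.toAlgebra
  have : IsScalarTower A B (AdicCompletion (maximalIdeal B) B) := IsScalarTower.of_algebraMap_eq fun _ => rfl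
  have : IsScalarTower A (AdicCompletion (maximalIdeal A) A) (AdicCompletion (maximalIdeal B) B) :=
    IsScalarTower.of_algebraMap_eq fun a => (RingHom.congr_fun hψ a).symm
  have hC := Hens22.isCompl'_adic A
  have hD := Hens22.isCompl'_adic B
  have : IsLocalHom (algebraMap (AdicCompletion (maximalIdeal A) A) (AdicCompletion (maximalIdeal B) B)) :=
    Hens22.isLocalHom_completed (B := B) hC hD
  constructor
  · intro h
    have : Module.Flat (AdicCompletion (maximalIdeal A) A) (AdicCompletion (maximalIdeal B) B) := h
    have := hC.flat
    exact RingHom.flat_algebraMap_iff.2 (Hens22.flat_of_completed (A := A) (C := AdicCompletion (maximalIdeal A) A) hD)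
  · intro h
    have : Module.Flat A B := RingHom.flat_algebraMap_iff.1 h
    exact Hens22.flat_completed (A := A) (B := B) hC hD

end Groth.Agent.S9231
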