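import Groth.Statements.S9232
import Groth.Agent.Hens22.CompletionUnrAdic

set_option autoImplicit false
universe u
open CAlg Groth.Agent

namespace Groth.Agent.S9232

/-- Suppose A → B is a flat local ring map between Noetherian local rings, the maximal ideal of A
generates that of B, and the residue field map is bijective. Then the induced map between the
completions of A and B (a ring map of the completions compatible with A → B; it is unique since A is
Noetherian) is an isomorphism. -/
theorem result (A B : Type u) [CommRing A]
    [CommRing B] [IsLocalRing A] [IsLocalRing B] [IsNoetherianRing A] [IsNoetherianRing B]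
    [Algebra A B] [IsLocalHom (algebraMap A B)] [Module.Flat A B]
    (hm : Ideal.map (algebraMap A B) (IsLocalRing.maximalIdeal A) = IsLocalRing.maximalIdeal B)
    (hk : Function.Bijective (IsLocalRing.ResidueField.map (algebraMap A B)))
    (ψ : AdicCompletion (IsLocalRing.maximalIdeal A) A →+* AdicCompletion (IsLocalRing.maximalIdeal B) B)
    (hψ : ψ.comp (algebraMap A (AdicCompletion (IsLocalRing.maximalIdeal A) A)) =
      (algebraMap B (AdicCompletion (IsLocalRing.maximalIdeal B) B)).comp (algebraMap A B)) :
    Function.Bijective ψ := by
  open IsLocalRing in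
  let _ : Algebra (AdicCompletion (maximalIdeal A) A) (AdicCompletion (maximalIdeal B) B) := ψ.toAlgebra
  have : IsScalarTower A B (AdicCompletion (maximalIdeal B) B) := IsScalarTower.of_algebraMap_eq fun _ => rfl
  have : IsScalarTower A (AdicCompletion (maximalIdeal A) A) (AdicCompletion (maximalIdeal B) B) :=
    IsScalarTower.of_algebraMap_eq fun a => (RingHom.congr_fun hψ a).symm
  have hC := Hens22.isCompl'_adic A
  have hD := Hens22.isCompl'_adic B
  have : IsLocalHom (algebraMap (AdicCompletion (maximalIdeal A) A) (AdicCompletion (maximalIdeal B) B)) :=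
    Hens22.isLocalHom_completed (B := B) hC hD
  let C := AdicCompletion (maximalIdeal A) A
  let D := AdicCompletion (maximalIdeal B) B
  have := hC.noetherian
  have := hC.complete
  have := Hens22.flat_completed (A := A) (B := B) hC hD
  have hmax := (Hens22.map_max_iff hC hD).1 hm
  have hfr : Module.Finite (ResidueField C) (ResidueField D) := by
    have := hC.isLocalHom
    have := hD.isLocalHom
    refine Module.Finite.of_surjective (Algebra.linearMap (ResidueField C) (ResidueField D)) fun z => ?_
    obtain ⟨y, rfl⟩ := hD.bijective_residueField.2 z
    obtain ⟨x, rfl⟩ := hk.2 y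
    refine ⟨ResidueField.map (algebraMap A C) x, ?_⟩
    obtain ⟨a, rfl⟩ := residue_surjective x
    show residue D (algebraMap C D (algebraMap A C a)) = residue D (algebraMap B D (algebraMap A B a))
    rw [← IsScalarTower.algebraMap_apply, ← IsScalarTower.algebraMap_apply]
  have hfin : Module.Finite C D := Hens22.finite_completed hC hD hmax
  have hsurj : Function.Surjective ψ := by
    suffices LinearMap.range (Algebra.linearMap C D) = ⊤ from LinearMap.range_eq_top.1 this
    refine top_unique ?_
    refine Submodule.le_of_le_smul_of_le_jacobson_bot Module.Finite.fg_top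
      (IsLocalRing.maximalIdeal_le_jacobson _) fun x _ => ?_
    obtain ⟨b, hb⟩ := hD.exists_sub_mem 1 x
    obtain ⟨y, hy⟩ := hk.2 (residue B b)
    obtain ⟨a, rfl⟩ := residue_surjective y
    rw [ResidueField.map_residue] at hy
    have hba : algebraMap B D (b - algebraMap A B a) ∈ maximalIdeal D := by
      rw [← hD.map_eq]; exact Ideal.mem_map_of_mem _ (Ideal.Quotient.eq.1 hy.symm)
    refine Submodule.mem_sup.2 ⟨_, LinearMap.mem_range_self (Algebra.linearMap C D) (algebraMap A C a),
      x - algebraMap C D (algebraMap A C a), ?_, by simp⟩
    rw [Ideal.smul_top_eq_map, Submodule.restrictScalars_mem, hmax, ← IsScalarTower.algebraMap_apply,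
      IsScalarTower.algebraMap_apply A B D]
    rw [pow_one] at hb
    rw [show x - algebraMap B D (algebraMap A B a) =
      (x - algebraMap B D b) + algebraMap B D (b - algebraMap A B a) by rw [map_sub]; ring]
    exact add_mem hb hba
  have : Module.FaithfullyFlat C D := Module.FaithfullyFlat.of_flat_of_isLocalHom
  exact ⟨FaithfulSMul.algebraMap_injective C D, hsurj⟩

end Groth.Agent.S9232
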