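import Groth.Statements.S9233
import Groth.Agent.Henz21.Depth
-- import your own Groth.Agent.* helpers here

set_option autoImplicit false
universe u
open Hensel

namespace Groth.Agent.S9233

/-- The henselization S of a Noetherian local ring R has the same depth as R. -/
theorem result (R S : Type u) [CommRing R] [IsLocalRing R] [IsNoetherianRing R]
    [CommRing S] [IsLocalRing S] [Algebra R S] [IsLocalHom (algebraMap R S)]
    [Hensel.IsHenselization R S] : LocCoh.depth S S = LocCoh.depth R R := by
  exact Groth.Agent.Henz21.depth_eq_of_equiv (Groth.Agent.Henz21.henselizationEquiv (R := R) S)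

end Groth.Agent.S9233
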