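import Groth.Statements.S9239
import Groth.Agent.Brnch26.Compl

set_option autoImplicit false
universe u
open Brnch

namespace Groth.Agent.S9239

/-- For a Noetherian local ring A with completion A^ at its maximal ideal, A^ has at least as many
branches as A, and at least as many geometric branches as A. -/
theorem result (A : Type u) [CommRing A] [IsLocalRing A] [IsNoetherianRing A] :
    Brnch.numBranches A ≤ Brnch.numBranches (AdicCompletion (IsLocalRing.maximalIdeal A) A) ∧
      Brnch.numGeomBranches A ≤
        Brnch.numGeomBranches (AdicCompletion (IsLocalRing.maximalIdeal A) A) := by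
  refine ⟨?_, ?_⟩
  · let S := Henz21.Henselization A
    obtain ⟨ψ, hψ, -⟩ := Hensel.IsHenselization.universal (R := A) (S := S)
      (AdicCompletion (IsLocalRing.maximalIdeal A) A)
      (algebraMap A (AdicCompletion (IsLocalRing.maximalIdeal A) A)) inferInstance
    letI := ψ.toAlgebra
    obtain ⟨hN, hff, hloc, hm, hres⟩ := Brnch26.approx_henselization S ψ hψ
    haveI := hff
    rw [Brnch26.numBranches_cpl, ← Brnch26.card_minimalPrimes_henselization (A := A)]
    exact Brnch26.card_minimalPrimes_le
  · obtain ⟨_, hff, -⟩ := Brnch26.exists_approx_strict (A := A)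
    rw [← Brnch26.card_minimalPrimes_strictHenselization (A := A),
      ← Brnch26.card_minimalPrimes_strictHenselization
        (A := AdicCompletion (IsLocalRing.maximalIdeal A) A)]
    exact Brnch26.card_minimalPrimes_le

end Groth.Agent.S9239
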