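import Groth.Statements.S9241
import Groth.Agent.Brnch26.Compl

set_option autoImplicit false
universe u
open Brnch

namespace Groth.Agent.S9241

/-- For a Noetherian local ring A of dimension 1, A and its completion A^ have the same number of
branches and the same number of geometric branches. -/
theorem result (A : Type u) [CommRing A] [IsLocalRing A]
    [IsNoetherianRing A] (hA : ringKrullDim A = 1) :
    Brnch.numBranches (AdicCompletion (IsLocalRing.maximalIdeal A) A) = Brnch.numBranches A ∧
      Brnch.numGeomBranches (AdicCompletion (IsLocalRing.maximalIdeal A) A) =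
        Brnch.numGeomBranches A := by
  let C := AdicCompletion (IsLocalRing.maximalIdeal A) A
  have hdim : ∀ (T : Type u) [CommRing T] [IsLocalRing T] [IsNoetherianRing T], ringKrullDim T = 1 →
      Ring.KrullDimLE 1 T ∧ IsLocalRing.maximalIdeal T ∉ minimalPrimes T := by
    intro T _ _ _ h
    refine ⟨Ring.krullDimLE_iff.2 h.le, fun hmem => ?_⟩
    have h0 : (IsLocalRing.maximalIdeal T).height = 0 := Ideal.height_eq_zero_iff.2 hmem
    rw [← IsLocalRing.maximalIdeal_height_eq_ringKrullDim, h0] at h
    exact zero_ne_one h
  have hC : ringKrullDim C = 1 := (CAlg1.ringKrullDim_adicCompletion A).trans hA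
  obtain ⟨_, h0⟩ := hdim C hC
  refine ⟨?_, ?_⟩
  · let S := Henz21.Henselization A
    obtain ⟨ψ, hψ, -⟩ := Hensel.IsHenselization.universal (R := A) (S := S) C (algebraMap A C)
      inferInstance
    letI := ψ.toAlgebra
    obtain ⟨hN, hff, hloc, hm, hres⟩ := Brnch26.approx_henselization S ψ hψ
    haveI := hff
    haveI := hloc
    rw [Brnch26.numBranches_cpl, ← Brnch26.card_minimalPrimes_henselization (A := A)]
    exact Brnch26.card_minimalPrimes_eq_of_dimLE_one hm hres h0
  · obtain ⟨_, hff, hloc, hm, hres⟩ := Brnch26.exists_approx_strict (A := A)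
    haveI := hloc
    have hT : ringKrullDim (Henz21.StrictHenselization C) = 1 := by
      rw [CAlg1.ringKrullDim_eq_of_flat (R := C) (Henz21.strictHenselization_map_maximalIdeal (R := C) (Henz21.StrictHenselization C)), hC]
    obtain ⟨_, h0'⟩ := hdim _ hT
    rw [← Brnch26.card_minimalPrimes_strictHenselization (A := A),
      ← Brnch26.card_minimalPrimes_strictHenselization (A := C)]
    exact Brnch26.card_minimalPrimes_eq_of_dimLE_one hm hres h0'

end Groth.Agent.S9241
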