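import Groth.Statements.S9242
import Groth.Agent.Brnch26.Compl

set_option autoImplicit false
universe u
open Brnch

namespace Groth.Agent.S9242

/-- Let A be a Noetherian local ring with henselization S and completion A^, let ψ : S → A^ be the ring
map compatible with the structure maps from A, and let q be a minimal prime of A^ with dim(A^/q) =
1. Then q is the radical of the extension along ψ of some minimal prime of S. -/
theorem result (A S : Type u) [CommRing A]
    [IsLocalRing A] [IsNoetherianRing A] [CommRing S] [IsLocalRing S] [Algebra A S]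
    [IsLocalHom (algebraMap A S)] [Hensel.IsHenselization A S]
    (ψ : S →+* AdicCompletion (IsLocalRing.maximalIdeal A) A)
    (hψ : ψ.comp (algebraMap A S) = algebraMap A (AdicCompletion (IsLocalRing.maximalIdeal A) A))
    (q : Ideal (AdicCompletion (IsLocalRing.maximalIdeal A) A))
    (hq : q ∈ minimalPrimes (AdicCompletion (IsLocalRing.maximalIdeal A) A))
    (hdim : ringKrullDim (AdicCompletion (IsLocalRing.maximalIdeal A) A ⧸ q) = 1) :
    ∃ q' ∈ minimalPrimes S, (Ideal.map ψ q').radical = q := by
  letI := ψ.toAlgebra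
  obtain ⟨hN, hff, hloc, hm, hres⟩ := Brnch26.approx_henselization S ψ hψ
  haveI := hN
  haveI := hff
  haveI := hloc
  haveI : HenselianLocalRing S := Hensel.IsHenselization.henselian A
  haveI := hq.1.1
  have hne : q ≠ IsLocalRing.maximalIdeal (AdicCompletion (IsLocalRing.maximalIdeal A) A) := fun h => by
    haveI : q.IsMaximal := h ▸ IsLocalRing.maximalIdeal.isMaximal _
    letI := Ideal.Quotient.field q
    rw [ringKrullDim_eq_zero_of_field] at hdim
    exact zero_ne_one hdim
  haveI : Ring.KrullDimLE 1 (AdicCompletion (IsLocalRing.maximalIdeal A) A ⧸ q) :=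
    Ring.krullDimLE_iff.2 hdim.le
  refine ⟨q.comap ψ, Brnch26.comap_minimalPrimes_mem (S := S) hq,
    Brnch26.radical_map_comap_eq hm hres hq hne fun P hP hqP hPm => ?_⟩
  haveI := hP
  haveI : (P.map (Ideal.Quotient.mk q)).IsPrime :=
    Ideal.map_isPrime_of_surjective Ideal.Quotient.mk_surjective (by rwa [Ideal.mk_ker])
  have hcm : (P.map (Ideal.Quotient.mk q)).comap (Ideal.Quotient.mk q) = P := by
    rw [Ideal.comap_map_of_surjective' _ Ideal.Quotient.mk_surjective, Ideal.mk_ker, sup_eq_left.2 hqP]
  by_contra hPq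
  have h0 : P.map (Ideal.Quotient.mk q) ≠ ⊥ := fun h0 => hPq (by
    rw [← hcm, h0, ← RingHom.ker_eq_comap_bot, Ideal.mk_ker])
  haveI := Ring.krullDimLE_one_iff_of_noZeroDivisors.1 ‹_› _ h0 inferInstance
  refine hPm (IsLocalRing.eq_maximalIdeal (hcm ▸ ?_))
  exact Ideal.comap_isMaximal_of_surjective _ Ideal.Quotient.mk_surjective

end Groth.Agent.S9242
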