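import Groth.Statements.S9243
import Groth.Agent.Brnch26.Compl

set_option autoImplicit false
universe u
open Brnch

namespace Groth.Agent.S9243

/-- Let A be a Noetherian local ring with henselization S and completion A^, and ψ : S → A^ the ring map
compatible with the structure maps from A. Then A and A^ have the same number of branches if and
only if, for every minimal prime q of S, the radical of the extension of q along ψ is a prime ideal
of A^. -/
theorem result (A S : Type u) [CommRing A] [IsLocalRing A]
    [IsNoetherianRing A] [CommRing S] [IsLocalRing S] [Algebra A S] [IsLocalHom (algebraMap A S)]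
    [Hensel.IsHenselization A S] (ψ : S →+* AdicCompletion (IsLocalRing.maximalIdeal A) A)
    (hψ : ψ.comp (algebraMap A S) = algebraMap A (AdicCompletion (IsLocalRing.maximalIdeal A) A)) :
    Brnch.numBranches A = Brnch.numBranches (AdicCompletion (IsLocalRing.maximalIdeal A) A) ↔
      ∀ q ∈ minimalPrimes S, (Ideal.map ψ q).radical.IsPrime := by
  letI := ψ.toAlgebra
  obtain ⟨hN, hff, hloc, hm, hres⟩ := Brnch26.approx_henselization S ψ hψ
  haveI := hN
  haveI := hff
  haveI := hloc
  haveI : HenselianLocalRing S := Hensel.IsHenselization.henselian A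
  let C := AdicCompletion (IsLocalRing.maximalIdeal A) A
  rw [Brnch26.numBranches_cpl, ← Brnch26.card_minimalPrimes_of_isHenselization S]
  haveI : Finite (minimalPrimes C) := (minimalPrimes.finite_of_isNoetherianRing C).to_subtype
  haveI : Finite (minimalPrimes S) := (minimalPrimes.finite_of_isNoetherianRing S).to_subtype
  have hrad : ∀ q : Ideal S, (q.map (algebraMap S C)).radical =
      sInf (q.map (algebraMap S C)).minimalPrimes := fun q => Ideal.sInf_minimalPrimes.symm
  constructor
  · intro heq
    have hcard : Nat.card (minimalPrimes C) = Nat.card (minimalPrimes S) := by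
      rw [ENat.card_eq_coe_natCard, ENat.card_eq_coe_natCard] at heq
      exact (Nat.cast_inj.1 heq).symm
    let F : minimalPrimes C → minimalPrimes S := fun P => ⟨_, Brnch26.comap_minimalPrimes_mem P.2⟩
    have hbij : Function.Bijective F := by
      have hsurj : Function.Surjective F := fun q => by
        obtain ⟨P, hP, hPq⟩ := Brnch26.exists_minimalPrimes_comap_eq (C := C) q.2
        exact ⟨⟨P, hP⟩, Subtype.ext hPq⟩
      exact (Nat.bijective_iff_surjective_and_card F).2 ⟨hsurj, hcard⟩
    intro q hq
    obtain ⟨P, hP, hPq⟩ := Brnch26.exists_minimalPrimes_comap_eq (C := C) hq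
    have huniq : ∀ R ∈ (q.map (algebraMap S C)).minimalPrimes, R = P := fun R hR => by
      obtain ⟨hR1, hR2⟩ := Brnch26.mem_minimalPrimes_of_mem_map hq hR
      exact congrArg Subtype.val (hbij.1 (a₁ := ⟨R, hR1⟩) (a₂ := ⟨P, hP⟩) (Subtype.ext (hR2.trans hPq.symm)))
    haveI := hP.1.1
    obtain ⟨R, hR, -⟩ := Ideal.exists_minimalPrimes_le
      (I := q.map (algebraMap S C)) (J := P) (Ideal.map_le_iff_le_comap.2 hPq.ge)
    have : (q.map (algebraMap S C)).radical = P := by
      rw [hrad]
      exact le_antisymm (sInf_le (huniq R hR ▸ hR)) (le_sInf fun R' hR' => (huniq R' hR').ge)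
    show (q.map (algebraMap S C)).radical.IsPrime
    rw [this]
    infer_instance
  · intro h
    refine (Brnch26.card_minimalPrimes_eq_of_inj fun P hP Q hQ hPQ => ?_).symm
    have hpr := h _ (Brnch26.comap_minimalPrimes_mem (S := S) hP)
    haveI := hP.1.1
    haveI := hQ.1.1
    have key : ∀ R : Ideal C, R ∈ minimalPrimes C → R.comap ψ = P.comap ψ →
        R = ((P.comap ψ).map ψ).radical := fun R hR hRP => by
      have hle : ((P.comap ψ).map ψ).radical ≤ R :=
        (Ideal.IsRadical.radical_le_iff hR.1.1.isRadical).2 (hRP ▸ Ideal.map_comap_le)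
      exact le_antisymm (hR.2 ⟨hpr, bot_le⟩ hle) hle
    exact (key P hP rfl).trans (key Q hQ hPQ.symm).symm

end Groth.Agent.S9243
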