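import Groth.Statements.S9248
import Mathlib
import Groth.Agent.CAlg4.PicValuation

set_option autoImplicit false
universe u
open CAlg

namespace Groth.Agent.S9248

/-- Let R be a valuation ring, K its field of fractions and κ its residue field, and let A be a local
ring with a flat, local homomorphism R → A essentially of finite type such that κ ⊗_R A is a regular
ring. Then K ⊗_R A has trivial Picard group. -/
theorem result (R A : Type u) [CommRing R] [IsDomain R]
    [ValuationRing R] [CommRing A] [IsLocalRing A] [Algebra R A] [IsLocalHom (algebraMap R A)]
    [Module.Flat R A] [Algebra.EssFiniteType R A]
    (hreg : IsRegularRing (TensorProduct R (IsLocalRing.ResidueField R) A)) :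
    Subsingleton (CommRing.Pic (TensorProduct R (FractionRing R) A)) := by
  exact Groth.Agent.CAlg4.PicValuation.main hreg

end Groth.Agent.S9248
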