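import Groth.Statements.S9249
import Groth.Agent.CAlg4.CMFlat
import Groth.Agent.CAlg1.Complete

set_option autoImplicit false
universe u
open CAlg

namespace Groth.Agent.S9249

/-- A Noetherian local ring is Cohen-Macaulay if and only if its completion is. -/
theorem result (A : Type u) [CommRing A] [IsLocalRing A]
    [IsNoetherianRing A] :
    LocCoh.IsCohenMacaulayLocalRing A ↔
      LocCoh.IsCohenMacaulayLocalRing (AdicCompletion (IsLocalRing.maximalIdeal A) A) := by
  have := Groth.Agent.CAlg1.isNoetherianRing_adicCompletion _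
    (IsLocalRing.maximalIdeal A).fg_of_isNoetherianRing
  refine Groth.Agent.CAlg4.CMFlat.cm_iff ?_
  rw [← AdicCompletion.maximalIdeal_eq_map]
  exact ringKrullDimZero_iff_ringKrullDim_eq_zero.mp
    (inferInstanceAs (Ring.KrullDimLE 0 (IsLocalRing.ResidueField (AdicCompletion (IsLocalRing.maximalIdeal A) A))))

end Groth.Agent.S9249
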