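import Groth.Statements.S9260
import Mathlib

set_option autoImplicit false
universe u
open CAlg

namespace Groth.Agent.S9260

/-- Suppose a finite group G with n elements acts on a ring R by ring automorphisms, A → R is a ring map
compatible with the action whose image contains the invariants (so that A maps onto R^G), J is an
ideal of A, and x lies in JR. Then ∏_σ (T - σ(x)) is the image of a monic polynomial over A of
degree at most n whose coefficients below degree n all lie in J. (The published statement takes A =
R^G and a polynomial of degree n; this row allows any such A mapping onto R^G and asks degree at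
most n, which is the same when A is nonzero.) -/
theorem result (A R G : Type u) [CommRing A]
    [CommRing R] [Algebra A R] [Group G] [Fintype G] [MulSemiringAction G R] [SMulCommClass G A R]
    [Algebra.IsInvariant A R G] (J : Ideal A) (x : R) (hx : x ∈ Ideal.map (algebraMap A R) J) :
    ∃ P : Polynomial A, P.Monic ∧ P.natDegree ≤ Fintype.card G ∧
      (∀ i : ℕ, i < Fintype.card G → P.coeff i ∈ J) ∧
      Polynomial.map (algebraMap A R) P = ∏ σ : G, (Polynomial.X - Polynomial.C (σ • x)) := by
  open Polynomial in
  classical
  obtain ⟨n, r, g, hxe⟩ := Submodule.mem_span_set'.1 hx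
  have hg : ∀ l, ∃ j ∈ J, algebraMap A R j = (g l).1 := fun l => (g l).2
  choose j hjJ hjg using hg
  let Y : MvPolynomial (Fin n) R := ∑ l, MvPolynomial.X l * MvPolynomial.C (r l)
  let act : G → R →+* R := fun σ => MulSemiringAction.toRingHom G R σ
  let Q : Polynomial (MvPolynomial (Fin n) R) := ∏ σ : G, (X - C (MvPolynomial.map (act σ) Y))
  let E : MvPolynomial (Fin n) R →+* R := MvPolynomial.eval fun l => algebraMap A R (j l)
  let target : R[X] := ∏ σ : G, (X - C (σ • x))
  have hQE : Q.map E = target := by
    simp only [Q, target, Polynomial.map_prod, Polynomial.map_sub, map_X, map_C]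
    refine Finset.prod_congr rfl fun σ _ => ?_
    congr 2
    simp only [E, Y, map_sum, map_mul, MvPolynomial.map_X, MvPolynomial.map_C, MvPolynomial.eval_X,
      MvPolynomial.eval_C, ← hxe, Finset.smul_sum, smul_eq_mul, act, MulSemiringAction.toRingHom_apply]
    refine Finset.sum_congr rfl fun l _ => ?_
    rw [← hjg l, smul_mul', smul_algebraMap, mul_comm]
  have hfix : ∀ τ : G, Q.map (MvPolynomial.map (act τ)) = Q := by
    intro τ
    simp only [Q, Polynomial.map_prod, Polynomial.map_sub, map_X, map_C]
    refine Fintype.prod_equiv (Equiv.mulLeft τ) _ _ fun σ => ?_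
    congr 2
    rw [MvPolynomial.map_map]
    congr 1
    exact congrArg (fun φ => MvPolynomial.map φ) (RingHom.ext fun z => (mul_smul τ σ z).symm)
  have hlift : ∀ i, ∃ q : MvPolynomial (Fin n) A, MvPolynomial.map (algebraMap A R) q = Q.coeff i := by
    intro i
    refine MvPolynomial.mem_range_map_iff_coeffs_subset.2 fun z hz => ?_
    obtain ⟨d, _, rfl⟩ := MvPolynomial.mem_coeffs_iff.1 hz
    refine Algebra.IsInvariant.isInvariant (G := G) _ fun τ => ?_
    have h := congrArg (fun p : Polynomial (MvPolynomial (Fin n) R) => MvPolynomial.coeff d (p.coeff i)) (hfix τ)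
    simp only [coeff_map, MvPolynomial.coeff_map] at h
    exact h
  choose q hq using hlift
  have hconst : ∀ i, i < Fintype.card G → MvPolynomial.constantCoeff (Q.coeff i) = 0 := by
    intro i hi
    have hY : ∀ σ, MvPolynomial.constantCoeff (MvPolynomial.map (act σ) Y) = 0 := fun σ => by
      simp [Y, map_sum]
    have h : Q.map MvPolynomial.constantCoeff = X ^ Fintype.card G := by
      simp only [Q, Polynomial.map_prod, Polynomial.map_sub, map_X, map_C, hY, map_zero, sub_zero,
        Finset.prod_const, Finset.card_univ]
    have h' := congrArg (fun p : R[X] => p.coeff i) h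
    simpa [coeff_map, coeff_X_pow, hi.ne] using h'
  let a : ℕ → A := fun i => MvPolynomial.eval j (q i - MvPolynomial.C (MvPolynomial.constantCoeff (q i)))
  have haJ : ∀ i, a i ∈ J := by
    intro i
    rw [← Ideal.Quotient.eq_zero_iff_mem]
    simp only [a]
    have hcomp : (Ideal.Quotient.mk J).comp (MvPolynomial.eval j) =
        (Ideal.Quotient.mk J).comp MvPolynomial.constantCoeff := by
      refine MvPolynomial.ringHom_ext (fun c => by simp) fun l => ?_
      simp [Ideal.Quotient.eq_zero_iff_mem.2 (hjJ l)]
    refine (RingHom.congr_fun hcomp _).trans ?_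
    simp
  have ha : ∀ i, i < Fintype.card G → algebraMap A R (a i) = target.coeff i := by
    intro i hi
    have h0 : algebraMap A R (MvPolynomial.constantCoeff (q i)) = 0 := by
      rw [← hconst i hi, ← hq i, MvPolynomial.constantCoeff_map]
    rw [← hQE, coeff_map, ← hq i]
    simp only [a, map_sub, MvPolynomial.eval_C, h0, sub_zero, E, MvPolynomial.eval_map]
    exact (MvPolynomial.eval₂_comp (algebraMap A R) j (q i))
  have hlt : (∑ i : Fin (Fintype.card G), C (a i) * X ^ (i : ℕ)).degree < (Fintype.card G : WithBot ℕ) :=
    degree_sum_fin_lt _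
  refine ⟨X ^ Fintype.card G + ∑ i : Fin (Fintype.card G), C (a i) * X ^ (i : ℕ),
    monic_X_pow_add hlt, ?_, ?_, ?_⟩
  · refine natDegree_le_iff_coeff_eq_zero.2 fun i hi => ?_
    simp only [coeff_add, coeff_X_pow, finsetSum_coeff, coeff_C_mul]
    rw [if_neg (ne_of_gt hi), zero_add]
    exact Finset.sum_eq_zero fun k _ => by rw [if_neg (ne_of_gt (k.2.trans hi)), mul_zero]
  · intro i hi
    simp only [coeff_add, coeff_X_pow, finsetSum_coeff, coeff_C_mul]
    rw [if_neg hi.ne, zero_add, Finset.sum_eq_single ⟨i, hi⟩]
    · simpa using haJ i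
    · intro k _ hk
      rw [if_neg (fun h => hk (Fin.ext h.symm)), mul_zero]
    · simp
  · rcases subsingleton_or_nontrivial R with hR | hR
    · exact Subsingleton.elim _ _
    have hmonic : target.Monic := monic_prod_of_monic _ _ fun σ _ => monic_X_sub_C _
    have hdeg : target.natDegree = Fintype.card G := by
      simp [target, natDegree_prod_of_monic _ _ (fun σ _ => monic_X_sub_C (σ • x))]
    change _ = target
    conv_rhs => rw [hmonic.as_sum, hdeg]
    simp only [Polynomial.map_add, Polynomial.map_pow, map_X, Polynomial.map_sum, Polynomial.map_mul, map_C,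
      ← Fin.sum_univ_eq_sum_range (fun i => C (target.coeff i) * X ^ i)]
    exact congrArg _ (Finset.sum_congr rfl fun i _ => by rw [ha i i.2])

end Groth.Agent.S9260
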