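import Groth.Statements.S9261
import Mathlib

set_option autoImplicit false
universe u
open CAlg

namespace Groth.Agent.S9261

/-- Let G be a finite group acting on a ring R, S = R^G its ring of invariants (here: S → R injective
with image the invariants) and A a flat S-algebra. Then the map A → A ⊗_S R is injective with image
the invariants of G acting on A ⊗_S R through the second factor; that is, A → (A ⊗_S R)^G is an
isomorphism. -/
theorem result (S R A G : Type u) [CommRing S] [CommRing R] [Algebra S R]
    [FaithfulSMul S R] [Group G] [Finite G] [MulSemiringAction G R] [SMulCommClass G S R]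
    [Algebra.IsInvariant S R G] [CommRing A] [Algebra S A] [Module.Flat S A] :
    Function.Injective (algebraMap A (TensorProduct S A R)) ∧
      ∀ x : TensorProduct S A R,
        (∀ σ : G, Algebra.TensorProduct.map (AlgHom.id S A) (MulSemiringAction.toAlgHom S R σ) x = x) →
          x ∈ Set.range (algebraMap A (TensorProduct S A R)) := by
  open TensorProduct in
  classical
  have := Fintype.ofFinite G
  have hinj : Function.Injective (Algebra.linearMap S R) := FaithfulSMul.algebraMap_injective S R
  let e : A ⊗[S] S ≃ₗ[S] A := TensorProduct.rid S A
  have hmap : ∀ z, (Algebra.linearMap S R).lTensor A z = algebraMap A (A ⊗[S] R) (e z) := by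
    intro z
    induction z with
    | zero => simp
    | tmul a s =>
      simp only [e, LinearMap.lTensor_tmul, Algebra.linearMap_apply, TensorProduct.rid_tmul,
        Algebra.TensorProduct.algebraMap_apply, Algebra.algebraMap_self, RingHom.id_apply]
      rw [smul_tmul, Algebra.algebraMap_eq_smul_one]
    | add x y hx hy => simp [map_add, hx, hy]
  refine ⟨fun a b hab => ?_, fun x hx => ?_⟩
  · apply e.symm.injective
    apply Module.Flat.lTensor_preserves_injective_linearMap (M := A) _ hinj
    rw [hmap, hmap, e.apply_symm_apply, e.apply_symm_apply, hab]
  let d : R →ₗ[S] (G → R) :=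
    LinearMap.pi fun σ => (MulSemiringAction.toAlgHom S R σ).toLinearMap - LinearMap.id
  have hex : Function.Exact (Algebra.linearMap S R) d := by
    refine fun r => ⟨fun h => Algebra.IsInvariant.isInvariant r fun σ => sub_eq_zero.1 (congrFun h σ), ?_⟩
    rintro ⟨s, rfl⟩
    funext σ
    simp [d]
  have h0 : d.lTensor A x = 0 := by
    apply (TensorProduct.piRight S S A (fun _ : G => R)).injective
    rw [map_zero]
    funext σ
    have h : ∀ z : A ⊗[S] R, TensorProduct.piRight S S A (fun _ : G => R) (d.lTensor A z) σ =
        Algebra.TensorProduct.map (AlgHom.id S A) (MulSemiringAction.toAlgHom S R σ) z - z := by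
      intro z
      induction z with
      | zero => simp
      | tmul a r => simp [d, tmul_sub]
      | add y w hy hw => simp only [map_add, Pi.add_apply, hy, hw]; abel
    rw [h, hx σ, sub_self, Pi.zero_apply]
  obtain ⟨z, rfl⟩ := ((Module.Flat.lTensor_exact (M := A) hex) x).1 h0
  exact ⟨e z, (hmap z).symm⟩

end Groth.Agent.S9261
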