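import Groth.Statements.S9262
import Groth.Agent.Henz21.DVR
import Groth.Agent.Henz21.FaithfullyFlat
-- import your own Groth.Agent.* helpers here

set_option autoImplicit false
universe u
open Hensel

namespace Groth.Agent.S9262

/-- Let R be a Noetherian local ring with henselization S and strict henselization T. Then R is a
discrete valuation ring exactly when S is one, and exactly when T is one. -/
theorem result (R S T : Type u)
    [CommRing R] [IsLocalRing R] [IsNoetherianRing R] [CommRing S] [IsLocalRing S] [Algebra R S]
    [IsLocalHom (algebraMap R S)] [Hensel.IsHenselization R S] [CommRing T] [IsLocalRing T]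
    [Algebra R T] [IsLocalHom (algebraMap R T)] [Hensel.IsStrictHenselization R T] :
    ((∃ _ : IsDomain R, IsDiscreteValuationRing R) ↔ (∃ _ : IsDomain S, IsDiscreteValuationRing S)) ∧
      ((∃ _ : IsDomain R, IsDiscreteValuationRing R) ↔
        (∃ _ : IsDomain T, IsDiscreteValuationRing T)) := by
  refine ⟨⟨?_, ?_⟩, ⟨?_, ?_⟩⟩
  · rintro ⟨hd, hR⟩
    obtain ⟨hdH, hH⟩ := Henz21.isDiscreteValuationRing_H (R := R) (K := IsLocalRing.ResidueField R)
    let e := Henz21.henselizationEquiv (R := R) S
    haveI : IsDomain S := e.toRingEquiv.symm.injective.isDomain e.toRingEquiv.symm.toRingHom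
    exact ⟨inferInstance, IsDiscreteValuationRing.ofHasUnitMulPowIrreducibleFactorization (by
      obtain ⟨ϖ, hϖ⟩ := IsDiscreteValuationRing.exists_irreducible (Henz21.Henselization R)
      refine ⟨e ϖ, hϖ.map e.toRingEquiv, fun {x} hx => ?_⟩
      obtain ⟨n, hn⟩ := IsDiscreteValuationRing.associated_pow_irreducible
        (x := e.symm x) (by simpa using hx) hϖ
      exact ⟨n, by simpa using (hn.symm.map e.toRingEquiv.toRingHom)⟩)⟩
  · rintro ⟨hd, hS⟩
    haveI := Henz21.henselization_faithfullyFlat (R := R) S
    exact Henz21.isDiscreteValuationRing_of_faithfullyFlat S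
      (Henz21.henselization_map_maximalIdeal (R := R) S)
  · rintro ⟨hd, hR⟩
    obtain ⟨hdH, hH⟩ :=
      Henz21.isDiscreteValuationRing_H (R := R) (K := SeparableClosure (IsLocalRing.ResidueField R))
    let e := Henz21.strictHenselizationEquiv (R := R) T
    haveI : IsDomain T := e.toRingEquiv.symm.injective.isDomain e.toRingEquiv.symm.toRingHom
    exact ⟨inferInstance, IsDiscreteValuationRing.ofHasUnitMulPowIrreducibleFactorization (by
      obtain ⟨ϖ, hϖ⟩ := IsDiscreteValuationRing.exists_irreducible (Henz21.StrictHenselization R)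
      refine ⟨e ϖ, hϖ.map e.toRingEquiv, fun {x} hx => ?_⟩
      obtain ⟨n, hn⟩ := IsDiscreteValuationRing.associated_pow_irreducible
        (x := e.symm x) (by simpa using hx) hϖ
      exact ⟨n, by simpa using (hn.symm.map e.toRingEquiv.toRingHom)⟩)⟩
  · rintro ⟨hd, hT⟩
    haveI := Henz21.strictHenselization_faithfullyFlat (R := R) T
    exact Henz21.isDiscreteValuationRing_of_faithfullyFlat T
      (Henz21.strictHenselization_map_maximalIdeal (R := R) T)

end Groth.Agent.S9262
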