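import Groth.Statements.S9268
import Groth.Agent.CAlg4.SmoothAdic

set_option autoImplicit false
universe u
open CAlg

namespace Groth.Agent.S9268

/-- Suppose A is a Noetherian ring and B is a finitely generated A-algebra, and consider a prime q of B
lying over p in A. Then A → B is smooth at q (meaning some g not in q makes A → B_g smooth) exactly
when the induced map A_p → B_q is formally smooth with respect to the adic topology defined by the
maximal ideal of B_q. -/
theorem result (A B : Type u) [CommRing A] [IsNoetherianRing A]
    [CommRing B] [Algebra A B] [Algebra.FiniteType A B] (q : Ideal B) [q.IsPrime] :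
    (∃ g : B, g ∉ q ∧ Algebra.Smooth A (Localization.Away g)) ↔
      letI := (Localization.localRingHom (Ideal.comap (algebraMap A B) q) q (algebraMap A B) rfl).toAlgebra
      CAlgX.IsAdicFormallySmooth (Localization.AtPrime (Ideal.comap (algebraMap A B) q))
        (Localization.AtPrime q) (IsLocalRing.maximalIdeal (Localization.AtPrime q)) := by
  letI := (Localization.localRingHom (Ideal.comap (algebraMap A B) q) q (algebraMap A B) rfl).toAlgebra
  haveI : IsScalarTower A (Localization.AtPrime (q.comap (algebraMap A B))) (Localization.AtPrime q) :=
    IsScalarTower.of_algebraMap_eq fun a => (Localization.localRingHom_to_map _ q (algebraMap A B) rfl a).symm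
  exact Groth.Agent.CAlg4.SmoothAdic.smoothAt_iff A B q

end Groth.Agent.S9268
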