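import Groth.Statements.S9274
import Mathlib
import Groth.Agent.CAlg4.GRingFiniteFree

set_option autoImplicit false
universe u
open CAlg

namespace Groth.Agent.S9274

/-- For a Noetherian ring R, being a G-ring is equivalent to the following: whenever S is an R-algebra
that is finite and free as an R-module, every formal fibre of every local ring of S is a regular
ring. -/
theorem result (R : Type u) [CommRing R] [IsNoetherianRing R] :
    CAlg.IsGRing R ↔
      ∀ (S : Type u) [CommRing S] [Algebra R S] [Module.Finite R S] [Module.Free R S]
        (q : Ideal S) [q.IsPrime] (p : Ideal (Localization.AtPrime q)) [p.IsPrime],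
        IsRegularRing (EGA4.formalFibre (Localization.AtPrime q) p) := by
  exact Groth.Agent.CAlg4.GRingFiniteFree.main R

end Groth.Agent.S9274
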