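import Groth.Statements.S9275
import Mathlib
-- import your own Groth.Agent.* helpers here

set_option autoImplicit false
universe u
open EtAlg

namespace Groth.Agent.S9275

/-- Let A → B be a ring map and J an ideal of B such that A → B is étale at every prime of V(J), in the
sense that every prime q ⊇ J has some h ∉ q with A → B_h étale. Then there is g ∈ B mapping to a
unit of B/J such that A → B_g is étale. -/
theorem result (A B : Type u) [CommRing A] [CommRing B]
    [Algebra A B] (J : Ideal B)
    (h : ∀ (q : Ideal B) [q.IsPrime], J ≤ q → ∃ h : B, h ∉ q ∧ Algebra.Etale A (Localization.Away h)) :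
    ∃ g : B, IsUnit (Ideal.Quotient.mk J g) ∧ Algebra.Etale A (Localization.Away g) := by
  let s : Set B := {h | Algebra.Etale A (Localization.Away h)}
  have htop : J ⊔ Ideal.span s = ⊤ := by
    by_contra hne
    obtain ⟨q, hq, hle⟩ := Ideal.exists_le_maximal _ hne
    obtain ⟨x, hxq, hx⟩ := h q (le_sup_left.trans hle)
    exact hxq (hle (Ideal.mem_sup_right (Ideal.subset_span hx)))
  obtain ⟨j, hj, g, hg, hjg⟩ := Submodule.mem_sup.mp
    (htop ▸ Submodule.mem_top : (1 : B) ∈ J ⊔ Ideal.span s)
  refine ⟨g, ?_, ?_⟩
  · have : Ideal.Quotient.mk J g = 1 := by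
      rw [← map_one (Ideal.Quotient.mk J), Ideal.Quotient.eq,
        show g - 1 = -j by linear_combination hjg]
      exact J.neg_mem hj
    rw [this]; exact isUnit_one
  rw [← RingHom.etale_algebraMap]
  refine RingHom.Etale.ofLocalizationSpanTarget _ (algebraMap B (Localization.Away g) '' s) ?_ ?_
  · rw [← Ideal.map_span]
    exact Ideal.eq_top_of_isUnit_mem _ (Ideal.mem_map_of_mem _ hg)
      (IsLocalization.Away.algebraMap_isUnit g)
  rintro ⟨_, x, hx, rfl⟩
  let Bx := Localization.Away x
  let C := Localization.Away (algebraMap B (Localization.Away g) x)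
  have hu : IsUnit (algebraMap B C x) := by
    rw [IsScalarTower.algebraMap_apply B (Localization.Away g) C]
    exact IsLocalization.Away.algebraMap_isUnit _
  let _ : Algebra Bx C := (IsLocalization.Away.lift x hu : Bx →+* C).toAlgebra
  have : IsScalarTower B Bx C := .of_algebraMap_eq fun b => (IsLocalization.Away.lift_eq x hu b).symm
  have : IsLocalization.Away (algebraMap B Bx g) C :=
    IsLocalization.Away.commutes Bx (Localization.Away g) C x g
  have hx' : Algebra.Etale A Bx := hx
  have : Algebra.Etale Bx C := Algebra.Etale.of_isLocalizationAway (algebraMap B Bx g)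
  have : IsScalarTower A Bx C := by
    refine .of_algebraMap_eq fun a => ?_
    rw [IsScalarTower.algebraMap_apply A B Bx, ← IsScalarTower.algebraMap_apply B Bx C,
      ← IsScalarTower.algebraMap_apply A B C]
  have h2 : Algebra.Etale A C := Algebra.Etale.comp A Bx C
  rw [← IsScalarTower.algebraMap_eq]
  exact RingHom.etale_algebraMap.mpr h2

end Groth.Agent.S9275
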