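import Groth.Statements.S9283


set_option autoImplicit false
universe u
open CAlg

namespace Groth.Agent.S9283

/-- Let R be an auto-associated ring, that is, a local ring whose maximal ideal is weakly associated to
R: some nonzero x ∈ R is killed by a power of every element of the maximal ideal. Then every proper
finitely generated ideal of R has a nonzero annihilator. -/
theorem result (R : Type u) [CommRing R] [IsLocalRing R]
    (h : ∃ x : R, x ≠ 0 ∧ ∀ f ∈ IsLocalRing.maximalIdeal R, ∃ n : ℕ, f ^ n * x = 0)
    (I : Ideal R) (hI : I.FG) (hI' : I ≠ ⊤) : I.annihilator ≠ ⊥ := by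
  obtain ⟨x, hx, hkill⟩ := h
  obtain ⟨s, rfl⟩ := hI
  suffices ∀ t : Finset R, t ⊆ s → ∃ y : R, y ≠ 0 ∧ (∀ f ∈ IsLocalRing.maximalIdeal R,
      ∃ n : ℕ, f ^ n * y = 0) ∧ ∀ a ∈ t, a * y = 0 by
    obtain ⟨y, hy, -, hys⟩ := this s subset_rfl
    intro hbot
    refine hy ?_
    rw [← Submodule.mem_bot R, ← hbot, Submodule.mem_annihilator]
    intro z hz
    induction hz using Submodule.span_induction with
    | mem z hz => rw [smul_eq_mul, mul_comm]; exact hys z hz
    | zero => simp
    | add a b _ _ ha hb => rw [smul_add, ha, hb, add_zero]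
    | smul a b _ hb => rw [smul_comm, hb, smul_zero]
  classical
  intro t
  induction t using Finset.induction with
  | empty => exact fun _ => ⟨x, hx, hkill, by simp⟩
  | insert a t _ ih =>
    intro hts
    obtain ⟨y, hy, hyk, hyt⟩ := ih ((Finset.subset_insert a t).trans hts)
    have ham : a ∈ IsLocalRing.maximalIdeal R :=
      IsLocalRing.le_maximalIdeal hI' (Submodule.subset_span (hts (Finset.mem_insert_self a t)))
    have hex := hyk a ham
    have h0 : Nat.find hex ≠ 0 := fun h0 => hy (by
      have := Nat.find_spec hex; rwa [h0, pow_zero, one_mul] at this)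
    refine ⟨a ^ (Nat.find hex - 1) * y, Nat.find_min hex (by omega), fun f hf => ?_, fun b hb => ?_⟩
    · obtain ⟨n, hn⟩ := hyk f hf
      exact ⟨n, by rw [mul_left_comm, hn, mul_zero]⟩
    · rcases Finset.mem_insert.mp hb with rfl | hb
      · rw [← mul_assoc, ← pow_succ', Nat.sub_add_cancel (by omega)]
        exact Nat.find_spec hex
      · rw [mul_left_comm, hyt b hb, mul_zero]

end Groth.Agent.S9283
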