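import Groth.Statements.S9284
import Mathlib

set_option autoImplicit false
universe u
open CAlgX

namespace Groth.Agent.S9284

theorem exists_leftInverse_fin {R : Type*} [CommRing R] (hP : ∀ I : Ideal R, I.FG → I ≠ ⊤ → I.annihilator ≠ ⊥) :
    ∀ {m n : ℕ} (u : (Fin m → R) →ₗ[R] (Fin n → R)), Function.Injective u →
      ∃ ψ : (Fin n → R) →ₗ[R] (Fin m → R), ψ ∘ₗ u = LinearMap.id := by
  classical
  intro m
  induction m with
  | zero => exact fun u _ => ⟨0, LinearMap.ext fun x => funext fun i => i.elim0⟩
  | succ m ih =>
    intro n u hu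
    let c : Fin n → R := u (Pi.single 0 1)
    have htop : Ideal.span (Set.range c) = ⊤ := by
      by_contra hne
      refine hP _ (Submodule.fg_span (Set.finite_range c)) hne (eq_bot_iff.2 fun a ha => ?_)
      rw [Submodule.mem_annihilator] at ha
      have h0 : u (a • Pi.single 0 1) = 0 := by
        rw [map_smul]
        funext i
        exact ha (c i) (Ideal.subset_span (Set.mem_range_self i))
      have := congrFun (hu (h0.trans (map_zero u).symm)) 0
      simpa using this
    obtain ⟨r, hr⟩ := Ideal.mem_span_range_iff_exists_fun.1 (htop ▸ Submodule.mem_top : (1 : R) ∈ Ideal.span (Set.range c))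
    let φ : (Fin n → R) →ₗ[R] R := Fintype.linearCombination R r
    have hφ : φ c = 1 := by
      simp only [φ, Fintype.linearCombination_apply, smul_eq_mul]
      rw [← hr]
      exact Finset.sum_congr rfl fun i _ => mul_comm _ _
    let cons0 : (Fin m → R) →ₗ[R] (Fin (m + 1) → R) :=
      { toFun := fun z => Fin.cons 0 z
        map_add' := fun a b => by funext i; refine Fin.cases ?_ (fun j => ?_) i <;> simp
        map_smul' := fun a b => by funext i; refine Fin.cases ?_ (fun j => ?_) i <;> simp }
    let pr : (Fin n → R) →ₗ[R] (Fin n → R) := LinearMap.id - φ.smulRight c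
    let u' := pr ∘ₗ u ∘ₗ cons0
    have hdec : ∀ z : Fin (m + 1) → R, z = z 0 • Pi.single 0 1 + cons0 (Fin.tail z) := by
      intro z
      funext i
      refine Fin.cases ?_ (fun j => ?_) i <;> simp [cons0, Fin.tail]
    have hu' : Function.Injective u' := by
      rw [injective_iff_map_eq_zero]
      intro z hz
      have h1 : u (Fin.cons (-(φ (u (cons0 z)))) z) = 0 := by
        rw [hdec (Fin.cons _ z), map_add, map_smul]
        simp only [Fin.cons_zero, Fin.tail_cons, neg_smul]
        simpa [u', pr, c, sub_eq_add_neg, add_comm] using hz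
      have h2 := hu (h1.trans (map_zero u).symm)
      funext i
      simpa using congrFun h2 i.succ
    obtain ⟨ψ', hψ'⟩ := ih u' hu'
    let tl := ψ' ∘ₗ pr
    let hd : (Fin n → R) →ₗ[R] R := φ - φ ∘ₗ u ∘ₗ cons0 ∘ₗ tl
    refine ⟨LinearMap.pi fun i => Fin.cases hd (fun j => (LinearMap.proj j) ∘ₗ tl) i, LinearMap.ext fun z => ?_⟩
    have hpc : pr c = 0 := by simp [pr, hφ]
    have hu_eq : u z = z 0 • c + u (cons0 (Fin.tail z)) := by
      conv_lhs => rw [hdec z]
      rw [map_add, map_smul]
    have htl : tl (u z) = Fin.tail z := by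
      rw [hu_eq]
      simp only [tl, LinearMap.comp_apply, map_add, map_smul, hpc, map_zero, smul_zero, zero_add]
      exact LinearMap.congr_fun hψ' (Fin.tail z)
    funext i
    refine Fin.cases ?_ (fun j => ?_) i
    · simp only [LinearMap.comp_apply, LinearMap.pi_apply, Fin.cases_zero, hd, LinearMap.sub_apply, htl, LinearMap.id_apply]
      rw [hu_eq, map_add, map_smul, hφ, smul_eq_mul, mul_one, add_sub_cancel_right]
    · simp only [LinearMap.comp_apply, LinearMap.pi_apply, Fin.cases_succ, htl, LinearMap.id_apply, LinearMap.proj_apply]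
      rfl

theorem exists_leftInverse_finsupp {R : Type*} [CommRing R] (hP : ∀ I : Ideal R, I.FG → I ≠ ⊤ → I.annihilator ≠ ⊥)
    {κ : Type*} {m : ℕ} (w : (Fin m → R) →ₗ[R] (κ →₀ R)) (hw : Function.Injective w) :
    ∃ ψ : (κ →₀ R) →ₗ[R] (Fin m → R), ψ ∘ₗ w = LinearMap.id := by
  classical
  let T : Finset κ := Finset.univ.biUnion fun i : Fin m => (w (Pi.single i 1)).support
  let res : (κ →₀ R) →ₗ[R] (Fin T.card → R) := LinearMap.pi fun k => Finsupp.lapply (T.equivFin.symm k).1
  have hres : Function.Injective (res ∘ₗ w) := by
    rw [injective_iff_map_eq_zero]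
    intro x hx
    refine hw ?_
    rw [map_zero]
    ext k
    by_cases hk : k ∈ T
    · have := congrFun hx (T.equivFin ⟨k, hk⟩)
      simpa [res] using this
    · have hxw : w x = ∑ i, x i • w (Pi.single i 1) := by
        conv_lhs => rw [pi_eq_sum_univ' x]
        rw [map_sum]
        exact Finset.sum_congr rfl fun i _ => map_smul w _ _
      rw [hxw, Finsupp.finsetSum_apply, Finsupp.zero_apply]
      refine Finset.sum_eq_zero fun i _ => ?_
      rw [Finsupp.smul_apply]
      have : w (Pi.single i 1) k = 0 :=
        Finsupp.notMem_support_iff.1 fun h => hk (Finset.mem_biUnion.2 ⟨i, Finset.mem_univ i, h⟩)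
      rw [this, smul_zero]
  obtain ⟨ψ, hψ⟩ := exists_leftInverse_fin hP _ hres
  exact ⟨ψ ∘ₗ res, hψ⟩

/-- Let R be a ring such that every proper finitely generated ideal of R has a nonzero annihilator, and
let u : N → M be an R-linear map between projective R-modules. Then u stays injective after
tensoring with every R-module exactly when u is injective. -/
theorem result (R : Type u) [CommRing R]
    (hP : (∀ I : Ideal R, I.FG → I ≠ ⊤ → I.annihilator ≠ ⊥))
    (N M : Type u) [AddCommGroup N] [Module R N] [Module.Projective R N] [AddCommGroup M]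
    [Module R M] [Module.Projective R M] (u : N →ₗ[R] M) :
    CAlgX.UniversallyInjective R u ↔ Function.Injective u := by
  constructor
  · intro h a b hab
    have := h R (a₁ := a ⊗ₜ[R] (1 : R)) (a₂ := b ⊗ₜ[R] (1 : R)) (by simp [hab])
    simpa using congrArg (TensorProduct.rid R N) this
  · intro hu Q _ _
    classical
    obtain ⟨s, hs⟩ := (Module.projective_def').1 (inferInstance : Module.Projective R N)
    obtain ⟨t, ht⟩ := (Module.projective_def').1 (inferInstance : Module.Projective R M)
    let p := Finsupp.linearCombination R (id : N → N)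
    let v : (N →₀ R) →ₗ[R] (N ⊕ M) →₀ R :=
      (Finsupp.sumFinsuppLEquivProdFinsupp R).symm.toLinearMap ∘ₗ
        ((LinearMap.id - s ∘ₗ p).prod (t ∘ₗ u ∘ₗ p))
    have hps : ∀ z, p (s z) = z := fun z => LinearMap.congr_fun hs z
    have htinj : Function.Injective t := fun a b hab => by
      have h1 := LinearMap.congr_fun ht a
      have h2 := LinearMap.congr_fun ht b
      simp only [LinearMap.comp_apply, LinearMap.id_apply] at h1 h2
      rw [← h1, ← h2, hab]
    have hv : Function.Injective v := by
      refine (Finsupp.sumFinsuppLEquivProdFinsupp R).symm.injective.comp ?_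
      rw [injective_iff_map_eq_zero]
      intro x hx
      simp only [LinearMap.prod_apply, Function.prod, Prod.mk_eq_zero, LinearMap.sub_apply, LinearMap.id_apply,
        LinearMap.comp_apply] at hx
      have hp : p x = 0 := hu (by rw [map_zero]; exact htinj (hx.2.trans (map_zero t).symm))
      rw [hp, map_zero, sub_zero] at hx
      exact hx.1
    rw [injective_iff_map_eq_zero]
    intro x hx
    have hvs : (v ∘ₗ s) = ((Finsupp.sumFinsuppLEquivProdFinsupp R).symm.toLinearMap ∘ₗ LinearMap.inr R _ _ ∘ₗ t) ∘ₗ u := by
      refine LinearMap.ext fun z => ?_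
      simp [v, hps]
    have h1 : v.rTensor Q (s.rTensor Q x) = 0 := by
      rw [← LinearMap.rTensor_comp_apply, hvs, LinearMap.rTensor_comp_apply, hx, map_zero]
    suffices s.rTensor Q x = 0 by
      have h2 := congrArg (p.rTensor Q) this
      rwa [← LinearMap.rTensor_comp_apply, hs, LinearMap.rTensor_id, LinearMap.id_apply, map_zero] at h2
    generalize s.rTensor Q x = y at h1
    let e := TensorProduct.finsuppScalarLeft R Q N
    set S := (e y).support with hS
    have hy : y = ∑ i ∈ S, Finsupp.single i (1 : R) ⊗ₜ[R] e y i := by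
      apply e.injective
      simp only [map_sum, e, TensorProduct.finsuppScalarLeft_apply_tmul]
      simp only [Finsupp.sum_single_index, zero_smul, Finsupp.single_zero, one_smul]
      exact (Finsupp.sum_single _).symm
    let j : (Fin S.card → R) →ₗ[R] (N →₀ R) :=
      Fintype.linearCombination R fun k => Finsupp.single (S.equivFin.symm k).1 (1 : R)
    have hj : Function.Injective j := by
      rw [injective_iff_map_eq_zero]
      intro z hz
      funext k
      have := congrArg (fun F => F (S.equivFin.symm k).1) hz
      simp only [j, Fintype.linearCombination_apply, Finsupp.finsetSum_apply, Finsupp.smul_apply,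
        Finsupp.zero_apply] at this
      rw [Finset.sum_eq_single k (fun l _ hl => by
        rw [Finsupp.single_eq_of_ne (fun e => hl (S.equivFin.symm.injective (Subtype.ext e.symm))), smul_zero]) (by simp),
        Finsupp.single_eq_same, smul_eq_mul, mul_one] at this
      exact this
    obtain ⟨ψ, hψ⟩ := exists_leftInverse_finsupp hP (v ∘ₗ j) (hv.comp hj)
    have hy' : y = j.rTensor Q (∑ k, Pi.single k (1 : R) ⊗ₜ[R] e y (S.equivFin.symm k).1) := by
      rw [map_sum]
      conv_lhs => rw [hy, ← Finset.sum_coe_sort]
      rw [← S.equivFin.symm.sum_comp]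
      refine Finset.sum_congr rfl fun k _ => ?_
      rw [LinearMap.rTensor_tmul, Fintype.linearCombination_apply_single, one_smul]
    rw [hy'] at h1 ⊢
    rw [← LinearMap.rTensor_comp_apply] at h1
    have h3 := congrArg (ψ.rTensor Q) h1
    rw [← LinearMap.rTensor_comp_apply, hψ, LinearMap.rTensor_id, LinearMap.id_apply, map_zero] at h3
    rw [h3, map_zero]

end Groth.Agent.S9284
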