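import Groth.Statements.S9290
import Groth.Agent.CAlg4.QFFormalFibre

set_option autoImplicit false
universe u
open CAlg

namespace Groth.Agent.S9290

/-- Let R' be a Noetherian algebra of finite type over the Noetherian ring R, quasi-finite at the prime
p' over p, and let Q' ⊆ R'_{p'} and Q ⊆ R_p be primes with the same contraction to R (that is, a
prime q' ⊆ p' of R' lying over the prime q ⊆ p of R). If the formal fibre of R_p at Q is
geometrically regular over κ(Q), then the formal fibre of R'_{p'} at Q' is geometrically regular
over κ(Q'). -/
theorem result (R R' : Type u) [CommRing R] [CommRing R']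
    [IsNoetherianRing R] [IsNoetherianRing R'] [Algebra R R'] [Algebra.FiniteType R R']
    (p' : Ideal R') [p'.IsPrime] [Algebra.QuasiFiniteAt R p']
    (Q' : Ideal (Localization.AtPrime p')) [Q'.IsPrime]
    (Q : Ideal (Localization.AtPrime (Ideal.comap (algebraMap R R') p'))) [Q.IsPrime]
    (hQ : Ideal.comap (algebraMap R (Localization.AtPrime (Ideal.comap (algebraMap R R') p'))) Q =
      Ideal.comap (algebraMap R (Localization.AtPrime p')) Q')
    (h : CAlg.IsGeometricallyRegular Q.ResidueField
      (EGA4.formalFibre (Localization.AtPrime (Ideal.comap (algebraMap R R') p')) Q)) :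
    CAlg.IsGeometricallyRegular Q'.ResidueField (EGA4.formalFibre (Localization.AtPrime p') Q') := by
  haveI : p'.LiesOver (Ideal.comap (algebraMap R R') p') := ⟨rfl⟩
  exact Groth.Agent.CAlg4.QFFormalFibre.quasiFinite R R' p' _ Q' Q hQ h

end Groth.Agent.S9290
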