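import Groth.Statements.S9291
import Mathlib
-- import your own Groth.Agent.* helpers here

set_option autoImplicit false
universe u
open EtAlg

namespace Groth.Agent.S9291

/-- Let A be a ring, I an ideal and u a unit of A/I. Then there is an étale ring map A → A' such that
A/I → A'/IA' is an isomorphism, together with a unit of A' mapping to the image of u. -/
theorem result (A : Type u) [CommRing A] (I : Ideal A) (u : (A ⧸ I)ˣ) :
    ∃ (A' : Type u) (_ : CommRing A') (_ : Algebra A A'), Algebra.Etale A A' ∧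
      Function.Bijective (Ideal.quotientMap (Ideal.map (algebraMap A A') I) (algebraMap A A')
        Ideal.le_comap_map) ∧
      ∃ u' : A'ˣ, Ideal.Quotient.mk (Ideal.map (algebraMap A A') I) (u' : A') =
        Ideal.quotientMap (Ideal.map (algebraMap A A') I) (algebraMap A A') Ideal.le_comap_map
          (u : A ⧸ I) := by
  obtain ⟨a, ha⟩ := Ideal.Quotient.mk_surjective (u : A ⧸ I)
  have hU : IsUnit (Ideal.Quotient.mk I a) := ha ▸ u.isUnit
  let A' := Localization.Away a
  have hau : IsUnit (algebraMap A A' a) := IsLocalization.Away.algebraMap_isUnit a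
  refine ⟨A', inferInstance, inferInstance, Algebra.Etale.of_isLocalizationAway a, ⟨?_, ?_⟩,
    hau.unit, ?_⟩
  · rw [injective_iff_map_eq_zero]
    intro x hx
    obtain ⟨x, rfl⟩ := Ideal.Quotient.mk_surjective x
    rw [Ideal.quotientMap_mk, Ideal.Quotient.eq_zero_iff_mem] at hx
    rw [IsLocalization.algebraMap_mem_map_algebraMap_iff (Submonoid.powers a)] at hx
    obtain ⟨m, ⟨n, rfl⟩, hm⟩ := hx
    have h2 := Ideal.Quotient.eq_zero_iff_mem.mpr hm
    rw [map_mul, map_pow] at h2
    exact (hU.pow n).mul_right_eq_zero.mp h2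
  · intro y
    obtain ⟨y, rfl⟩ := Ideal.Quotient.mk_surjective y
    obtain ⟨n, r, hr⟩ := IsLocalization.Away.surj a y
    refine ⟨Ideal.Quotient.mk I r * ((hU.pow n).unit⁻¹ : (A ⧸ I)ˣ), ?_⟩
    apply ((hU.pow n).map (Ideal.quotientMap _ (algebraMap A A') Ideal.le_comap_map)).mul_right_cancel
    rw [← map_mul, mul_assoc, IsUnit.val_inv_mul, mul_one, Ideal.quotientMap_mk, ← hr, map_mul,
      ← map_pow (Ideal.Quotient.mk I), Ideal.quotientMap_mk]
    simp only [map_pow]
  · rw [IsUnit.unit_spec, ← ha, Ideal.quotientMap_mk]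

end Groth.Agent.S9291
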