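import Groth.Statements.S9292
import Mathlib
-- import your own Groth.Agent.* helpers here

set_option autoImplicit false
universe u
open EtAlg

namespace Groth.Agent.S9292

/-- Let A be a ring, I an ideal, and e_1, ..., e_n a complete system of orthogonal idempotents of A/I
(equivalently a finite disjoint open covering of Spec(A/I)). Then one can find an A-algebra A' that
is étale over A, such that the induced map A/I → A'/IA' is bijective, together with a complete
system of orthogonal idempotents of A' lifting the e_j. -/
theorem result (A : Type u) [CommRing A] (I : Ideal A)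
    (n : ℕ) (e : Fin n → A ⧸ I) (he : CompleteOrthogonalIdempotents e) :
    ∃ (A' : Type u) (_ : CommRing A') (_ : Algebra A A'), Algebra.Etale A A' ∧
      Function.Bijective (Ideal.quotientMap (Ideal.map (algebraMap A A') I) (algebraMap A A')
        Ideal.le_comap_map) ∧
      ∃ e' : Fin n → A', CompleteOrthogonalIdempotents e' ∧
        ∀ j, Ideal.Quotient.mk (Ideal.map (algebraMap A A') I) (e' j) =
          Ideal.quotientMap (Ideal.map (algebraMap A A') I) (algebraMap A A') Ideal.le_comap_map
            (e j) := by
  classical
  choose a ha using fun j => Ideal.Quotient.mk_surjective (e j)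
  let A' := ∀ j, Localization.Away (a j)
  have : ∀ j, Algebra.Etale A (Localization.Away (a j)) :=
    fun j => Algebra.Etale.of_isLocalizationAway (a j)
  let E : Fin n → A' := fun j => Pi.single j 1
  -- an element is in `I A'` if it is so componentwise
  have hcomp : ∀ y : A', (∀ i, y i ∈ Ideal.map (algebraMap A (Localization.Away (a i))) I) →
      y ∈ Ideal.map (algebraMap A A') I := by
    intro y hy
    rw [← Finset.univ_sum_single y]
    refine Ideal.sum_mem _ fun i _ => ?_
    suffices ∀ z ∈ Ideal.map (algebraMap A (Localization.Away (a i))) I,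
        (Pi.single i z : A') ∈ Ideal.map (algebraMap A A') I from this _ (hy i)
    intro z hz
    rw [Ideal.map] at hz
    induction hz using Submodule.span_induction with
    | mem z hz =>
      obtain ⟨x, hx, rfl⟩ := hz
      have : (Pi.single i (algebraMap A (Localization.Away (a i)) x) : A') =
          algebraMap A A' x * E i := by
        ext k
        rcases eq_or_ne k i with rfl | hk
        · change _ = algebraMap A (Localization.Away (a k)) x * (Pi.single k 1 : A') k
          simp
        · change _ = algebraMap A (Localization.Away (a k)) x * (Pi.single i 1 : A') k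
          simp [hk]
      rw [this]
      exact Ideal.mul_mem_right _ _ (Ideal.mem_map_of_mem _ hx)
    | zero => simp
    | add z w _ _ hz hw => rw [Pi.single_add]; exact Ideal.add_mem _ hz hw
    | smul c z _ hz =>
      have : (Pi.single i (c • z) : A') = Pi.single i c * Pi.single i z := by
        rw [← Pi.single_mul, smul_eq_mul]
      rw [this]; exact Ideal.mul_mem_left _ _ hz
  have hcomp' : ∀ (y : A') (i : Fin n), y ∈ Ideal.map (algebraMap A A') I →
      y i ∈ Ideal.map (algebraMap A (Localization.Away (a i))) I := by
    intro y i hy
    have := Ideal.mem_map_of_mem (Pi.evalRingHom (fun j => Localization.Away (a j)) i) hy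
    rw [Ideal.map_map] at this
    exact this
  -- it is enough to check after multiplying by `a i`
  have hmul : ∀ (i : Fin n) (x : A), a i * x ∈ I →
      algebraMap A (Localization.Away (a i)) x ∈ Ideal.map (algebraMap A (Localization.Away (a i))) I := by
    intro i x hx
    have := Ideal.mem_map_of_mem (algebraMap A (Localization.Away (a i))) hx
    rw [map_mul] at this
    exact (Ideal.unit_mul_mem_iff_mem _ (IsLocalization.Away.algebraMap_isUnit (a i))).mp this
  have hee : ∀ i j, e i * e j = if i = j then e i else 0 := by
    intro i j
    split_ifs with h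
    · subst h; exact (he.idem i).eq
    · exact he.ortho h
  refine ⟨A', inferInstance, inferInstance, inferInstance, ⟨?_, ?_⟩, E,
    CompleteOrthogonalIdempotents.single _, ?_⟩
  · rw [injective_iff_map_eq_zero]
    intro x hx
    obtain ⟨x, rfl⟩ := Ideal.Quotient.mk_surjective x
    rw [Ideal.quotientMap_mk, Ideal.Quotient.eq_zero_iff_mem] at hx
    rw [← one_mul (Ideal.Quotient.mk I x), ← he.complete, Finset.sum_mul]
    refine Finset.sum_eq_zero fun i _ => ?_
    have hi : algebraMap A (Localization.Away (a i)) x ∈ _ := hcomp' _ i hx
    rw [IsLocalization.algebraMap_mem_map_algebraMap_iff (Submonoid.powers (a i))] at hi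
    obtain ⟨m, ⟨k, rfl⟩, hm⟩ := hi
    have h2 := Ideal.Quotient.eq_zero_iff_mem.mpr hm
    rw [map_mul, map_pow, ha] at h2
    rcases k with _ | k
    · rw [pow_zero, one_mul] at h2; rw [h2, mul_zero]
    · rwa [(he.idem i).pow_succ_eq k] at h2
  · intro y
    obtain ⟨y, rfl⟩ := Ideal.Quotient.mk_surjective y
    choose k r hr using fun i => IsLocalization.Away.surj (a i) (y i)
    refine ⟨Ideal.Quotient.mk I (∑ j, a j * r j), ?_⟩
    rw [Ideal.quotientMap_mk, Ideal.Quotient.eq]
    refine hcomp _ fun i => ?_
    refine (Ideal.unit_mul_mem_iff_mem _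
      ((IsLocalization.Away.algebraMap_isUnit (S := Localization.Away (a i)) (a i)).pow (k i))).mp ?_
    have hy : algebraMap A (Localization.Away (a i)) (a i) ^ (k i) *
        (algebraMap A A' (∑ j, a j * r j) - y) i =
        algebraMap A (Localization.Away (a i)) (a i ^ k i * (∑ j, a j * r j) - r i) := by
      rw [map_sub, map_mul, map_pow, ← hr i, Pi.sub_apply, Pi.algebraMap_apply]
      ring
    rw [hy]
    refine hmul i _ ?_
    rw [← Ideal.Quotient.eq_zero_iff_mem, map_mul, map_sub, map_mul, map_pow, map_sum, ha, mul_sub,
      ← mul_assoc, Finset.mul_sum, sub_eq_zero]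
    have hp : e i * e i ^ k i = e i := by
      rw [← pow_succ', (he.idem i).pow_succ_eq]
    rw [hp]
    simp [ha, ← mul_assoc, hee]
  · intro j
    rw [← ha j, Ideal.quotientMap_mk, Ideal.Quotient.eq]
    refine hcomp _ fun i => ?_
    rw [Pi.sub_apply, Pi.algebraMap_apply]
    rcases eq_or_ne i j with rfl | hij
    · simp only [E, Pi.single_eq_same]
      rw [← map_one (algebraMap A (Localization.Away (a i))), ← map_sub]
      refine hmul i _ ?_
      rw [← Ideal.Quotient.eq_zero_iff_mem, map_mul, map_sub, map_one, ha, mul_sub, mul_one,
        (he.idem i).eq, sub_self]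
    · simp only [E, Pi.single_eq_of_ne hij, zero_sub, neg_mem_iff]
      refine hmul i _ ?_
      rw [← Ideal.Quotient.eq_zero_iff_mem, map_mul, ha, ha, hee, if_neg hij]

end Groth.Agent.S9292
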