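import Groth.Statements.S9296
import Groth.Agent.EGA4H10.J2Criterion
-- import your own Groth.Agent.* helpers here

set_option autoImplicit false
universe u
open EGA4

namespace Groth.Agent.S9296

/-- For a Noetherian ring R, the set of primes at which R is regular is open in Spec R (R is J-1)
exactly when, for each such prime p, some nonempty open part of the closed set V(p) consists of
primes at which R is regular. Stated with an open U of Spec R whose trace on V(p) is nonempty and
contained in the regular locus. -/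
theorem result (R : Type u) [CommRing R] [IsNoetherianRing R] :
    IsOpen (EGA4.regLocus R) ↔
      ∀ p ∈ EGA4.regLocus R, ∃ U : Set (PrimeSpectrum R), IsOpen U ∧
        (U ∩ PrimeSpectrum.zeroLocus (p.asIdeal : Set R)).Nonempty ∧
        U ∩ PrimeSpectrum.zeroLocus (p.asIdeal : Set R) ⊆ EGA4.regLocus R := by
  constructor
  · intro h p hp
    exact ⟨_, h, ⟨p, hp, (PrimeSpectrum.mem_zeroLocus _ _).mpr le_rfl⟩, Set.inter_subset_left⟩
  · intro h
    refine Groth.Agent.EGA4H10.isOpen_of_locally R _ Groth.Agent.EGA4H10.regLocus_genStable fun p hp => ?_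
    obtain ⟨U, hU, ⟨q, hqU, hqp⟩, hsub⟩ := h p hp
    have hle : p.asIdeal ≤ q.asIdeal := (PrimeSpectrum.mem_zeroLocus _ _).mp hqp
    obtain ⟨_, ⟨_, ⟨f, rfl⟩, rfl⟩, hfq, hfU⟩ := PrimeSpectrum.isBasis_basic_opens.exists_subset_of_mem_open hqU hU
    exact ⟨f, fun hm => hfq (hle hm), fun x hpx hfx => hsub ⟨hfU hfx, (PrimeSpectrum.mem_zeroLocus _ _).mpr hpx⟩⟩

end Groth.Agent.S9296
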