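import Groth.Statements.S9297
import Groth.Agent.EGA4H10.Catenary
import Groth.Agent.EGA4H10.Equidim
import Groth.Agent.Ega11.Codim
import Mathlib
-- import your own Groth.Agent.* helpers here

set_option autoImplicit false
universe u
open EGA4

namespace Groth.Agent.S9297

/-- Let A → B be a flat local homomorphism of Noetherian local rings with B catenary and Spec(B)
equidimensional. Then Spec(B/pB) is equidimensional for every prime p of A. -/
theorem result (A B : Type u) [CommRing A] [CommRing B]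
    [IsNoetherianRing A] [IsNoetherianRing B] [IsLocalRing A] [IsLocalRing B] [Algebra A B]
    [IsLocalHom (algebraMap A B)] [Module.Flat A B] (hcat : CAlg.IsCatenary B) (heq : EGA4.IsEquidim B)
    (p : Ideal A) [p.IsPrime] : EGA4.IsEquidim (B ⧸ Ideal.map (algebraMap A B) p) := by
  have hcov := Groth.Agent.EGA4H10.coverSucc_of_catenary_equidim hcat heq
  set I := p.map (algebraMap A B) with hI
  have hle : I ≤ IsLocalRing.maximalIdeal B :=
    (Ideal.map_mono (IsLocalRing.le_maximalIdeal (Ideal.IsPrime.ne_top ‹_›))).trans (IsLocalRing.map_maximalIdeal_le _)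
  have : Nontrivial (B ⧸ I) := Ideal.Quotient.nontrivial_iff.mpr fun h =>
    (IsLocalRing.maximalIdeal.isMaximal B).ne_top (top_le_iff.mp (h ▸ hle))
  have : IsLocalRing (B ⧸ I) := IsLocalRing.of_surjective' (Ideal.Quotient.mk I) Ideal.Quotient.mk_surjective
  obtain ⟨d, hd⟩ : ∃ d : ℕ, ringKrullDim B = d := by
    obtain ⟨d, hd⟩ := ENat.ne_top_iff_exists.mp (Ideal.height_ne_top (I := IsLocalRing.maximalIdeal B) (IsLocalRing.maximalIdeal.isMaximal B).ne_top)
    exact ⟨d, by rw [← IsLocalRing.maximalIdeal_height_eq_ringKrullDim, ← hd]; rfl⟩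
  have key : ∀ q ∈ minimalPrimes (B ⧸ I), ringKrullDim ((B ⧸ I) ⧸ q) + (p.height : WithBot ℕ∞) = (d : WithBot ℕ∞) := by
    intro q hq
    have hP := Groth.Agent.EGA4H10.mem_minimal_of_surjective (Ideal.Quotient.mk I) Ideal.Quotient.mk_surjective hq
    rw [Ideal.mk_ker] at hP
    rw [← Groth.Agent.EGA4H10.dim_quotient_comap (Ideal.Quotient.mk I) Ideal.Quotient.mk_surjective q]
    set P := q.comap (Ideal.Quotient.mk I)
    have hPp : P.IsPrime := hP.1.1
    have hunder : P.comap (algebraMap A B) = p := by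
      have hge : p ≤ P.comap (algebraMap A B) := Ideal.map_le_iff_le_comap.mp hP.1.2
      have : P.LiesOver (P.comap (algebraMap A B)) := ⟨rfl⟩
      obtain ⟨Q, hQP, hQ, hQp⟩ := Ideal.exists_ideal_le_liesOver_of_le (S := B) (p := p) (q := P.comap (algebraMap A B)) P hge
      have hIQ : I ≤ Q := Ideal.map_le_iff_le_comap.mpr (le_of_eq hQp.over)
      rw [← le_antisymm hQP (hP.2 ⟨hQ, hIQ⟩ hQP)]
      exact hQp.over.symm
    have : P.LiesOver p := ⟨hunder.symm⟩
    have hht : P.height = p.height := by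
      rw [Ideal.height_eq_height_add_of_liesOver_of_hasGoingDown p, Groth.Agent.Ega11.Codim.height_zero_map_quotient hP, add_zero]
    rw [← hht, Groth.Agent.EGA4H10.dim_quotient_add_height hcov P, hd]
  intro q hq
  obtain ⟨q₀, hq₀, hdim⟩ := Groth.Agent.EGA4H10.exists_minimal_dim_eq (B ⧸ I)
  rw [← hdim]
  have h1 := key q hq
  have h2 := key q₀ hq₀
  obtain ⟨h, hh⟩ := ENat.ne_top_iff_exists.mp (Ideal.height_ne_top (I := p) (Ideal.IsPrime.ne_top ‹_›))
  rw [← hh] at h1 h2
  have hne : ∀ q ∈ minimalPrimes (B ⧸ I), ∃ a : ℕ∞, ringKrullDim ((B ⧸ I) ⧸ q) = a := fun q hq => by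
    have : Nontrivial ((B ⧸ I) ⧸ q) := Ideal.Quotient.nontrivial_iff.mpr hq.1.1.ne_top
    obtain ⟨a, ha⟩ := WithBot.ne_bot_iff_exists.mp (ringKrullDim_ne_bot (R := (B ⧸ I) ⧸ q))
    exact ⟨a, ha.symm⟩
  obtain ⟨a, ha⟩ := hne q hq
  obtain ⟨b, hb⟩ := hne q₀ hq₀
  rw [ha] at h1 ⊢
  rw [hb] at h2 ⊢
  rw [← h2, ← WithBot.coe_add, ← WithBot.coe_add, WithBot.coe_inj] at h1
  rw [WithBot.coe_inj]
  exact le_antisymm ((ENat.add_le_add_iff_right (ENat.natCast_ne_top h)).mp h1.le) ((ENat.add_le_add_iff_right (ENat.natCast_ne_top h)).mp h1.ge)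

end Groth.Agent.S9297
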