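import Groth.Statements.S9298
import Groth.Agent.CAlg5.ComplEquiv

set_option autoImplicit false
universe u
open CAlg

namespace Groth.Agent.S9298

/-- Let A be a Noetherian ring, I an ideal, B a finite type A-algebra and B^ its I-adic completion. Let
π be a surjective ring map from B^ to C, with kernel J, and suppose some power I^c (c ≥ 0) kills the
conormal module J/J^2. Then, compatibly with the maps from A, C is isomorphic to the I-adic
completion of some finite type A-algebra. -/
theorem result (A : Type u) [CommRing A]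
    [IsNoetherianRing A] (I : Ideal A) (B : Type u) [CommRing B] [Algebra A B] [Algebra.FiniteType A B]
    (C : Type u) [CommRing C]
    (π : AdicCompletion (Ideal.map (algebraMap A B) I) B →+* C) (hπ : Function.Surjective π) (c : ℕ)
    (hJ : Ideal.map ((algebraMap B (AdicCompletion (Ideal.map (algebraMap A B) I) B)).comp
        (algebraMap A B)) I ^ c * RingHom.ker π ≤ RingHom.ker π ^ 2) :
    ∃ (D : Type u) (_ : CommRing D) (_ : Algebra A D), Algebra.FiniteType A D ∧
      ∃ e : C ≃+* AdicCompletion (Ideal.map (algebraMap A D) I) D,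
        ∀ a : A, e (π (algebraMap B _ (algebraMap A B a))) =
          algebraMap D _ (algebraMap A D a) := by
  classical
  let a : Ideal B := Ideal.map (algebraMap A B) I
  haveI : IsNoetherianRing B := Algebra.FiniteType.isNoetherianRing A B
  let Bh := AdicCompletion a B
  have hafg : a.FG := IsNoetherian.noetherian a
  haveI : IsNoetherianRing Bh := Groth.Agent.CAlg1.isNoetherianRing_adicCompletion a hafg
  have hcong := Groth.Agent.CAlg5.cong_adicCompletion a hafg
  haveI : IsAdicComplete (a.map (algebraMap B Bh)) Bh := AdicCompletion.isAdicComplete_self a hafg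
  have hjac : a.map (algebraMap B Bh) ≤ (⊥ : Ideal Bh).jacobson := IsAdicComplete.le_jacobson_bot _
  have hJ' : (a.map (algebraMap B Bh)) ^ c * RingHom.ker π ≤ RingHom.ker π ^ 2 := by
    rw [show a.map (algebraMap B Bh) = Ideal.map ((algebraMap B Bh).comp (algebraMap A B)) I from
      Ideal.map_map _ _]
    exact hJ
  obtain ⟨H, k, D, _, _, hHJ, hkJ, hft, θ, hθ⟩ :=
    Groth.Agent.CAlg5.exists_model hcong hjac (RingHom.ker π) hJ'
  letI : Algebra B C := (π.comp (algebraMap B Bh)).toAlgebra
  let φ : (Bh ⧸ H) →ₐ[B] C := { Ideal.Quotient.lift H π (fun x hx => hHJ hx) with commutes' := fun _ => rfl }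
  have hφ : Function.Surjective φ := fun y => by
    obtain ⟨x, rfl⟩ := hπ y
    exact ⟨Ideal.Quotient.mk H x, rfl⟩
  haveI : IsNoetherianRing D := Algebra.FiniteType.isNoetherianRing B D
  have hmapM : a.map (algebraMap B (Bh ⧸ H)) = (a.map (algebraMap B Bh)).map (Ideal.Quotient.mk H) := by
    exact (Ideal.map_map (I := a) (algebraMap B Bh) (Ideal.Quotient.mk H)).symm
  have hjacM : a.map (algebraMap B (Bh ⧸ H)) ≤ (⊥ : Ideal (Bh ⧸ H)).jacobson := by
    rw [hmapM, Ideal.map_le_iff_le_comap]
    intro x hx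
    rw [Ideal.mem_comap, Ideal.mem_jacobson_bot]
    intro y
    obtain ⟨y, rfl⟩ := Ideal.Quotient.mk_surjective y
    have h := (Ideal.mem_jacobson_bot.mp (hjac hx) y).map (Ideal.Quotient.mk H)
    simpa using h
  have hkφ : (a.map (algebraMap B (Bh ⧸ H))) ^ k * RingHom.ker φ = ⊥ := by
    rw [eq_bot_iff, Ideal.mul_le]
    intro x hx t ht
    rw [hmapM, ← Ideal.map_pow] at hx
    obtain ⟨x, hx', rfl⟩ := (Ideal.mem_map_iff_of_surjective _ Ideal.Quotient.mk_surjective).mp hx
    obtain ⟨t, rfl⟩ := Ideal.Quotient.mk_surjective t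
    rw [← map_mul, Submodule.mem_bot, Ideal.Quotient.eq_zero_iff_mem]
    exact hkJ (Ideal.mul_mem_mul hx' ht)
  obtain ⟨L, θ', hθ'⟩ := Groth.Agent.CAlg5.exists_quotient_model θ hθ φ hφ hjacM hkφ
  haveI : IsNoetherianRing C := isNoetherianRing_of_surjective Bh C π hπ
  let aC := a.map (algebraMap B C)
  have haC : aC = (a.map (algebraMap B Bh)).map π := (Ideal.map_map _ _).symm
  haveI : IsHausdorff aC C := IsHausdorff.of_le_jacobson aC C (by
    rw [haC, Ideal.map_le_iff_le_comap]
    intro x hx
    rw [Ideal.mem_comap, Ideal.mem_jacobson_bot]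
    intro y
    obtain ⟨y, rfl⟩ := hπ y
    have h := (Ideal.mem_jacobson_bot.mp (hjac hx) y).map π
    simpa using h)
  haveI : IsPrecomplete aC C := ⟨fun f hf => by
    have hstep : ∀ n, ∃ z : Bh, z ∈ (a.map (algebraMap B Bh)) ^ n ∧ π z = f (n + 1) - f n := fun n => by
      have h := SModEq.sub_mem.mp (hf (Nat.le_succ n)).symm
      rw [smul_eq_mul, Ideal.mul_top, haC, ← Ideal.map_pow] at h
      exact (Ideal.mem_map_iff_of_surjective π hπ).mp h
    choose z hz hzπ using hstep
    obtain ⟨g0, hg0⟩ := hπ (f 0)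
    let g : ℕ → Bh := fun n => g0 + ∑ i ∈ Finset.range n, z i
    have hg : ∀ n, π (g n) = f n := fun n => by
      rw [map_add, map_sum, hg0, Finset.sum_congr rfl (fun i _ => hzπ i), Finset.sum_range_sub f,
        add_sub_cancel]
    obtain ⟨L', hL'⟩ := Groth.Agent.CAlg1.exists_limit (a.map (algebraMap B Bh)) g (fun n => by
      rw [show g (n + 1) - g n = z n by simp only [g, Finset.sum_range_succ]; abel]
      exact hz n)
    refine ⟨π L', fun n => ?_⟩
    rw [SModEq.sub_mem, smul_eq_mul, Ideal.mul_top, haC, ← Ideal.map_pow π, ← hg n, ← map_sub]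
    refine Ideal.mem_map_of_mem π ?_
    rw [← neg_sub]
    exact neg_mem (hL' n)⟩
  obtain ⟨e, he⟩ := Groth.Agent.CAlg5.exists_equiv θ' hθ'
  letI : Algebra A (D ⧸ L) := ((algebraMap B (D ⧸ L)).comp (algebraMap A B)).toAlgebra
  haveI : IsScalarTower A B (D ⧸ L) := IsScalarTower.of_algebraMap_eq fun _ => rfl
  haveI : Algebra.FiniteType B (D ⧸ L) :=
    Algebra.FiniteType.of_surjective (Ideal.Quotient.mkₐ B L) Ideal.Quotient.mk_surjective
  haveI : Algebra.FiniteType A (D ⧸ L) := Algebra.FiniteType.trans (S := B) inferInstance inferInstance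
  refine ⟨D ⧸ L, inferInstance, inferInstance, inferInstance, ?_⟩
  rw [show Ideal.map (algebraMap A (D ⧸ L)) I = a.map (algebraMap B (D ⧸ L)) from (Ideal.map_map _ _).symm]
  exact ⟨e, fun x => he (algebraMap A B x)⟩


end Groth.Agent.S9298
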