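import Groth.Statements.S9300

set_option autoImplicit false
universe u
open CAlg

namespace Groth.Agent.S9300

/-- Let A and B be domains and A → B a ring map for which the generic point of Spec(A) has a unique
preimage in Spec(B). Then every nonzero ideal of B has nonzero preimage in A. -/
theorem result (A B : Type u) [CommRing A] [IsDomain A]
    [CommRing B] [IsDomain B] (φ : A →+* B)
    (h : ∃! q : PrimeSpectrum B, Ideal.comap φ q.asIdeal = ⊥) (J : Ideal B) (hJ : J ≠ ⊥) :
    Ideal.comap φ J ≠ ⊥ := by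
  have hker : ∀ a, φ a = 0 → a = 0 := fun a ha => by
    obtain ⟨q, hq, -⟩ := h
    have : a ∈ Ideal.comap φ q.asIdeal := by rw [Ideal.mem_comap, ha]; exact zero_mem _
    rwa [hq, Ideal.mem_bot] at this
  intro hc
  obtain ⟨q, hq, hJq, hd⟩ := Ideal.exists_le_prime_disjoint J ((nonZeroDivisors A).map φ) (by
    rw [Set.disjoint_left]
    rintro _ hx ⟨a, ha, rfl⟩
    have : a ∈ Ideal.comap φ J := hx
    rw [hc, Ideal.mem_bot] at this
    exact nonZeroDivisors.ne_zero ha this)
  have hq0 : Ideal.comap φ q = ⊥ := eq_bot_iff.mpr fun a ha => by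
    by_contra h0
    rw [Ideal.mem_bot] at h0
    exact Set.disjoint_left.mp hd ha ⟨a, mem_nonZeroDivisors_of_ne_zero h0, rfl⟩
  have hb : Ideal.comap φ (⊥ : Ideal B) = ⊥ := eq_bot_iff.mpr fun a ha => by
    rw [Ideal.mem_comap, Ideal.mem_bot] at ha
    rw [Ideal.mem_bot]; exact hker a ha
  have h2 := h.unique (y₁ := ⟨q, hq⟩) (y₂ := ⟨⊥, Ideal.isPrime_bot⟩) hq0 hb
  have h3 : q = ⊥ := congrArg PrimeSpectrum.asIdeal h2
  exact hJ (eq_bot_iff.mpr (h3 ▸ hJq))


end Groth.Agent.S9300
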