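import Groth.Statements.S9301
import Mathlib.RingTheory.Flat.TorsionFree

set_option autoImplicit false
universe u
open CAlg

namespace Groth.Agent.S9301

/-- Let A and B be domains and A → B a flat ring map which is the localization of a quasi-finite ring
map A → B₀ (of finite type with finite fibres). Then every nonzero ideal of B has nonzero preimage
in A. -/
theorem result (A B₀ B : Type u) [CommRing A] [IsDomain A]
    [CommRing B₀] [CommRing B] [IsDomain B] [Algebra A B₀] [Algebra.FiniteType A B₀]
    [Algebra.QuasiFinite A B₀] (S : Submonoid B₀) [Algebra B₀ B] [IsLocalization S B] [Algebra A B]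
    [IsScalarTower A B₀ B] [Module.Flat A B] (J : Ideal B) (hJ : J ≠ ⊥) :
    Ideal.comap (algebraMap A B) J ≠ ⊥ := by
  have : Algebra.QuasiFinite B₀ B := Algebra.QuasiFinite.of_isLocalization (R := B₀) (S := B₀) S
  have : Algebra.QuasiFinite A B := Algebra.QuasiFinite.trans A B₀ B
  have hker : ∀ a, algebraMap A B a = 0 → a = 0 := fun a ha => by
    by_contra h0
    have hreg : IsSMulRegular B (algebraMap A B a) :=
      IsSMulRegular.of_flat (IsRegular.of_ne_zero h0).left.isSMulRegular
    exact one_ne_zero (hreg.right_eq_zero_of_smul (by rw [ha, zero_smul]) : (1 : B) = 0)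
  intro hc
  obtain ⟨q, hq, hJq, hd⟩ := Ideal.exists_le_prime_disjoint J ((nonZeroDivisors A).map (algebraMap A B)) (by
    rw [Set.disjoint_left]
    rintro _ hx ⟨a, ha, rfl⟩
    have : a ∈ Ideal.comap (algebraMap A B) J := hx
    rw [hc, Ideal.mem_bot] at this
    exact nonZeroDivisors.ne_zero ha this)
  have h2 : (⊥ : Ideal B) = q := Algebra.QuasiFinite.eq_of_le_of_under_eq (R := A) ⊥ q bot_le (by
    ext a
    rw [Ideal.under_def, Ideal.under_def, Ideal.mem_comap, Ideal.mem_comap, Ideal.mem_bot]
    refine ⟨fun h => by rw [h]; exact zero_mem _, fun ha => ?_⟩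
    by_contra h0
    refine Set.disjoint_left.mp hd ha ⟨a, mem_nonZeroDivisors_of_ne_zero fun h => h0 (by rw [h, map_zero]), rfl⟩)
  exact hJ (eq_bot_iff.mpr (h2 ▸ hJq))


end Groth.Agent.S9301
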