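import Groth.Statements.S9302
import Mathlib
-- import your own Groth.Agent.* helpers here

set_option autoImplicit false
universe u
open CategoryTheory
open EtAlg

namespace Groth.Agent.S9302

/-- Henselian pairs are preserved under limits: for an inverse system (A_j, I_j) of henselian pairs over
a preordered set J, the limit A = lim A_j with the ideal I = lim I_j (elements all of whose
projections lie in the I_j) is a henselian pair. -/
theorem result (J : Type u) [Preorder J] (F : J ⥤ CommRingCat.{u})
    (I : ∀ j : J, Ideal (F.obj j))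
    (hI : ∀ (i j : J) (φ : i ⟶ j), Ideal.map (F.map φ).hom (I i) ≤ I j)
    (h : ∀ j : J, HenselianRing (F.obj j) (I j)) :
    HenselianRing ((Limits.limit F : CommRingCat.{u}) : Type u)
      (⨅ j : J, Ideal.comap (Limits.limit.π F j).hom (I j)) := by
  classical
  let E := Limits.Types.isLimitEquivSections
    (Limits.isLimitOfPreserves (forget CommRingCat.{u}) (Limits.limit.isLimit F))
  have mkel : ∀ s : ∀ j, F.obj j, (∀ (i j : J) (φ : i ⟶ j), (F.map φ).hom (s i) = s j) →
      ∃ x : (Limits.limit F : CommRingCat.{u}), ∀ j, (Limits.limit.π F j).hom x = s j := by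
    intro s hs
    refine ⟨E.symm ⟨s, fun {i j} φ => hs i j φ⟩, fun j => ?_⟩
    exact Limits.Types.isLimitEquivSections_symm_apply
      (Limits.isLimitOfPreserves (forget CommRingCat.{u}) (Limits.limit.isLimit F)) _ j
  have extel : ∀ x y : (Limits.limit F : CommRingCat.{u}),
      (∀ j, (Limits.limit.π F j).hom x = (Limits.limit.π F j).hom y) → x = y :=
    fun x y hxy => Limits.Concrete.limit_ext F x y hxy
  have πnat : ∀ (i j : J) (φ : i ⟶ j) (x : (Limits.limit F : CommRingCat.{u})),
      (F.map φ).hom ((Limits.limit.π F i).hom x) = (Limits.limit.π F j).hom x := by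
    intro i j φ x
    rw [← Limits.limit.w F φ]; rfl
  have mem : ∀ x : (Limits.limit F : CommRingCat.{u}),
      x ∈ (⨅ j : J, Ideal.comap (Limits.limit.π F j).hom (I j)) ↔
        ∀ j, (Limits.limit.π F j).hom x ∈ I j := by
    intro x
    simp [Submodule.mem_iInf]
  -- roots congruent modulo `I j` with unit derivative are equal
  have uniq : ∀ (j : J) (f : Polynomial (F.obj j)) (a₀ a b : F.obj j), f.IsRoot a → f.IsRoot b →
      a - a₀ ∈ I j → b - a₀ ∈ I j → IsUnit (Ideal.Quotient.mk (I j) (f.derivative.eval a₀)) →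
      a = b := by
    intro j f a₀ a b ha hb ha0 hb0 hu
    obtain ⟨c, hc⟩ := f.binomExpansion a (b - a)
    rw [add_sub_cancel a b, hb.eq_zero, ha.eq_zero, zero_add] at hc
    obtain ⟨d, hd⟩ := Ideal.Quotient.mk_surjective ((hu.unit⁻¹ : _ˣ) : F.obj j ⧸ I j)
    have hab : b - a ∈ I j := by
      have := (I j).sub_mem hb0 ha0
      rwa [sub_sub_sub_cancel_right] at this
    have hd' : d * (f.derivative.eval a + c * (b - a)) - 1 ∈ I j := by
      rw [← Ideal.Quotient.eq, map_mul, map_add, map_mul,
        Ideal.Quotient.eq_zero_iff_mem.mpr hab, mul_zero, add_zero, hd, map_one]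
      have he : Ideal.Quotient.mk (I j) (f.derivative.eval a) =
          Ideal.Quotient.mk (I j) (f.derivative.eval a₀) := by
        rw [← Polynomial.eval₂_at_apply, ← Polynomial.eval₂_at_apply, Ideal.Quotient.eq.mpr ha0]
      rw [he]; exact IsUnit.val_inv_mul hu
    have hu' : IsUnit (d * (f.derivative.eval a + c * (b - a))) := by
      have := Ideal.mem_jacobson_bot.mp ((h j).jac hd') 1
      simpa using this
    have hz : (d * (f.derivative.eval a + c * (b - a))) * (b - a) = 0 := by
      linear_combination (-d) * hc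
    exact (sub_eq_zero.mp (hu'.mul_right_eq_zero.mp hz)).symm
  refine ⟨fun x hx => Ideal.mem_jacobson_bot.mpr fun y => ?_, fun f hf a₀ hfa hfd => ?_⟩
  · rw [mem] at hx
    have hu : ∀ j, IsUnit ((Limits.limit.π F j).hom (x * y + 1)) := fun j => by
      rw [map_add, map_mul, map_one]
      exact Ideal.mem_jacobson_bot.mp ((h j).jac (hx j)) _
    obtain ⟨w, hw⟩ := mkel (fun j => ((hu j).unit⁻¹ : _ˣ)) (by
      intro i j φ
      refine (hu j).mul_left_cancel ?_
      rw [IsUnit.mul_val_inv]
      calc (Limits.limit.π F j).hom (x * y + 1) * (F.map φ).hom (((hu i).unit⁻¹ : _ˣ) : F.obj i)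
          = (F.map φ).hom ((Limits.limit.π F i).hom (x * y + 1) * ((hu i).unit⁻¹ : _ˣ)) := by
            rw [map_mul, πnat]
        _ = 1 := by rw [IsUnit.mul_val_inv, map_one])
    refine IsUnit.of_mul_eq_one w (extel _ _ fun j => ?_)
    rw [map_mul, map_one, hw, IsUnit.mul_val_inv]
  · rw [mem] at hfa
    have hfd' : ∀ j, IsUnit (Ideal.Quotient.mk (I j)
        ((f.map (Limits.limit.π F j).hom).derivative.eval ((Limits.limit.π F j).hom a₀))) := by
      intro j
      rw [Polynomial.derivative_map, Polynomial.eval_map, Polynomial.eval₂_at_apply]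
      have hle : (⨅ j : J, Ideal.comap (Limits.limit.π F j).hom (I j)) ≤
          Ideal.comap (Limits.limit.π F j).hom (I j) := iInf_le _ j
      have := hfd.map (Ideal.quotientMap (I j) (Limits.limit.π F j).hom hle)
      rwa [Ideal.quotientMap_mk] at this
    have hex : ∀ j, ∃ a, (f.map (Limits.limit.π F j).hom).IsRoot a ∧
        a - (Limits.limit.π F j).hom a₀ ∈ I j := fun j =>
      (h j).is_henselian _ (hf.map _) _
        (by rw [Polynomial.eval_map, Polynomial.eval₂_at_apply]; exact hfa j) (hfd' j)
    choose a ha ha0 using hex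
    obtain ⟨r, hr⟩ := mkel a (by
      intro i j φ
      refine uniq j (f.map (Limits.limit.π F j).hom) ((Limits.limit.π F j).hom a₀) _ _ ?_ (ha j) ?_
        (ha0 j) (hfd' j)
      · have hcomp : f.map (Limits.limit.π F j).hom =
            (f.map (Limits.limit.π F i).hom).map (F.map φ).hom := by
          rw [Polynomial.map_map, ← Limits.limit.w F φ]; rfl
        rw [hcomp]
        exact (ha i).map
      · rw [← πnat i j φ, ← map_sub]
        exact hI i j φ (Ideal.mem_map_of_mem _ (ha0 i)))
    refine ⟨r, extel _ _ fun j => ?_, (mem _).mpr fun j => ?_⟩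
    · rw [map_zero, ← Polynomial.eval₂_at_apply, hr, ← Polynomial.eval_map]
      exact ha j
    · rw [map_sub, hr]; exact ha0 j

end Groth.Agent.S9302
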