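import Groth.Statements.S9308
import Groth.Agent.CAlg5.RegularColim

set_option autoImplicit false
universe u
open CAlg

namespace Groth.Agent.S9308

/-- Let R be a ring and (A_i, φ_ii') a directed system of smooth R-algebras with colimit Λ (the index
type is taken in the universe of the rings). Suppose that for every prime p of R the ring Λ ⊗_R κ(p)
is Noetherian. Then R → Λ is a regular ring map. -/
theorem result (R : Type u) [CommRing R] {ι : Type u} [Preorder ι]
    [IsDirectedOrder ι] [Nonempty ι] (G : ι → Type u) [∀ i, CommRing (G i)] [∀ i, Algebra R (G i)]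
    (f : ∀ i j : ι, i ≤ j → (G i →ₐ[R] G j)) [DirectedSystem G (fun i j h => f i j h)]
    (hs : ∀ i, Algebra.Smooth R (G i))
    (hN : ∀ (p : Ideal R) [p.IsPrime], IsNoetherianRing (p.Fiber (DirectLimit G f))) :
    CAlg.IsRegularHom R (DirectLimit G f) := by
  let g : ∀ i, G i →ₐ[R] DirectLimit G f := fun i =>
    { toFun := fun x => ⟦⟨i, x⟩⟧
      map_one' := (DirectLimit.one_def (f := f) i).symm
      map_mul' := fun _ _ => (DirectLimit.mul_def (f := f) ..).symm
      map_zero' := (DirectLimit.zero_def (f := f) i).symm
      map_add' := fun _ _ => (DirectLimit.add_def (f := f) ..).symm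
      commutes' := fun r => (DirectLimit.algebraMap_def (f := f) i r).symm }
  refine Groth.Agent.CAlg5.isRegularHom_of_smooth_system R G f ?_ (DirectLimit G f) g ?_ ?_ ?_ hs hN
  · exact fun i j k hij hjk x => DirectedSystem.map_map (f := fun i j h => f i j h) hij hjk x
  · exact fun i j h => AlgHom.ext fun x => (DirectLimit.eq_of_le (f := f) ⟨i, x⟩ j h).symm
  · intro a
    induction a using DirectLimit.induction with | _ i x
    exact ⟨i, x, rfl⟩
  · intro i x hx
    exact (DirectLimit.exists_eq_zero (f := f) ⟨i, x⟩).mp hx


end Groth.Agent.S9308
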