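import Groth.Statements.S9309
import Groth.Agent.CAlg5.GRingApprox
import Mathlib.Algebra.Colimit.DirectLimit

set_option autoImplicit false
universe u
open CAlg

namespace Groth.Agent.S9309

/-- Every henselian local ring A is the colimit of a directed system of henselian local G-rings whose
transition maps are local homomorphisms; that is, there is such a system whose direct limit is
isomorphic to A. -/
theorem result (A : Type u) [CommRing A]
    [HenselianLocalRing A] :
    ∃ (ι : Type u) (_ : Preorder ι) (_ : IsDirectedOrder ι) (_ : Nonempty ι) (G : ι → Type u)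
      (_ : ∀ i, CommRing (G i)) (f : ∀ i j : ι, i ≤ j → (G i →+* G j))
      (_ : DirectedSystem G (fun i j h => f i j h)),
      (∀ i, HenselianLocalRing (G i) ∧ CAlg.IsGRing (G i)) ∧
      (∀ (i j : ι) (h : i ≤ j), IsLocalHom (f i j h)) ∧
      Nonempty (A ≃+* DirectLimit G f) := by
  classical
  choose T hG hH hloc hmem hmin using fun s : Finset A => Groth.Agent.CAlg5.exists_stage A s
  have hmono : ∀ s t : Finset A, s ≤ t → T s ≤ T t := fun s t h =>
    hmin s (T t) (hH t) (hloc t) fun a ha => hmem t a (h ha)
  let f : ∀ s t : Finset A, s ≤ t → (T s →+* T t) := fun s t h => Subring.inclusion (hmono s t h)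
  haveI hd : DirectedSystem (fun s => (T s : Type u)) (fun i j h => f i j h) :=
    ⟨fun _ _ => Subtype.ext rfl, fun _ _ _ _ _ _ => Subtype.ext rfl⟩
  refine ⟨Finset A, inferInstance, inferInstance, inferInstance, fun s => (T s : Type u), fun s => inferInstance,
    f, hd, fun s => ⟨hH s, hG s⟩, fun s t h => ⟨fun x hx => (hloc s).1 x (hx.map (T t).subtype)⟩, ?_⟩
  let L : DirectLimit (fun s => (T s : Type u)) f →+* A :=
    DirectLimit.Ring.lift _ f A (fun s => (T s).subtype) fun _ _ _ _ => rfl
  refine ⟨(RingEquiv.ofBijective L ⟨fun x y h => ?_, fun a => ?_⟩).symm⟩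
  · induction x, y using DirectLimit.induction₂ f with
    | _ i x y => exact congrArg (fun z => (⟦⟨i, z⟩⟧ : DirectLimit (fun s => (T s : Type u)) f)) (Subtype.ext h)
  · exact ⟨⟦⟨{a}, ⟨a, hmem {a} a (Finset.mem_singleton_self a)⟩⟩⟧, rfl⟩


end Groth.Agent.S9309
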