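import Groth.Statements.S9312
import Groth.Agent.CAlg5.InvTensor

set_option autoImplicit false
universe u
open CAlg

namespace Groth.Agent.S9312

/-- Let a finite group G with n elements act on a ring R by ring automorphisms, with invariant ring R^G,
and let A be an algebra over R^G; G acts on A ⊗ R through the factor R. (1) For every G-invariant b
∈ A ⊗ R there is a monic polynomial over A whose image in (A ⊗ R)[T] is (T - b)^n. (2) For every a
in the kernel of A → A ⊗ R, all coefficients of (T - a)^n below degree n vanish, that is (T - a)^n =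
T^n in A[T]. -/
theorem result (R G A : Type u) [CommRing R] [Group G] [Fintype G]
    [MulSemiringAction G R] [CommRing A] [Algebra (FixedPoints.subring R G) A] :
    (∀ b : TensorProduct (FixedPoints.subring R G) A R,
      (∀ σ : G, Algebra.TensorProduct.map (AlgHom.id (FixedPoints.subring R G) A)
        (MulSemiringAction.toAlgHom (FixedPoints.subring R G) R σ) b = b) →
      ∃ P : Polynomial A, P.Monic ∧
        Polynomial.map (algebraMap A (TensorProduct (FixedPoints.subring R G) A R)) P =
          (Polynomial.X - Polynomial.C b) ^ Fintype.card G) ∧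
    (∀ a : A, algebraMap A (TensorProduct (FixedPoints.subring R G) A R) a = 0 →
      ∀ i : ℕ, i < Fintype.card G → ((Polynomial.X - Polynomial.C a) ^ Fintype.card G).coeff i = 0) := by
  let R₀ := FixedPoints.subring R G
  let act : G → (R →ₐ[R₀] R) := MulSemiringAction.toAlgHom R₀ R
  let ρ : G → (MvPolynomial A R →+* MvPolynomial A R) :=
    fun σ => MvPolynomial.map (MulSemiringAction.toRingHom G R σ)
  have hρ : ∀ σ τ s, ρ σ (ρ τ s) = ρ (σ * τ) s := fun σ τ s => by
    show MvPolynomial.map _ (MvPolynomial.map _ s) = _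
    rw [MvPolynomial.map_map]
    congr 1
    exact MvPolynomial.ringHom_ext (fun r => by simp [ρ, mul_smul]) fun i => by simp [ρ]
  let φ : MvPolynomial A R₀ →+* MvPolynomial A R := MvPolynomial.map (algebraMap R₀ R)
  have hφi : Function.Injective φ := MvPolynomial.map_injective _ Subtype.val_injective
  have hfix : ∀ σ a, ρ σ (φ a) = φ a := fun σ a => by
    show MvPolynomial.map _ (MvPolynomial.map _ a) = _
    rw [MvPolynomial.map_map]
    congr 1
    refine MvPolynomial.ringHom_ext (fun r => ?_) fun i => by simp [φ]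
    simp only [RingHom.comp_apply, φ, MvPolynomial.map_C]
    exact congrArg MvPolynomial.C (r.2 σ)
  have hrange : ∀ s, (∀ σ, ρ σ s = s) → s ∈ Set.range φ := by
    intro s hs
    classical
    refine ⟨∑ d ∈ s.support, MvPolynomial.monomial d (⟨s.coeff d, fun σ => by
      conv_rhs => rw [← hs σ]
      exact (MvPolynomial.coeff_map (MulSemiringAction.toRingHom G R σ) s d).symm⟩ : R₀), ?_⟩
    rw [map_sum]
    simp only [φ, MvPolynomial.map_monomial]
    exact s.support_sum_monomial_coeff
  let π : MvPolynomial A R₀ →ₐ[R₀] A := MvPolynomial.aeval id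
  have hπ : Function.Surjective π := fun a => ⟨MvPolynomial.X a, MvPolynomial.aeval_X _ _⟩
  let e : MvPolynomial A R →+* TensorProduct R₀ A R :=
    MvPolynomial.eval₂Hom (Algebra.TensorProduct.includeRight : R →ₐ[R₀] _).toRingHom
      (fun a => a ⊗ₜ[R₀] (1 : R))
  have heφ : e.comp φ = (algebraMap A (TensorProduct R₀ A R)).comp π.toRingHom := by
    refine MvPolynomial.ringHom_ext (fun r => ?_) fun a => ?_
    · simp only [RingHom.comp_apply, φ, MvPolynomial.map_C, e, MvPolynomial.eval₂Hom_C]
      show (1 : A) ⊗ₜ[R₀] algebraMap R₀ R r = π (MvPolynomial.C r) ⊗ₜ[R₀] (1 : R)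
      rw [MvPolynomial.aeval_C, Algebra.algebraMap_eq_smul_one, Algebra.algebraMap_eq_smul_one,
        TensorProduct.smul_tmul]
    · simp [φ, e, π, Algebra.TensorProduct.algebraMap_apply]
  have hes : Function.Surjective e := fun b => by
    induction b using TensorProduct.induction_on with
    | zero => exact ⟨0, map_zero _⟩
    | tmul a r => exact ⟨MvPolynomial.X a * MvPolynomial.C r, by simp [e]⟩
    | add x y hx hy =>
      obtain ⟨x, rfl⟩ := hx
      obtain ⟨y, rfl⟩ := hy
      exact ⟨x + y, map_add _ _ _⟩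
  have heσ : ∀ σ p, e (ρ σ p) =
      Algebra.TensorProduct.map (AlgHom.id R₀ A) (act σ) (e p) := by
    intro σ p
    have h1 : e.comp (ρ σ) =
        (Algebra.TensorProduct.map (AlgHom.id R₀ A) (act σ)).toRingHom.comp e :=
      MvPolynomial.ringHom_ext (fun r => by simp [e, ρ, act])
        fun a => by simp [e, ρ, act]
    exact RingHom.congr_fun h1 p
  have hker : ∀ p, e p = 0 → p ∈ (RingHom.ker π).map φ := by
    intro p hp
    let K := (RingHom.ker π).map φ
    let f : MvPolynomial A R₀ →ₐ[R₀] MvPolynomial A R ⧸ K :=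
      (Ideal.Quotient.mkₐ R₀ K).comp (MvPolynomial.mapAlgHom (Algebra.ofId R₀ R))
    have hf : ∀ x, π x = 0 → f x = 0 := fun x hx =>
      Ideal.Quotient.eq_zero_iff_mem.2 (Ideal.mem_map_of_mem φ hx)
    let fA : A →ₐ[R₀] MvPolynomial A R ⧸ K :=
      (Ideal.Quotient.liftₐ (RingHom.ker π) f hf).comp
        (Ideal.quotientKerAlgEquivOfSurjective hπ).symm.toAlgHom
    have hfA : ∀ a, fA a = f (MvPolynomial.X a) := by
      intro a
      show Ideal.Quotient.liftₐ (RingHom.ker π) f hf
        ((Ideal.quotientKerAlgEquivOfSurjective hπ).symm a) = _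
      rw [show (Ideal.quotientKerAlgEquivOfSurjective hπ).symm a =
        Ideal.Quotient.mk (RingHom.ker π) (MvPolynomial.X a) from
          (AlgEquiv.symm_apply_eq _).2 (MvPolynomial.aeval_X id a).symm]
      rfl
    let Ψ : TensorProduct R₀ A R →ₐ[R₀] MvPolynomial A R ⧸ K :=
      Algebra.TensorProduct.lift fA (IsScalarTower.toAlgHom R₀ R _) fun _ _ => Commute.all _ _
    have h1 : Ψ.toRingHom.comp e = Ideal.Quotient.mk K := by
      refine MvPolynomial.ringHom_ext (fun r => ?_) fun a => ?_
      · simp [Ψ, e]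
        rfl
      · simp [Ψ, e, hfA, f]
    rw [← Ideal.Quotient.eq_zero_iff_mem, ← RingHom.congr_fun h1 p, RingHom.comp_apply, hp, map_zero]
  refine ⟨fun b hb => ?_, fun a ha i hi => ?_⟩
  · obtain ⟨p, rfl⟩ := hes b
    obtain ⟨Q, hQm, hQ, -⟩ := CAlg5.exists_norm_polynomial ρ hρ φ hφi hfix hrange
      (ι := PUnit) (fun _ => 1) (fun _ => p)
    refine ⟨Q.map π.toRingHom, hQm.map _, ?_⟩
    rw [Polynomial.map_map, ← heφ, ← Polynomial.map_map, hQ, Polynomial.map_prod]
    simp only [Polynomial.map_sub, Polynomial.map_X, Polynomial.map_C, map_one, one_mul,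
      Finset.univ_unique, Finset.sum_singleton]
    rw [← Finset.card_univ, ← Finset.prod_const]
    exact Finset.prod_congr rfl fun σ _ => by rw [heσ, hb σ]
  · let p : MvPolynomial A R := φ (MvPolynomial.X a)
    have hp : e p = 0 := by
      show (e.comp φ) (MvPolynomial.X a) = 0
      rw [heφ]
      show algebraMap A _ (π (MvPolynomial.X a)) = 0
      rw [MvPolynomial.aeval_X]
      exact ha
    obtain ⟨t, ht, c, hc⟩ : ∃ t : Finset (MvPolynomial A R₀), (↑t : Set (MvPolynomial A R₀)) ⊆ ↑(RingHom.ker π) ∧
        ∃ c : t → MvPolynomial A R, ∑ j, c j • φ j = p := by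
      have h5 := hker p hp
      rw [Ideal.map, Ideal.span] at h5
      exact (Submodule.mem_span_image_iff_exists_fun _).1 h5
    obtain ⟨Q, -, hQ, hQI⟩ := CAlg5.exists_norm_polynomial ρ hρ φ hφi hfix hrange
      (ι := t) (fun j => (j.1 : MvPolynomial A R₀)) c
    have hsum : ∑ j : t, φ (j.1) * c j = p := by
      rw [← hc]
      exact Finset.sum_congr rfl fun j _ => mul_comm _ _
    rw [hsum] at hQ
    have hQ' : Q = (Polynomial.X - Polynomial.C (MvPolynomial.X a)) ^ Fintype.card G := by
      refine Polynomial.map_injective φ hφi ?_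
      rw [hQ, Polynomial.map_pow, Polynomial.map_sub, Polynomial.map_X, Polynomial.map_C,
        ← Finset.card_univ, ← Finset.prod_const]
      exact Finset.prod_congr rfl fun σ _ => by rw [hfix]
    have h2 : π (Q.coeff i) = 0 := by
      have h3 : Ideal.span (Set.range fun j : t => (j.1 : MvPolynomial A R₀)) ≤
          RingHom.ker π := Ideal.span_le.2 (by rintro _ ⟨j, rfl⟩; exact ht j.2)
      exact h3 (hQI i hi)
    rw [← h2, hQ', show π ((((Polynomial.X - Polynomial.C (MvPolynomial.X a)) ^ Fintype.card G :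
      Polynomial (MvPolynomial A R₀))).coeff i) = π.toRingHom _ from rfl, ← Polynomial.coeff_map,
      Polynomial.map_pow, Polynomial.map_sub, Polynomial.map_X, Polynomial.map_C]
    simp [π]


end Groth.Agent.S9312
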