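import Groth.Statements.S9313
import Groth.Agent.CAlg5.ZMTIdem

set_option autoImplicit false
universe u
open CAlg

namespace Groth.Agent.S9313

/-- Let A be a ring with an ideal I and A → B a ring map of finite type, and suppose B/IB = C_1 × C_2
(given by an idempotent e of B/IB with C_1 = (B/IB)/(1 - e)) where C_1 is finite over A/I. Writing
B' for the integral closure of A in B, some g ∈ B' has idempotent image in B'/IB' lifting e (so
B'/IB' = C_1' × C_2' compatibly with the decomposition of B/IB), and the map B'_g → B_g is an
isomorphism (whence C_1' = C_1). -/
theorem result (A B : Type u) [CommRing A] [CommRing B]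
    [Algebra A B] [Algebra.FiniteType A B] (I : Ideal A) (e : B ⧸ Ideal.map (algebraMap A B) I)
    (he : IsIdempotentElem e)
    (hfin : Module.Finite (A ⧸ I) ((B ⧸ Ideal.map (algebraMap A B) I) ⧸ Ideal.span {1 - e})) :
    ∃ g : integralClosure A B,
      IsIdempotentElem (Ideal.Quotient.mk (Ideal.map (algebraMap A (integralClosure A B)) I) g) ∧
      Ideal.Quotient.mk (Ideal.map (algebraMap A B) I) (g : B) = e ∧
      Function.Bijective (algebraMap (Localization.Away g)
        (Localization (Algebra.algebraMapSubmonoid B (Submonoid.powers g)))) := by
  exact CAlg5.exists_idempotent_lift_integralClosure I e he hfin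


end Groth.Agent.S9313
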