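import Groth.Statements.S9324
import Groth.Agent.Henz21.IntegralPair
import Groth.Agent.Hens22.Integral
-- import your own Groth.Agent.* helpers here

set_option autoImplicit false
universe u
open Hensel

namespace Groth.Agent.S9324

open TensorProduct in
/-- Let `(A, I) → (B, J)` be a map of pairs, i.e. `I B ⊆ J`, such that `J` and `I B` have the same
radical, and suppose `A → B` is integral. Let `A^h` be a henselization of the pair `(A, I)`, `B^h` a
henselization of the pair `(B, J)`, and `φ : A^h → B^h` an `A`-algebra homomorphism (there is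
exactly one, by the universal property of `A^h`). Then the induced map `A^h ⊗_A B → B^h` is
bijective: henselization commutes with integral base change. -/
theorem result {A B Ah Bh : Type u} [CommRing A]
    [CommRing B] [CommRing Ah] [CommRing Bh] [Algebra A B] (I : Ideal A) (J : Ideal B)
    (hIJ : I.map (algebraMap A B) ≤ J) (hrad : J.radical = (I.map (algebraMap A B)).radical)
    [Algebra.IsIntegral A B] [Algebra A Ah] (hA : Hens2.IsPairHenselization A I Ah)
    [Algebra B Bh] [Algebra A Bh] [IsScalarTower A B Bh] (hB : Hens2.IsPairHenselization B J Bh)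
    (φ : Ah →ₐ[A] Bh) :
    Function.Bijective (Algebra.TensorProduct.productMap φ (IsScalarTower.toAlgHom A B Bh)) := by
  set ψ := Algebra.TensorProduct.productMap φ (IsScalarTower.toAlgHom A B Bh) with hψ
  let iR : B →+* Ah ⊗[A] B :=
    (Algebra.TensorProduct.includeRight : B →ₐ[A] Ah ⊗[A] B).toRingHom
  have hcomm : ∀ a, iR (algebraMap A B a) = algebraMap A (Ah ⊗[A] B) a := fun a =>
    (Algebra.TensorProduct.includeRight : B →ₐ[A] Ah ⊗[A] B).commutes a
  have hIT : I.map (algebraMap A (Ah ⊗[A] B)) =
      (I.map (algebraMap A Ah)).map (algebraMap Ah (Ah ⊗[A] B)) := by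
    rw [Ideal.map_map, ← IsScalarTower.algebraMap_eq]
  haveI : HenselianRing Ah (I.map (algebraMap A Ah)) := hA.1
  haveI hT : HenselianRing (Ah ⊗[A] B) (I.map (algebraMap A (Ah ⊗[A] B))) := by
    rw [hIT]
    exact Groth.Agent.Henz21.henselianRing_of_isIntegral _ _
  have hJT : J.map iR ≤ (I.map (algebraMap A (Ah ⊗[A] B))).radical := by
    refine le_trans (Ideal.map_mono (Ideal.le_radical.trans hrad.le)) ?_
    refine (Ideal.map_radical_le _).trans (le_of_eq ?_)
    rw [Ideal.map_map]
    congr 2
    exact RingHom.ext hcomm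
  haveI := Groth.Agent.Hens22.henselianRing_radical (I.map (algebraMap A (Ah ⊗[A] B)))
  have hT' : HenselianRing (Ah ⊗[A] B) (J.map iR) := Groth.Agent.Hens22.henselianRing_of_le hJT
  obtain ⟨g, hg, -⟩ := hB.2 _ (J.map iR) iR hT' le_rfl
  have hg' : ∀ b, g (algebraMap B Bh b) = iR b := RingHom.congr_fun hg
  have hψR : ∀ b, ψ (iR b) = algebraMap B Bh b := fun b => by
    show ψ (1 ⊗ₜ b) = _
    rw [hψ, Algebra.TensorProduct.productMap_apply_tmul, map_one, one_mul]
    rfl
  have e1 : ψ.toRingHom.comp g = RingHom.id Bh := by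
    obtain ⟨_, -, u⟩ := hB.2 Bh (J.map (algebraMap B Bh)) (algebraMap B Bh) hB.1 le_rfl
    exact (u _ (RingHom.ext fun b => (congrArg ψ (hg' b)).trans (hψR b))).trans
      (u (RingHom.id Bh) (RingHom.id_comp _)).symm
  have e2 : ∀ x, g (φ x) = x ⊗ₜ[A] (1 : B) := by
    obtain ⟨_, -, u⟩ := hA.2 _ (I.map (algebraMap A (Ah ⊗[A] B))) (algebraMap A (Ah ⊗[A] B)) hT le_rfl
    refine RingHom.congr_fun ((u (g.comp φ.toRingHom) (RingHom.ext fun a => ?_)).trans
      (u (Algebra.TensorProduct.includeLeftRingHom : Ah →+* Ah ⊗[A] B) (RingHom.ext fun a => rfl)).symm)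
    show g (φ (algebraMap A Ah a)) = _
    rw [AlgHom.commutes, IsScalarTower.algebraMap_apply A B Bh, hg', hcomm]
  refine ⟨Function.LeftInverse.injective (g := g) fun z => ?_,
    Function.RightInverse.surjective (g := g) (RingHom.congr_fun e1)⟩
  induction z using TensorProduct.induction_on with
  | zero => simp
  | tmul x b =>
    rw [hψ, Algebra.TensorProduct.productMap_apply_tmul, map_mul, e2]
    show _ * g (algebraMap B Bh b) = _
    rw [hg']
    show (x ⊗ₜ[A] (1 : B)) * ((1 : Ah) ⊗ₜ[A] b) = _
    rw [Algebra.TensorProduct.tmul_mul_tmul, mul_one, one_mul]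
  | add x y hx hy => rw [map_add, map_add, hx, hy]

end Groth.Agent.S9324
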