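import Groth.Statements.S9325
import Mathlib

set_option autoImplicit false
universe u
open CAlg

namespace Groth.Agent.S9325

/-- Let `A` be a ring and `I ⊆ J` ideals of `A` such that the ideal `J/I` of `A/I` is `H_1`-regular: for
every prime `𝔮` of `A/I` containing `J/I` there is `g ∉ 𝔮` such that the extension of `J/I` to
`(A/I)_g` is generated by an `H_1`-regular sequence (a finite sequence all of whose linear relations
are combinations of the trivial ones). Then `I ∩ J² = I J`. -/
theorem result {A : Type u} [CommRing A] (I J : Ideal A)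
    (hIJ : I ≤ J)
    (h : ∀ (𝔮 : Ideal (A ⧸ I)) [𝔮.IsPrime], J.map (Ideal.Quotient.mk I) ≤ 𝔮 →
      ∃ g : A ⧸ I, g ∉ 𝔮 ∧ ∃ (c : ℕ) (f : Fin c → Localization.Away g),
        CAlgX.IsH1Regular f ∧
          Ideal.span (Set.range f) =
            (J.map (Ideal.Quotient.mk I)).map (algebraMap (A ⧸ I) (Localization.Away g))) :
    I ⊓ J ^ 2 = I * J := by
  refine le_antisymm ?_ (le_inf Ideal.mul_le_left (by rw [pow_two]; exact Ideal.mul_mono_left hIJ))
  intro x hx
  by_contra hxn
  let C : Ideal A := (I * J).colon {x}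
  have hC : C ≠ ⊤ := fun hh => hxn (by
    have h1 := (Ideal.eq_top_iff_one C).1 hh
    rw [Submodule.mem_colon_singleton, one_smul] at h1
    exact h1)
  obtain ⟨P, hP, hCP⟩ := Ideal.exists_le_maximal C hC
  have hPp : P.IsPrime := hP.isPrime
  by_cases hJP : J ≤ P
  · let mk := Ideal.Quotient.mk I
    have hker : RingHom.ker mk ≤ P := by rw [Ideal.mk_ker]; exact hIJ.trans hJP
    have hq : (P.map mk).IsPrime := Ideal.map_isPrime_of_surjective Ideal.Quotient.mk_surjective hker
    obtain ⟨g, hg, c, f, hf, hspan⟩ := h (P.map mk) (Ideal.map_mono hJP)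
    obtain ⟨g, rfl⟩ := Ideal.Quotient.mk_surjective g
    have hgP : g ∉ P := fun hh => hg (Ideal.mem_map_of_mem mk hh)
    let B := Localization.Away g
    let ψ : B →+* Localization.Away (mk g) := IsLocalization.Away.map B _ mk g
    have hψ : ∀ a, ψ (algebraMap A B a) = algebraMap (A ⧸ I) _ (mk a) :=
      fun a => IsLocalization.map_eq _ a
    have hψs : Function.Surjective ψ := by
      intro y
      obtain ⟨a, ⟨s, k, hk⟩, rfl⟩ := IsLocalization.exists_mk'_eq (Submonoid.powers (mk g)) y
      obtain ⟨a, rfl⟩ := Ideal.Quotient.mk_surjective a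
      simp only at hk
      refine ⟨IsLocalization.mk' B a (⟨g ^ k, k, rfl⟩ : Submonoid.powers g), ?_⟩
      show IsLocalization.map _ mk _ _ = _
      rw [IsLocalization.map_mk']
      congr 1
      exact Subtype.ext ((map_pow mk g k).trans hk)
    have hker' : RingHom.ker ψ = I.map (algebraMap A B) := by
      refine le_antisymm (fun y hy => ?_) (Ideal.map_le_iff_le_comap.2 fun a ha => ?_)
      · obtain ⟨⟨a, s⟩, hs⟩ := IsLocalization.surj (Submonoid.powers g) y
        have h1 : algebraMap (A ⧸ I) (Localization.Away (mk g)) (mk a) = 0 := by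
          rw [← hψ, ← hs, map_mul, RingHom.mem_ker.1 hy, zero_mul]
        obtain ⟨⟨m, k, hm⟩, hm0⟩ := (IsLocalization.map_eq_zero_iff (Submonoid.powers (mk g)) _ _).1 h1
        simp only at hm hm0
        rw [← hm, ← map_pow, ← map_mul, Ideal.Quotient.eq_zero_iff_mem] at hm0
        have h2 := Ideal.mem_map_of_mem (algebraMap A B) hm0
        rw [map_mul, map_pow, ← hs] at h2
        have hu : IsUnit (algebraMap A B g ^ k * algebraMap A B (s : A)) :=
          ((IsLocalization.Away.algebraMap_isUnit g).pow k).mul (IsLocalization.map_units B s)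
        rw [show algebraMap A B g ^ k * (y * algebraMap A B (s : A)) =
          (algebraMap A B g ^ k * algebraMap A B (s : A)) * y by ring] at h2
        exact (Ideal.unit_mul_mem_iff_mem _ hu).1 h2
      · rw [Ideal.mem_comap, RingHom.mem_ker, hψ, Ideal.Quotient.eq_zero_iff_mem.2 ha, map_zero]
    have hJB : (J.map (algebraMap A B)).map ψ = Ideal.span (Set.range f) := by
      have hc : ψ.comp (algebraMap A B) =
          (algebraMap (A ⧸ I) (Localization.Away (mk g))).comp mk := RingHom.ext hψ
      rw [hspan, Ideal.map_map, hc, ← Ideal.map_map]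
    choose F hF using fun i => (Ideal.mem_map_iff_of_surjective ψ hψs).1
      (hJB ▸ Ideal.subset_span ⟨i, rfl⟩ : f i ∈ (J.map (algebraMap A B)).map ψ)
    set JB := J.map (algebraMap A B) with hJBdef
    set IB := I.map (algebraMap A B) with hIBdef
    have hJle : JB ≤ Ideal.span (Set.range F) ⊔ IB := by
      intro y hy
      have h1 := Ideal.mem_map_of_mem ψ hy
      rw [hJB, show Set.range f = ψ '' Set.range F from by
        rw [← Set.range_comp]; exact congrArg Set.range (funext fun i => ((hF i).2).symm),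
        ← Ideal.map_span] at h1
      obtain ⟨z, hz, hzy⟩ := (Ideal.mem_map_iff_of_surjective ψ hψs).1 h1
      rw [← add_sub_cancel z y]
      refine Submodule.add_mem_sup hz ?_
      rw [← hker', RingHom.mem_ker, map_sub, hzy, sub_self]
    have hxB : algebraMap A B x ∈ Ideal.span (Set.range F) ⊔ IB * JB := by
      have h1 : algebraMap A B x ∈ JB * JB := by
        rw [hJBdef, ← Ideal.map_mul, ← pow_two]
        exact Ideal.mem_map_of_mem _ hx.2
      have h2 : JB * JB ≤ Ideal.span (Set.range F) ⊔ IB * JB := by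
        refine (Ideal.mul_mono_left hJle).trans ?_
        rw [Ideal.sup_mul]
        exact sup_le_sup_right Ideal.mul_le_left _
      exact h2 h1
    obtain ⟨u, hu, v, hv, huv⟩ := Submodule.mem_sup.1 hxB
    obtain ⟨a, rfl⟩ := Ideal.mem_span_range_iff_exists_fun.1 hu
    have hrel : ∑ i, ψ (a i) * f i = 0 := by
      have h1 := congrArg ψ huv
      rw [map_add, map_sum, hψ, Ideal.Quotient.eq_zero_iff_mem.2 hx.1, map_zero,
        RingHom.mem_ker.1 (hker' ▸ Ideal.mul_le_left hv : v ∈ RingHom.ker ψ), add_zero] at h1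
      simpa only [map_mul, (hF _).2] using h1
    have key : ∀ w ∈ Submodule.span (Localization.Away (mk g))
        {v : Fin c → Localization.Away (mk g) |
          ∃ i j : Fin c, v = Pi.single i (f j) - Pi.single j (f i)},
        ∃ W : Fin c → B, (∀ i, ψ (W i) = w i) ∧ ∑ i, W i * F i = 0 := by
      intro w hw
      induction hw using Submodule.span_induction with
      | mem w hw =>
        obtain ⟨i, j, rfl⟩ := hw
        refine ⟨Pi.single i (F j) - Pi.single j (F i), fun l => ?_, ?_⟩
        · simp only [Pi.sub_apply, map_sub, Pi.single_apply, apply_ite ψ, map_zero, (hF _).2]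
        · simp only [Pi.sub_apply, sub_mul, Finset.sum_sub_distrib, Pi.single_apply, ite_mul, zero_mul,
            Finset.sum_ite_eq', Finset.mem_univ, if_true]
          ring
      | zero => exact ⟨0, fun i => map_zero ψ, by simp⟩
      | add w₁ w₂ _ _ h₁ h₂ =>
        obtain ⟨W₁, hW₁, hs₁⟩ := h₁
        obtain ⟨W₂, hW₂, hs₂⟩ := h₂
        exact ⟨W₁ + W₂, fun i => by simp [hW₁, hW₂], by simp [add_mul, Finset.sum_add_distrib, hs₁, hs₂]⟩
      | smul t w _ h₁ =>
        obtain ⟨W, hW, hs⟩ := h₁
        obtain ⟨t, rfl⟩ := hψs t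
        exact ⟨t • W, fun i => by simp [hW], by simp [mul_assoc, ← Finset.mul_sum, hs]⟩
    obtain ⟨W, hW, hWs⟩ := key _ (hf (fun i => ψ (a i)) hrel)
    have hfin : algebraMap A B x ∈ (I * J).map (algebraMap A B) := by
      rw [Ideal.map_mul, ← huv]
      refine add_mem ?_ hv
      rw [show ∑ i, a i * F i = ∑ i, (a i - W i) * F i from by
        simp [sub_mul, Finset.sum_sub_distrib, hWs]]
      refine Submodule.sum_mem _ fun i _ => Ideal.mul_mem_mul ?_ (hF i).1
      show a i - W i ∈ IB
      rw [← hker', RingHom.mem_ker, map_sub, hW, sub_self]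
    obtain ⟨m, ⟨k, rfl⟩, hm⟩ := (IsLocalization.algebraMap_mem_map_algebraMap_iff
      (Submonoid.powers g) B _ _).1 hfin
    refine hgP (hPp.mem_of_pow_mem k (hCP ?_))
    rw [Submodule.mem_colon_singleton, smul_eq_mul]
    exact hm
  · obtain ⟨j, hj, hjP⟩ := SetLike.not_le_iff_exists.1 hJP
    refine hjP (hCP ?_)
    rw [Submodule.mem_colon_singleton, smul_eq_mul]
    rw [mul_comm j x]
    exact Ideal.mul_mem_mul hx.1 hj


end Groth.Agent.S9325
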