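import Groth.Statements.S9326
import Mathlib.Topology.Algebra.Nonarchimedean.Basic
import Mathlib.Algebra.BigOperators.Intervals

set_option autoImplicit false
universe u
open CAlg

namespace Groth.Agent.S9326

/-- Let `u : N → M` be a continuous homomorphism of topological abelian groups. Assume `M` is Hausdorff
and `N` is Hausdorff and complete, linearly topologized (every neighbourhood of zero contains an
open subgroup) and first countable (zero has a countable basis of neighbourhoods). Then exactly one
of two things holds: `u` is an open map; or there is an open subgroup of `N` whose image is nowhere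
dense in `M`. -/
theorem result {N M : Type u} [AddCommGroup N]
    [AddCommGroup M] [UniformSpace N] [IsUniformAddGroup N] [TopologicalSpace M]
    [IsTopologicalAddGroup M] [T2Space M] [T2Space N] [CompleteSpace N] [NonarchimedeanAddGroup N]
    [FirstCountableTopology N] (u : N →+ M) (hu : Continuous u) :
    Xor (IsOpenMap u) (∃ V : OpenAddSubgroup N, IsNowhereDense (u '' (V : Set N))) := by
  classical
  have hsub : ∀ V : OpenAddSubgroup N, (u '' (V : Set N)) = ((V : AddSubgroup N).map u : Set M) :=
    fun V => rfl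
  by_cases ho : IsOpenMap u
  · refine Or.inl ⟨ho, fun ⟨V, hV⟩ => ?_⟩
    have h1 : interior (closure (u '' (V : Set N))) = ∅ := hV
    have h2 := interior_mono subset_closure (s := u '' (V : Set N))
    rw [(ho _ V.isOpen).interior_eq, h1] at h2
    exact h2 ⟨0, V.zero_mem, map_zero u⟩
  refine Or.inr ⟨?_, ho⟩
  by_contra H
  push Not at H
  apply ho
  have hop : ∀ V : OpenAddSubgroup N,
      IsOpen (closure (u '' (V : Set N))) := fun V => by
    rw [hsub]
    obtain ⟨z, hz⟩ := Set.nonempty_iff_ne_empty.mpr (hsub V ▸ H V)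
    exact ((V : AddSubgroup N).map u).topologicalClosure.isOpen_of_mem_nhds
      (mem_interior_iff_mem_nhds.mp hz)
  obtain ⟨U, hU⟩ := (nhds (0 : N)).exists_antitone_basis
  have himg : ∀ V : OpenAddSubgroup N, closure (u '' (V : Set N)) ⊆ u '' (V : Set N) := by
    intro V y hy
    have hch : ∀ k, ∃ O : OpenAddSubgroup N, (O : Set N) ⊆ U k := fun k =>
      NonarchimedeanAddGroup.is_nonarchimedean (U k) (hU.mem k)
    choose O hO using hch
    obtain ⟨W, hW0, hWs⟩ : ∃ W : ℕ → OpenAddSubgroup N, W 0 = V ∧ ∀ k, W (k + 1) = W k ⊓ O k :=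
      ⟨fun k => Nat.rec (motive := fun _ => OpenAddSubgroup N) V (fun j W => W ⊓ O j) k, rfl, fun _ => rfl⟩
    have hWanti : Antitone W := antitone_nat_of_succ_le fun j => (hWs j).le.trans inf_le_left
    have hstep : ∀ (k : ℕ) (t : M), t ∈ closure (u '' ((W k : OpenAddSubgroup N) : Set N)) →
        ∃ v ∈ W k, t - u v ∈ closure (u '' ((W (k + 1) : OpenAddSubgroup N) : Set N)) := by
      intro k t ht
      have hopen : IsOpen ((fun z => t - z) ⁻¹' closure (u '' ((W (k + 1) : OpenAddSubgroup N) : Set N))) :=
        (hop _).preimage (continuous_const.sub continuous_id)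
      obtain ⟨_, hz, v, hv, rfl⟩ := mem_closure_iff.mp ht _ hopen (by
        rw [Set.mem_preimage, sub_self]
        exact subset_closure ⟨0, (W (k + 1)).zero_mem, map_zero u⟩)
      exact ⟨v, hv, hz⟩
    choose! v hv hv' using hstep
    let t : ℕ → M := fun k => Nat.rec y (fun j t => t - u (v j t)) k
    have ht : ∀ k, t k ∈ closure (u '' ((W k : OpenAddSubgroup N) : Set N)) := fun k => by
      induction k with
      | zero => rw [hW0]; exact hy
      | succ k ih => exact hv' k _ ih
    let s : ℕ → N := fun k => ∑ j ∈ Finset.range k, v j (t j)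
    have hs : ∀ k, y - u (s k) = t k := fun k => by
      induction k with
      | zero => simp [s, t]
      | succ k ih =>
        show y - u (s (k + 1)) = t k - u (v k (t k))
        simp only [s, Finset.sum_range_succ, map_add]
        rw [← sub_sub]
        exact congrArg (· - u (v k (t k))) ih
    have hmem : ∀ a b, a ≤ b → s b - s a ∈ W a := fun a b hab => by
      simp only [s]
      rw [← Finset.sum_range_add_sum_Ico _ hab, add_sub_cancel_left]
      refine sum_mem fun j hj => ?_
      exact
        hWanti (Finset.mem_Ico.mp hj).1 (hv j _ (ht j))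
    have hsmall : ∀ Z ∈ nhds (0 : N), ∃ k, ((W k : OpenAddSubgroup N) : Set N) ⊆ Z := fun Z hZ => by
      obtain ⟨j, -, hj⟩ := hU.toHasBasis.mem_iff.mp hZ
      exact ⟨j + 1, fun x hx => hj (hO j (by rw [SetLike.mem_coe, hWs j] at hx; exact hx.2))⟩
    have hcs : CauchySeq s := by
      rw [cauchySeq_iff]
      intro Z hZ
      rw [uniformity_eq_comap_nhds_zero, Filter.mem_comap] at hZ
      obtain ⟨Z', hZ', hsub'⟩ := hZ
      obtain ⟨k, hk⟩ := hsmall Z' hZ'
      refine ⟨k, fun i hi j hj => hsub' (hk ?_)⟩
      have h1 := (W k).sub_mem (hmem k j hj) (hmem k i hi)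
      rwa [sub_sub_sub_cancel_right] at h1
    obtain ⟨x, hx⟩ := cauchySeq_tendsto_of_complete hcs
    have hxV : x ∈ V := V.isClosed.mem_of_tendsto hx (Filter.Eventually.of_forall fun k => by
      have := hmem 0 k (Nat.zero_le k)
      simpa [s, hW0] using this)
    refine ⟨x, hxV, ?_⟩
    by_contra hne
    have hne' : y - u x ≠ 0 := sub_ne_zero.mpr (Ne.symm hne)
    obtain ⟨Z, hZ, hZc, hZn⟩ : ∃ Z ∈ nhds (0 : M), IsClosed Z ∧ y - u x ∉ Z := by
      obtain ⟨Z, hZ, hZc, hZs⟩ := exists_mem_nhds_isClosed_subset
        (isClosed_singleton.isOpen_compl.mem_nhds (show (0 : M) ∈ ({y - u x} : Set M)ᶜ from hne'.symm))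
      exact ⟨Z, hZ, hZc, fun h => hZs h rfl⟩
    obtain ⟨k, hk⟩ := hsmall _ (hu.continuousAt.preimage_mem_nhds (by rwa [map_zero]))
    apply hZn
    refine hZc.mem_of_tendsto (tendsto_const_nhds.sub ((hu.tendsto x).comp hx))
      (Filter.eventually_atTop.mpr ⟨k, fun j hj => ?_⟩)
    show y - u (s j) ∈ Z
    rw [hs]
    exact closure_minimal (Set.image_subset_iff.mpr fun z hz => hk (hWanti hj hz)) hZc (ht j)
  intro O hOo
  rw [isOpen_iff_mem_nhds]
  rintro _ ⟨x, hx, rfl⟩
  obtain ⟨V, hV⟩ := NonarchimedeanAddGroup.is_nonarchimedean ((fun z => x + z) ⁻¹' O)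
    ((continuous_const.add continuous_id).continuousAt.preimage_mem_nhds (by simpa using hOo.mem_nhds hx))
  have h1 : IsOpen (u '' (V : Set N)) := by
    have := hop V
    rwa [subset_antisymm (himg V) subset_closure] at this
  have h2 : IsOpen ((fun z => z - u x) ⁻¹' (u '' (V : Set N))) :=
    h1.preimage (continuous_id.sub continuous_const)
  refine Filter.mem_of_superset (h2.mem_nhds (by rw [Set.mem_preimage, sub_self]; exact ⟨0, V.zero_mem, map_zero u⟩)) ?_
  rintro z ⟨v, hv, hvz⟩
  exact ⟨x + v, hV hv, by rw [map_add, hvz, add_sub_cancel]⟩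


end Groth.Agent.S9326
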