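import Groth.Statements.S9327
import Groth.Agent.Henz21.TensorBranch
-- import your own Groth.Agent.* helpers here

set_option autoImplicit false
universe u
open Hensel

namespace Groth.Agent.S9327

open TensorProduct IsLocalRing in
/-- Let `k` be an algebraically closed field and `A`, `B` henselian local `k`-algebras with residue
field `k` (the composites `k → A → A/m_A` and `k → B → B/m_B` are bijective; as `k` is algebraically
closed, `A` and `B` are strictly henselian). Let `𝔪 = m_A ⊗ B + A ⊗ m_B`, a maximal ideal of `A ⊗_k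
B`, and let `C` be a strict henselization of the local ring `(A ⊗_k B)_𝔪`. Then sending a prime of
`C` to the pair of its preimages in `A` and in `B` is a bijection from the set of minimal primes of
`C` onto the set of pairs (minimal prime of `A`, minimal prime of `B`). -/
theorem result {k A B C : Type u} [Field k]
    [IsAlgClosed k] [CommRing A] [CommRing B] [HenselianLocalRing A] [HenselianLocalRing B]
    [Algebra k A] [Algebra k B]
    (hA : Function.Bijective ((residue A).comp (algebraMap k A)))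
    (hB : Function.Bijective ((residue B).comp (algebraMap k B)))
    (𝔪 : Ideal (A ⊗[k] B)) [𝔪.IsPrime]
    (h𝔪 : 𝔪 = (maximalIdeal A).map (Algebra.TensorProduct.includeLeft : A →ₐ[k] A ⊗[k] B) ⊔
      (maximalIdeal B).map (Algebra.TensorProduct.includeRight : B →ₐ[k] A ⊗[k] B))
    [CommRing C] [IsLocalRing C] [Algebra (Localization.AtPrime 𝔪) C]
    [IsLocalHom (algebraMap (Localization.AtPrime 𝔪) C)]
    [Hensel.IsStrictHenselization (Localization.AtPrime 𝔪) C] :
    Set.BijOn
      (fun 𝔯 : Ideal C =>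
        (𝔯.comap ((algebraMap (Localization.AtPrime 𝔪) C).comp
            ((algebraMap (A ⊗[k] B) (Localization.AtPrime 𝔪)).comp
              (Algebra.TensorProduct.includeLeft : A →ₐ[k] A ⊗[k] B).toRingHom)),
          𝔯.comap ((algebraMap (Localization.AtPrime 𝔪) C).comp
            ((algebraMap (A ⊗[k] B) (Localization.AtPrime 𝔪)).comp
              (Algebra.TensorProduct.includeRight : B →ₐ[k] A ⊗[k] B).toRingHom))))
      (minimalPrimes C) (minimalPrimes A ×ˢ minimalPrimes B) := by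
  have hCs := (inferInstance : Hensel.IsStrictHenselization (Localization.AtPrime 𝔪) C)
  have : Module.FaithfullyFlat (Localization.AtPrime 𝔪) C := Henz21.strictHenselization_faithfullyFlat C
  let R := Localization.AtPrime 𝔪
  let g : A ⊗[k] B →+* C := (algebraMap R C).comp (algebraMap (A ⊗[k] B) R)
  have hg : g.Flat := (RingHom.flat_algebraMap_iff.2 (IsLocalization.flat R 𝔪.primeCompl)).comp
    (RingHom.flat_algebraMap_iff.2 (inferInstance : Module.Flat R C))
  have hcomp : ∀ 𝔯 : Ideal C, 𝔯 ∈ minimalPrimes C → 𝔯.comap g ∈ minimalPrimes (A ⊗[k] B) :=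
    fun 𝔯 h => Henz21.TensorBranch.comap_mem_minimalPrimes hg h
  refine ⟨fun 𝔯 h𝔯 => Set.mk_mem_prod ?_ ?_, fun 𝔯 h𝔯 𝔯' h𝔯' he => ?_, fun ⟨p, q⟩ hpq => ?_⟩
  · exact Henz21.TensorBranch.comap_mem_minimalPrimes Henz21.TensorBranch.flat_includeLeft (hcomp 𝔯 h𝔯)
  · exact Henz21.TensorBranch.comap_mem_minimalPrimes Henz21.TensorBranch.flat_includeRight (hcomp 𝔯 h𝔯)
  · obtain ⟨he₁, he₂⟩ := Prod.ext_iff.1 he
    have := h𝔯.1.1
    have := h𝔯'.1.1
    let p := (𝔯.comap g).comap (Algebra.TensorProduct.includeLeft : A →ₐ[k] A ⊗[k] B).toRingHom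
    let q := (𝔯.comap g).comap (Algebra.TensorProduct.includeRight : B →ₐ[k] A ⊗[k] B).toRingHom
    obtain ⟨P₀, hP₀, hP₀m, -, -, hle, hunib⟩ :=
      Henz21.TensorBranch.component hA.2 hB.2 p q 𝔪 h𝔪
    let I := P₀.map (algebraMap (A ⊗[k] B) R)
    have hI : I ≠ ⊤ := ne_top_of_le_ne_top (maximalIdeal.isMaximal R).ne_top
      ((Ideal.map_mono hP₀m).trans (IsLocalization.AtPrime.map_eq_maximalIdeal 𝔪 R).le)
    obtain ⟨_, _, _, hsh⟩ := Henz21.isStrictHenselization_quotient R C I hI
    have hsub := (Props58.GeomUnibranch.subsingleton_minimalPrimes_iff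
      (C ⧸ I.map (algebraMap R C))).1 hunib
    have key : ∀ r : Ideal C, r ∈ minimalPrimes C →
        (r.comap g).comap (Algebra.TensorProduct.includeLeft : A →ₐ[k] A ⊗[k] B).toRingHom = p →
        (r.comap g).comap (Algebra.TensorProduct.includeRight : B →ₐ[k] A ⊗[k] B).toRingHom = q →
        I.map (algebraMap R C) ≤ r ∧
          r.map (Ideal.Quotient.mk (I.map (algebraMap R C))) ∈ minimalPrimes (C ⧸ I.map (algebraMap R C)) := by
      intro r hr h1 h2
      have := hr.1.1
      have hIr : I.map (algebraMap R C) ≤ r := by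
        rw [Ideal.map_map, Ideal.map_le_iff_le_comap]
        exact hle _ h1.ge h2.ge
      refine ⟨hIr, ⟨Ideal.map_isPrime_of_surjective Ideal.Quotient.mk_surjective
        (by rw [Ideal.mk_ker]; exact hIr), bot_le⟩, fun s hs hsr => ?_⟩
      have h3 : s.comap (Ideal.Quotient.mk (I.map (algebraMap R C))) ≤ r := by
        refine (Ideal.comap_mono hsr).trans ?_
        rw [Ideal.comap_map_of_surjective _ Ideal.Quotient.mk_surjective, ← RingHom.ker_eq_comap_bot,
          Ideal.mk_ker]
        exact sup_le le_rfl hIr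
      have h4 := hr.2 ⟨hs.1.comap _, bot_le⟩ h3
      exact (Ideal.map_mono h4).trans Ideal.map_comap_le
    obtain ⟨hI₁, hm₁⟩ := key 𝔯 h𝔯 rfl rfl
    obtain ⟨hI₂, hm₂⟩ := key 𝔯' h𝔯' he₁.symm he₂.symm
    have h5 : 𝔯.map (Ideal.Quotient.mk (I.map (algebraMap R C))) =
        𝔯'.map (Ideal.Quotient.mk (I.map (algebraMap R C))) :=
      congrArg Subtype.val (Subsingleton.elim (α := minimalPrimes (C ⧸ I.map (algebraMap R C))) ⟨_, hm₁⟩ ⟨_, hm₂⟩)
    have h6 := congrArg (Ideal.comap (Ideal.Quotient.mk (I.map (algebraMap R C)))) h5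
    rwa [Ideal.comap_map_of_surjective _ Ideal.Quotient.mk_surjective,
      Ideal.comap_map_of_surjective _ Ideal.Quotient.mk_surjective, ← RingHom.ker_eq_comap_bot,
      Ideal.mk_ker, sup_eq_left.2 hI₁, sup_eq_left.2 hI₂] at h6
  · obtain ⟨hp, hq⟩ := hpq
    have := hp.1.1
    have := hq.1.1
    obtain ⟨P₀, hP₀, hP₀m, hl, hr, hle, -⟩ := Henz21.TensorBranch.component hA.2 hB.2 p q 𝔪 h𝔪
    have : (P₀.map (algebraMap (A ⊗[k] B) R)).IsPrime :=
      IsLocalization.isPrime_of_isPrime_disjoint 𝔪.primeCompl R P₀ hP₀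
        (Set.disjoint_left.2 fun x hx hx' => hx (hP₀m hx'))
    obtain ⟨Q, hQ⟩ := PrimeSpectrum.comap_surjective_of_faithfullyFlat (A := R) (B := C)
      ⟨P₀.map (algebraMap (A ⊗[k] B) R), inferInstance⟩
    obtain ⟨𝔯, h𝔯, h𝔯Q⟩ := Ideal.exists_minimalPrimes_le (I := (⊥ : Ideal C)) (J := Q.asIdeal) bot_le
    have := h𝔯.1.1
    have h1 : 𝔯.comap g ≤ P₀ := by
      refine (Ideal.comap_mono h𝔯Q).trans ?_
      rw [← Ideal.comap_comap, show Q.asIdeal.comap (algebraMap R C) = P₀.map (algebraMap (A ⊗[k] B) R) from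
        congrArg PrimeSpectrum.asIdeal hQ]
      exact (IsLocalization.under_map_of_isPrime_disjoint 𝔪.primeCompl R hP₀
        (Set.disjoint_left.2 fun x hx hx' => hx (hP₀m hx'))).le
    have hA' := Ideal.comap_mono (f := (Algebra.TensorProduct.includeLeft : A →ₐ[k] A ⊗[k] B).toRingHom) h1
    have hB' := Ideal.comap_mono (f := (Algebra.TensorProduct.includeRight : B →ₐ[k] A ⊗[k] B).toRingHom) h1
    refine ⟨𝔯, h𝔯, Prod.ext (le_antisymm ?_ ?_) (le_antisymm ?_ ?_)⟩
    · exact hA'.trans hl.le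
    · exact hp.2 ⟨inferInstance, bot_le⟩ (hA'.trans hl.le)
    · exact hB'.trans hr.le
    · exact hq.2 ⟨inferInstance, bot_le⟩ (hB'.trans hr.le)

end Groth.Agent.S9327
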