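import Groth.Statements.S9330
import Mathlib.Algebra.Polynomial.Lifts
-- import your own Groth.Agent.* helpers here

set_option autoImplicit false
universe u
open Hensel

namespace Groth.Agent.S9330

/-- Let `(A_i, I_i)` be a directed system of pairs (rings `A_i` with ideals `I_i`, the transition maps
sending `I_i` into `I_j`), with colimit ring `A` and `I ⊆ A` the ideal generated by (equivalently,
the union of) the images of the `I_i`. For each `i` let `B_i` be a henselization of the pair `(A_i,
I_i)`, with the compatible transition maps `B_i → B_j` over `A_i → A_j` (these are the induced ones,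
being unique), and give the colimit of the `B_i` the `A`-algebra structure induced by the maps `A_i
→ B_i`. Then `colim B_i`, with the extension of `I`, is a henselization of the pair `(A, I)`. (The
index set is taken in the universe of the rings; the statement fails for non-filtered colimits.) -/
theorem result {ι : Type u} [Preorder ι] [IsDirectedOrder ι] [Nonempty ι]
    (G : ι → Type u) [∀ i, CommRing (G i)] (f : ∀ i j : ι, i ≤ j → (G i →+* G j))
    [DirectedSystem G (fun i j h => f i j h)] (I : ∀ i, Ideal (G i))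
    (hI : ∀ (i j : ι) (h : i ≤ j), (I i).map (f i j h) ≤ I j)
    (B : ι → Type u) [∀ i, CommRing (B i)] [∀ i, Algebra (G i) (B i)]
    (hB : ∀ i, Hens2.IsPairHenselization (G i) (I i) (B i))
    (g : ∀ i j : ι, i ≤ j → (B i →+* B j)) [DirectedSystem B (fun i j h => g i j h)]
    (hg : ∀ (i j : ι) (h : i ≤ j), (g i j h).comp (algebraMap (G i) (B i)) = (algebraMap (G j) (B j)).comp (f i j h))
    [Algebra (DirectLimit G f) (DirectLimit B g)]
    (halg : ∀ (i : ι) (x : G i), algebraMap (DirectLimit G f) (DirectLimit B g) (DirectLimit.Ring.of G f i x) =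
      DirectLimit.Ring.of B g i (algebraMap (G i) (B i) x)) :
    Hens2.IsPairHenselization (DirectLimit G f) (⨆ i, (I i).map (DirectLimit.Ring.of G f i))
      (DirectLimit B g) := by
  set I' := ⨆ i, (I i).map (DirectLimit.Ring.of G f i) with hI'
  have hmapI : I'.map (algebraMap (DirectLimit G f) (DirectLimit B g)) =
      ⨆ i, ((I i).map (algebraMap (G i) (B i))).map (DirectLimit.Ring.of B g i) := by
    rw [Ideal.map_iSup]
    refine iSup_congr fun i => ?_
    rw [Ideal.map_map, Ideal.map_map]
    exact congrArg (fun φ => Ideal.map φ (I i)) (RingHom.ext fun x => halg i x)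
  have hmono : ∀ i j (h : i ≤ j), ((I i).map (algebraMap (G i) (B i))).map (g i j h) ≤
      (I j).map (algebraMap (G j) (B j)) := fun i j h => by
    rw [Ideal.map_map, hg, ← Ideal.map_map]
    exact Ideal.map_mono (hI i j h)
  have hmem : ∀ z : DirectLimit B g, z ∈ I'.map (algebraMap (DirectLimit G f) (DirectLimit B g)) →
      ∃ i, ∃ x ∈ (I i).map (algebraMap (G i) (B i)), DirectLimit.Ring.of B g i x = z := by
    intro z hz
    rw [hmapI] at hz
    refine Submodule.iSup_induction _
      (motive := fun z => ∃ i, ∃ x ∈ (I i).map (algebraMap (G i) (B i)), DirectLimit.Ring.of B g i x = z)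
      hz ?_ ?_ ?_
    · intro i z hz
      induction hz using Submodule.span_induction with
      | mem w hw => obtain ⟨x, hx, rfl⟩ := hw; exact ⟨i, x, hx, rfl⟩
      | zero => exact ⟨i, 0, zero_mem _, map_zero _⟩
      | add a b _ _ ha hb =>
        obtain ⟨i, x, hx, rfl⟩ := ha
        obtain ⟨j, y, hy, rfl⟩ := hb
        obtain ⟨k, hik, hjk⟩ := exists_ge_ge i j
        exact ⟨k, g i k hik x + g j k hjk y,
          add_mem (hmono i k hik (Ideal.mem_map_of_mem _ hx)) (hmono j k hjk (Ideal.mem_map_of_mem _ hy)),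
          by rw [map_add, DirectLimit.Ring.of_f, DirectLimit.Ring.of_f]⟩
      | smul c a _ ha =>
        obtain ⟨i, x, hx, rfl⟩ := ha
        obtain ⟨j, y, rfl⟩ := DirectLimit.exists_eq_mk _ c
        obtain ⟨k, hik, hjk⟩ := exists_ge_ge i j
        refine ⟨k, g j k hjk y * g i k hik x,
          Ideal.mul_mem_left _ _ (hmono i k hik (Ideal.mem_map_of_mem _ hx)), ?_⟩
        rw [map_mul, DirectLimit.Ring.of_f, DirectLimit.Ring.of_f]
        rfl
    · obtain ⟨i⟩ := ‹Nonempty ι›
      exact ⟨i, 0, zero_mem _, map_zero _⟩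
    · rintro a b ⟨i, x, hx, rfl⟩ ⟨j, y, hy, rfl⟩
      obtain ⟨k, hik, hjk⟩ := exists_ge_ge i j
      exact ⟨k, g i k hik x + g j k hjk y,
        add_mem (hmono i k hik (Ideal.mem_map_of_mem _ hx)) (hmono j k hjk (Ideal.mem_map_of_mem _ hy)),
        by rw [map_add, DirectLimit.Ring.of_f, DirectLimit.Ring.of_f]⟩
  refine ⟨?_, ?_⟩
  · refine ⟨fun z hz => ?_, ?_⟩
    · obtain ⟨i, x, hx, rfl⟩ := hmem z hz
      rw [Ideal.mem_jacobson_bot]
      intro w
      obtain ⟨j, y, rfl⟩ := DirectLimit.exists_eq_mk _ w
      obtain ⟨k, hik, hjk⟩ := exists_ge_ge i j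
      have := Ideal.mem_jacobson_bot.mp ((hB k).1.jac (hmono i k hik (Ideal.mem_map_of_mem _ hx)))
        (g j k hjk y)
      have h := this.map (DirectLimit.Ring.of B g k)
      rw [map_add, map_mul, map_one, DirectLimit.Ring.of_f, DirectLimit.Ring.of_f] at h
      exact h
    · intro p hp a₀ h₁ h₂
      have hlift : ∀ q : Polynomial (DirectLimit B g),
          ∃ i, ∃ q' : Polynomial (B i), q'.map (DirectLimit.Ring.of B g i) = q := by
        intro q
        induction q using Polynomial.induction_on' with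
        | add p q hp hq =>
          obtain ⟨i, p, rfl⟩ := hp
          obtain ⟨j, q, rfl⟩ := hq
          obtain ⟨k, hik, hjk⟩ := exists_ge_ge i j
          refine ⟨k, p.map (g i k hik) + q.map (g j k hjk), ?_⟩
          rw [Polynomial.map_add, Polynomial.map_map, Polynomial.map_map]
          congr 2 <;> exact RingHom.ext fun s => DirectLimit.Ring.of_f _ _
        | monomial n a =>
          obtain ⟨i, x, rfl⟩ := DirectLimit.exists_eq_mk _ a
          exact ⟨i, Polynomial.monomial n x, by rw [Polynomial.map_monomial]; rfl⟩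
      obtain ⟨i₀, q, hq⟩ := hlift p
      obtain ⟨i₁, b, hb⟩ := DirectLimit.exists_eq_mk _ a₀
      obtain ⟨i₂, y, hy, hy'⟩ := hmem _ h₁
      obtain ⟨w, hw⟩ := Ideal.Quotient.mk_surjective (I := I'.map (algebraMap (DirectLimit G f) (DirectLimit B g))) ↑h₂.unit⁻¹
      have hw1 : w * p.derivative.eval a₀ - 1 ∈ I'.map (algebraMap (DirectLimit G f) (DirectLimit B g)) := by
        rw [← Ideal.Quotient.eq, map_mul, hw, map_one]
        exact IsUnit.val_inv_mul h₂
      obtain ⟨i₃, z, hz, hz'⟩ := hmem _ hw1
      obtain ⟨i₄, v, hv⟩ := DirectLimit.exists_eq_mk _ w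
      obtain ⟨k₀, h0, h1⟩ := exists_ge_ge i₀ i₁
      obtain ⟨k₁, h2, h3⟩ := exists_ge_ge i₂ i₃
      obtain ⟨k₂, h01, h4⟩ := exists_ge_ge k₀ i₄
      obtain ⟨k, hk2, hk1⟩ := exists_ge_ge k₂ k₁
      have hlift' : p ∈ Polynomial.lifts (DirectLimit.Ring.of B g k) := by
        refine (Polynomial.mem_lifts _).mpr ⟨q.map (g i₀ k (h0.trans (h01.trans hk2))), ?_⟩
        rw [Polynomial.map_map, ← hq]
        congr 1
        exact RingHom.ext fun s => DirectLimit.Ring.of_f _ _
      obtain ⟨r, hr, -, hrm⟩ := Polynomial.lifts_and_natDegree_eq_and_monic hlift' hp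
      let b' := g i₁ k (h1.trans (h01.trans hk2)) b
      let v' := g i₄ k (h4.trans hk2) v
      have hb' : DirectLimit.Ring.of B g k b' = a₀ := (DirectLimit.Ring.of_f _ _).trans hb.symm
      have hv' : DirectLimit.Ring.of B g k v' = w := (DirectLimit.Ring.of_f _ _).trans hv.symm
      have e1 : DirectLimit.Ring.of B g k (r.eval b' - g i₂ k (h2.trans hk1) y) = 0 := by
        rw [map_sub, ← Polynomial.eval_map_apply, hr, hb', DirectLimit.Ring.of_f, hy', sub_self]
      have e2 : DirectLimit.Ring.of B g k (v' * r.derivative.eval b' - 1 - g i₃ k (h3.trans hk1) z) = 0 := by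
        rw [map_sub, map_sub, map_mul, map_one, ← Polynomial.eval_map_apply,
          ← Polynomial.derivative_map, hr, hb', hv', DirectLimit.Ring.of_f, hz', sub_self]
      obtain ⟨l₁, hl₁, e1⟩ := (DirectLimit.exists_eq_zero _).mp (show (⟦⟨k, _⟩⟧ : DirectLimit B g) = 0 from e1)
      obtain ⟨l₂, hl₂, e2⟩ := (DirectLimit.exists_eq_zero _).mp (show (⟦⟨k, _⟩⟧ : DirectLimit B g) = 0 from e2)
      obtain ⟨l, hll1, hll2⟩ := exists_ge_ge l₁ l₂
      have hkl : k ≤ l := hl₁.trans hll1
      have e1' : g k l hkl (r.eval b' - g i₂ k (h2.trans hk1) y) = 0 := by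
        rw [← DirectedSystem.map_map (f := fun i j h => g i j h) hl₁ hll1, e1, map_zero]
      have e2' : g k l hkl (v' * r.derivative.eval b' - 1 - g i₃ k (h3.trans hk1) z) = 0 := by
        rw [← DirectedSystem.map_map (f := fun i j h => g i j h) hl₂ hll2, e2, map_zero]
      rw [map_sub, sub_eq_zero] at e1' e2'
      haveI := (hB l).1
      obtain ⟨a, ha, ha'⟩ := HenselianRing.is_henselian (I := (I l).map (algebraMap (G l) (B l)))
        (r.map (g k l hkl)) (hrm.map _) (g k l hkl b') (by
          rw [Polynomial.eval_map_apply, e1']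
          exact hmono k l hkl (Ideal.mem_map_of_mem _ (hmono i₂ k _ (Ideal.mem_map_of_mem _ hy))))
        (IsUnit.of_mul_eq_one (Ideal.Quotient.mk _ (g k l hkl v')) (by
          rw [Polynomial.derivative_map, Polynomial.eval_map_apply, ← map_mul, ← map_one (Ideal.Quotient.mk _),
            Ideal.Quotient.eq, ← map_mul, mul_comm]
          rw [map_sub, map_one] at e2'
          rw [e2']
          exact hmono k l hkl (Ideal.mem_map_of_mem _ (hmono i₃ k _ (Ideal.mem_map_of_mem _ hz)))))
      refine ⟨DirectLimit.Ring.of B g l a, ?_, ?_⟩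
      · have := congrArg (DirectLimit.Ring.of B g l) ha
        rw [map_zero, ← Polynomial.eval_map_apply, Polynomial.map_map,
          show (DirectLimit.Ring.of B g l).comp (g k l hkl) = DirectLimit.Ring.of B g k from
            RingHom.ext fun s => DirectLimit.Ring.of_f _ _, hr] at this
        exact this
      · rw [hmapI, ← hb', ← DirectLimit.Ring.of_f hkl b', ← map_sub]
        exact Submodule.mem_iSup_of_mem l (Ideal.mem_map_of_mem _ ha')
  · intro C _ J φ hJ hφ
    have hI2 : ∀ i, (I i).map (φ.comp (DirectLimit.Ring.of G f i)) ≤ J := fun i => by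
      rw [← Ideal.map_map]
      exact (Ideal.map_mono (le_iSup (fun i => (I i).map (DirectLimit.Ring.of G f i)) i)).trans hφ
    choose ψ hψ hψu using fun i => (hB i).2 C J _ hJ (hI2 i)
    have hcompat : ∀ i j h (x : B i), ψ j (g i j h x) = ψ i x := fun i j h x => by
      refine RingHom.congr_fun (hψu i ((ψ j).comp (g i j h)) ?_) x
      show ((ψ j).comp (g i j h)).comp (algebraMap (G i) (B i)) = φ.comp (DirectLimit.Ring.of G f i)
      rw [RingHom.comp_assoc, hg, ← RingHom.comp_assoc, hψ]
      exact RingHom.ext fun s => congrArg φ (DirectLimit.Ring.of_f _ _)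
    refine ⟨DirectLimit.Ring.lift B g C ψ hcompat, RingHom.ext fun x => ?_, fun χ hχ => RingHom.ext fun x => ?_⟩
    · obtain ⟨i, y, rfl⟩ := DirectLimit.exists_eq_mk _ x
      show DirectLimit.Ring.lift B g C ψ hcompat (algebraMap _ _ (DirectLimit.Ring.of G f i y)) = _
      rw [halg, DirectLimit.Ring.lift_of]
      exact RingHom.congr_fun (hψ i) y
    · obtain ⟨i, y, rfl⟩ := DirectLimit.exists_eq_mk _ x
      show χ (DirectLimit.Ring.of B g i y) = DirectLimit.Ring.lift B g C ψ hcompat (DirectLimit.Ring.of B g i y)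
      rw [DirectLimit.Ring.lift_of]
      refine RingHom.congr_fun (hψu i (χ.comp (DirectLimit.Ring.of B g i)) ?_) y
      refine RingHom.ext fun s => ?_
      show χ (DirectLimit.Ring.of B g i (algebraMap (G i) (B i) s)) = _
      rw [← halg]
      exact RingHom.congr_fun hχ _

end Groth.Agent.S9330
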