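import Groth.Statements.S9335
import Groth.Agent.SchBasics.FibrePts

set_option autoImplicit false
universe u
open QFin

namespace Groth.Agent.S9335

open AlgebraicGeometry CategoryTheory in
/-- If f : X → S is of finite type and s ∈ S, then f is quasi-finite at only finitely many points of the
fibre over s. -/
theorem result {X S : Scheme.{u}} (f : X ⟶ S) [LocallyOfFiniteType f] [QuasiCompact f] (s : S) :
    {x : ↑X | f.base x = s ∧ f.QuasiFiniteAt x}.Finite := by
  by_cases hne : ({x : ↑X | f.base x = s ∧ f.QuasiFiniteAt x}).Nonempty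
  swap
  · rw [Set.not_nonempty_iff_eq_empty.mp hne]; exact Set.finite_empty
  have : LocallyOfFiniteType (f.fiberToSpecResidueField s) :=
    MorphismProperty.pullback_snd _ _ inferInstance
  have : IsLocallyNoetherian (f.fiber s) :=
    LocallyOfFiniteType.isLocallyNoetherian (f.fiberToSpecResidueField s)
  have : IsNoetherian (f.fiber s) := {}
  let O : Set (f.fiber s) := {p | IsOpen ({p} : Set (f.fiber s))}
  have hO : O.Finite := by
    have hc : IsCompact O := TopologicalSpace.NoetherianSpace.isCompact _
    obtain ⟨F, hF⟩ := hc.elim_finite_subcover (fun p : O => ({p.1} : Set (f.fiber s))) (fun p => p.2)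
      (fun p hp => Set.mem_iUnion.mpr ⟨⟨p, hp⟩, rfl⟩)
    exact (F.finite_toSet.biUnion fun p _ => Set.finite_singleton p.1).subset hF
  refine (hO.image (f.fiberι s)).subset ?_
  rintro x ⟨rfl, hx⟩
  exact ⟨f.asFiber x, Scheme.Hom.quasiFiniteAt_iff_isOpen_singleton_asFiber.mp hx, f.fiberι_asFiber x⟩

end Groth.Agent.S9335
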