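import Groth.Statements.S9336
import Groth.Agent.SchBasics.FibrePts
import Mathlib.AlgebraicGeometry.ZariskisMainTheorem

set_option autoImplicit false
universe u
open QFin

namespace Groth.Agent.S9336

open AlgebraicGeometry CategoryTheory in
/-- Let f : X → Y be surjective and g : Y → S locally of finite type. If g ∘ f is locally quasi-finite
(and locally of finite type), then g is locally quasi-finite. -/
theorem result {X Y S : Scheme.{u}} (f : X ⟶ Y) (g : Y ⟶ S) [Surjective f]
    [LocallyQuasiFinite (f ≫ g)] [LocallyOfFiniteType (f ≫ g)] [LocallyOfFiniteType g] :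
    LocallyQuasiFinite g := by
  have hall : ∀ y : Y, IsClosed ({g.asFiber y} : Set (g.fiber (g y))) := by
    intro y
    obtain ⟨x, rfl⟩ := f.surjective y
    rw [Groth.Agent.SchBasics.isClosed_singleton_asFiber_iff]
    have h := (Groth.Agent.SchBasics.isClosed_singleton_asFiber_iff (f ≫ g) x).mp
      ((f ≫ g).quasiFiniteAt x).isClopen_singleton_asFiber.1
    rw [Scheme.residueFieldMap_comp] at h
    change ((f.residueFieldMap x).hom.comp (g.residueFieldMap (f x)).hom).Finite at h
    algebraize [(g.residueFieldMap (f x)).hom, (f.residueFieldMap x).hom,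
      (f.residueFieldMap x).hom.comp (g.residueFieldMap (f x)).hom]
    exact Module.Finite.of_injective
      (IsScalarTower.toAlgHom (S.residueField (g (f x))) (Y.residueField (f x))
        (X.residueField x)).toLinearMap
      (f.residueFieldMap x).hom.injective
  have key : ∀ (s : S) (p : g.fiber s), IsClosed ({p} : Set (g.fiber s)) := by
    intro s p
    have hs : g (g.fiberι s p) = s := by
      have : g.fiberι s p ∈ Set.range (g.fiberι s) := ⟨p, rfl⟩
      rwa [Scheme.Hom.range_fiberι] at this
    revert p
    suffices ∀ (y : Y), g y = s → ∀ p : g.fiber s, g.fiberι s p = y → IsClosed ({p} : Set (g.fiber s)) from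
      fun p hs => this _ hs p rfl
    rintro y rfl p hp
    convert hall y
    exact (g.fiberι _).isEmbedding.injective (hp.trans (g.fiberι_asFiber y).symm)
  rw [← Scheme.Hom.quasiFiniteLocus_eq_top_iff, eq_top_iff]
  rintro y -
  rw [Scheme.Hom.mem_quasiFiniteLocus, Groth.Agent.SchBasics.quasiFiniteAt_iff_closed_maximal]
  exact ⟨hall y, fun p hp => ((key _ p).closure_subset (specializes_iff_mem_closure.mp hp)).symm⟩

end Groth.Agent.S9336
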