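import Groth.Statements.S9338
import Groth.Agent.SchBasics.FtPoints
import Mathlib.RingTheory.HopkinsLevitzki

set_option autoImplicit false
universe u
open FtPts

namespace Groth.Agent.S9338

open AlgebraicGeometry CategoryTheory in
/-- For an Artinian local ring A with residue field κ, a morphism f : Spec A → S is (locally) of finite
type exactly when the composite Spec κ → Spec A → S is. -/
theorem result (S : Scheme.{u}) (A : Type u) [CommRing A] [IsArtinianRing A] [IsLocalRing A]
    (f : Spec (CommRingCat.of A) ⟶ S) :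
    LocallyOfFiniteType f ↔
      LocallyOfFiniteType (Spec.map (CommRingCat.ofHom (IsLocalRing.residue A)) ≫ f) := by
  refine ⟨fun _ => ?_, fun h => ?_⟩
  · have : LocallyOfFiniteType (Spec.map (CommRingCat.ofHom (IsLocalRing.residue A))) :=
      HasRingHomProperty.Spec_iff.mpr (RingHom.FiniteType.of_surjective _ IsLocalRing.residue_surjective)
    infer_instance
  obtain ⟨V, hV, hsV, -⟩ := exists_isAffineOpen_mem_and_subset (U := ⊤)
    (TopologicalSpace.Opens.mem_top (f (IsLocalRing.closedPoint A)))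
  obtain ⟨ψ, hψ⟩ := Groth.Agent.SchBasics.exists_factor_affine f hV hsV
  have h1 : (ψ ≫ CommRingCat.ofHom (IsLocalRing.residue A)).hom.FiniteType := by
    have : LocallyOfFiniteType (Spec.map (ψ ≫ CommRingCat.ofHom (IsLocalRing.residue A)) ≫ hV.fromSpec) := by
      rw [Spec.map_comp, Category.assoc, hψ]; exact h
    exact HasRingHomProperty.Spec_iff.mp (locallyOfFiniteType_of_comp _ hV.fromSpec)
  suffices ψ.hom.FiniteType by
    have : LocallyOfFiniteType (Spec.map ψ) := HasRingHomProperty.Spec_iff.mpr this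
    rw [← hψ]; infer_instance
  algebraize [ψ.hom]
  let : Algebra Γ(S, V) (IsLocalRing.ResidueField A) := ((IsLocalRing.residue A).comp ψ.hom).toAlgebra
  have hft : Algebra.FiniteType Γ(S, V) (IsLocalRing.ResidueField A) := h1
  obtain ⟨s, hs⟩ := hft.out
  classical
  obtain ⟨m, hm⟩ := (inferInstance : IsNoetherianRing A).noetherian (IsLocalRing.maximalIdeal A)
  choose lift hlift using IsLocalRing.residue_surjective (R := A)
  refine ⟨⟨s.image lift ∪ m, ?_⟩⟩
  set B := Algebra.adjoin Γ(S, V) ((s.image lift ∪ m : Finset A) : Set A)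
  have hres : ∀ a : A, ∃ b ∈ B, a - b ∈ IsLocalRing.maximalIdeal A := fun a => by
    have ha : IsLocalRing.residue A a ∈ Algebra.adjoin Γ(S, V) (s : Set (IsLocalRing.ResidueField A)) :=
      hs ▸ Algebra.mem_top
    let π : A →ₐ[Γ(S, V)] IsLocalRing.ResidueField A := ⟨IsLocalRing.residue A, fun _ => rfl⟩
    have hle : Algebra.adjoin Γ(S, V) (s : Set (IsLocalRing.ResidueField A)) ≤ B.map π :=
      Algebra.adjoin_le fun z hz => ⟨lift z, Algebra.subset_adjoin (by simp; exact Or.inl ⟨z, hz, rfl⟩), hlift z⟩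
    obtain ⟨b, hb, hba⟩ := hle ha
    refine ⟨b, hb, ?_⟩
    rw [← IsLocalRing.residue_eq_zero_iff, map_sub, sub_eq_zero]
    exact hba.symm
  have hind : ∀ i : ℕ, ∀ a : A, ∃ b ∈ B, a - b ∈ IsLocalRing.maximalIdeal A ^ i := by
    intro i
    induction i with
    | zero => exact fun a => ⟨0, B.zero_mem, by simp⟩
    | succ i ih =>
      intro a
      obtain ⟨b, hb, hab⟩ := hres a
      have hmem : a - b ∈ Ideal.span (m : Set A) := by rw [← Ideal.submodule_span_eq, hm]; exact hab
      have key : ∀ x ∈ Ideal.span (m : Set A), ∃ b ∈ B, x - b ∈ IsLocalRing.maximalIdeal A ^ (i + 1) := by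
        intro x hx
        induction hx using Submodule.span_induction with
        | mem x hx => exact ⟨x, Algebra.subset_adjoin (by simp; exact Or.inr hx), by simp⟩
        | zero => exact ⟨0, B.zero_mem, by simp⟩
        | add x y _ _ hx hy =>
          obtain ⟨b, hb, h1⟩ := hx
          obtain ⟨c, hc, h2⟩ := hy
          exact ⟨b + c, B.add_mem hb hc, by rw [add_sub_add_comm]; exact add_mem h1 h2⟩
        | smul r x hx' hx =>
          obtain ⟨b, hb, h1⟩ := hx
          obtain ⟨c, hc, h2⟩ := ih r
          refine ⟨c * b, B.mul_mem hc hb, ?_⟩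
          have hxm : x ∈ IsLocalRing.maximalIdeal A := by
            rw [← hm]; exact hx'
          have : r • x - c * b = (r - c) * x + c * (x - b) := by rw [smul_eq_mul]; ring
          rw [this]
          exact add_mem (pow_succ (IsLocalRing.maximalIdeal A) i ▸ Ideal.mul_mem_mul h2 hxm)
            (Ideal.mul_mem_left _ _ h1)
      obtain ⟨c, hc, hac⟩ := key _ hmem
      exact ⟨b + c, B.add_mem hb hc, by rwa [← sub_sub]⟩
  obtain ⟨N, hN⟩ := IsArtinianRing.isNilpotent_jacobson_bot (R := A)
  rw [IsLocalRing.jacobson_eq_maximalIdeal ⊥ bot_ne_top] at hN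
  rw [eq_top_iff]
  intro a _
  obtain ⟨b, hb, hab⟩ := hind N a
  rw [hN, Ideal.zero_eq_bot, Ideal.mem_bot, sub_eq_zero] at hab
  exact hab ▸ hb

end Groth.Agent.S9338
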