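import Groth.Statements.S9340
import Groth.Agent.SchBasics.FtPoints

set_option autoImplicit false
universe u
open FtPts

namespace Groth.Agent.S9340

open AlgebraicGeometry CategoryTheory in
/-- A surjective morphism locally of finite type maps the set of finite type points of the source onto
the set of finite type points of the target. -/
theorem result {T S : Scheme.{u}} (f : T ⟶ S) [LocallyOfFiniteType f] [Surjective f] :
    f.base '' {t : ↑T | LocallyOfFiniteType (T.fromSpecResidueField t)} =
      {s : ↑S | LocallyOfFiniteType (S.fromSpecResidueField s)} := by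
  refine Set.Subset.antisymm ?_ fun s hs => ?_
  · rintro _ ⟨t, ht, rfl⟩
    have : LocallyOfFiniteType (T.fromSpecResidueField t) := ht
    have h := ((Groth.Agent.SchBasics.locallyOfFiniteType_from_field_iff (T.residueField t)
      (T.fromSpecResidueField t ≫ f)).mp inferInstance).1
    rwa [Scheme.Hom.comp_apply, Scheme.fromSpecResidueField_apply] at h
  · have : LocallyOfFiniteType (S.fromSpecResidueField s) := hs
    obtain ⟨t, hts, ht⟩ := Groth.Agent.SchBasics.exists_ftPoint
      ((Groth.Agent.SchBasics.isLocallyClosed_singleton s).preimage f.continuous)
      (let ⟨t, ht⟩ := f.surjective s; ⟨t, ht⟩)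
    exact ⟨t, ht, hts⟩

end Groth.Agent.S9340
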