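import Groth.Statements.S9341
import Groth.Agent.SchBasics.FtPoints

set_option autoImplicit false
universe u
open FtPts

namespace Groth.Agent.S9341

open AlgebraicGeometry CategoryTheory in
/-- Every nonempty locally closed subset of a scheme S contains a finite type point of S; in particular
for a closed subset Z the finite type points lying in Z are dense in Z. -/
theorem result (S : Scheme.{u}) :
    (∀ Z : Set ↑S, IsLocallyClosed Z → Z.Nonempty →
        (Z ∩ {s : ↑S | LocallyOfFiniteType (S.fromSpecResidueField s)}).Nonempty) ∧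
      ∀ Z : Set ↑S, IsClosed Z →
        Z ⊆ closure (Z ∩ {s : ↑S | LocallyOfFiniteType (S.fromSpecResidueField s)}) := by
  refine ⟨fun Z hZ hne => ?_, fun Z hZ z hz => ?_⟩
  · obtain ⟨s, hs, h⟩ := Groth.Agent.SchBasics.exists_ftPoint hZ hne
    exact ⟨s, hs, h⟩
  · refine mem_closure_iff.mpr fun W hW hzW => ?_
    obtain ⟨s, ⟨hsW, hsZ⟩, h⟩ :=
      Groth.Agent.SchBasics.exists_ftPoint (Z := W ∩ Z) ⟨W, Z, hW, hZ, rfl⟩ ⟨z, hzW, hz⟩
    exact ⟨s, hsW, hsZ, h⟩

end Groth.Agent.S9341
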