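import Groth.Statements.S9342
import Groth.Agent.SchBasics.FtPoints

set_option autoImplicit false
universe u
open FtPts

namespace Groth.Agent.S9342

open AlgebraicGeometry CategoryTheory in
/-- The finite type points of a scheme S are exactly the points that are closed in some affine open
neighbourhood. -/
theorem result (S : Scheme.{u}) (s : S) :
    LocallyOfFiniteType (S.fromSpecResidueField s) ↔
      ∃ U : S.Opens, IsAffineOpen U ∧ ∃ hs : s ∈ U, IsClosed ({⟨s, hs⟩} : Set ↥U) := by
  exact Groth.Agent.SchBasics.exists_isClosed_singleton_iff s

end Groth.Agent.S9342
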