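import Groth.Statements.S9343
import Groth.Agent.SchBasics.Closure
import Mathlib.AlgebraicGeometry.PullbackCarrier

set_option autoImplicit false
universe u
open Dom

namespace Groth.Agent.S9343

open AlgebraicGeometry CategoryTheory in
/-- The base change of a quasi-compact dominant morphism f : X → S along a morphism g : S' → S along
which generalizations lift is dominant. -/
theorem result {X S X' S' : Scheme.{u}} (f : X ⟶ S) [QuasiCompact f] [IsDominant f]
    (g : S' ⟶ S) (g' : X' ⟶ X) (f' : X' ⟶ S') (hsq : IsPullback g' f' f g) (hg : GeneralizingMap g.base) :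
    IsDominant f' := by
  refine ⟨fun s => ?_⟩
  obtain ⟨x, hx⟩ := SchBasics.exists_specializes_of_mem_closure_range f (y := g s)
    (by rw [f.denseRange.closure_range]; trivial)
  obtain ⟨t, hts, ht⟩ := hg hx
  obtain ⟨z, hz1, hz2⟩ := Scheme.Pullback.exists_preimage_pullback (g := g) x t ht.symm
  refine hts.mem_closed isClosed_closure (subset_closure ⟨hsq.isoPullback.inv z, ?_⟩)
  rw [← Scheme.Hom.comp_apply, hsq.isoPullback_inv_snd, hz2]

end Groth.Agent.S9343
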