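import Groth.Statements.S9345
import Groth.Agent.SchBasics.Closure

set_option autoImplicit false
universe u
open Dom

namespace Groth.Agent.S9345

open AlgebraicGeometry CategoryTheory in
/-- For a morphism f : X → S whose source has only finitely many irreducible components, the image of f
is dense exactly when it contains the generic point of each irreducible component of S, and then S
too has finitely many. -/
theorem result {X S : Scheme.{u}} (f : X ⟶ S)
    (hX : (irreducibleComponents (↑X : Type u)).Finite) :
    (IsDominant f ↔ ∀ s : ↑S, closure {s} ∈ irreducibleComponents (↑S : Type u) → s ∈ Set.range f.base) ∧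
      (IsDominant f → (irreducibleComponents (↑S : Type u)).Finite) := by
  have hgen : ∀ Z (hZ : Z ∈ irreducibleComponents (X : Type u)), closure {hZ.1.genericPoint} = Z :=
    fun Z hZ => by rw [hZ.1.isGenericPoint_genericPoint_closure.def,
      (isClosed_of_mem_irreducibleComponents Z hZ).closure_eq]
  have key : IsDominant f → ∀ s : S, closure {s} ∈ irreducibleComponents (S : Type u) →
      ∃ Z, ∃ hZ : Z ∈ irreducibleComponents (X : Type u), f hZ.1.genericPoint = s := by
    intro _ s hs
    have hsub : Set.range f ⊆ ⋃ Z : irreducibleComponents (X : Type u), closure {f Z.2.1.genericPoint} := by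
      rintro _ ⟨x, rfl⟩
      obtain ⟨Z, hZ, hxZ⟩ := exists_mem_irreducibleComponents_subset_of_isIrreducible _ (isIrreducible_singleton (x := x))
      refine Set.mem_iUnion.mpr ⟨⟨Z, hZ⟩, ?_⟩
      exact specializes_iff_mem_closure.mp ((hZ.1.isGenericPoint_genericPoint_closure.specializes
        (subset_closure (hxZ rfl))).map f.continuous)
    have := hX.to_subtype
    have h1 : s ∈ closure (Set.range f) := by rw [f.denseRange.closure_range]; trivial
    obtain ⟨Z, hZ⟩ := Set.mem_iUnion.mp
      ((isClosed_iUnion_of_finite fun Z : irreducibleComponents (X : Type u) => isClosed_closure).closure_subset_iff.mpr hsub h1)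
    exact ⟨Z.1, Z.2, (SchBasics.closure_singleton_mem_irreducibleComponents_iff s).mp hs _
      (specializes_iff_mem_closure.mpr hZ)⟩
  refine ⟨⟨fun h s hs => ?_, fun h => ⟨fun y => ?_⟩⟩, fun h => ?_⟩
  · obtain ⟨Z, hZ, e⟩ := key h s hs
    exact ⟨_, e⟩
  · obtain ⟨z, hz, hzy⟩ := SchBasics.exists_maximal_specializes y
    exact hzy.mem_closed isClosed_closure (subset_closure (h z hz))
  · have := hX.to_subtype
    refine (Set.finite_range (fun Z : irreducibleComponents (X : Type u) => closure ({f Z.2.1.genericPoint} : Set S))).subset ?_
    intro T hT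
    have hc : closure ({hT.1.genericPoint} : Set S) = T := by
      rw [hT.1.isGenericPoint_genericPoint_closure.def, (isClosed_of_mem_irreducibleComponents T hT).closure_eq]
    obtain ⟨Z, hZ, e⟩ := key h hT.1.genericPoint (by rw [hc]; exact hT)
    exact ⟨⟨Z, hZ⟩, by dsimp only; rw [e, hc]⟩

end Groth.Agent.S9345
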