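import Groth.Statements.S9346
import Groth.Agent.SchBasics.Birational

set_option autoImplicit false
universe u
open Dom

namespace Groth.Agent.S9346

open AlgebraicGeometry CategoryTheory in
/-- For a morphism f : X → Y between integral schemes, these six conditions coincide: (1) f is dominant;
(2) f sends the generic point of X to that of Y; (3) there exist affine opens U ⊆ X, V ⊆ Y with U
nonempty and U ⊆ f⁻¹V such that the induced ring map on sections is injective; (4) the same for all
such pairs; (5) for some x ∈ X the map of local rings O_{Y,f x} → O_{X,x} is injective; (6) the same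
for all x. -/
theorem result {X Y : Scheme.{u}} [AlgebraicGeometry.IsIntegral X] [AlgebraicGeometry.IsIntegral Y] (f : X ⟶ Y) :
    [IsDominant f,
      f.base (genericPoint ↑X) = genericPoint ↑Y,
      ∃ (U : X.Opens) (V : Y.Opens) (hUV : U ≤ f ⁻¹ᵁ V), IsAffineOpen U ∧ IsAffineOpen V ∧ (U : Set ↑X).Nonempty ∧
        Function.Injective (f.appLE V U hUV),
      ∀ (U : X.Opens) (V : Y.Opens) (hUV : U ≤ f ⁻¹ᵁ V), IsAffineOpen U → IsAffineOpen V → (U : Set ↑X).Nonempty →
        Function.Injective (f.appLE V U hUV),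
      ∃ x : ↑X, Function.Injective (f.stalkMap x),
      ∀ x : ↑X, Function.Injective (f.stalkMap x)].TFAE := by
  tfae_have 1 ↔ 2 := Groth.Agent.SchBasics.isDominant_iff_apply_genericPoint f
  tfae_have 2 → 4 := fun h U V hUV _ _ hU =>
    Groth.Agent.SchBasics.appLE_injective f h hUV hU
  tfae_have 4 → 3 := fun h => by
    obtain ⟨V, hV, hxV, -⟩ := exists_isAffineOpen_mem_and_subset (U := ⊤)
      (TopologicalSpace.Opens.mem_top (f (genericPoint X)))
    obtain ⟨U, hU, hxU, hUV⟩ := exists_isAffineOpen_mem_and_subset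
      (U := f ⁻¹ᵁ V) (x := genericPoint X) hxV
    exact ⟨U, V, hUV, hU, hV, ⟨_, hxU⟩, h U V hUV hU hV ⟨_, hxU⟩⟩
  tfae_have 3 → 2 := fun ⟨U, V, hUV, _, hV, hne, h⟩ =>
    Groth.Agent.SchBasics.apply_genericPoint_of_appLE_injective f hUV hV hne h
  tfae_have 2 → 6 := fun h x => Groth.Agent.SchBasics.stalkMap_injective f h x
  tfae_have 6 → 5 := fun h => ⟨genericPoint X, h _⟩
  tfae_have 5 → 2 := fun ⟨x, h⟩ =>
    Groth.Agent.SchBasics.apply_genericPoint_of_stalkMap_injective f x h
  tfae_finish

end Groth.Agent.S9346
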