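import Groth.Statements.S9348
import Mathlib.AlgebraicGeometry.PullbackCarrier

set_option autoImplicit false
universe u
open Dom

namespace Groth.Agent.S9348

open AlgebraicGeometry CategoryTheory in
/-- Let f : X → Y be a morphism and g : Y' → Y open and surjective. If the base change f' : X ×_Y Y' →
Y' of f is quasi-compact, then so is f. -/
theorem result {X Y X' Y' : Scheme.{u}} (f : X ⟶ Y) (g : Y' ⟶ Y) [Surjective g]
    (hg : IsOpenMap g.base) (g' : X' ⟶ X) (f' : X' ⟶ Y') (hsq : IsPullback g' f' f g) [QuasiCompact f'] :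
    QuasiCompact f := by
  rw [quasiCompact_iff]
  intro U hU hUc
  choose W hW hWz hWsub using fun z : (g ⁻¹' U : Set Y') =>
    exists_isAffineOpen_mem_and_subset (U := g ⁻¹ᵁ ⟨U, hU⟩) z.2
  obtain ⟨t, ht⟩ := hUc.elim_finite_subcover (fun z => g '' (W z : Set Y')) (fun z => hg _ (W z).isOpen)
    (fun y hy => by
      obtain ⟨z, rfl⟩ := g.surjective y
      exact Set.mem_iUnion.mpr ⟨⟨z, hy⟩, z, hWz ⟨z, hy⟩, rfl⟩)
  have : f ⁻¹' U = ⋃ z ∈ t, g' '' (f' ⁻¹' (W z : Set Y')) := by
    ext x
    simp only [Set.mem_iUnion, Set.mem_image]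
    constructor
    · intro hx
      obtain ⟨z, hz, w, hw, hwx⟩ := Set.mem_iUnion₂.mp (ht hx)
      obtain ⟨p, hp1, hp2⟩ := Scheme.Pullback.exists_preimage_pullback (g := g) x w hwx.symm
      refine ⟨z, hz, hsq.isoPullback.inv p, ?_, ?_⟩
      · change f' (hsq.isoPullback.inv p) ∈ W z
        rw [← Scheme.Hom.comp_apply, hsq.isoPullback_inv_snd, hp2]
        exact hw
      · rw [← Scheme.Hom.comp_apply, hsq.isoPullback_inv_fst, hp1]
    · rintro ⟨z, -, p, hp, rfl⟩
      change f (g' p) ∈ U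
      rw [← Scheme.Hom.comp_apply, hsq.w]
      exact hWsub z hp
  change IsCompact (f ⁻¹' U)
  rw [this]
  exact t.finite_toSet.isCompact_biUnion fun z _ =>
    (f'.isCompact_preimage (hW z).isCompact).image g'.continuous

end Groth.Agent.S9348
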