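import Groth.Statements.S9355
import Groth.Agent.CM62.DimStrata

set_option autoImplicit false
universe u
open FibDim

open Groth.Agent

namespace Groth.Agent.S9355

open AlgebraicGeometry CategoryTheory in
/-- For f : X → S locally of finite presentation and n ≥ 0, the open set U_n of points x with dim_x(X_{f
x}) ≤ n is retrocompact in X. -/
theorem result {X S : Scheme.{u}} (f : X ⟶ S) [LocallyOfFinitePresentation f] (n : ℕ) :
    IsRetrocompact {x : ↑X | FlatMor.fibreDimAt f x ≤ n} := by
  exact CM62.isRetrocompact_fibreDimAt_le f n

end Groth.Agent.S9355
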