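import Groth.Statements.S9356
import Mathlib.AlgebraicGeometry.Properties
import Mathlib.AlgebraicGeometry.Fiber
import Mathlib.AlgebraicGeometry.Noetherian
import Mathlib.RingTheory.KrullDimension.LocalRing

set_option autoImplicit false
universe u
open FibDim

namespace Groth.Agent.S9356

open AlgebraicGeometry CategoryTheory in
/-- Let f : X → S be locally of finite type and x ⤳ x' a nontrivial specialization of points of the
fibre X_s. Then dim_x(X_s) ≤ dim_{x'}(X_s) and dim O_{X_s,x} < dim O_{X_s,x'}. (The assertion on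
transcendence degrees of residue fields is a separate statement.) -/
theorem result {X S : Scheme.{u}} (f : X ⟶ S) [LocallyOfFiniteType f] (s : S)
    (x x' : ↑(f.fiber s)) (hsp : x ⤳ x') (hne : x ≠ x') :
    FlatMor.localDim ↑(f.fiber s) x ≤ FlatMor.localDim ↑(f.fiber s) x' ∧
      ringKrullDim ((f.fiber s).presheaf.stalk x) < ringKrullDim ((f.fiber s).presheaf.stalk x') := by
  refine ⟨le_iInf fun ⟨U, hU⟩ => iInf_le_of_le ⟨U, hsp.mem_open U.isOpen hU⟩ le_rfl, ?_⟩
  have : LocallyOfFiniteType (f.fiberToSpecResidueField s) :=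
    inferInstanceAs (LocallyOfFiniteType (Limits.pullback.snd _ _))
  have : IsLocallyNoetherian (f.fiber s) :=
    LocallyOfFiniteType.isLocallyNoetherian (f.fiberToSpecResidueField s)
  have hlt : x' < x := lt_of_le_not_ge (Scheme.le_iff_specializes.mpr hsp)
    fun h => hne (hsp.antisymm (Scheme.le_iff_specializes.mp h)).eq
  rw [ringKrullDim_stalk_eq_coheight, ringKrullDim_stalk_eq_coheight]
  refine WithBot.coe_lt_coe.mpr (Order.coheight_strictAnti hlt ?_)
  have h1 : ringKrullDim ((f.fiber s).presheaf.stalk x) < ⊤ := ringKrullDim_lt_top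
  rw [ringKrullDim_stalk_eq_coheight] at h1
  exact WithBot.coe_lt_coe.mp h1

end Groth.Agent.S9356
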