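import Groth.Statements.S9360
import Groth.Agent.SchDense58.Basic

set_option autoImplicit false
universe u
open SchDense

namespace Groth.Agent.S9360

open AlgebraicGeometry CategoryTheory in
/-- Let U ⊆ X be a reduced open subscheme. Then the scheme-theoretic closure of U in X is X if and only
if U is scheme-theoretically dense in X (for every open W the scheme-theoretic closure of U ∩ W in W
is W); and in that case X is reduced. -/
theorem result (X : Scheme.{u}) (U : X.Opens) [IsReduced (↑U : Scheme.{u})] :
    (IsSchemeTheoreticallyDominant U.ι ↔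
        ∀ W : X.Opens, IsSchemeTheoreticallyDominant (X.homOfLE (inf_le_right : U ⊓ W ≤ W))) ∧
      (IsSchemeTheoreticallyDominant U.ι → IsReduced X) := by
  refine ⟨⟨fun _ W => Groth.Agent.SchDense58.schDense_of_reduced U W, fun h => ?_⟩,
    fun _ => (Groth.Agent.SchDense58.isDominant_of_isReduced U.ι).2⟩
  have := h ⊤
  have e : U.ι = (X.isoOfEq (inf_top_eq U).symm).hom ≫
      X.homOfLE (inf_le_right : U ⊓ ⊤ ≤ ⊤) ≫ X.topIso.hom := by simp
  rw [e]
  infer_instance

end Groth.Agent.S9360
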