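import Groth.Statements.S9361
import Mathlib.AlgebraicGeometry.Morphisms.ClosedImmersion
import Mathlib.AlgebraicGeometry.Morphisms.Separated
import Mathlib.AlgebraicGeometry.Morphisms.QuasiSeparated

set_option autoImplicit false
universe u
open SchImage

namespace Groth.Agent.S9361

open AlgebraicGeometry CategoryTheory in
/-- Let f : X → Y be separated, V ⊆ Y a retrocompact open and s : V → X a section of f over V. If Y' ⊆ X
is the scheme-theoretic image of s, then Y' → Y is an isomorphism over V. -/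
theorem result {X Y : Scheme.{u}} (f : X ⟶ Y) [IsSeparated f] (V : Y.Opens) [QuasiCompact V.ι]
    (s : (↑V : Scheme.{u}) ⟶ X) (hs : s ≫ f = V.ι) :
    IsIso ((s.imageι ≫ f) ∣_ V) := by
  haveI : QuasiCompact (s ≫ f) := hs ▸ inferInstance
  haveI : QuasiCompact s := QuasiCompact.of_comp s f
  let W : X.Opens := f ⁻¹ᵁ V
  have hιiso : IsIso (V.ι ∣_ V) := by
    have : IsOpenImmersion (V.ι ∣_ V) := inferInstance
    refine isIso_of_isOpenImmersion_of_opensRange_eq_top _ ?_
    rw [eq_top_iff]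
    intro v _
    exact ⟨⟨v, v.2⟩, Subtype.ext (by simp)⟩
  have hcomp : IsIso ((s ≫ f) ∣_ V) := by
    revert hιiso
    rw [← hs]
    exact id
  have hcl : IsClosedImmersion (s ∣_ W) := by
    have : IsClosedImmersion (s ∣_ W ≫ f ∣_ V) := by
      rw [← morphismRestrict_comp]
      exact @inferInstance (IsClosedImmersion ((s ≫ f) ∣_ V)) _
    exact IsClosedImmersion.of_comp _ (f ∣_ V)
  have hker : (s.imageι ∣_ W).ker = (s ∣_ W).ker := by
    refine Scheme.IdealSheafData.ext (funext fun U => ?_)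
    rw [Scheme.ker_morphismRestrict_ideal, Scheme.ker_morphismRestrict_ideal,
      Scheme.IdealSheafData.ker_subschemeι]
  let l := IsClosedImmersion.lift (s ∣_ W) (s.imageι ∣_ W) hker.ge
  let l' := IsClosedImmersion.lift (s.imageι ∣_ W) (s ∣_ W) hker.le
  haveI : IsIso l := ⟨l',
    by rw [← cancel_mono (s.imageι ∣_ W)]; simp [l, l'],
    by rw [← cancel_mono (s ∣_ W)]; simp [l, l']⟩
  rw [morphismRestrict_comp]
  have : s.imageι ∣_ W ≫ f ∣_ V = l ≫ (s ≫ f) ∣_ V := by
    rw [morphismRestrict_comp, IsClosedImmersion.lift_fac_assoc]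
  change IsIso (s.imageι ∣_ W ≫ f ∣_ V)
  rw [this]
  exact @IsIso.comp_isIso _ _ _ _ _ l _ ‹IsIso l› hcomp

end Groth.Agent.S9361
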