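import Groth.Statements.S9362
import Groth.Agent.QC70.Colim
import Groth.Agent.Coh69.Grothendieck

set_option autoImplicit false
universe u
open QCohSub

namespace Groth.Agent.S9362

open AlgebraicGeometry CategoryTheory Limits in
theorem exists_largest (X : Scheme.{u}) (F G : X.Modules) [F.IsQuasicoherent] (j : G ⟶ F) [Mono j] :
    ∃ (G' : X.Modules) (k : G' ⟶ G), G'.IsQuasicoherent ∧ Mono k ∧
      ∀ H : X.Modules, H.IsQuasicoherent → Function.Bijective (fun φ : H ⟶ G' => φ ≫ k) := by
  let I := {P : Shrink.{u} (Subobject F) //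
    (((equivShrink (Subobject F)).symm P : Subobject F) : X.Modules).IsQuasicoherent ∧ (equivShrink (Subobject F)).symm P ≤ Subobject.mk j}
  let P : I → Subobject F := fun a => (equivShrink (Subobject F)).symm a.1
  let σ : (∐ fun a : I => (P a : X.Modules)) ⟶ F := Sigma.desc fun a => (P a).arrow
  have hS : (∐ fun a : I => (P a : X.Modules)).IsQuasicoherent :=
    QC70.isQuasicoherent_coproduct _ fun a => a.2.1
  have hG' := QC70.isQuasicoherent_abelianImage σ
  have hfac : Abelian.image.ι σ ≫ cokernel.π j = 0 := by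
    rw [← cancel_epi (Abelian.factorThruImage σ), comp_zero, ← Category.assoc, Abelian.image.fac]
    refine Sigma.hom_ext _ _ fun a => ?_
    rw [Sigma.ι_desc_assoc, comp_zero, ← Subobject.ofLEMk_comp a.2.2, Category.assoc,
      cokernel.condition, comp_zero]
  let k : Abelian.image σ ⟶ G := Abelian.monoLift j _ hfac
  have hk : k ≫ j = Abelian.image.ι σ := Abelian.monoLift_comp j _ hfac
  have hmk : Mono k := mono_of_mono_fac hk
  refine ⟨Abelian.image σ, k, hG', hmk, fun H hH => ⟨fun φ ψ h => (cancel_mono k).mp h, fun φ => ?_⟩⟩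
  have hI := QC70.isQuasicoherent_abelianImage (φ ≫ j)
  let Q := Subobject.mk (Abelian.image.ι (φ ≫ j))
  have hQle : Q ≤ Subobject.mk j := by
    have h0 : Abelian.image.ι (φ ≫ j) ≫ cokernel.π j = 0 := by
      rw [← cancel_epi (Abelian.factorThruImage (φ ≫ j)), comp_zero, ← Category.assoc, Abelian.image.fac,
        Category.assoc, cokernel.condition, comp_zero]
    exact Subobject.mk_le_mk_of_comm (Abelian.monoLift j _ h0) (Abelian.monoLift_comp j _ h0)
  let a : I := ⟨equivShrink (Subobject F) Q, by
    rw [Equiv.symm_apply_apply]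
    exact ⟨QC70.isQuasicoherent_of_iso (Subobject.underlyingIso _).symm hI, hQle⟩⟩
  have hle : Subobject.mk (Abelian.image.ι (φ ≫ j)) ≤ P a := (Equiv.symm_apply_apply _ Q).ge
  refine ⟨Abelian.factorThruImage (φ ≫ j) ≫ (Subobject.underlyingIso _).inv ≫
    Subobject.ofLE _ _ hle ≫ Sigma.ι (fun a : I => (P a : X.Modules)) a ≫
    Abelian.factorThruImage σ, (cancel_mono j).mp ?_⟩
  simp [hk, σ]

open AlgebraicGeometry CategoryTheory in
/-- Let F be a quasi-coherent O_X-module and G ⊆ F an O_X-submodule. There is a quasi-coherent submodule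
G' ⊆ G such that Hom(H, G') → Hom(H, G) is bijective for every quasi-coherent O_X-module H; in
particular G' is the largest quasi-coherent submodule of F contained in G (it is unique up to unique
isomorphism over G). -/
theorem result (X : Scheme.{u}) (F G : X.Modules) (hF : Coh.IsQCoh F) (j : G ⟶ F) [Mono j] :
    ∃ (G' : X.Modules) (k : G' ⟶ G), Coh.IsQCoh G' ∧ Mono k ∧
      ∀ H : X.Modules, Coh.IsQCoh H → Function.Bijective (fun φ : H ⟶ G' => φ ≫ k) := by
  have : F.IsQuasicoherent := hF
  exact exists_largest X F G j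

end Groth.Agent.S9362
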