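import Groth.Statements.S9379
import Groth.Agent.RelGCI94.FieldBC
import Mathlib.AlgebraicGeometry.Fiber
import Mathlib.AlgebraicGeometry.Morphisms.FiniteType

set_option autoImplicit false
universe u
open Synt

namespace Groth.Agent.S9379

open AlgebraicGeometry CategoryTheory Limits Groth.Agent.RelGCI94

/-- the fibre through a point is a complete intersection there -/
noncomputable def FibreCI {X S : Scheme.{u}} (f : X ⟶ S) (s : S) (z : f.fiber s) : Prop :=
  CIAt (k := (S.residueField s : Type u)) (f.fiberToSpecResidueField s) z

theorem fibreCI_congr {X S : Scheme.{u}} (f : X ⟶ S) (s : S) (z : f.fiber s) (x : X) (hs : f x = s)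
    (hz : f.fiberι s z = x) : FibreCI f s z ↔ FibreCI f (f x) (f.asFiber x) := by
  subst hs
  rw [show z = f.asFiber x from (f.fiberι (f x)).isEmbedding.injective (hz.trans (f.fiberι_asFiber x).symm)]

theorem main {X S X' S' : Scheme.{u}} (f : X ⟶ S) [LocallyOfFiniteType f] (g : S' ⟶ S)
    (g' : X' ⟶ X) (f' : X' ⟶ S') (hsq : IsPullback g' f' f g) (x' : X') :
    FibreCI f' (f' x') (f'.asFiber x') ↔ FibreCI f (f (g' x')) (f.asFiber (g' x')) := by
  have sq := isPullback_fiberToSpecResidueField_of_isPullback hsq (f' x')
  have : LocallyOfFiniteType (f.fiberToSpecResidueField (g (f' x'))) :=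
    inferInstanceAs (LocallyOfFiniteType (pullback.snd f (S.fromSpecResidueField (g (f' x')))))
  refine (ciAt_bc_iff (k := (S.residueField (g (f' x')) : Type u)) (K := (S'.residueField (f' x') : Type u))
    (f.fiberToSpecResidueField (g (f' x'))) (f'.fiberToSpecResidueField (f' x')) _ (g.residueFieldMap (f' x')) sq
    (f'.asFiber x')).trans ?_
  refine fibreCI_congr f _ _ (g' x') ?_ ?_
  · show (g' ≫ f) x' = (f' ≫ g) x'
    rw [hsq.w]
  · show (pullback.map f' (S'.fromSpecResidueField (f' x')) f (S.fromSpecResidueField (g (f' x'))) g'
      (Spec.map (g.residueFieldMap (f' x'))) g hsq.w.symm (by simp) ≫ pullback.fst _ _) (f'.asFiber x') = g' x'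
    rw [pullback.lift_fst]
    exact congrArg g' (f'.fiberι_asFiber x')

open AlgebraicGeometry CategoryTheory in
/-- For f : X → S locally of finite type, the set of points x at which the local ring of the fibre X_{f
x} is a complete intersection over κ(f x) is compatible with arbitrary base change: in a cartesian
square with base change f' : X' → S', g' : X' → X, the corresponding set for f' is the inverse image
of the one for f. (The published statement adds that, for f flat and locally of finite presentation,
the set of points at which f is syntomic is compatible with base change in the same way; this row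
states only the first assertion.) -/
theorem result {X S X' S' : Scheme.{u}} (f : X ⟶ S) [LocallyOfFiniteType f] (g : S' ⟶ S)
    (g' : X' ⟶ X) (f' : X' ⟶ S') (hsq : IsPullback g' f' f g) :
    {x' : ↑X' |
        letI := ((Scheme.ΓSpecIso (S'.residueField (f'.base x'))).inv ≫
            (f'.fiberToSpecResidueField (f'.base x')).appLE ⊤ ⊤ le_top ≫
              (f'.fiber (f'.base x')).presheaf.germ ⊤ (f'.asFiber x') trivial).hom.toAlgebra
        Synt.IsCIOver (S'.residueField (f'.base x')) ((f'.fiber (f'.base x')).presheaf.stalk (f'.asFiber x'))} =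
      g'.base ⁻¹' {x : ↑X |
        letI := ((Scheme.ΓSpecIso (S.residueField (f.base x))).inv ≫
            (f.fiberToSpecResidueField (f.base x)).appLE ⊤ ⊤ le_top ≫
              (f.fiber (f.base x)).presheaf.germ ⊤ (f.asFiber x) trivial).hom.toAlgebra
        Synt.IsCIOver (S.residueField (f.base x)) ((f.fiber (f.base x)).presheaf.stalk (f.asFiber x))} := by
  exact Set.ext fun x' => main f g g' f' hsq x'

end Groth.Agent.S9379
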