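import Groth.Statements.S9380
import Groth.Agent.QAff94.Canonical

set_option autoImplicit false
universe u
open QAff

namespace Groth.Agent.S9380

open AlgebraicGeometry CategoryTheory in
/-- A quasi-compact quasi-separated morphism f : X → S is quasi-affine if and only if the canonical
S-morphism X → Spec_S(f_*O_X) (the one inducing the comparison map on direct-image algebras) exists
as a quasi-compact open immersion. -/
theorem result {X S : Scheme.{u}} (f : X ⟶ S) [QuasiCompact f] [QuasiSeparated f] :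
    MoreMor.IsQuasiAffineHom f ↔
      ∃ (c : X ⟶ (RelSpec.QCAlg.directImage f).spec) (e : c ≫ (RelSpec.QCAlg.directImage f).π = f),
        (RelSpec.QCAlg.directImage f).gammaMap = AffAlg.algHom (RelSpec.QCAlg.directImage f).π f c e ∧
          QuasiCompact c ∧ IsOpenImmersion c := by
  constructor
  · rintro ⟨-, h⟩
    haveI := QAff94.isOpenImmersion_toSpec f h
    haveI : QuasiCompact (QAff94.toSpec f ≫ (RelSpec.QCAlg.directImage f).π) := by
      rw [QAff94.toSpec_π]; infer_instance
    exact ⟨QAff94.toSpec f, QAff94.toSpec_π f, QAff94.gammaMap_eq f,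
      QuasiCompact.of_comp (QAff94.toSpec f) (RelSpec.QCAlg.directImage f).π, inferInstance⟩
  · rintro ⟨c, e, -, hqc, hc⟩
    refine ⟨inferInstance, fun V hV => ?_⟩
    let A := RelSpec.QCAlg.directImage f
    have hpre : c ⁻¹ᵁ (A.π ⁻¹ᵁ V) = f ⁻¹ᵁ V := by rw [← Scheme.Hom.comp_preimage, e]
    haveI : IsAffine (A.π ⁻¹ᵁ V : Scheme.{u}) := hV.preimage A.π
    haveI : CompactSpace (f ⁻¹ᵁ V : Scheme.{u}) := isCompact_iff_compactSpace.1 (f.isCompact_preimage hV.isCompact)
    exact Scheme.IsQuasiAffine.of_isImmersion ((X.isoOfEq hpre.symm).hom ≫ c ∣_ (A.π ⁻¹ᵁ V))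

end Groth.Agent.S9380
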