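import Groth.Statements.S9381
import Groth.Agent.Cyc90.FlatRelDim

set_option autoImplicit false
universe u
open FibDim

namespace Groth.Agent.S9381

open AlgebraicGeometry CategoryTheory in
/-- Let f : X → S be locally of finite type and x ⤳ x' a nontrivial specialization of points of X in the
same fibre (f x = f x'). Then trdeg_{κ(f x)} κ(x) > trdeg_{κ(f x')} κ(x'). -/
theorem result {X S : Scheme.{u}} (f : X ⟶ S) [LocallyOfFiniteType f] (x x' : X)
    (hsp : x ⤳ x') (hne : x ≠ x') (hfx : f.base x = f.base x') :
    @Algebra.trdeg (S.residueField (f.base x')) (X.residueField x') _ _ (f.residueFieldMap x').hom.toAlgebra <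
      @Algebra.trdeg (S.residueField (f.base x)) (X.residueField x) _ _ (f.residueFieldMap x).hom.toAlgebra := by
  rw [Groth.Agent.Cyc90.trdeg_residueField_eq_fdeg f x',
    Groth.Agent.Cyc90.trdeg_residueField_eq_fdeg f x]
  exact Nat.cast_lt.mpr (Groth.Agent.E4O.fdeg_lt hsp hfx hne)

end Groth.Agent.S9381
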