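import Groth.Statements.S9382
-- import your own Groth.Agent.* helpers here

set_option autoImplicit false
universe u
open QCohSub

namespace Groth.Agent.S9382

open AlgebraicGeometry CategoryTheory in
/-- For closed subschemes Z, Y ⊆ X with ideal sheaves I, J, the scheme-theoretic intersection (ideal
sheaf I ⊔ J) together with its inclusions into Z and Y forms a cartesian square over X. -/
theorem result (X : Scheme.{u}) (I J : X.IdealSheafData) :
    IsPullback (Scheme.IdealSheafData.inclusion (le_sup_left : I ≤ I ⊔ J))
      (Scheme.IdealSheafData.inclusion (le_sup_right : J ≤ I ⊔ J)) I.subschemeι J.subschemeι := by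
  refine ⟨⟨by simp⟩, ⟨Limits.PullbackCone.IsLimit.mk _ (fun s => ?_) (fun s => ?_) (fun s => ?_)
    fun s m h₁ _ => ?_⟩⟩
  · refine (s.fst ≫ I.subschemeι).toImage ≫ Scheme.IdealSheafData.inclusion (sup_le ?_ ?_)
    · exact (I.ker_subschemeι).ge.trans (Scheme.Hom.le_ker_comp s.fst I.subschemeι)
    · rw [s.condition]
      exact (J.ker_subschemeι).ge.trans (Scheme.Hom.le_ker_comp s.snd J.subschemeι)
  · rw [← cancel_mono I.subschemeι]
    simp only [Category.assoc, Scheme.IdealSheafData.inclusion_subschemeι]
    exact (s.fst ≫ I.subschemeι).toImage_imageι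
  · rw [← cancel_mono J.subschemeι]
    simp only [Category.assoc, Scheme.IdealSheafData.inclusion_subschemeι]
    exact (s.fst ≫ I.subschemeι).toImage_imageι.trans s.condition
  · rw [← cancel_mono (I ⊔ J).subschemeι]
    simp only [Category.assoc, Scheme.IdealSheafData.inclusion_subschemeι]
    refine Eq.trans ?_ (s.fst ≫ I.subschemeι).toImage_imageι.symm
    rw [← h₁, Category.assoc, Scheme.IdealSheafData.inclusion_subschemeι]

end Groth.Agent.S9382
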