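import Groth.Statements.S9383
import Groth.Agent.ClPush72.Glue

set_option autoImplicit false
universe u
open QCohSub

namespace Groth.Agent.S9383


open AlgebraicGeometry CategoryTheory TopologicalSpace in
theorem appLE_props {S : Scheme.{u}} (K : S.IdealSheafData) (U : S.affineOpens)
    (R : K.subscheme.Opens) (hR : R = K.subschemeι ⁻¹ᵁ U.1) (e : R ≤ K.subschemeι ⁻¹ᵁ U.1) :
    Function.Surjective (K.subschemeι.appLE U.1 R e) ∧
      ∀ x, K.subschemeι.appLE U.1 R e x = 0 ↔ x ∈ K.ideal U := by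
  subst hR
  rw [Scheme.Hom.appLE_eq_app]
  refine ⟨K.subschemeι_app_surjective U, fun x => ?_⟩
  rw [← K.ker_subschemeι_app U]
  exact RingHom.mem_ker.symm

open AlgebraicGeometry CategoryTheory TopologicalSpace in
theorem isFibreProd {S : Scheme.{u}} (I J : S.IdealSheafData) (U : S.affineOpens) :
    ClPush72.IsFibreProdOn
      (Scheme.IdealSheafData.inclusion (le_sup_left : I ≤ I ⊔ J))
      (Scheme.IdealSheafData.inclusion (le_sup_right : J ≤ I ⊔ J))
      (Scheme.IdealSheafData.inclusion (inf_le_left : I ⊓ J ≤ I))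
      (Scheme.IdealSheafData.inclusion (inf_le_right : I ⊓ J ≤ J))
      ((I ⊓ J).subschemeι ⁻¹ᵁ U.1) := by
  intro z y R e₁ e₂ hR h
  have ha : (Scheme.IdealSheafData.inclusion (inf_le_left : I ⊓ J ≤ I)) ⁻¹ᵁ (((I ⊓ J).subschemeι) ⁻¹ᵁ U.1) = I.subschemeι ⁻¹ᵁ U.1 := by
    rw [← Scheme.Hom.comp_preimage, Scheme.IdealSheafData.inclusion_subschemeι]
  have hb : (Scheme.IdealSheafData.inclusion (inf_le_right : I ⊓ J ≤ J)) ⁻¹ᵁ (((I ⊓ J).subschemeι) ⁻¹ᵁ U.1) = J.subschemeι ⁻¹ᵁ U.1 := by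
    rw [← Scheme.Hom.comp_preimage, Scheme.IdealSheafData.inclusion_subschemeι]
  have hR' : R = (I ⊔ J).subschemeι ⁻¹ᵁ U.1 := by
    rw [hR, ha, ← Scheme.Hom.comp_preimage, Scheme.IdealSheafData.inclusion_subschemeι]
  obtain ⟨hIs, hI⟩ := appLE_props I U _ ha ha.le
  obtain ⟨hJs, hJ⟩ := appLE_props J U _ hb hb.le
  obtain ⟨-, hIJ⟩ := appLE_props (I ⊔ J) U _ hR' hR'.le
  obtain ⟨hKs, hK⟩ := appLE_props (I ⊓ J) U _ rfl le_rfl
  have hza : ∀ c, (Scheme.IdealSheafData.inclusion (inf_le_left : I ⊓ J ≤ I)).app _ (((I ⊓ J).subschemeι).appLE U.1 _ le_rfl c) = I.subschemeι.appLE U.1 _ ha.le c := by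
    intro c
    simp only [← CommRingCat.comp_apply, Scheme.Hom.app_eq_appLE, Scheme.Hom.appLE_comp_appLE,
      Scheme.IdealSheafData.inclusion_subschemeι]
  have hzb : ∀ c, (Scheme.IdealSheafData.inclusion (inf_le_right : I ⊓ J ≤ J)).app _ (((I ⊓ J).subschemeι).appLE U.1 _ le_rfl c) = J.subschemeι.appLE U.1 _ hb.le c := by
    intro c
    simp only [← CommRingCat.comp_apply, Scheme.Hom.app_eq_appLE, Scheme.Hom.appLE_comp_appLE,
      Scheme.IdealSheafData.inclusion_subschemeι]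
  obtain ⟨c₁, rfl⟩ := hIs z
  obtain ⟨c₂, rfl⟩ := hJs y
  have h' : (I ⊔ J).subschemeι.appLE U.1 R hR'.le c₁ =
      (I ⊔ J).subschemeι.appLE U.1 R hR'.le c₂ := by
    simpa only [← CommRingCat.comp_apply, Scheme.Hom.appLE_comp_appLE,
      Scheme.IdealSheafData.inclusion_subschemeι] using h
  have hd : c₁ - c₂ ∈ I.ideal U ⊔ J.ideal U := (hIJ _).mp (by rw [map_sub, h', sub_self])
  obtain ⟨i, hi, j, hj, hij⟩ := Submodule.mem_sup.mp hd
  refine ⟨((I ⊓ J).subschemeι).appLE U.1 _ le_rfl (c₁ - i), ⟨?_, ?_⟩, fun s hs => ?_⟩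
  · rw [hza, map_sub, (hI i).mpr hi, sub_zero]
  · rw [hzb, show c₁ - i = c₂ + j by linear_combination hij.symm, map_add, (hJ j).mpr hj, add_zero]
  · obtain ⟨d, rfl⟩ := hKs s
    obtain ⟨hs₁, hs₂⟩ := hs
    rw [hza] at hs₁
    rw [hzb] at hs₂
    rw [← sub_eq_zero, ← map_sub]
    refine (hK _).mpr ⟨?_, ?_⟩
    · exact (hI _).mp (by rw [map_sub, map_sub, hs₁, (hI i).mpr hi, sub_zero, sub_self])
    · refine (hJ _).mp ?_
      rw [map_sub, hs₂, show c₁ - i = c₂ + j by linear_combination hij.symm, map_add,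
        (hJ j).mpr hj, add_zero, sub_self]

open AlgebraicGeometry CategoryTheory in
/-- For closed subschemes X, Y ⊆ S with ideal sheaves I, J, the scheme-theoretic union (ideal sheaf I ⊓
J) is the pushout, in the category of schemes, of X and Y along the scheme-theoretic intersection
(ideal sheaf I ⊔ J). The exact sequence 0 → O_{X∪Y} → O_X × O_Y → O_{X∩Y} → 0 is not stated. -/
theorem result (S : Scheme.{u}) (I J : S.IdealSheafData) :
    IsPushout (Scheme.IdealSheafData.inclusion (le_sup_left : I ≤ I ⊔ J))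
      (Scheme.IdealSheafData.inclusion (le_sup_right : J ≤ I ⊔ J))
      (Scheme.IdealSheafData.inclusion (inf_le_left : I ⊓ J ≤ I))
      (Scheme.IdealSheafData.inclusion (inf_le_right : I ⊓ J ≤ J)) := by
  have hinj : ∀ K : S.IdealSheafData, Function.Injective K.subschemeι :=
    fun K => K.subschemeι.isClosedEmbedding.injective
  have hι : ∀ {K L : S.IdealSheafData} (h : K ≤ L) (v : L.subscheme),
      K.subschemeι (Scheme.IdealSheafData.inclusion h v) = L.subschemeι v := fun {K L} h v => by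
    rw [← Scheme.Hom.comp_apply, Scheme.IdealSheafData.inclusion_subschemeι]
  haveI : IsClosedImmersion (Scheme.IdealSheafData.inclusion (inf_le_left : I ⊓ J ≤ I)) :=
    haveI : IsClosedImmersion (Scheme.IdealSheafData.inclusion (inf_le_left : I ⊓ J ≤ I) ≫
      (I ⊓ J).subschemeι) := by
      rw [Scheme.IdealSheafData.inclusion_subschemeι]; infer_instance
    IsClosedImmersion.of_comp_isClosedImmersion _ (I ⊓ J).subschemeι
  haveI : IsClosedImmersion (Scheme.IdealSheafData.inclusion (inf_le_right : I ⊓ J ≤ J)) :=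
    haveI : IsClosedImmersion (Scheme.IdealSheafData.inclusion (inf_le_right : I ⊓ J ≤ J) ≫
      (I ⊓ J).subschemeι) := by
      rw [Scheme.IdealSheafData.inclusion_subschemeι]; infer_instance
    IsClosedImmersion.of_comp_isClosedImmersion _ (I ⊓ J).subschemeι
  refine ClPush72.isPushout_of_isFibreProdOn
    ((Scheme.IdealSheafData.inclusion_comp _ _).trans
      (Scheme.IdealSheafData.inclusion_comp _ _).symm) ?_ (fun z y h => ?_) (fun x O hx => ?_)
  · refine Set.eq_univ_of_forall fun x => ?_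
    have hx : (I ⊓ J).subschemeι x ∈ (I.support : Set S) ∪ J.support := by
      set v := (I ⊓ J).subschemeι x with hv
      have hvK : v ∈ (I ⊓ J).support := (I ⊓ J).range_subschemeι.le ⟨x, rfl⟩
      by_contra hn
      rw [Set.mem_union, not_or] at hn
      obtain ⟨_, ⟨U, hU, rfl⟩, hvU, -⟩ :=
        S.isBasis_affineOpens.exists_subset_of_mem_open (Set.mem_univ v) isOpen_univ
      simp only [SetLike.mem_coe,
        Scheme.IdealSheafData.mem_support_iff_of_mem (U := ⟨U, hU⟩) hvU,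
        Scheme.mem_zeroLocus_iff, not_forall, not_not] at hn hvK
      obtain ⟨⟨i, hi, hvi⟩, ⟨j, hj, hvj⟩⟩ := hn
      refine hvK (i * j) ⟨Ideal.mul_mem_right _ _ hi, Ideal.mul_mem_left _ _ hj⟩ ?_
      rw [Scheme.basicOpen_mul]
      exact ⟨hvi, hvj⟩
    rcases hx with hx | hx
    · obtain ⟨z, hz⟩ := I.range_subschemeι.ge hx
      exact Or.inl ⟨z, hinj _ ((hι _ _).trans hz)⟩
    · obtain ⟨y, hy⟩ := J.range_subschemeι.ge hx
      exact Or.inr ⟨y, hinj _ ((hι _ _).trans hy)⟩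
  · have he : I.subschemeι z = J.subschemeι y := by
      rw [← hι (inf_le_left : I ⊓ J ≤ I) z, h, hι]
    obtain ⟨v, hv⟩ : I.subschemeι z ∈ Set.range (I ⊔ J).subschemeι := by
      rw [(I ⊔ J).range_subschemeι, Scheme.IdealSheafData.support_sup]
      exact ⟨I.range_subschemeι.le ⟨z, rfl⟩, he ▸ J.range_subschemeι.le ⟨y, rfl⟩⟩
    exact ⟨v, hinj _ ((hι _ _).trans hv), hinj _ (((hι _ _).trans hv).trans he)⟩
  · obtain ⟨t, ht, hOt⟩ :=
      (I ⊓ J).subschemeι.isClosedEmbedding.isInducing.isOpen_iff.mp O.2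
    obtain ⟨_, ⟨U, hU, rfl⟩, hxU, hUt⟩ :=
      S.isBasis_affineOpens.exists_subset_of_mem_open
        (show (I ⊓ J).subschemeι x ∈ t from hOt.ge hx) ht
    exact ⟨(I ⊓ J).subschemeι ⁻¹ᵁ U, hxU, fun v hv => hOt.le (hUt hv), isFibreProd I J ⟨U, hU⟩⟩

end Groth.Agent.S9383
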