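import Groth.Statements.S9393
import Groth.Agent.CAlg5.NFinite

set_option autoImplicit false
universe u
open CAlg

namespace Groth.Agent.S9393

/-- Being N-1 can be checked on a finite cover of Spec R by principal opens whose rings are N-1 domains. -/
theorem result (R : Type u) [CommRing R] [IsDomain R]
    {ι : Type u} [Finite ι] (f : ι → R) (hf : Ideal.span (Set.range f) = ⊤)
    (Rf : ι → Type u) [∀ i, CommRing (Rf i)] [∀ i, IsDomain (Rf i)] [∀ i, Algebra R (Rf i)]
    [∀ i, IsLocalization.Away (f i) (Rf i)] (h : ∀ i, CAlg.IsN1 (Rf i)) : CAlg.IsN1 R := by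
  refine CAlg5.finite_integralClosure_of_span_eq_top (FractionRing R) f hf fun i => ?_
  by_cases h0 : f i = 0
  · rw [h0]; exact CAlg5.trivial_cover_data _
  have hu : IsUnit (algebraMap R (FractionRing R) (f i)) :=
    isUnit_iff_ne_zero.mpr fun hz => h0 (IsFractionRing.injective R _ (by rw [hz, map_zero]))
  let : Algebra (Rf i) (FractionRing R) := (IsLocalization.Away.lift (f i) hu).toAlgebra
  have : IsScalarTower R (Rf i) (FractionRing R) := IsScalarTower.of_algebraMap_eq fun r =>
    (IsLocalization.Away.lift_eq (f i) hu r).symm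
  have : IsFractionRing (Rf i) (FractionRing R) :=
    IsFractionRing.isFractionRing_of_isDomain_of_isLocalization (Submonoid.powers (f i)) (Rf i) _
  exact CAlg5.exists_finset_of_finite_integralClosure_away (f i) (Rf i) (FractionRing R)
    ((CAlg5.isN1_iff (Rf i) (FractionRing R)).mp (h i))


end Groth.Agent.S9393
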