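import Groth.Statements.S9395
import Groth.Agent.CAlg5.NFinite
import Mathlib.RingTheory.Polynomial.Basic

set_option autoImplicit false
universe u
open CAlg

namespace Groth.Agent.S9395

/-- For a Noetherian domain R, if the Laurent polynomial ring R[X, 1/X] (the localization of R[X] away
from X) is N-1, then R is N-1. -/
theorem result (R : Type u) [CommRing R] [IsDomain R] [IsNoetherianRing R]
    (S : Type u) [CommRing S] [IsDomain S] [Algebra (Polynomial R) S]
    [IsLocalization.Away (Polynomial.X : Polynomial R) S] (h : CAlg.IsN1 S) : CAlg.IsN1 R := by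
  classical
  let : Algebra R S := ((algebraMap (Polynomial R) S).comp Polynomial.C).toAlgebra
  have hST : IsFractionRing (Polynomial R) (FractionRing S) :=
    CAlg5.isFractionRing_comp (Submonoid.powers (Polynomial.X : Polynomial R)) S (FractionRing S)
  have hP : ∀ r, algebraMap R (FractionRing S) r = algebraMap (Polynomial R) (FractionRing S) (Polynomial.C r) :=
    fun r => (IsScalarTower.algebraMap_apply R S (FractionRing S) r).trans
      (IsScalarTower.algebraMap_apply (Polynomial R) S (FractionRing S) (Polynomial.C r)).symm
  have hinjP := IsFractionRing.injective (Polynomial R) (FractionRing S)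
  have hinj : Function.Injective (algebraMap R (FractionRing S)) := fun a b hab => by
    rw [hP, hP] at hab
    exact Polynomial.C_injective (hinjP hab)
  have : FaithfulSMul R (FractionRing S) := (faithfulSMul_iff_algebraMap_injective _ _).mpr hinj
  let ψ : FractionRing R →ₐ[R] FractionRing S := IsFractionRing.liftAlgHom (g := Algebra.ofId R _) hinj
  have : Module.Finite S (integralClosure S (FractionRing S)) := h
  have hnS : IsNoetherianRing S :=
    IsLocalization.isNoetherianRing (Submonoid.powers (Polynomial.X : Polynomial R)) S inferInstance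
  -- the S-span of the image of the integral closure of R
  let N : Submodule S (FractionRing S) :=
    Submodule.span S (ψ '' {c | IsIntegral R c})
  have hNle : N ≤ (integralClosure S (FractionRing S)).toSubmodule := Submodule.span_le.mpr (by
    rintro _ ⟨c, hc, rfl⟩
    exact (hc.map ψ).tower_top)
  have hNfg : N.FG := by
    have : (integralClosure S (FractionRing S)).toSubmodule.FG :=
      Module.Finite.iff_fg.mp (inferInstanceAs (Module.Finite S (integralClosure S (FractionRing S))))
    exact (isNoetherian_submodule.mp (isNoetherian_of_fg_of_noetherian _ this)) N hNle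
  obtain ⟨T, hTsub, hT⟩ := Submodule.fg_span_iff_fg_span_finset_subset _ |>.mp hNfg
  choose! c hc hcT using fun t (ht : t ∈ T) => hTsub ht
  refine (CAlg5.finite_integralClosure_iff R (FractionRing R)).mpr ⟨T.image c, fun x hx => ?_, fun x hx => ?_⟩
  · obtain ⟨t, ht, rfl⟩ := Finset.mem_image.mp hx
    exact hc t ht
  have hmem : ψ x ∈ Submodule.span S (T : Set (FractionRing S)) := hT ▸ Submodule.subset_span ⟨x, hx, rfl⟩
  obtain ⟨a, ha⟩ := Submodule.mem_span_finset.mp hmem |>.imp fun a h => h.2
  -- clear denominators of the coefficients
  obtain ⟨⟨b, hbmem⟩, hb⟩ :=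
    IsLocalization.exist_integer_multiples (Submonoid.powers (Polynomial.X : Polynomial R)) T a
  obtain ⟨k, rfl⟩ := hbmem
  choose! P hPa using hb
  obtain ⟨⟨d, hd⟩, hd'⟩ := IsLocalization.exist_integer_multiples (nonZeroDivisors R) (insert x (T.image c)) id
  choose! N' hN' using hd'
  simp only [id] at hN'
  have hPa' : ∀ t ∈ T, algebraMap (Polynomial R) (FractionRing S) (P t) =
      algebraMap (Polynomial R) (FractionRing S) (Polynomial.X ^ k) * algebraMap S _ (a t) := fun t ht => by
    rw [IsScalarTower.algebraMap_apply (Polynomial R) S (FractionRing S), hPa t ht]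
    simp [Algebra.smul_def, ← IsScalarTower.algebraMap_apply (Polynomial R) S (FractionRing S)]
  have hN2 : ∀ y ∈ insert x (T.image c), algebraMap (Polynomial R) (FractionRing S) (Polynomial.C (N' y)) =
      algebraMap R (FractionRing S) d * ψ y := fun y hy => by
    rw [← hP, ← ψ.commutes, hN' y hy, Algebra.smul_def, map_mul, AlgHom.commutes]
  have heq : Polynomial.X ^ k * Polynomial.C (N' x) =
      ∑ t ∈ T, P t * Polynomial.C (N' (c t)) := by
    apply hinjP
    rw [map_mul, map_sum, hN2 x (Finset.mem_insert_self _ _), ← ha, Finset.mul_sum, Finset.mul_sum]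
    refine Finset.sum_congr rfl fun t ht => ?_
    rw [map_mul, hPa' t ht, hN2 (c t) (Finset.mem_insert_of_mem (Finset.mem_image_of_mem c ht)),
      hcT t ht, Algebra.smul_def]
    ring
  have hcoeff := congrArg (fun q => Polynomial.coeff q k) heq
  simp only [Polynomial.finsetSum_coeff, Polynomial.coeff_mul_C, Polynomial.coeff_X_pow, if_true,
    one_mul] at hcoeff
  have hx' : x = ∑ t ∈ T, (P t).coeff k • c t := by
    have hd0 : algebraMap R (FractionRing R) d ≠ 0 := fun h =>
      nonZeroDivisors.ne_zero hd (IsFractionRing.injective R (FractionRing R) (by rw [h, map_zero]))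
    apply mul_left_cancel₀ hd0
    rw [Finset.mul_sum, ← Algebra.smul_def, ← hN' x (Finset.mem_insert_self _ _), hcoeff, map_sum]
    refine Finset.sum_congr rfl fun t ht => ?_
    rw [map_mul, hN' (c t) (Finset.mem_insert_of_mem (Finset.mem_image_of_mem c ht)),
      Algebra.smul_def, Algebra.smul_def]
    ring
  rw [hx']
  exact Submodule.sum_mem _ fun t ht =>
    Submodule.smul_mem _ _ (Submodule.subset_span (Finset.mem_image_of_mem c ht))


end Groth.Agent.S9395
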