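import Groth.Statements.S9401
import Groth.Agent.CAlg5.NagataDescent

set_option autoImplicit false
universe u
open CAlg

namespace Groth.Agent.S9401

/-- The Nagata property descends along smooth ring maps that are surjective on spectra. -/
theorem result (R : Type u) [CommRing R] (S : Type u)
    [CommRing S] [Algebra R S] [Algebra.Smooth R S]
    (hs : Function.Surjective (PrimeSpectrum.comap (algebraMap R S))) (hS : CAlg.IsNagata S) :
    CAlg.IsNagata R := by
  exact CAlg5.isNagata_of_smooth_surjective R S hs hS


end Groth.Agent.S9401
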