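import Groth.Statements.S9403
import Mathlib.RingTheory.Kaehler.Basic
import Mathlib.RingTheory.Filtration
import Mathlib.Tactic.LinearCombination

set_option autoImplicit false
universe u
open CAlg

namespace Groth.Agent.S9403

/-- Let R → S be a ring map with S a Noetherian local ring which is an algebra over the rationals, and f
∈ S such that some S-linear form on the module of differentials of S over R sends df to 1 (df spans
a free direct summand of rank one). Then f is a nonzerodivisor of S. (The published statement asks
only that S·df be a direct summand of the module of differentials, which also holds for the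
rationals with a square-zero element adjoined, where f is a zero divisor; this row asks for an
S-linear form on the differentials sending df to 1, as the published proof uses.) -/
theorem result (R : Type u) [CommRing R]
    (S : Type u) [CommRing S] [IsLocalRing S] [IsNoetherianRing S] [Algebra R S] [Algebra ℚ S]
    (f : S) (θ : Ω[S⁄R] →ₗ[S] S) (hθ : θ (KaehlerDifferential.D R S f) = 1) : f ∈ nonZeroDivisors S := by
  rw [mem_nonZeroDivisors_iff_left]
  intro x hx
  have key : ∀ n : ℕ, ∃ h, x = f ^ n * h ∧ f ^ (n + 1) * h = 0 := by
    intro n
    induction n with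
    | zero => exact ⟨x, by ring, by rw [← hx]; ring⟩
    | succ m ih =>
      obtain ⟨h, h1, h2⟩ := ih
      have h3 := congrArg θ (congrArg (KaehlerDifferential.D R S) h2)
      rw [Derivation.leibniz, Derivation.leibniz_pow, map_zero, map_zero, map_add, map_smul,
        map_smul, map_nsmul, map_smul, hθ, Nat.add_sub_cancel, smul_eq_mul, smul_eq_mul, smul_eq_mul,
        mul_one, nsmul_eq_mul] at h3
      obtain ⟨v, hv⟩ : IsUnit ((m + 1 : ℕ) : S) := by
        rw [← map_natCast (algebraMap ℚ S)]
        exact (isUnit_iff_ne_zero.mpr (Nat.cast_ne_zero.mpr (Nat.succ_ne_zero m))).map _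
      rw [← hv] at h3
      have h4 : x = f ^ (m + 1) * (-(↑v⁻¹ : S) * θ (KaehlerDifferential.D R S h)) := by
        linear_combination h1 + (↑v⁻¹ : S) * h3 - f ^ m * h * Units.inv_mul v
      refine ⟨_, h4, ?_⟩
      linear_combination (-f) * h4 + hx
  by_cases hu : IsUnit f
  · exact hu.mul_right_eq_zero.mp hx
  have hI : Ideal.span {f} ≠ ⊤ := fun h => hu (Ideal.span_singleton_eq_top.mp h)
  have h0 : x ∈ ⨅ n : ℕ, Ideal.span {f} ^ n := Submodule.mem_iInf _ |>.mpr fun n => by
    obtain ⟨h, h1, -⟩ := key n
    rw [Ideal.span_singleton_pow, Ideal.mem_span_singleton]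
    exact ⟨h, h1⟩
  rwa [Ideal.iInf_pow_eq_bot_of_isLocalRing _ hI, Ideal.mem_bot] at h0


end Groth.Agent.S9403
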