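import Groth.Statements.S9404
import Mathlib.FieldTheory.PurelyInseparable.Basic
import Mathlib.RingTheory.Ideal.GoingUp
import Mathlib.RingTheory.IntegralClosure.IsIntegralClosure.Basic
import Mathlib.RingTheory.Flat.Basic

set_option autoImplicit false
universe u
open CAlg

namespace Groth.Agent.S9404

open TensorProduct in
/-- For local homomorphisms of local rings A → B and A → C with A → C integral, if the residue field of
C or that of B is purely inseparable over the residue field of A, then B ⊗_A C is local and both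
structure maps into it are local. -/
theorem result (A : Type u) [CommRing A]
    [IsLocalRing A] (B : Type u) [CommRing B] [IsLocalRing B] [Algebra A B]
    [IsLocalHom (algebraMap A B)] (C : Type u) [CommRing C] [IsLocalRing C] [Algebra A C]
    [IsLocalHom (algebraMap A C)] [Algebra.IsIntegral A C]
    (h : IsPurelyInseparable (IsLocalRing.ResidueField A) (IsLocalRing.ResidueField C) ∨
      IsPurelyInseparable (IsLocalRing.ResidueField A) (IsLocalRing.ResidueField B)) :
    IsLocalRing (B ⊗[A] C) ∧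
      IsLocalHom (Algebra.TensorProduct.includeLeft : B →ₐ[A] B ⊗[A] C).toRingHom ∧
      IsLocalHom (Algebra.TensorProduct.includeRight : C →ₐ[A] B ⊗[A] C).toRingHom := by
  set q := ringExpChar (IsLocalRing.ResidueField A)
  let kA := IsLocalRing.ResidueField A
  let kB := IsLocalRing.ResidueField B
  let kC := IsLocalRing.ResidueField C
  have hint : Algebra.IsIntegral B (B ⊗[A] C) := by
    constructor
    intro z
    induction z using TensorProduct.induction_on with
    | zero => exact isIntegral_zero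
    | add a b ha hb => exact ha.add hb
    | tmul b c =>
      have h1 : IsIntegral B ((1 : B) ⊗ₜ[A] c) :=
        ((Algebra.IsIntegral.isIntegral (R := A) c).map
          (Algebra.TensorProduct.includeRight : C →ₐ[A] B ⊗[A] C)).tower_top
      have e : b ⊗ₜ[A] c = b • ((1 : B) ⊗ₜ[A] c) := by
        rw [TensorProduct.smul_tmul', smul_eq_mul, mul_one]
      rw [e]
      exact h1.smul b
  have hnt : Nontrivial (B ⊗[A] C) := by
    have : Nontrivial (kB ⊗[kA] kC) :=
      Algebra.TensorProduct.nontrivial_of_algebraMap_injective_of_flat_left kA kB kC (algebraMap kA kC).injective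
    let ρ : B ⊗[A] C →ₐ[A] kB ⊗[kA] kC := Algebra.TensorProduct.productMap
      ((Algebra.TensorProduct.includeLeft (R := kA) (S := kA)).restrictScalars A |>.comp
        (IsScalarTower.toAlgHom A B kB))
      (((Algebra.TensorProduct.includeRight (R := kA) (A := kB)).restrictScalars A).comp
        (IsScalarTower.toAlgHom A C kC))
    exact ρ.toRingHom.domain_nontrivial
  have hB : ∀ M : Ideal (B ⊗[A] C), M.IsMaximal → ∀ b ∈ IsLocalRing.maximalIdeal B, b ⊗ₜ[A] (1 : C) ∈ M := by
    intro M hM b hb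
    have h1 := IsLocalRing.eq_maximalIdeal (Ideal.isMaximal_comap_of_isIntegral_of_isMaximal (R := B) M)
    rw [← h1] at hb
    exact hb
  have hA : ∀ M : Ideal (B ⊗[A] C), M.IsMaximal → ∀ a ∈ IsLocalRing.maximalIdeal A,
      algebraMap A (B ⊗[A] C) a ∈ M := by
    intro M hM a ha
    rw [Algebra.TensorProduct.algebraMap_apply]
    exact hB M hM _ (map_nonunit (algebraMap A B) a ha)
  have hC' : ∀ M : Ideal (B ⊗[A] C), M.IsMaximal → ∀ c ∈ IsLocalRing.maximalIdeal C, (1 : B) ⊗ₜ[A] c ∈ M := by
    intro M hM c hc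
    have : (M.comap (Algebra.TensorProduct.includeRight : C →ₐ[A] B ⊗[A] C).toRingHom).IsPrime := Ideal.IsPrime.comap _
    have h1 : IsLocalRing.maximalIdeal A ≤
        (M.comap (Algebra.TensorProduct.includeRight : C →ₐ[A] B ⊗[A] C).toRingHom).comap (algebraMap A C) := by
      intro a ha
      show (1 : B) ⊗ₜ[A] algebraMap A C a ∈ M
      rw [← Algebra.TensorProduct.algebraMap_apply']
      exact hA M hM a ha
    have h2 := (IsLocalRing.maximalIdeal.isMaximal A).eq_of_le (Ideal.IsPrime.comap _).ne_top h1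
    have h3 := Ideal.isMaximal_of_isIntegral_of_isMaximal_comap (R := A)
      (M.comap (Algebra.TensorProduct.includeRight : C →ₐ[A] B ⊗[A] C).toRingHom)
      (h2 ▸ IsLocalRing.maximalIdeal.isMaximal A)
    rw [← IsLocalRing.eq_maximalIdeal h3] at hc
    exact hc
  -- a power of every element agrees with a pure tensor modulo all maximal ideals
  have key : ∀ z : B ⊗[A] C, ∃ N : ℕ, N ≠ 0 ∧
      ((∃ b, ∀ M : Ideal (B ⊗[A] C), M.IsMaximal → z ^ N - b ⊗ₜ[A] (1 : C) ∈ M) ∨
        (∃ c, ∀ M : Ideal (B ⊗[A] C), M.IsMaximal → z ^ N - (1 : B) ⊗ₜ[A] c ∈ M)) := by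
    intro z
    let Jac : Ideal (B ⊗[A] C) := (⊥ : Ideal _).jacobson
    have hJ : ∀ x, (∀ M : Ideal (B ⊗[A] C), M.IsMaximal → x ∈ M) → x ∈ Jac := fun x hx =>
      Submodule.mem_sInf.mpr fun M hM => hx M hM.2
    have hJ' : ∀ x ∈ Jac, ∀ M : Ideal (B ⊗[A] C), M.IsMaximal → x ∈ M := fun x hx M hM =>
      (Submodule.mem_sInf.mp hx) M ⟨bot_le, hM⟩
    have hq : q ≠ 0 := (expChar_pos kA q).ne'
    -- work in the quotient by the radical
    have hexp : ∀ x y : (B ⊗[A] C) ⧸ Jac, ∀ n : ℕ, (x + y) ^ q ^ n = x ^ q ^ n + y ^ q ^ n := by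
      intro x y n
      rcases expChar_is_prime_or_one kA q with hp | h1
      · have hzero : ((q : ℕ) : (B ⊗[A] C) ⧸ Jac) = 0 := by
          rw [← map_natCast (Ideal.Quotient.mk Jac), Ideal.Quotient.eq_zero_iff_mem]
          refine hJ _ fun M hM => ?_
          rw [← map_natCast (algebraMap A (B ⊗[A] C))]
          refine hA M hM _ ?_
          rw [← IsLocalRing.residue_eq_zero_iff, map_natCast]
          have aux : ∀ q' : ℕ, q'.Prime → ExpChar kA q' → CharP kA q' := by
            intro q' hp' he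
            cases he with
            | zero => exact absurd hp' Nat.not_prime_one
            | prime _ => assumption
          have : CharP kA q := aux q hp inferInstance
          exact CharP.cast_eq_zero kA q
        by_cases hs : Subsingleton ((B ⊗[A] C) ⧸ Jac)
        · exact Subsingleton.elim _ _
        · have : Fact q.Prime := ⟨hp⟩
          have : Nontrivial ((B ⊗[A] C) ⧸ Jac) := not_subsingleton_iff_nontrivial.mp hs
          have : CharP ((B ⊗[A] C) ⧸ Jac) q := (CharP.charP_iff_prime_eq_zero hp).mpr hzero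
          exact add_pow_char_pow ..
      · simp [h1]
    rcases h with hC1 | hB1
    · suffices h' : ∃ n : ℕ, ∃ b, Ideal.Quotient.mk Jac (z ^ q ^ n) = Ideal.Quotient.mk Jac (b ⊗ₜ[A] (1 : C)) by
        obtain ⟨n, b, hb⟩ := h'
        exact ⟨q ^ n, pow_ne_zero n hq, Or.inl ⟨b, hJ' _ (Ideal.Quotient.eq.mp hb)⟩⟩
      induction z using TensorProduct.induction_on with
      | zero => exact ⟨0, 0, by simp⟩
      | tmul b c =>
        obtain ⟨n, a, ha⟩ := IsPurelyInseparable.pow_mem kA q (IsLocalRing.residue C c)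
        obtain ⟨a, rfl⟩ := IsLocalRing.residue_surjective a
        refine ⟨n, algebraMap A B a * b ^ q ^ n, Ideal.Quotient.eq.mpr (hJ _ fun M hM => ?_)⟩
        have h1 : c ^ q ^ n - algebraMap A C a ∈ IsLocalRing.maximalIdeal C := by
          rw [← IsLocalRing.residue_eq_zero_iff, map_sub, map_pow, ← ha, sub_eq_zero]
          rfl
        have h2 := M.mul_mem_left ((b ^ q ^ n) ⊗ₜ[A] (1 : C)) (hC' M hM _ h1)
        rw [Algebra.TensorProduct.tmul_mul_tmul, mul_one, one_mul, TensorProduct.tmul_sub] at h2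
        rw [Algebra.TensorProduct.tmul_pow]
        convert h2 using 2
        rw [← Algebra.smul_def, Algebra.algebraMap_eq_smul_one, TensorProduct.tmul_smul,
          TensorProduct.smul_tmul']
      | add x y hx hy =>
        obtain ⟨⟨n₁, b₁, h1⟩, ⟨n₂, b₂, h2⟩⟩ := hx, hy
        refine ⟨n₁ + n₂, b₁ ^ q ^ n₂ + b₂ ^ q ^ n₁, ?_⟩
        rw [map_pow, map_add, hexp, TensorProduct.add_tmul, map_add]
        congr 1
        · rw [pow_add, pow_mul, ← map_pow, h1, ← map_pow, Algebra.TensorProduct.tmul_pow, one_pow]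
        · rw [pow_add, mul_comm, pow_mul, ← map_pow, h2, ← map_pow, Algebra.TensorProduct.tmul_pow, one_pow]
    · suffices h' : ∃ n : ℕ, ∃ c, Ideal.Quotient.mk Jac (z ^ q ^ n) = Ideal.Quotient.mk Jac ((1 : B) ⊗ₜ[A] c) by
        obtain ⟨n, c, hc⟩ := h'
        exact ⟨q ^ n, pow_ne_zero n hq, Or.inr ⟨c, hJ' _ (Ideal.Quotient.eq.mp hc)⟩⟩
      induction z using TensorProduct.induction_on with
      | zero => exact ⟨0, 0, by simp⟩
      | tmul b c =>
        obtain ⟨n, a, ha⟩ := IsPurelyInseparable.pow_mem kA q (IsLocalRing.residue B b)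
        obtain ⟨a, rfl⟩ := IsLocalRing.residue_surjective a
        refine ⟨n, algebraMap A C a * c ^ q ^ n, Ideal.Quotient.eq.mpr (hJ _ fun M hM => ?_)⟩
        have h1 : b ^ q ^ n - algebraMap A B a ∈ IsLocalRing.maximalIdeal B := by
          rw [← IsLocalRing.residue_eq_zero_iff, map_sub, map_pow, ← ha, sub_eq_zero]
          rfl
        have h2 := M.mul_mem_right ((1 : B) ⊗ₜ[A] (c ^ q ^ n)) (hB M hM _ h1)
        rw [Algebra.TensorProduct.tmul_mul_tmul, mul_one, one_mul, TensorProduct.sub_tmul] at h2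
        rw [Algebra.TensorProduct.tmul_pow]
        convert h2 using 2
        rw [← Algebra.smul_def, Algebra.algebraMap_eq_smul_one, TensorProduct.smul_tmul]
      | add x y hx hy =>
        obtain ⟨⟨n₁, c₁, h1⟩, ⟨n₂, c₂, h2⟩⟩ := hx, hy
        refine ⟨n₁ + n₂, c₁ ^ q ^ n₂ + c₂ ^ q ^ n₁, ?_⟩
        rw [map_pow, map_add, hexp, TensorProduct.tmul_add, map_add]
        congr 1
        · rw [pow_add, pow_mul, ← map_pow, h1, ← map_pow, Algebra.TensorProduct.tmul_pow, one_pow]
        · rw [pow_add, mul_comm, pow_mul, ← map_pow, h2, ← map_pow, Algebra.TensorProduct.tmul_pow, one_pow]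
  have huniq : ∀ M M' : Ideal (B ⊗[A] C), M.IsMaximal → M'.IsMaximal → M ≤ M' := by
    intro M M' hM hM' z hz
    obtain ⟨N, hN, ⟨b, hb⟩ | ⟨c, hc⟩⟩ := key z
    · refine hM'.isPrime.mem_of_pow_mem N ?_
      have h1 : b ⊗ₜ[A] (1 : C) ∈ M := by
        have := sub_mem (Ideal.pow_mem_of_mem _ hz N (Nat.pos_of_ne_zero hN)) (hb M hM)
        rwa [sub_sub_cancel] at this
      have h2 : b ∈ IsLocalRing.maximalIdeal B := by
        by_contra hu
        rw [IsLocalRing.mem_maximalIdeal, mem_nonunits_iff, not_not] at hu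
        exact hM.ne_top (Ideal.eq_top_of_isUnit_mem _ h1
          (hu.map (Algebra.TensorProduct.includeLeft : B →ₐ[A] B ⊗[A] C)))
      have := add_mem (hb M' hM') (hB M' hM' b h2)
      rwa [sub_add_cancel] at this
    · refine hM'.isPrime.mem_of_pow_mem N ?_
      have h1 : (1 : B) ⊗ₜ[A] c ∈ M := by
        have := sub_mem (Ideal.pow_mem_of_mem _ hz N (Nat.pos_of_ne_zero hN)) (hc M hM)
        rwa [sub_sub_cancel] at this
      have h2 : c ∈ IsLocalRing.maximalIdeal C := by
        by_contra hu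
        rw [IsLocalRing.mem_maximalIdeal, mem_nonunits_iff, not_not] at hu
        exact hM.ne_top (Ideal.eq_top_of_isUnit_mem _ h1
          (hu.map (Algebra.TensorProduct.includeRight : C →ₐ[A] B ⊗[A] C)))
      have := add_mem (hc M' hM') (hC' M' hM' c h2)
      rwa [sub_add_cancel] at this
  obtain ⟨M, hM⟩ := Ideal.exists_maximal (B ⊗[A] C)
  have hloc : IsLocalRing (B ⊗[A] C) := IsLocalRing.of_unique_max_ideal
    ⟨M, hM, fun M' hM' => le_antisymm (huniq M' M hM' hM) (huniq M M' hM hM')⟩
  refine ⟨hloc, ⟨fun b hb => ?_⟩, ⟨fun c hc => ?_⟩⟩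
  · by_contra hu
    exact hM.ne_top (Ideal.eq_top_of_isUnit_mem _ (hB M hM b hu) hb)
  · by_contra hu
    exact hM.ne_top (Ideal.eq_top_of_isUnit_mem _ (hC' M hM c hu) hc)


end Groth.Agent.S9404
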