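import Groth.Statements.S9406
import Groth.Agent.CAlg5.FlatDescent

set_option autoImplicit false
universe u
open CAlg

namespace Groth.Agent.S9406

/-- Regularity descends along faithfully flat ring maps: whenever S is a faithfully flat R-algebra whose
underlying ring is regular, the base ring R is regular as well. -/
theorem result (R : Type u) [CommRing R] (S : Type u) [CommRing S]
    [Algebra R S] [Module.FaithfullyFlat R S] [IsRegularRing S] : IsRegularRing R := by
  exact Groth.Agent.CAlg5.isRegularRing_of_faithfullyFlat R S


end Groth.Agent.S9406
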