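import Groth.Statements.S9408
import Groth.Agent.CAlg5.GeomRegular

set_option autoImplicit false
universe u
open CAlg

namespace Groth.Agent.S9408

/-- Over a field k, geometric regularity ascends along smooth maps of k-algebras: for A Noetherian and
geometrically regular over k and B smooth over A, B is geometrically regular over k. -/
theorem result (k : Type u) [Field k] (A : Type u) [CommRing A]
    [Algebra k A] [IsNoetherianRing A] (B : Type u) [CommRing B] [Algebra k B] [Algebra A B]
    [IsScalarTower k A B] [Algebra.Smooth A B] (hA : CAlg.IsGeometricallyRegular k A) :
    CAlg.IsGeometricallyRegular k B := by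
  exact Groth.Agent.CAlg5.isGeometricallyRegular_of_smooth k A B hA


end Groth.Agent.S9408
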