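import Groth.Statements.S9411
import Groth.Agent.VarNormal.Algebra
import Mathlib.RingTheory.Spectrum.Prime.Homeomorph
-- import your own Groth.Agent.* helpers here

set_option autoImplicit false
universe u
open EGA4

namespace Groth.Agent.S9411

open scoped TensorProduct

theorem isField_tensor (k k' M : Type u) [Field k] [Field k'] [Algebra k k'] [Algebra.IsSeparable k k']
    [Field M] [Algebra k M] [IsPurelyInseparable k M] : IsField (k' ⊗[k] M) := by
  have : Algebra.FormallyEtale k k' := Algebra.FormallyEtale.of_isSeparable k k'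
  have : Algebra.IsGeometricallyReduced k k' :=
    Groth.Agent.Sep12.formallySmooth_iff_isGeometricallyReduced.1 inferInstance
  have : IsReduced (k' ⊗[k] M) :=
    have : IsReduced (M ⊗[k] k') := inferInstance
    Groth.Agent.FBase64.isReduced_tensor_comm
  have hh := PrimeSpectrum.isHomeomorph_comap_of_isPurelyInseparable k M k'
  have : Subsingleton (PrimeSpectrum (k' ⊗[k] M)) := hh.bijective.injective.subsingleton
  have : Nontrivial (k' ⊗[k] M) :=
    (Algebra.TensorProduct.includeLeft_injective (S := k) (A := k') (algebraMap k M).injective).nontrivial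
  obtain ⟨P, hP⟩ := Ideal.exists_maximal (k' ⊗[k] M)
  have hbot : P = ⊥ := by
    refine le_bot_iff.1 (le_of_le_of_eq ?_ (nilradical_eq_zero (k' ⊗[k] M)))
    rw [nilradical_eq_sInf]
    exact le_sInf fun Q hQ => le_of_eq
      (congrArg PrimeSpectrum.asIdeal (Subsingleton.elim (⟨P, hP.isPrime⟩ : PrimeSpectrum _) ⟨Q, hQ⟩))
  subst hbot
  by_contra h
  obtain ⟨I, hI₁, hI₂⟩ := Ring.not_isField_iff_exists_ideal_bot_lt_and_lt_top.1 h
  exact hI₂.ne ((Ideal.isMaximal_def.1 hP).2 I hI₁)

theorem exists_field_model (k k' M : Type u) [Field k] [Field k'] [Algebra k k'] [Algebra.IsSeparable k k']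
    [Field M] [Algebra k M] [IsPurelyInseparable k M] :
    ∃ (F : Type u) (_ : Field F) (_ : Algebra k' F), Nonempty ((k' ⊗[k] M) ≃ₐ[k'] F) := by
  have hF := isField_tensor k k' M
  have : IsDomain (k' ⊗[k] M) := hF.isDomain
  have hb := IsField.localization_map_bijective (Rₘ := FractionRing (k' ⊗[k] M))
    (M := nonZeroDivisors (k' ⊗[k] M)) (fun h => nonZeroDivisors.ne_zero h rfl) hF
  exact ⟨FractionRing (k' ⊗[k] M), inferInstance, inferInstance,
    ⟨AlgEquiv.ofBijective (IsScalarTower.toAlgHom k' (k' ⊗[k] M) (FractionRing (k' ⊗[k] M))) hb⟩⟩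

/-- Let k'/k be a separable algebraic field extension and A a k'-algebra. Geometric normality of A over
k' is equivalent to geometric normality of A over k. -/
theorem result (k : Type u) [Field k] (k' : Type u) [Field k']
    [Algebra k k'] [Algebra.IsSeparable k k'] (A : Type u) [CommRing A] [Algebra k' A]
    [Algebra k A] [IsScalarTower k k' A] :
    EGA4.IsGeomNormal k A ↔ EGA4.IsGeomNormal k' A := by
  constructor
  · intro h L _ _ hL
    let k₂ := perfectClosure k (AlgebraicClosure k)
    obtain ⟨F, _, _, ⟨e⟩⟩ := exists_field_model k k' k₂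
    let ι : k₂ →+* F := (e.toRingEquiv.toRingHom.comp
      (Algebra.TensorProduct.includeRight : k₂ →ₐ[k] k' ⊗[k] k₂).toRingHom)
    let _ : Algebra k₂ F := ι.toAlgebra
    have hint : ι.IsIntegral := by
      intro x
      induction e.surjective x using Exists.rec with
      | _ y hy =>
        subst hy
        induction y with
        | zero => rw [map_zero]; exact isIntegral_zero (R := k₂) (B := F)
        | add a b ha hb => rw [map_add]; exact IsIntegral.add (R := k₂) (A := F) ha hb
        | tmul a b =>
          rw [show a ⊗ₜ[k] b = (a ⊗ₜ[k] (1 : k₂)) * ((1 : k') ⊗ₜ[k] b) by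
            rw [Algebra.TensorProduct.tmul_mul_tmul, mul_one, one_mul], map_mul]
          refine IsIntegral.mul (R := k₂) (A := F) ?_ (isIntegral_algebraMap (R := k₂) (A := F) (x := b))
          obtain ⟨P, hP, hP'⟩ := Algebra.IsIntegral.isIntegral (R := k) a
          refine ⟨P.map (algebraMap k k₂), hP.map _, ?_⟩
          have h1 : (ι.comp (algebraMap k k₂)) = (e.toRingEquiv.toRingHom.comp
              (Algebra.TensorProduct.includeLeftRingHom : k' →+* k' ⊗[k] k₂)).comp (algebraMap k k') := by
            refine RingHom.ext fun c => congrArg e ?_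
            show (1 : k') ⊗ₜ[k] algebraMap k k₂ c = algebraMap k k' c ⊗ₜ[k] (1 : k₂)
            rw [Algebra.algebraMap_eq_smul_one, Algebra.algebraMap_eq_smul_one, TensorProduct.smul_tmul]
          rw [Polynomial.eval₂_map, RingHom.algebraMap_toAlgebra, h1]
          exact (Polynomial.hom_eval₂ P (algebraMap k k') _ a).symm.trans (by rw [hP', map_zero])
    have : Algebra.IsIntegral k₂ F := ⟨hint⟩
    have : Algebra.IsAlgebraic k₂ F := Algebra.IsIntegral.isAlgebraic
    have : PerfectField F := Algebra.IsAlgebraic.perfectField (K := k₂)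
    have h0 : EGA4.IsNormalRing (A ⊗[k'] F) :=
      EGA4H10.isNormalRing_of_ringEquiv
        ((Algebra.TensorProduct.cancelBaseChange k k' k' A k₂).symm.toRingEquiv.trans
          (Algebra.TensorProduct.congr (AlgEquiv.refl (R := k') (A₁ := A)) e).toRingEquiv)
        (VarNormal.isNormalRing_tensor_purelyInseparable k A
          (fun M _ _ hf _ => EGA4H10.isNormalRing_of_ringEquiv
            (Algebra.TensorProduct.comm k M A).toRingEquiv (h M hf)) k₂)
    let Ω := AlgebraicClosure L
    have : Algebra.IsIntegral k' F := Algebra.IsIntegral.of_surjective e.toAlgHom e.surjective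
    have : Algebra.IsAlgebraic k' F := Algebra.IsIntegral.isAlgebraic
    let σ : F →ₐ[k'] Ω := IsAlgClosed.lift
    let _ : Algebra F Ω := σ.toRingHom.toAlgebra
    have : IsScalarTower k' F Ω := .of_algebraMap_eq fun x => (σ.commutes x).symm
    exact VarNormal.isNormalRing_comm k' A L (VarNormal.isNormalRing_tensor_descend k' A L Ω
      (VarNormal.isNormalRing_tensor_of_perfectClosure k' A F Ω h0))
  · intro h M _ _ hM
    refine VarNormal.isNormalRing_left_of_forall k A (fun M₀ _ _ _ _ => ?_) M
    obtain ⟨F, _, _, ⟨e⟩⟩ := exists_field_model k k' M₀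
    exact EGA4H10.isNormalRing_of_ringEquiv
      ((((Algebra.TensorProduct.comm k' F A).toRingEquiv.trans
        (Algebra.TensorProduct.congr (AlgEquiv.refl (R := k') (A₁ := A)) e.symm).toRingEquiv).trans
        (Algebra.TensorProduct.cancelBaseChange k k' k' A M₀).toRingEquiv).trans
        (Algebra.TensorProduct.comm k A M₀).toRingEquiv)
      (VarNormal.isNormalRing_of_isGeomNormal k' A h F)

end Groth.Agent.S9411
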