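import Groth.Statements.S9414
import Mathlib.RingTheory.Smooth.Kaehler
import Mathlib.RingTheory.Jacobson.Ring
import Mathlib.RingTheory.Etale.Basic

set_option autoImplicit false
universe u
open CAlg

namespace Groth.Agent.S9414

open TensorProduct in
/-- For an algebraically closed field k, a finite type k-algebra S and a maximal ideal m of S with
residue field κ = S/m, the κ-vector spaces κ ⊗_S Ω_{S/k} and m/m² have the same dimension. -/
theorem result (k : Type u) [Field k]
    [IsAlgClosed k] (S : Type u) [CommRing S] [Algebra k S] [Algebra.FiniteType k S]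
    (m : Ideal S) [m.IsMaximal] :
    Module.finrank (S ⧸ m) ((S ⧸ m) ⊗[S] Ω[S⁄k]) = Module.finrank (S ⧸ m) m.Cotangent := by
  let κ := S ⧸ m
  let _ : Field κ := Ideal.Quotient.field m
  have : Module.Finite k κ := finite_of_finite_type_of_isJacobsonRing k κ
  have hbij : Function.Bijective (algebraMap k κ) :=
    IsAlgClosed.algebraMap_bijective_of_isIntegral (k := k) (K := κ)
  let e : k ≃ₐ[k] κ := AlgEquiv.ofBijective (Algebra.ofId k κ) hbij
  have : Algebra.FormallyEtale k κ := Algebra.FormallyEtale.of_equiv e
  have hsurj : Function.Surjective (algebraMap S κ) := Ideal.Quotient.mk_surjective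
  have hker : RingHom.ker (algebraMap S κ) = m := Ideal.mk_ker
  -- a section of `S/m² → κ`
  let σ : κ →ₐ[k] S ⧸ RingHom.ker (algebraMap S κ) ^ 2 :=
    (Algebra.ofId k _).comp e.symm.toAlgHom
  have hσ : (IsScalarTower.toAlgHom k S κ).kerSquareLift.comp σ = AlgHom.id k κ := by
    refine AlgHom.ext fun z => ?_
    obtain ⟨c, rfl⟩ := hbij.2 z
    rw [AlgHom.commutes, AlgHom.commutes]
  obtain ⟨l, hl⟩ := (retractionKerCotangentToTensorEquivSection (R := k) (P := S) (S := κ) hsurj).symm ⟨σ, hσ⟩
  have hinj : Function.Injective (KaehlerDifferential.kerCotangentToTensor k S κ) :=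
    Function.LeftInverse.injective (g := l) fun z => DFunLike.congr_fun hl z
  have hsub : Subsingleton Ω[κ⁄k] := Algebra.FormallyUnramified.subsingleton_kaehlerDifferential
  have hsurj' : Function.Surjective (KaehlerDifferential.kerCotangentToTensor k S κ) := fun z =>
    (KaehlerDifferential.exact_kerCotangentToTensor_mapBaseChange k S κ hsurj z).mp (Subsingleton.elim _ _)
  let E := LinearEquiv.ofBijective _ (⟨hinj, hsurj'⟩ : Function.Bijective (KaehlerDifferential.kerCotangentToTensor k S κ))
  -- transport along `ker (S → κ) = m`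
  have key : ∀ J : Ideal S, J = m → Nonempty (J.Cotangent ≃ₗ[S] m.Cotangent) := by
    rintro J rfl; exact ⟨LinearEquiv.refl _ _⟩
  obtain ⟨F⟩ := key _ hker
  exact LinearEquiv.finrank_eq ((E.symm.trans F).extendScalarsOfSurjective Ideal.Quotient.mk_surjective)


end Groth.Agent.S9414
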