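import Groth.Statements.S9416
import Mathlib

set_option autoImplicit false
universe u
open CAlg

namespace Groth.Agent.S9416

/-- Suppose R is a normal Noetherian domain whose field of fractions K has prime characteristic p > 0, D
a derivation of K preserving R, and a ∈ K with D(a) ≠ 0. For a field L generated over K by an
element x with x^p = a, the integral closure of R in L is module-finite over R. -/
theorem result (R : Type u) [CommRing R]
    [IsDomain R] [IsNoetherianRing R] [IsIntegrallyClosed R] (K : Type u) [Field K] [Algebra R K]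
    [IsFractionRing R K] (p : ℕ) [Fact p.Prime] [CharP K p] (D : Derivation ℤ K K)
    (hD : ∀ r : R, ∃ s : R, D (algebraMap R K r) = algebraMap R K s) (a : K) (ha : D a ≠ 0)
    (L : Type u) [Field L] [Algebra K L] [Algebra R L] [IsScalarTower R K L] (x : L)
    (hx : x ^ p = algebraMap K L a) (hgen : IntermediateField.adjoin K {x} = ⊤) :
    Module.Finite R (integralClosure R L) := by
  classical
  have hp : p.Prime := Fact.out
  -- scale `a` into `R`
  obtain ⟨a', b, hb, hab⟩ := IsFractionRing.div_surjective (A := R) a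
  have hb0 : algebraMap R K b ≠ 0 := IsFractionRing.to_map_ne_zero_of_mem_nonZeroDivisors hb
  set β := algebraMap R K b
  have hDpow : ∀ c : K, D (c ^ p) = 0 := fun c => by
    rw [Derivation.leibniz_pow, nsmul_eq_mul, CharP.cast_eq_zero K p, zero_mul]
  let a1 : R := a' * b ^ (p - 1)
  have ha1 : algebraMap R K a1 = β ^ p * a := by
    rw [map_mul, map_pow, ← hab, show p = p - 1 + 1 from (Nat.sub_add_cancel hp.one_le).symm, pow_succ,
      Nat.add_sub_cancel]
    field_simp
    ring
  have hDa1 : D (algebraMap R K a1) ≠ 0 := by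
    rw [ha1, Derivation.leibniz, hDpow, smul_zero, add_zero, smul_eq_mul]
    exact mul_ne_zero (pow_ne_zero _ hb0) ha
  set x1 := algebraMap K L β * x
  have hx1 : x1 ^ p = algebraMap K L (algebraMap R K a1) := by
    rw [mul_pow, hx, ha1, map_mul, map_pow]
  set α := algebraMap R K a1 with hα
  obtain ⟨δ, hδ⟩ := hD a1
  set Δ := D α with hΔ
  have hK : CharP L p := charP_of_injective_algebraMap (algebraMap K L).injective p
  -- membership in `R`
  let M : Subring K := (algebraMap R K).range
  have hDM : ∀ z ∈ M, D z ∈ M := by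
    rintro _ ⟨r, rfl⟩
    obtain ⟨s, hs⟩ := hD r
    exact ⟨s, hs.symm⟩
  have hαM : α ∈ M := ⟨a1, rfl⟩
  have hΔM : Δ ∈ M := hDM _ hαM
  let N := 2 * (p - 1)
  have hrep : ∀ f : L, ∃ c : Fin p → K, f = ∑ i, algebraMap K L (c i) * x1 ^ (i : ℕ) := by
    intro f
    have hi : IsIntegral K x := ⟨Polynomial.X ^ p - Polynomial.C a,
      Polynomial.monic_X_pow_sub_C _ hp.ne_zero, by simp [hx]⟩
    have hf : f ∈ Algebra.adjoin K {x} := by
      rw [← IntermediateField.adjoin_simple_toSubalgebra_of_isAlgebraic hi.isAlgebraic, hgen]; trivial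
    rw [Algebra.adjoin_singleton_eq_range_aeval] at hf
    obtain ⟨P, rfl⟩ := hf
    let m := Polynomial.X ^ p - Polynomial.C a
    have hm : m.Monic := Polynomial.monic_X_pow_sub_C _ hp.ne_zero
    have hev : Polynomial.aeval x P = Polynomial.aeval x (P %ₘ m) := by
      conv_lhs => rw [← Polynomial.modByMonic_add_div P m]
      rw [map_add, map_mul, show Polynomial.aeval x m = 0 by simp [m, hx], zero_mul, add_zero]
    have hdeg : (P %ₘ m).natDegree < p := by
      have hm1 : m.natDegree = p := Polynomial.natDegree_X_pow_sub_C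
      have := Polynomial.natDegree_modByMonic_lt P hm (fun h => by rw [h, Polynomial.natDegree_one] at hm1; exact hp.ne_zero hm1.symm)
      omega
    refine ⟨fun i => (P %ₘ m).coeff i * β⁻¹ ^ (i : ℕ), ?_⟩
    show Polynomial.aeval x P = _
    rw [hev, Polynomial.aeval_eq_sum_range' hdeg, Finset.sum_range]
    refine Finset.sum_congr rfl fun i _ => ?_
    rw [Algebra.smul_def, map_mul, map_pow, map_inv₀, mul_pow, inv_pow, mul_assoc, inv_mul_cancel_left₀]
    exact pow_ne_zero _ ((map_ne_zero _).mpr hb0)
  have hmain : ∀ f : L, IsIntegral R f → ∀ c : Fin p → K, f = ∑ i, algebraMap K L (c i) * x1 ^ (i : ℕ) →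
      ∀ i, c i * Δ ^ N ∈ M := by
    intro f hf c hc
    have hfp : f ^ p = algebraMap K L (∑ i, c i ^ p * α ^ (i : ℕ)) := by
      rw [hc, sum_pow_char p, map_sum]
      refine Finset.sum_congr rfl fun i _ => ?_
      rw [mul_pow, ← pow_mul, mul_comm (i : ℕ) p, pow_mul, hx1, map_mul, map_pow, map_pow]
    let g : ℕ → K := fun j => ∑ i : Fin p, ((Nat.descFactorial (i : ℕ) j : ℕ) : K) * c i ^ p * α ^ ((i : ℕ) - j)
    have hg0 : g 0 ∈ M := by
      have h1 : IsIntegral R (∑ i, c i ^ p * α ^ (i : ℕ)) := by
        rw [← isIntegral_algHom_iff (IsScalarTower.toAlgHom R K L) (algebraMap K L).injective]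
        show IsIntegral R (algebraMap K L _)
        rw [← hfp]; exact hf.pow p
      obtain ⟨r, hr⟩ := IsIntegrallyClosed.isIntegral_iff.mp h1
      refine ⟨r, hr.trans (Finset.sum_congr rfl fun i _ => ?_)⟩
      simp
    have hDg : ∀ j, D (g j) = g (j + 1) * Δ := by
      intro j
      simp only [g, map_sum, Finset.sum_mul]
      refine Finset.sum_congr rfl fun i _ => ?_
      rw [Derivation.leibniz, Derivation.leibniz, hDpow, Derivation.map_natCast, smul_zero, smul_zero,
        add_zero, smul_zero, add_zero, Derivation.leibniz_pow, nsmul_eq_mul, smul_eq_mul, smul_eq_mul,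
        Nat.descFactorial_succ, Nat.sub_sub]
      push_cast
      ring
    have hgM : ∀ j, g j * Δ ^ (2 * j) ∈ M := by
      intro j
      induction j with
      | zero => simpa using hg0
      | succ j ih =>
        have h1 := M.mul_mem (hDM _ ih) hΔM
        rw [Derivation.leibniz, hDg, Derivation.leibniz_pow, nsmul_eq_mul, smul_eq_mul, smul_eq_mul, smul_eq_mul] at h1
        have h2 : g j * ((2 * j : ℕ) * (Δ ^ (2 * j - 1) * D Δ)) * Δ = (g j * Δ ^ (2 * j)) * ((2 * j : ℕ) * D Δ) := by
          rcases Nat.eq_zero_or_pos j with rfl | hj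
          · simp
          · conv_rhs => rw [show 2 * j = 2 * j - 1 + 1 by omega, pow_succ]
            rw [show 2 * j - 1 + 1 = 2 * j by omega]
            ring
        have h3 : g j * Δ ^ (2 * j) * ((2 * j : ℕ) * D Δ) ∈ M :=
          M.mul_mem ih (M.mul_mem (natCast_mem M _) (hDM _ hΔM))
        have h4 := M.sub_mem h1 h3
        convert h4 using 1
        rw [← h2]
        ring
    have hdown : ∀ k, ∀ i : Fin p, p ≤ (i : ℕ) + k → c i ^ p * Δ ^ N ∈ M := by
      intro k
      induction k with
      | zero => intro i hi; have := i.2; omega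
      | succ k ih =>
        intro i hi
        by_cases hik : p ≤ (i : ℕ) + k
        · exact ih i hik
        have h1 : g i * Δ ^ N ∈ M := by
          have hN : N = 2 * (i : ℕ) + (N - 2 * i) := by have := i.2; omega
          rw [hN, pow_add, ← mul_assoc]
          exact M.mul_mem (hgM _) (pow_mem hΔM _)
        have hrest : ∀ l ∈ (Finset.univ : Finset (Fin p)).erase i,
            ((Nat.descFactorial (l : ℕ) i : ℕ) : K) * c l ^ p * α ^ ((l : ℕ) - i) * Δ ^ N ∈ M := by
          intro l hl
          rcases Nat.lt_or_ge (l : ℕ) i with hli | hli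
          · rw [Nat.descFactorial_eq_zero_iff_lt.mpr hli, Nat.cast_zero, zero_mul, zero_mul, zero_mul]
            exact M.zero_mem
          · have hne : (l : ℕ) ≠ i := fun h => (Finset.ne_of_mem_erase hl) (Fin.ext h)
            have := M.mul_mem (M.mul_mem (natCast_mem M (Nat.descFactorial (l : ℕ) i)) (ih l (by omega)))
              (pow_mem hαM ((l : ℕ) - i))
            convert this using 1
            ring
        have h2 := M.sub_mem h1 (M.sum_mem hrest)
        have h3 : g i * Δ ^ N - ∑ l ∈ (Finset.univ : Finset (Fin p)).erase i,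
            ((Nat.descFactorial (l : ℕ) i : ℕ) : K) * c l ^ p * α ^ ((l : ℕ) - i) * Δ ^ N =
            ((Nat.factorial i : ℕ) : K) * (c i ^ p * Δ ^ N) := by
          simp only [g, Finset.sum_mul]
          rw [← Finset.add_sum_erase _ _ (Finset.mem_univ i), add_sub_cancel_right, Nat.descFactorial_self,
            Nat.sub_self, pow_zero, mul_one, mul_assoc]
        rw [h3] at h2
        have hco : Nat.Coprime p (Nat.factorial i) :=
          hp.coprime_factorial_of_lt i.2
        obtain ⟨u, v, huv⟩ : ∃ u v : ℤ, u * (Nat.factorial i : ℤ) + v * (p : ℤ) = 1 :=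
          Int.isCoprime_iff_gcd_eq_one.mpr (by rw [Int.gcd_natCast_natCast]; exact hco.symm)
        have h5 := M.mul_mem (intCast_mem M u) h2
        have h6 : (u : K) * ((Nat.factorial i : ℕ) : K) = 1 := by
          have := congrArg (fun z : ℤ => (z : K)) huv
          simpa [CharP.cast_eq_zero K p] using this
        rwa [← mul_assoc, h6, one_mul] at h5
    intro i
    have h1 : (c i * Δ ^ N) ^ p ∈ M := by
      rw [mul_pow, show p = p - 1 + 1 from (Nat.sub_add_cancel hp.one_le).symm, pow_succ (Δ ^ N),
        show p - 1 + 1 = p from Nat.sub_add_cancel hp.one_le]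
      have := M.mul_mem (hdown p i (by omega)) (pow_mem (pow_mem hΔM N) (p - 1))
      convert this using 1
      ring
    obtain ⟨r, hr⟩ := h1
    have h2 : IsIntegral R (c i * Δ ^ N) := IsIntegral.of_pow hp.pos (hr ▸ isIntegral_algebraMap)
    obtain ⟨s, hs⟩ := IsIntegrallyClosed.isIntegral_iff.mp h2
    exact ⟨s, hs⟩
  -- conclude
  let w := algebraMap K L ((Δ ^ N)⁻¹)
  let S : Submodule R L := Submodule.span R (Set.range fun i : Fin p => w * x1 ^ (i : ℕ))
  have hle : Subalgebra.toSubmodule (integralClosure R L) ≤ S := by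
    intro f hf
    obtain ⟨c, hc⟩ := hrep f
    rw [hc]
    refine Submodule.sum_mem _ fun i _ => ?_
    obtain ⟨r, hr⟩ := hmain f hf c hc i
    have h1 : algebraMap K L (c i) * x1 ^ (i : ℕ) = r • (w * x1 ^ (i : ℕ)) := by
      rw [Algebra.smul_def, IsScalarTower.algebraMap_apply R K L, hr, ← mul_assoc, ← map_mul, mul_assoc (c i),
        mul_inv_cancel₀ (pow_ne_zero _ hDa1), mul_one]
    rw [h1]
    exact Submodule.smul_mem _ _ (Submodule.subset_span ⟨i, rfl⟩)
  have : Module.Finite R S := Module.Finite.span_of_finite R (Set.finite_range _)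
  exact Module.Finite.of_injective (Submodule.inclusion hle) (Submodule.inclusion_injective hle)


end Groth.Agent.S9416
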