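import Groth.Statements.S9425

set_option autoImplicit false
universe u
open CAlg

namespace Groth.Agent.S9425

/-- A directed colimit of formally étale R-algebras is formally étale over R. The colimit is encoded by
compatible R-algebra maps S_i → S which are jointly surjective and whose kernels die further along
the system. -/
theorem result {ι : Type u} [Preorder ι] [IsDirected ι (· ≤ ·)] [Nonempty ι]
    (R : Type u) [CommRing R] (G : ι → Type u) [∀ i, CommRing (G i)] [∀ i, Algebra R (G i)]
    (f : ∀ i j, i ≤ j → (G i →ₐ[R] G j)) (S : Type u) [CommRing S] [Algebra R S]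
    (g : ∀ i, G i →ₐ[R] S) (hg : ∀ i j (h : i ≤ j), (g j).comp (f i j h) = g i)
    (hsurj : ∀ s : S, ∃ i, ∃ x : G i, g i x = s)
    (hker : ∀ i (x : G i), g i x = 0 → ∃ j, ∃ h : i ≤ j, f i j h x = 0)
    (h : ∀ i, Algebra.FormallyEtale R (G i)) : Algebra.FormallyEtale R S := by
  refine Algebra.FormallyEtale.iff_comp_bijective.mpr fun B _ _ I hI => ⟨fun φ ψ e => ?_, fun χ => ?_⟩
  · ext s
    obtain ⟨i, x, rfl⟩ := hsurj s
    have := h i
    exact DFunLike.congr_fun ((Algebra.FormallyEtale.comp_bijective R (G i) I hI).1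
      (a₁ := φ.comp (g i)) (a₂ := ψ.comp (g i))
      (show (Ideal.Quotient.mkₐ R I).comp (φ.comp (g i)) = (Ideal.Quotient.mkₐ R I).comp (ψ.comp (g i)) by
        rw [← AlgHom.comp_assoc, ← AlgHom.comp_assoc]; exact congrArg (AlgHom.comp · (g i)) e)) x
  · choose ξ hξ using fun i => (h i |> fun (_ : Algebra.FormallyEtale R (G i)) =>
      (Algebra.FormallyEtale.comp_bijective R (G i) I hI).2 (χ.comp (g i)))
    have hcompat : ∀ i j (hij : i ≤ j), (ξ j).comp (f i j hij) = ξ i := fun i j hij => by
      have := h i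
      refine (Algebra.FormallyEtale.comp_bijective R (G i) I hI).1 ?_
      show (Ideal.Quotient.mkₐ R I).comp ((ξ j).comp (f i j hij)) = (Ideal.Quotient.mkₐ R I).comp (ξ i)
      rw [← AlgHom.comp_assoc]
      have e1 : (Ideal.Quotient.mkₐ R I).comp (ξ j) = χ.comp (g j) := hξ j
      have e2 : (Ideal.Quotient.mkₐ R I).comp (ξ i) = χ.comp (g i) := hξ i
      rw [e1, e2, AlgHom.comp_assoc, hg i j hij]
    choose I₀ X₀ hX₀ using hsurj
    have hwd : ∀ i (x : G i), ξ (I₀ (g i x)) (X₀ (g i x)) = ξ i x := by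
      intro i x
      obtain ⟨l, h1, h2⟩ := exists_ge_ge (I₀ (g i x)) i
      rw [← hcompat _ l h1, ← hcompat i l h2, AlgHom.comp_apply, AlgHom.comp_apply]
      have hz : g l (f _ l h1 (X₀ (g i x)) - f i l h2 x) = 0 := by
        rw [map_sub, ← AlgHom.comp_apply, ← AlgHom.comp_apply, hg, hg, hX₀, sub_self]
      obtain ⟨m, hm, hm0⟩ := hker l _ hz
      rw [← sub_eq_zero, ← map_sub, ← hcompat l m hm, AlgHom.comp_apply, hm0, map_zero]
    let F : S → B := fun s => ξ (I₀ s) (X₀ s)
    have hF : ∀ i x, F (g i x) = ξ i x := hwd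
    have hpair : ∀ a b : S, ∃ i x y, g i x = a ∧ g i y = b := fun a b => by
      obtain ⟨l, h1, h2⟩ := exists_ge_ge (I₀ a) (I₀ b)
      exact ⟨l, f _ l h1 (X₀ a), f _ l h2 (X₀ b), by rw [← AlgHom.comp_apply, hg, hX₀],
        by rw [← AlgHom.comp_apply, hg, hX₀]⟩
    obtain ⟨i₀⟩ := ‹Nonempty ι›
    refine ⟨{ toFun := F
              map_one' := by rw [← map_one (g i₀), hF, map_one]
              map_zero' := by rw [← map_zero (g i₀), hF, map_zero]
              map_mul' := fun a b => by
                obtain ⟨i, x, y, rfl, rfl⟩ := hpair a b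
                rw [← map_mul, hF, hF, hF, map_mul]
              map_add' := fun a b => by
                obtain ⟨i, x, y, rfl, rfl⟩ := hpair a b
                rw [← map_add, hF, hF, hF, map_add]
              commutes' := fun r => by
                show F (algebraMap R S r) = _
                rw [← (g i₀).commutes, hF, AlgHom.commutes] }, ?_⟩
    ext s
    obtain ⟨i, x, hx⟩ : ∃ i x, g i x = s := ⟨I₀ s, X₀ s, hX₀ s⟩
    subst hx
    show Ideal.Quotient.mkₐ R I (F (g i x)) = χ (g i x)
    rw [hF]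
    exact DFunLike.congr_fun (hξ i) x


end Groth.Agent.S9425
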