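import Groth.Statements.S9428
import Mathlib.RingTheory.Etale.Basic

set_option autoImplicit false
universe u
open CAlg

namespace Groth.Agent.S9428

/-- If R → S is formally étale and J ⊆ S is an ideal with R → S/J surjective, I ⊆ R its kernel (the
preimage of J), then R/I^n → S/J^n is bijective for all n. (The published statement adds that the
associated graded rings are then isomorphic, which follows from these bijections.) -/
theorem result (R : Type u) [CommRing R] (S : Type u)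
    [CommRing S] [Algebra R S] [Algebra.FormallyEtale R S] (J : Ideal S)
    (hJ : Function.Surjective (algebraMap R (S ⧸ J))) (n : ℕ) :
    Function.Bijective (Ideal.quotientMap (J ^ n) (algebraMap R S)
      (le_of_le_of_eq (Ideal.le_comap_pow (algebraMap R S) n) rfl :
        (J.comap (algebraMap R S)) ^ n ≤ (J ^ n).comap (algebraMap R S))) := by
  set I := J.comap (algebraMap R S) with hI
  let e0 : R ⧸ I →ₐ[R] S ⧸ J := Ideal.Quotient.liftₐ I (Algebra.ofId R (S ⧸ J)) fun r hr => by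
    exact (Ideal.Quotient.eq_zero_iff_mem (I := J)).mpr hr
  have he0 : Function.Bijective e0 := by
    constructor
    · refine (injective_iff_map_eq_zero _).mpr fun z hz => ?_
      obtain ⟨r, rfl⟩ := Ideal.Quotient.mk_surjective z
      exact Ideal.Quotient.eq_zero_iff_mem.mpr ((Ideal.Quotient.eq_zero_iff_mem (I := J)).mp hz)
    · intro z
      obtain ⟨r, rfl⟩ := hJ z
      exact ⟨Ideal.Quotient.mk I r, rfl⟩
  let e := AlgEquiv.ofBijective e0 he0
  rcases Nat.eq_zero_or_pos n with rfl | hn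
  · have : Subsingleton (R ⧸ I ^ 0) := Ideal.Quotient.subsingleton_iff.mpr (by simp)
    have : Subsingleton (S ⧸ J ^ 0) := Ideal.Quotient.subsingleton_iff.mpr (by simp)
    exact ⟨fun a b _ => Subsingleton.elim a b, fun b => ⟨0, Subsingleton.elim _ _⟩⟩
  let q : R ⧸ I ^ n →ₐ[R] R ⧸ I := Ideal.Quotient.factorₐ R (Ideal.pow_le_self hn.ne')
  have hq : Function.Surjective q := fun z => by
    obtain ⟨r, rfl⟩ := Ideal.Quotient.mk_surjective z
    exact ⟨Ideal.Quotient.mk _ r, rfl⟩
  have hqn : IsNilpotent (RingHom.ker (q : R ⧸ I ^ n →+* R ⧸ I)) := by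
    refine ⟨n, le_bot_iff.mp ?_⟩
    have hle : RingHom.ker (q : R ⧸ I ^ n →+* R ⧸ I) ≤ I.map (Ideal.Quotient.mk (I ^ n)) := fun z hz => by
      obtain ⟨r, rfl⟩ := Ideal.Quotient.mk_surjective z
      exact Ideal.mem_map_of_mem _ (Ideal.Quotient.eq_zero_iff_mem.mp hz)
    refine (Ideal.pow_right_mono hle n).trans ?_
    rw [← Ideal.map_pow, Ideal.map_quotient_self]
  let f0 : S →ₐ[R] R ⧸ I := e.symm.toAlgHom.comp (Ideal.Quotient.mkₐ R J)
  let ψ := Algebra.FormallySmooth.liftOfSurjective f0 q hq hqn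
  have hψ : ∀ s, q (ψ s) = f0 s := fun s =>
    DFunLike.congr_fun (Algebra.FormallySmooth.comp_liftOfSurjective f0 q hq hqn) s
  have hψJ : J ≤ Ideal.comap ψ.toRingHom (I.map (Ideal.Quotient.mk (I ^ n))) := fun x hx => by
    obtain ⟨r, hr⟩ := Ideal.Quotient.mk_surjective (ψ x)
    show ψ x ∈ I.map (Ideal.Quotient.mk (I ^ n))
    rw [← hr]
    refine Ideal.mem_map_of_mem _ (Ideal.Quotient.eq_zero_iff_mem.mp ?_)
    have h1 : q (ψ x) = 0 := by
      rw [hψ]
      show e.symm (Ideal.Quotient.mk J x) = 0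
      rw [Ideal.Quotient.eq_zero_iff_mem.mpr hx, map_zero]
    rw [← hr] at h1
    exact h1
  have hψn : J ^ n ≤ RingHom.ker ψ := fun x hx => by
    have h1 : x ∈ Ideal.comap ψ.toRingHom (I.map (Ideal.Quotient.mk (I ^ n)) ^ n) :=
      Ideal.le_comap_pow ψ.toRingHom n (Ideal.pow_right_mono hψJ n hx)
    rw [← Ideal.map_pow, Ideal.map_quotient_self] at h1
    exact h1
  let g : S ⧸ J ^ n →ₐ[R] R ⧸ I ^ n := Ideal.Quotient.liftₐ (J ^ n) ψ fun x hx => hψn hx
  let Φ : R ⧸ I ^ n →ₐ[R] S ⧸ J ^ n := Ideal.Quotient.liftₐ (I ^ n) (Algebra.ofId R (S ⧸ J ^ n))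
    fun r hr => (Ideal.Quotient.eq_zero_iff_mem (I := J ^ n)).mpr (Ideal.le_comap_pow _ n hr)
  have h1 : g.comp Φ = AlgHom.id R _ := Ideal.Quotient.algHom_ext R (AlgHom.ext fun r => by simp [g, Φ, Algebra.ofId_apply])
  have h2 : Φ.comp g = AlgHom.id R _ := by
    refine Ideal.Quotient.algHom_ext R ?_
    refine Algebra.FormallyUnramified.ext (J.map (Ideal.Quotient.mk (J ^ n))) ⟨n, ?_⟩ fun s => ?_
    · rw [← Ideal.map_pow, Ideal.map_quotient_self]; rfl
    · obtain ⟨r, hr⟩ := Ideal.Quotient.mk_surjective (ψ s)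
      show Ideal.Quotient.mk _ (Φ (ψ s)) = Ideal.Quotient.mk _ (Ideal.Quotient.mk (J ^ n) s)
      rw [← hr]
      show Ideal.Quotient.mk _ (Ideal.Quotient.mk (J ^ n) (algebraMap R S r)) = _
      rw [Ideal.Quotient.eq, ← map_sub]
      refine Ideal.mem_map_of_mem _ (Ideal.Quotient.eq.mp ?_)
      have h3 := congrArg e (hψ s)
      rw [← hr] at h3
      exact h3.trans (e.apply_symm_apply _)
  have hΦ : ∀ z, Ideal.quotientMap (J ^ n) (algebraMap R S)
      (le_of_le_of_eq (Ideal.le_comap_pow (algebraMap R S) n) rfl :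
        (J.comap (algebraMap R S)) ^ n ≤ (J ^ n).comap (algebraMap R S)) z = Φ z := fun z => by
    obtain ⟨r, rfl⟩ := Ideal.Quotient.mk_surjective z
    rfl
  exact ⟨fun a b hab => by
      rw [hΦ, hΦ] at hab
      have := congrArg g hab
      rwa [← AlgHom.comp_apply, ← AlgHom.comp_apply, h1] at this,
    fun b => ⟨g b, by rw [hΦ]; exact DFunLike.congr_fun h2 b⟩⟩


end Groth.Agent.S9428
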