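import Groth.Statements.S9429
import Groth.Agent.RelGCI94.SmoothSyn

set_option autoImplicit false
universe u
open Synt

namespace Groth.Agent.S9429

/-- A smooth algebra over a field k is a local complete intersection over k (finite type, and locally on
Spec S by principal opens a global complete intersection). -/
theorem result (k : Type u) [Field k] (S : Type u) [CommRing S] [Algebra k S]
    [Algebra.Smooth k S] : Synt.IsLCIOver k S := by
  have : Algebra.FinitePresentation k S := Algebra.Smooth.finitePresentation
  refine ⟨inferInstance, fun p => ?_⟩
  obtain ⟨g, hg, hst⟩ := Algebra.IsSmoothAt.exists_notMem_isStandardSmooth (R := k) p.asIdeal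
  obtain ⟨n, c, F, hF, e⟩ := RelGCI94.exists_relGCI_of_standardSmooth k (Localization.Away g)
  exact ⟨g, hg, RelGCI94.isGlobalCI_iff.2 ⟨n, c, F, hF, e⟩⟩

end Groth.Agent.S9429
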