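import Groth.Statements.S9430
import Groth.Agent.RelGCI94.SyntLocal

set_option autoImplicit false
universe u
open Synt

namespace Groth.Agent.S9430

open Groth.Agent.RelGCI94

theorem ci_of_isField {k : Type u} [Field k] {L : Type u} [CommRing L] [Algebra k L] [IsLocalRing L]
    [Algebra.EssFiniteType k L] (hL : IsField L) : Synt.IsCIOver k L := by
  let := hL.toField
  refine ⟨L, inferInstance, inferInstance, inferInstance, inferInstance, [], by simp,
    RingTheory.Sequence.IsRegular.nil _ _, ⟨?_⟩⟩
  exact ((Ideal.quotientEquivAlgOfEq k Ideal.ofList_nil).trans (AlgEquiv.quotientBot k L)).symm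

theorem main {k : Type u} [Field k] {K : Type u} [Field K] [Algebra k K] (E : Finset K) :
    ∃ A : Subalgebra k K, (↑E : Set K) ⊆ (A : Set K) ∧ Synt.IsGlobalCI k A := by
  let B : Subalgebra k K := Algebra.adjoin k (E : Set K)
  have : Algebra.FiniteType k B := (Subalgebra.fg_iff_finiteType B).1 ⟨E, rfl⟩
  let L := Localization.AtPrime (⊥ : Ideal B)
  have : IsFractionRing B L := by
    show IsLocalization (nonZeroDivisors B) L
    rw [← Ideal.primeCompl_bot]
    infer_instance
  have hL : IsField L := (IsFractionRing.toField B (K := L)).toIsField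
  have : Algebra.EssFiniteType B L := Algebra.EssFiniteType.of_isLocalization _ (⊥ : Ideal B).primeCompl
  have : Algebra.EssFiniteType k L := Algebra.EssFiniteType.comp k B L
  obtain ⟨g, hg, hG⟩ := exists_globalCI_nhd (k := k) (⊥ : Ideal B) (ci_of_isField (k := k) (L := L) hL)
  have hg0 : g ≠ 0 := fun h => hg (h ▸ zero_mem _)
  have hu : IsUnit (B.val g) := Ne.isUnit fun h => hg0 (Subtype.ext h)
  let ψ₀ : Localization.Away g →+* K := IsLocalization.Away.lift g (g := B.val.toRingHom) hu
  let ψ : Localization.Away g →ₐ[k] K := { ψ₀ with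
    commutes' := fun r => by
      show ψ₀ (algebraMap k _ r) = _
      rw [IsScalarTower.algebraMap_apply k B (Localization.Away g), IsLocalization.Away.lift_eq]
      exact B.val.commutes r }
  have hψ : ∀ b : B, ψ (algebraMap B _ b) = b := fun b => IsLocalization.Away.lift_eq g hu b
  have hinj : Function.Injective ψ := by
    refine (injective_iff_map_eq_zero ψ).2 fun z hz => ?_
    obtain ⟨m, b, hb⟩ := IsLocalization.Away.surj g z
    have h0 : (b : K) = 0 := by
      rw [← hψ b, ← hb, map_mul, hz, zero_mul]
    rw [show b = 0 from Subtype.ext h0, map_zero] at hb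
    exact (((IsLocalization.Away.algebraMap_isUnit (S := Localization.Away g) g).pow m).mul_left_eq_zero).1 hb
  exact ⟨ψ.range, fun x hx => ⟨algebraMap B _ ⟨x, Algebra.subset_adjoin hx⟩, hψ _⟩,
    isGlobalCI_congr (AlgEquiv.ofInjective ψ hinj) hG⟩

/-- For a field extension K/k, every finite subset of K lies in a k-subalgebra of K which is a global
complete intersection over k; so K is the directed union of its k-subalgebras that are global
complete intersections over k. -/
theorem result (k : Type u) [Field k] (K : Type u)
    [Field K] [Algebra k K] (E : Finset K) :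
    ∃ A : Subalgebra k K, (↑E : Set K) ⊆ (A : Set K) ∧ Synt.IsGlobalCI k A := by
  exact main E

end Groth.Agent.S9430
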