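import Groth.Statements.S9433
import Groth.Agent.S9428
import Mathlib

set_option autoImplicit false
universe u
open CAlg

namespace Groth.Agent.S9433

/-- Let R → S be a local homomorphism of local rings with S the localization of an étale R-algebra at a
prime, inducing an isomorphism of residue fields. Then for some t in the maximal ideal of R the maps
R/t^nR → S/t^nS are bijective for all n ≥ 1. -/
theorem result (R : Type u) [CommRing R] [IsLocalRing R] (T : Type u) [CommRing T] [Algebra R T]
    [Algebra.Etale R T] (q : Ideal T) [q.IsPrime] (S : Type u) [CommRing S] [IsLocalRing S]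
    [Algebra T S] [IsLocalization.AtPrime S q] [Algebra R S] [IsScalarTower R T S]
    [IsLocalHom (algebraMap R S)]
    (hres : Function.Bijective (IsLocalRing.ResidueField.map (algebraMap R S))) :
    ∃ t ∈ IsLocalRing.maximalIdeal R, ∀ n : ℕ, 1 ≤ n →
      Function.Bijective (Ideal.quotientMap ((Ideal.span {t ^ n}).map (algebraMap R S))
        (algebraMap R S) Ideal.le_comap_map) := by
  classical
  obtain ⟨f0, hf0, hst⟩ := Algebra.IsEtaleAt.exists_isStandardEtale (R := R) (Q := q)
  obtain ⟨P⟩ := hst.nonempty_standardEtalePresentation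
  let Tf := Localization.Away f0
  have hle : ∀ y : Submonoid.powers f0, IsUnit (IsScalarTower.toAlgHom R T S y.1) := by
    rintro ⟨_, i, rfl⟩
    exact IsLocalization.map_units S (⟨f0 ^ i, fun h => hf0 (‹q.IsPrime›.mem_of_pow_mem i h)⟩ : q.primeCompl)
  let φ : Tf →ₐ[R] S := IsLocalization.liftAlgHom (M := Submonoid.powers f0) (f := IsScalarTower.toAlgHom R T S) hle
  have hφT : ∀ z : T, φ (algebraMap T Tf z) = algebraMap T S z := fun z => IsLocalization.lift_eq (hg := hle) z
  set s := φ P.x
  have hs0 : Polynomial.aeval s P.f = 0 := (P.hasMap.map φ).1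
  have hsg : IsUnit (Polynomial.aeval s P.g) := (P.hasMap.map φ).2
  obtain ⟨rb, hrb⟩ := hres.2 (IsLocalRing.residue S s)
  obtain ⟨r, rfl⟩ := IsLocalRing.residue_surjective rb
  set a := algebraMap R S r with ha
  have hra : IsLocalRing.residue S a = IsLocalRing.residue S s := hrb
  set t := P.f.eval r with ht
  have hat : algebraMap R S t = Polynomial.aeval a P.f := (Polynomial.aeval_algebraMap_apply_eq_algebraMap_eval r P.f).symm
  have hres' : ∀ h : Polynomial R, IsLocalRing.residue S (algebraMap R S (h.eval r)) = IsLocalRing.residue S (Polynomial.aeval s h) := fun h => by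
    rw [← Polynomial.aeval_algebraMap_apply_eq_algebraMap_eval]
    simp only [Polynomial.aeval_def, Polynomial.hom_eval₂, hra, ← ha]
  have htm : t ∈ IsLocalRing.maximalIdeal R := by
    intro hu
    have := (hu.map (algebraMap R S)).map (IsLocalRing.residue S)
    rw [hres', hs0, map_zero] at this
    exact not_isUnit_zero this
  refine ⟨t, htm, fun n _ => ?_⟩
  set K := Ideal.span {t} with hK
  -- the inverse map
  let π := Ideal.Quotient.mkₐ R K
  have hne : Nontrivial (R ⧸ K) := Ideal.Quotient.nontrivial_iff.mpr fun h =>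
    htm (Ideal.span_singleton_eq_top.mp h)
  have hloc : IsLocalRing (R ⧸ K) := IsLocalRing.of_surjective' (Ideal.Quotient.mk K) Ideal.Quotient.mk_surjective
  have hmap : P.HasMap (π r) := by
    constructor
    · show Polynomial.aeval (π r) P.f = 0
      rw [Polynomial.aeval_algHom_apply]
      exact Ideal.Quotient.eq_zero_iff_mem.mpr (Ideal.mem_span_singleton_self t)
    · show IsUnit (Polynomial.aeval (π r) P.g)
      rw [Polynomial.aeval_algHom_apply]
      refine IsUnit.map π ?_
      show IsUnit (P.g.eval r)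
      by_contra hu
      have h1 : algebraMap R S (P.g.eval r) ∈ IsLocalRing.maximalIdeal S := fun h2 => hu ((isUnit_map_iff (algebraMap R S) _).mp h2)
      rw [← IsLocalRing.residue_eq_zero_iff, hres', IsLocalRing.residue_eq_zero_iff] at h1
      exact h1 hsg
  let g0 : Tf →ₐ[R] R ⧸ K := (P.lift (π r) hmap).comp P.equivRing.toAlgHom
  have hg0x : g0 P.x = π r := by
    show P.lift (π r) hmap (P.equivRing P.x) = _
    rw [StandardEtalePresentation.equivRing_x, StandardEtalePair.lift_X]
  -- compatibility with residue fields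
  have hKle : K ≤ RingHom.ker ((IsLocalRing.residue S).comp (algebraMap R S)) := by
    rw [hK, Ideal.span_le, Set.singleton_subset_iff, SetLike.mem_coe, RingHom.mem_ker, RingHom.comp_apply, hres', hs0, map_zero]
  let ρ : R ⧸ K →ₐ[R] IsLocalRing.ResidueField S :=
    Ideal.Quotient.liftₐ K (Algebra.ofId R _) fun z hz => hKle hz
  have hρ : ∀ y, ρ (g0 y) = IsLocalRing.residue S (φ y) := by
    have h1 : (ρ.comp g0).comp P.equivRing.symm.toAlgHom =
        ((IsScalarTower.toAlgHom R S (IsLocalRing.ResidueField S)).comp φ).comp P.equivRing.symm.toAlgHom := by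
      refine StandardEtalePair.hom_ext ?_
      show ρ (g0 (P.equivRing.symm P.X)) = IsLocalRing.residue S (φ (P.equivRing.symm P.X))
      rw [StandardEtalePresentation.equivRing_symm_X, hg0x]
      exact hra
    intro y
    have h2 := DFunLike.congr_fun h1 (P.equivRing y)
    change ρ (g0 (P.equivRing.symm (P.equivRing y))) = IsLocalRing.residue S (φ (P.equivRing.symm (P.equivRing y))) at h2
    rwa [AlgEquiv.symm_apply_apply] at h2
  let gT : T →ₐ[R] R ⧸ K := g0.comp (IsScalarTower.toAlgHom R T Tf)
  have hgu : ∀ y : q.primeCompl, IsUnit (gT y.1) := fun y => by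
    by_contra hu
    have h1 : ρ (gT y.1) = IsLocalRing.residue S (algebraMap T S y.1) := by
      show ρ (g0 (algebraMap T Tf y.1)) = _
      rw [hρ, hφT]
    have h2 : IsUnit (IsLocalRing.residue S (algebraMap T S y.1)) := (IsLocalization.map_units S y).map _
    obtain ⟨z, hz⟩ := Ideal.Quotient.mk_surjective (gT y.1)
    rw [← hz] at hu h1
    have hzm : ¬ IsUnit z := fun h => hu (h.map _)
    have h3 : algebraMap R S z ∈ IsLocalRing.maximalIdeal S := fun h => hzm ((isUnit_map_iff (algebraMap R S) _).mp h)
    rw [← IsLocalRing.residue_eq_zero_iff] at h3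
    rw [← h1] at h2
    exact not_isUnit_zero (h3 ▸ (show IsUnit (IsLocalRing.residue S (algebraMap R S z)) from h2))
  let gS : S →ₐ[R] R ⧸ K := IsLocalization.liftAlgHom (M := q.primeCompl) (f := gT) hgu
  have hgS : ∀ z : T, gS (algebraMap T S z) = gT z := fun z => IsLocalization.lift_eq (hg := hgu) z
  -- `s ≡ a` modulo `t`
  set J := K.map (algebraMap R S) with hJ
  have hJs : s - a ∈ J := by
    set d := a - s
    obtain ⟨k, hk⟩ := (P.f.map (algebraMap R S)).binomExpansion s d
    simp only [Polynomial.eval_map_algebraMap, Polynomial.derivative_map] at hk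
    rw [show s + d = a by simp [d], hs0, zero_add, ← hat] at hk
    have hu : IsUnit (Polynomial.aeval s P.f.derivative + k * d) := by
      have h1 : IsUnit (Polynomial.aeval s P.f.derivative) := (P.hasMap.map φ).isUnit_derivative_f
      rw [← IsLocalRing.residue_ne_zero_iff_isUnit] at h1 ⊢
      rwa [map_add, map_mul, show IsLocalRing.residue S d = 0 by simp [d, hra], mul_zero, add_zero]
    obtain ⟨w, hw⟩ := hu
    have hd : d = algebraMap R S t * ↑w⁻¹ := by
      rw [hk, show Polynomial.aeval s P.f.derivative * d + k * d ^ 2 = d * ↑w by rw [hw]; ring, mul_assoc, Units.mul_inv, mul_one]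
    rw [show s - a = -d by simp [d], neg_mem_iff, hd]
    exact Ideal.mul_mem_right _ _ (Ideal.mem_map_of_mem _ (Ideal.mem_span_singleton_self t))
  let Φ : R ⧸ K →ₐ[R] S ⧸ J := Ideal.Quotient.liftₐ K (Algebra.ofId R _)
    fun z hz => Ideal.Quotient.eq_zero_iff_mem.mpr (Ideal.mem_map_of_mem _ hz)
  have hΦ : ∀ y, Φ (gS y) = Ideal.Quotient.mk J y := by
    have h1 : ((Φ.comp g0).comp P.equivRing.symm.toAlgHom) =
        (((Ideal.Quotient.mkₐ R J).comp φ).comp P.equivRing.symm.toAlgHom) := by
      refine StandardEtalePair.hom_ext ?_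
      show Φ (g0 (P.equivRing.symm P.X)) = Ideal.Quotient.mk J (φ (P.equivRing.symm P.X))
      rw [StandardEtalePresentation.equivRing_symm_X, hg0x]
      exact (Ideal.Quotient.eq.mpr hJs).symm
    intro y
    have hT : ∀ z : T, Φ (gS (algebraMap T S z)) = Ideal.Quotient.mk J (algebraMap T S z) := fun z => by
      have h2 := DFunLike.congr_fun h1 (P.equivRing (algebraMap T Tf z))
      change Φ (g0 (P.equivRing.symm (P.equivRing (algebraMap T Tf z)))) =
        Ideal.Quotient.mk J (φ (P.equivRing.symm (P.equivRing (algebraMap T Tf z)))) at h2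
      rw [AlgEquiv.symm_apply_apply] at h2
      rw [hgS, ← hφT]
      exact h2
    exact RingHom.congr_fun (IsLocalization.ringHom_ext q.primeCompl
      (j := Φ.toRingHom.comp gS.toRingHom) (k := Ideal.Quotient.mk J) (RingHom.ext hT)) y
  have hJ1 : Function.Surjective (algebraMap R (S ⧸ J)) := fun y => by
    obtain ⟨y, rfl⟩ := Ideal.Quotient.mk_surjective y
    obtain ⟨z, hz⟩ := Ideal.Quotient.mk_surjective (gS y)
    exact ⟨z, by rw [← hΦ, ← hz]; rfl⟩
  have hcomap : J.comap (algebraMap R S) = K := by
    refine le_antisymm (fun z hz => ?_) Ideal.le_comap_map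
    have h1 : J ≤ RingHom.ker gS.toRingHom := Ideal.map_le_iff_le_comap.mpr fun w hw => by
      show gS (algebraMap R S w) = 0
      rw [AlgHom.commutes]
      exact Ideal.Quotient.eq_zero_iff_mem.mpr hw
    have h2 : gS (algebraMap R S z) = 0 := h1 hz
    rw [AlgHom.commutes] at h2
    exact Ideal.Quotient.eq_zero_iff_mem.mp h2
  have : Algebra.FormallyEtale T S := .of_isLocalization q.primeCompl
  have : Algebra.FormallyEtale R S := .comp R T S
  have key := Groth.Agent.S9428.result R S J hJ1 n
  have e1 : (J.comap (algebraMap R S)) ^ n = Ideal.span {t ^ n} := by rw [hcomap, hK, Ideal.span_singleton_pow]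
  have e2 : J ^ n = (Ideal.span {t ^ n}).map (algebraMap R S) := by rw [hJ, ← Ideal.map_pow, hK, Ideal.span_singleton_pow]
  constructor
  · intro x y hxy
    obtain ⟨x, rfl⟩ := Ideal.Quotient.mk_surjective x
    obtain ⟨y, rfl⟩ := Ideal.Quotient.mk_surjective y
    rw [Ideal.quotientMap_mk, Ideal.quotientMap_mk, Ideal.Quotient.eq, ← e2] at hxy
    rw [Ideal.Quotient.eq, ← e1, ← Ideal.Quotient.eq]
    exact key.1 (by rw [Ideal.quotientMap_mk, Ideal.quotientMap_mk, Ideal.Quotient.eq]; exact hxy)
  · intro y
    obtain ⟨y, rfl⟩ := Ideal.Quotient.mk_surjective y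
    obtain ⟨x, hx⟩ := key.2 (Ideal.Quotient.mk _ y)
    obtain ⟨x, rfl⟩ := Ideal.Quotient.mk_surjective x
    rw [Ideal.quotientMap_mk, Ideal.Quotient.eq, e2] at hx
    exact ⟨Ideal.Quotient.mk _ x, by rw [Ideal.quotientMap_mk, Ideal.Quotient.eq]; exact hx⟩


end Groth.Agent.S9433
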