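import Groth.Statements.S9434
import Groth.Agent.CAlg5.EtaleCover

set_option autoImplicit false
universe u
open CAlg

namespace Groth.Agent.S9434

/-- Let R → S be a local homomorphism of local rings with S the localization of an étale R-algebra at a
prime. Then there is a finite, finitely presented, faithfully flat R-algebra S' such that for every
maximal ideal m' of S' the structure map R → S'_{m'} factors through some R-algebra map S → S'_{m'}. -/
theorem result (R : Type u) [CommRing R] [IsLocalRing R] (T : Type u) [CommRing T] [Algebra R T]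
    [Algebra.Etale R T] (q : Ideal T) [q.IsPrime] (S : Type u) [CommRing S] [IsLocalRing S]
    [Algebra T S] [IsLocalization.AtPrime S q] [Algebra R S] [IsScalarTower R T S]
    [IsLocalHom (algebraMap R S)] :
    ∃ (S' : Type u) (_ : CommRing S') (_ : Algebra R S'),
      Module.Finite R S' ∧ Algebra.FinitePresentation R S' ∧ Module.FaithfullyFlat R S' ∧
        ∀ (m' : Ideal S') [m'.IsMaximal], Nonempty (S →ₐ[R] Localization.AtPrime m') := by
  classical
  obtain ⟨f, hf, hst⟩ := Algebra.IsEtaleAt.exists_isStandardEtale (R := R) (Q := q)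
  obtain ⟨S', _, _, h1, h2, h3, h4, h5⟩ := Groth.Agent.CAlg5.exists_cover R (Localization.Away f)
  refine ⟨S', inferInstance, inferInstance, h1, h2, Module.FaithfullyFlat.of_comap_surjective h4, fun m' _ => ?_⟩
  have hd : Disjoint (Submonoid.powers f : Set T) q := by
    refine Set.disjoint_left.mpr ?_
    rintro _ ⟨n, rfl⟩ hx
    exact hf (‹q.IsPrime›.mem_of_pow_mem n hx)
  set Q := q.map (algebraMap T (Localization.Away f))
  have : Q.IsPrime := IsLocalization.isPrime_of_isPrime_disjoint (Submonoid.powers f) _ q ‹_› hd
  have hQ : Q.comap (algebraMap T (Localization.Away f)) = q :=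
    IsLocalization.under_map_of_isPrime_disjoint (Submonoid.powers f) _ ‹_› hd
  have hunder : m'.under R = Q.under R := by
    have e1 : Q.under R = IsLocalRing.maximalIdeal R := by
      rw [Ideal.under_def, IsScalarTower.algebraMap_eq R T (Localization.Away f), ← Ideal.comap_comap, hQ,
        ← IsLocalization.AtPrime.under_maximalIdeal S q, Ideal.under_def, Ideal.comap_comap, ← IsScalarTower.algebraMap_eq]
      exact ((IsLocalRing.local_hom_TFAE (algebraMap R S)).out 0 4).mp ‹_›
    have : Algebra.IsIntegral R S' := inferInstance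
    rw [e1]
    exact IsLocalRing.eq_maximalIdeal (Ideal.isMaximal_comap_of_isIntegral_of_isMaximal (R := R) m')
  obtain ⟨g, hg, φ, hφ⟩ := h5 Q m' hunder
  have hle : Submonoid.powers g ≤ m'.primeCompl := Submonoid.powers_le.mpr hg
  let L := Localization.AtPrime m'
  let ι : Localization.Away g →ₐ[R] L := IsLocalization.liftAlgHom (M := Submonoid.powers g)
    (f := IsScalarTower.toAlgHom R S' L) fun y => IsLocalization.map_units L (⟨y.1, hle y.2⟩ : m'.primeCompl)
  let ψ : T →ₐ[R] L := (ι.comp φ).comp (IsScalarTower.toAlgHom R T (Localization.Away f))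
  have hι : ∀ z, ι (algebraMap S' (Localization.Away g) z) = algebraMap S' L z := fun z =>
    IsLocalization.lift_eq _ z
  have hψ : ∀ y : q.primeCompl, IsUnit (ψ y.1) := fun y => by
    have h6 : φ (algebraMap T (Localization.Away f) y.1) ∉ m'.map (algebraMap S' (Localization.Away g)) := fun h => by
      have h7 : algebraMap T (Localization.Away f) y.1 ∈ Q := hφ.le h
      exact y.2 (hQ.le h7)
    obtain ⟨⟨a, s⟩, hs⟩ := IsLocalization.surj (Submonoid.powers g) (φ (algebraMap T (Localization.Away f) y.1))
    have ha : a ∉ m' := fun h => h6 ((Ideal.mul_unit_mem_iff_mem _ (IsLocalization.map_units _ s)).mp (hs ▸ Ideal.mem_map_of_mem _ h))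
    have h8 := congrArg ι hs
    rw [map_mul, hι, hι] at h8
    exact isUnit_of_mul_isUnit_left (h8 ▸ IsLocalization.map_units L (⟨a, ha⟩ : m'.primeCompl))
  exact ⟨IsLocalization.liftAlgHom (M := q.primeCompl) (f := ψ) hψ⟩


end Groth.Agent.S9434
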