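import Groth.Statements.S9435
import Mathlib

set_option autoImplicit false
universe u
open CAlg

namespace Groth.Agent.S9435

/-- Given a prime p of a ring R and a finite separable extension L of κ(p), there is an étale R-algebra
R' with a prime p' over p whose residue field is κ(p)-isomorphic to L. Stated through an R-algebra
map ψ : R' → L whose image generates the field L: its kernel is such a prime p' and the induced
κ(p') → L is then an isomorphism over κ(p). -/
theorem result (R : Type u) [CommRing R]
    (p : Ideal R) [p.IsPrime] (L : Type u) [Field L] [Algebra p.ResidueField L] [Algebra R L]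
    [IsScalarTower R p.ResidueField L] [Module.Finite p.ResidueField L]
    [Algebra.IsSeparable p.ResidueField L] :
    ∃ (R' : Type u) (_ : CommRing R') (_ : Algebra R R') (_ : Algebra.Etale R R') (ψ : R' →ₐ[R] L),
      Subfield.closure (Set.range ψ) = ⊤ := by
  classical
  obtain ⟨α, hα⟩ := Field.exists_primitive_element p.ResidueField L
  have hint : IsIntegral p.ResidueField α := Algebra.IsIntegral.isIntegral α
  set m := minpoly p.ResidueField α with hm
  obtain ⟨⟨b, hb⟩, hbz⟩ := IsLocalization.exist_integer_multiples (nonZeroDivisors (R ⧸ p))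
    (Finset.range m.natDegree) m.coeff
  set β := algebraMap (R ⧸ p) p.ResidueField b
  have hβ : β ≠ 0 := IsFractionRing.to_map_ne_zero_of_mem_nonZeroDivisors hb
  have hsurj : ∀ z : R ⧸ p, ∃ r : R, algebraMap R p.ResidueField r = algebraMap (R ⧸ p) p.ResidueField z := fun z => by
    obtain ⟨r, rfl⟩ := Ideal.Quotient.mk_surjective z
    exact ⟨r, rfl⟩
  have hmonic : (m.scaleRoots β).Monic := (Polynomial.monic_scaleRoots_iff β).mpr (minpoly.monic hint)
  have hlift : m.scaleRoots β ∈ Polynomial.lifts (algebraMap R p.ResidueField) := by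
    rw [Polynomial.lifts_iff_coeff_lifts]
    intro i
    rw [Polynomial.coeff_scaleRoots]
    rcases Nat.lt_trichotomy i m.natDegree with hi | hi | hi
    · obtain ⟨z, hz⟩ := hbz i (Finset.mem_range.mpr hi)
      obtain ⟨r, hr⟩ := hsurj (z * b ^ (m.natDegree - i - 1))
      refine ⟨r, ?_⟩
      rw [hr, map_mul, map_pow, hz, Algebra.smul_def]
      show β * m.coeff i * β ^ (m.natDegree - i - 1) = _
      rw [mul_comm β, mul_assoc, ← pow_succ', show m.natDegree - i - 1 + 1 = m.natDegree - i by omega]
    · subst hi
      exact ⟨1, by rw [map_one, Nat.sub_self, pow_zero, mul_one, (minpoly.monic hint).coeff_natDegree]⟩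
    · exact ⟨0, by rw [map_zero, Polynomial.coeff_eq_zero_of_natDegree_lt hi, zero_mul]⟩
  obtain ⟨f, hf, -, hfm⟩ := Polynomial.lifts_and_degree_eq_and_monic hlift hmonic
  let P : StandardEtalePair R := ⟨f, hfm, f.derivative, 1, 0, 1, by rw [mul_one, mul_zero, add_zero, pow_one]⟩
  set x := algebraMap p.ResidueField L β * α
  have hev : ∀ g : Polynomial R, Polynomial.aeval x g = Polynomial.aeval x (g.map (algebraMap R p.ResidueField)) :=
    fun g => (Polynomial.aeval_map_algebraMap p.ResidueField x g).symm
  have h0 : Polynomial.aeval x (m.scaleRoots β) = 0 := Polynomial.scaleRoots_aeval_eq_zero (minpoly.aeval _ _)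
  have hsep : (m.scaleRoots β).Separable := by
    have h1 : x ∈ Set.univ := trivial
    have h2 : minpoly p.ResidueField x ∣ m.scaleRoots β := minpoly.dvd _ _ h0
    have h3 : (m.scaleRoots β) = minpoly p.ResidueField x := by
      refine minpoly.eq_of_irreducible_of_monic ?_ h0 hmonic
      have hirr := minpoly.irreducible hint
      refine ⟨fun hu => ?_, fun u v huv => ?_⟩
      · have := Polynomial.natDegree_eq_zero_of_isUnit hu
        rw [Polynomial.natDegree_scaleRoots] at this
        exact (minpoly.natDegree_pos hint).ne' this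
      · have h4 : m = (u.scaleRoots β⁻¹) * (v.scaleRoots β⁻¹) := by
          rw [← Polynomial.mul_scaleRoots_of_noZeroDivisors, ← huv, ← Polynomial.scaleRoots_mul,
            mul_inv_cancel₀ hβ, Polynomial.scaleRoots_one]
        have key : ∀ w : Polynomial p.ResidueField, IsUnit (w.scaleRoots β⁻¹) → IsUnit w := fun w hw => by
          rw [Polynomial.isUnit_iff] at hw ⊢
          obtain ⟨c, hc, hcw⟩ := hw
          refine ⟨c, hc, ?_⟩
          have := congrArg (fun q => q.scaleRoots β) hcw
          simp only [Polynomial.scaleRoots_C, ← Polynomial.scaleRoots_mul, inv_mul_cancel₀ hβ,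
            Polynomial.scaleRoots_one] at this
          exact this
        exact (hirr.isUnit_or_isUnit h4).imp (key u) (key v)
    rw [h3]
    exact Algebra.IsSeparable.isSeparable p.ResidueField x
  have hmap : P.HasMap x := by
    refine ⟨?_, ?_⟩
    · show Polynomial.aeval x f = 0
      rw [hev, hf]; exact h0
    · show IsUnit (Polynomial.aeval x f.derivative)
      rw [hev, ← Polynomial.derivative_map, hf, isUnit_iff_ne_zero]
      exact hsep.aeval_derivative_ne_zero h0
  refine ⟨P.Ring, inferInstance, inferInstance, inferInstance, P.lift x hmap, ?_⟩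
  set F := Subfield.closure (Set.range (P.lift x hmap))
  have hres : ∀ c : p.ResidueField, algebraMap p.ResidueField L c ∈ F := by
    intro c
    obtain ⟨u, v, -, rfl⟩ := IsFractionRing.div_surjective (A := R ⧸ p) c
    obtain ⟨u', hu⟩ := hsurj u
    obtain ⟨v', hv⟩ := hsurj v
    rw [← hu, ← hv, map_div₀, ← IsScalarTower.algebraMap_apply, ← IsScalarTower.algebraMap_apply]
    exact div_mem (Subfield.subset_closure ⟨algebraMap R P.Ring u', AlgHom.commutes _ _⟩)
      (Subfield.subset_closure ⟨algebraMap R P.Ring v', AlgHom.commutes _ _⟩)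
  let F' : IntermediateField p.ResidueField L := F.toIntermediateField hres
  have hα' : α ∈ F' := by
    show α ∈ F
    have hx : x ∈ F := Subfield.subset_closure ⟨P.X, P.lift_X x hmap⟩
    have := mul_mem (inv_mem (hres β)) hx
    rwa [inv_mul_cancel_left₀ ((map_ne_zero _).mpr hβ)] at this
  have : (⊤ : IntermediateField p.ResidueField L) ≤ F' := hα ▸ IntermediateField.adjoin_simple_le_iff.mpr hα'
  exact eq_top_iff.mpr fun z _ => this (trivial : z ∈ (⊤ : IntermediateField p.ResidueField L))


end Groth.Agent.S9435
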