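import Groth.Statements.S9444
import Groth.Agent.CAlg5.Cohen

set_option autoImplicit false
universe u
open CAlg

namespace Groth.Agent.S9444

/-- A complete regular local ring containing a field (that is, containing the prime field F_p or ℚ) is
isomorphic to a power series ring in finitely many variables over its residue field (existence of an
isomorphism only). -/
theorem result (R : Type u)
    [CommRing R] [IsRegularLocalRing R] [IsAdicComplete (IsLocalRing.maximalIdeal R) R]
    (k₀ : Type u) [Field k₀] [Algebra k₀ R] :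
    ∃ d : ℕ, Nonempty (R ≃+* MvPowerSeries (Fin d) (IsLocalRing.ResidueField R)) := by
  obtain ⟨σ, hσ⟩ : ∃ σ : IsLocalRing.ResidueField R →+* R, ∀ a, IsLocalRing.residue R (σ a) = a := by
    obtain ⟨p, hp⟩ := CharP.exists k₀
    rcases Nat.eq_zero_or_pos p with rfl | hpos
    · have : CharZero k₀ := CharP.charP_to_charZero k₀
      let : Algebra (ULift.{u} ℚ) R := (((algebraMap k₀ R).comp (Rat.castHom k₀)).comp
        (ULift.ringEquiv.toRingHom : (ULift.{u} ℚ) →+* ℚ)).toAlgebra
      have : CharZero (ULift.{u} ℚ) := charZero_of_injective_ringHom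
        (ULift.ringEquiv.symm : ℚ ≃+* ULift.{u} ℚ).toRingHom.injective
      exact Groth.Agent.CAlg5.exists_coefficient_field (ULift.{u} ℚ) R
    · have : NeZero p := ⟨hpos.ne'⟩
      have : Fact p.Prime := ⟨(CharP.char_is_prime_or_zero k₀ p).resolve_right hpos.ne'⟩
      have : CharP R p := charP_of_injective_algebraMap (algebraMap k₀ R).injective p
      exact Groth.Agent.LA18.exists_coefficient_field R p
  obtain ⟨d, φ, hφ, -⟩ := Groth.Agent.CAlg5.exists_powerSeries_bijective σ (fun a => ⟨a, hσ a⟩)
  exact ⟨d, ⟨(RingEquiv.ofBijective φ hφ).symm⟩⟩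


end Groth.Agent.S9444
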