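import Groth.Statements.S9445
import Groth.Agent.S9428
import Mathlib

set_option autoImplicit false
universe u
open CAlg

namespace Groth.Agent.S9445

open TensorProduct in
/-- For ring maps R → S → S' with S → S' formally étale and k ≥ 0, let J' ⊆ S' ⊗_R S' be the kernel of
multiplication and I ⊆ S' ⊗_R S its preimage under the map induced by S → S' (I is the kernel of S'
⊗_R S → S', and (S' ⊗_R S)/I^{k+1} is S' ⊗_S P^k_{S/R}); then (S' ⊗_R S)/I^{k+1} → (S' ⊗_R
S')/J'^{k+1} is bijective. (The consequence S' ⊗_S Ω_{S/R} ≅ Ω_{S'/R} is Mathlib's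
KaehlerDifferential.isBaseChange_of_formallyEtale.) -/
theorem result (R : Type u) [CommRing R]
    (S : Type u) [CommRing S] [Algebra R S] (S' : Type u) [CommRing S'] [Algebra R S']
    [Algebra S S'] [IsScalarTower R S S'] [Algebra.FormallyEtale S S'] (k : ℕ) :
    Function.Bijective (Ideal.quotientMap (KaehlerDifferential.ideal R S' ^ (k + 1))
      (Algebra.TensorProduct.map (AlgHom.id S' S') (IsScalarTower.toAlgHom R S S')).toRingHom
      (Ideal.le_comap_pow
        (Algebra.TensorProduct.map (AlgHom.id S' S') (IsScalarTower.toAlgHom R S S')).toRingHom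
        (K := KaehlerDifferential.ideal R S') (k + 1))) := by
  let φ := (Algebra.TensorProduct.map (AlgHom.id S' S') (IsScalarTower.toAlgHom R S S'))
  letI : Algebra (S' ⊗[R] S) (S' ⊗[R] S') := φ.toRingHom.toAlgebra
  have : Algebra.FormallyEtale (S' ⊗[R] S) (S' ⊗[R] S') := by
    refine Algebra.FormallyEtale.iff_comp_bijective.mpr fun C _ _ K hK => ?_
    let iS : S →ₐ[R] S' ⊗[R] S := Algebra.TensorProduct.includeRight
    letI : Algebra S C := ((algebraMap (S' ⊗[R] S) C).comp iS.toRingHom).toAlgebra
    letI : Algebra R C := ((algebraMap (S' ⊗[R] S) C).comp (algebraMap R (S' ⊗[R] S))).toAlgebra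
    have hRC : ∀ r, algebraMap R C r = algebraMap (S' ⊗[R] S) C (algebraMap R (S' ⊗[R] S) r) := fun _ => rfl
    have hRS : ∀ r, algebraMap S C (algebraMap R S r) = algebraMap R C r := fun r => by
      show algebraMap (S' ⊗[R] S) C (iS (algebraMap R S r)) = _
      rw [AlgHom.commutes]; rfl
    have : IsScalarTower R S C := IsScalarTower.of_algebraMap_eq fun r => (hRS r).symm
    let l : S' →ₐ[R] C :=
      { toRingHom := (algebraMap (S' ⊗[R] S) C).comp (Algebra.TensorProduct.includeLeft : S' →ₐ[R] S' ⊗[R] S).toRingHom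
        commutes' := fun r => by
          show algebraMap (S' ⊗[R] S) C ((Algebra.TensorProduct.includeLeft : S' →ₐ[R] S' ⊗[R] S) (algebraMap R S' r)) = _
          rw [AlgHom.commutes]; rfl }
    have hiR : ∀ s : S, φ (iS s) = (1 : S') ⊗ₜ[R] algebraMap S S' s := fun s => by
      show φ ((1 : S') ⊗ₜ[R] s) = _
      rw [Algebra.TensorProduct.map_tmul, map_one]; rfl
    have hiL : ∀ a : S', φ (a ⊗ₜ[R] (1 : S)) = a ⊗ₜ[R] (1 : S') := fun a => by
      rw [Algebra.TensorProduct.map_tmul, map_one]; rfl
    refine ⟨fun G1 G2 hG => ?_, fun g => ?_⟩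
    · let v : (S' ⊗[R] S' →ₐ[S' ⊗[R] S] C) → (S' →ₐ[S] C) := fun G =>
        { toRingHom := G.toRingHom.comp (Algebra.TensorProduct.includeRight : S' →ₐ[R] S' ⊗[R] S').toRingHom
          commutes' := fun s => by
            show G ((1 : S') ⊗ₜ[R] algebraMap S S' s) = _
            rw [← hiR]; exact G.commutes _ }
      have hv : v G1 = v G2 := by
        refine Algebra.FormallyUnramified.comp_injective K hK (AlgHom.ext fun b => ?_)
        exact DFunLike.congr_fun hG _
      refine AlgHom.ext fun z => ?_
      induction z using TensorProduct.induction_on with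
      | zero => simp only [map_zero]
      | add a b ha hb => simp only [map_add, ha, hb]
      | tmul a b =>
        have h1 : a ⊗ₜ[R] b = φ (a ⊗ₜ[R] (1 : S)) * ((1 : S') ⊗ₜ[R] b) := by
          rw [hiL, Algebra.TensorProduct.tmul_mul_tmul, mul_one, one_mul]
        rw [h1, map_mul, map_mul]
        congr 1
        · exact (G1.commutes _).trans (G2.commutes _).symm
        · exact DFunLike.congr_fun hv b
    · let g0 : S' →ₐ[S] C ⧸ K :=
        { toRingHom := g.toRingHom.comp (Algebra.TensorProduct.includeRight : S' →ₐ[R] S' ⊗[R] S').toRingHom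
          commutes' := fun s => by
            show g ((1 : S') ⊗ₜ[R] algebraMap S S' s) = _
            rw [← hiR]; exact g.commutes _ }
      obtain ⟨v, hv⟩ := Algebra.FormallySmooth.comp_surjective S S' K hK g0
      let G0 : S' ⊗[R] S' →ₐ[R] C := Algebra.TensorProduct.productMap l (v.restrictScalars R)
      let G : S' ⊗[R] S' →ₐ[S' ⊗[R] S] C :=
        { toRingHom := G0.toRingHom
          commutes' := fun t => by
            show G0 (φ t) = algebraMap (S' ⊗[R] S) C t
            induction t using TensorProduct.induction_on with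
            | zero => simp only [map_zero]
            | add a b ha hb => simp only [map_add, ha, hb]
            | tmul a s =>
              rw [Algebra.TensorProduct.map_tmul, Algebra.TensorProduct.productMap_apply_tmul]
              show algebraMap (S' ⊗[R] S) C (a ⊗ₜ[R] (1 : S)) * v (algebraMap S S' s) = _
              rw [AlgHom.commutes]
              show algebraMap (S' ⊗[R] S) C (a ⊗ₜ[R] (1 : S)) * algebraMap (S' ⊗[R] S) C ((1 : S') ⊗ₜ[R] s) = _
              rw [← map_mul, Algebra.TensorProduct.tmul_mul_tmul, mul_one, one_mul] }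
      refine ⟨G, AlgHom.ext fun z => ?_⟩
      induction z using TensorProduct.induction_on with
      | zero => simp only [map_zero]
      | add a b ha hb => simp only [map_add, ha, hb]
      | tmul a b =>
        show Ideal.Quotient.mk K (G0 (a ⊗ₜ[R] b)) = _
        have h1 : a ⊗ₜ[R] b = φ (a ⊗ₜ[R] (1 : S)) * ((1 : S') ⊗ₜ[R] b) := by
          rw [hiL, Algebra.TensorProduct.tmul_mul_tmul, mul_one, one_mul]
        rw [Algebra.TensorProduct.productMap_apply_tmul, map_mul, h1, map_mul]
        congr 1
        · exact (g.commutes _).symm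
        · exact DFunLike.congr_fun hv b
  refine Groth.Agent.S9428.result (S' ⊗[R] S) (S' ⊗[R] S') (KaehlerDifferential.ideal R S') (fun z => ?_) (k + 1)
  obtain ⟨z, rfl⟩ := Ideal.Quotient.mk_surjective z
  refine ⟨Algebra.TensorProduct.lmul' R z ⊗ₜ (1 : S), ?_⟩
  show Ideal.Quotient.mk _ (φ _) = _
  rw [Ideal.Quotient.eq, Algebra.TensorProduct.map_tmul, map_one]
  show Algebra.TensorProduct.lmul' R ((Algebra.TensorProduct.lmul' R z) ⊗ₜ[R] (1 : S') - z) = 0
  rw [map_sub, Algebra.TensorProduct.lmul'_apply_tmul, mul_one, sub_self]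


end Groth.Agent.S9445
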