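import Groth.Statements.S9446
import Groth.Agent.CAlg5.FPSys
import Mathlib.RingTheory.Smooth.IntegralClosure

set_option autoImplicit false
universe u
open CAlg

namespace Groth.Agent.S9446

/-- If S is ind-smooth over R (every R-algebra map into S from a finitely presented R-algebra factors
through a smooth R-algebra) then for every R-algebra B the canonical map S ⊗_R A → A', from the base
change of the integral closure A of R in B to the integral closure A' of S in S ⊗_R B, is bijective. -/
theorem result (R : Type u) [CommRing R] (S : Type u)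
    [CommRing S] [Algebra R S] (hS : Smoothing.IndSmooth R S) (B : Type u) [CommRing B]
    [Algebra R B] : Function.Bijective (TensorProduct.toIntegralClosure R S B) := by
  classical
  have hsys := CAlg5.FPData.colimSys (R := R) (S := S)
  have hval : ∀ (X : Type u) [CommRing X] [Algebra R X] (w : TensorProduct R X (integralClosure R B)),
      ((TensorProduct.toIntegralClosure R X B w : integralClosure X (TensorProduct R X B)) : TensorProduct R X B) =
        Algebra.TensorProduct.map (AlgHom.id X X) (integralClosure R B).val w := fun X _ _ w => rfl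
  have hnat : ∀ {X Y : Type u} [CommRing X] [Algebra R X] [CommRing Y] [Algebra R Y]
      (φ : X →ₐ[R] Y) (w : TensorProduct R X (integralClosure R B)),
      ((TensorProduct.toIntegralClosure R Y B (CAlg5.ColimSys.bmap (integralClosure R B) φ w) :
          integralClosure Y (TensorProduct R Y B)) : TensorProduct R Y B) =
        CAlg5.ColimSys.bmap B φ ((TensorProduct.toIntegralClosure R X B w :
          integralClosure X (TensorProduct R X B)) : TensorProduct R X B) := by
    intros
    rename_i φ w
    rw [hval, hval]
    induction w using TensorProduct.induction_on with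
    | zero => simp
    | tmul a b => simp
    | add a b ha hb => simp only [map_add, ha, hb]
  have hlift : ∀ (C : Type u) [CommRing C] [Algebra R C] (z : TensorProduct R S C) (i : CAlg5.FPData R S),
      ∃ (l : CAlg5.FPData R S) (h : i.Alg →ₐ[R] l.Alg), l.hom.comp h = i.hom ∧
        ∃ w, CAlg5.ColimSys.bmap C l.hom w = z := by
    intro C _ _ z i
    obtain ⟨l, h, hh, y, hy⟩ := hsys.exists_tensor_lift C (TensorProduct.comm R S C z) i
    refine ⟨l, h, hh, (TensorProduct.comm R l.Alg C).symm y, ?_⟩
    apply (TensorProduct.comm R S C).injective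
    rw [← hy]
    clear hy
    induction y using TensorProduct.induction_on with
    | zero => simp
    | tmul a b => simp
    | add a b ha hb => simp only [map_add, ha, hb]
  obtain ⟨i₀⟩ := hsys.nonempty
  constructor
  · refine (injective_iff_map_eq_zero _).mpr fun t ht => ?_
    obtain ⟨l, -, -, w, rfl⟩ := hlift _ t i₀
    have h0 : CAlg5.ColimSys.bmap B l.hom ((TensorProduct.toIntegralClosure R l.Alg B w :
        integralClosure l.Alg (TensorProduct R l.Alg B)) : TensorProduct R l.Alg B) = 0 := by
      rw [← hnat, ht]; rfl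
    obtain ⟨m, h, hh, hk⟩ := hsys.exists_base_kill B ({()} : Finset Unit) l
      (fun _ => ((TensorProduct.toIntegralClosure R l.Alg B w :
        integralClosure l.Alg (TensorProduct R l.Alg B)) : TensorProduct R l.Alg B)) (fun _ _ => h0)
    obtain ⟨X, _, _, _, φ, ψ, hψ⟩ := hS m.Alg m.finitePresentation m.hom
    have h1 : CAlg5.ColimSys.bmap (integralClosure R B) (φ.comp h) w = 0 := by
      apply (TensorProduct.toIntegralClosure_bijective_of_smooth (R := R) (S := X) (B := B)).1
      apply Subtype.ext
      rw [hnat, ← CAlg5.ColimSys.bmap_comp_apply, hk () (Finset.mem_singleton_self _), map_zero,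
        map_zero]
      rfl
    have h2 := congrArg (CAlg5.ColimSys.bmap (integralClosure R B) ψ) h1
    rw [map_zero, CAlg5.ColimSys.bmap_comp_apply, ← AlgHom.comp_assoc, hψ, hh] at h2
    exact h2
  · rintro ⟨z, hz⟩
    obtain ⟨p, hp, hpz⟩ := hz
    obtain ⟨l₀, -, -, w₀, hw₀⟩ := hlift B z i₀
    obtain ⟨l, h₁, hh₁, x, hx⟩ := hsys.exists_lift (Finset.range p.natDegree) p.coeff l₀
    let E : Polynomial l.Alg := Polynomial.X ^ p.natDegree +
      ∑ k ∈ Finset.range p.natDegree, Polynomial.C (x k) * Polynomial.X ^ k
    have hE : E.Monic := Polynomial.monic_X_pow_add ((Polynomial.degree_sum_le _ _).trans_lt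
      ((Finset.sup_lt_iff (WithBot.bot_lt_coe _)).mpr fun k hk =>
        (Polynomial.degree_C_mul_X_pow_le k _).trans_lt (WithBot.coe_lt_coe.mpr (Finset.mem_range.mp hk))))
    have hEmap : E.map l.hom.toRingHom = p := by
      conv_rhs => rw [hp.as_sum]
      simp only [E, Polynomial.map_add, Polynomial.map_pow, Polynomial.map_X, Polynomial.map_sum,
        Polynomial.map_mul, Polynomial.map_C]
      congr 1
      exact Finset.sum_congr rfl fun k hk => by rw [AlgHom.toRingHom_eq_coe, RingHom.coe_coe, hx k hk]
    have hnatE : ∀ {Y : Type u} [CommRing Y] [Algebra R Y] (φ : l.Alg →ₐ[R] Y) (v : TensorProduct R l.Alg B),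
        CAlg5.ColimSys.bmap B φ (Polynomial.eval₂ (algebraMap l.Alg _) v E) =
          Polynomial.eval₂ (algebraMap Y (TensorProduct R Y B)) (CAlg5.ColimSys.bmap B φ v)
            (E.map φ.toRingHom) := by
      intros
      rename_i φ v
      rw [Polynomial.eval₂_map, ← AlgHom.coe_toRingHom (CAlg5.ColimSys.bmap B φ), Polynomial.hom_eval₂]
      congr 1
    let w := CAlg5.ColimSys.bmap B h₁ w₀
    have hw : CAlg5.ColimSys.bmap B l.hom w = z := by
      rw [CAlg5.ColimSys.bmap_comp_apply, hh₁, hw₀]
    obtain ⟨m, h, hh, hk⟩ := hsys.exists_base_kill B ({()} : Finset Unit) l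
      (fun _ => Polynomial.eval₂ (algebraMap l.Alg _) w E) (fun _ _ => by rw [hnatE, hw, hEmap, hpz])
    obtain ⟨X, _, _, _, φ, ψ, hψ⟩ := hS m.Alg m.finitePresentation m.hom
    have hint : IsIntegral X (CAlg5.ColimSys.bmap B (φ.comp h) w) :=
      ⟨E.map (φ.comp h).toRingHom, hE.map _, by
        rw [← hnatE, ← CAlg5.ColimSys.bmap_comp_apply, hk () (Finset.mem_singleton_self _), map_zero]⟩
    obtain ⟨v, hv⟩ := (TensorProduct.toIntegralClosure_bijective_of_smooth (R := R) (S := X) (B := B)).2
      ⟨_, hint⟩
    refine ⟨CAlg5.ColimSys.bmap (integralClosure R B) ψ v, Subtype.ext ?_⟩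
    rw [hnat, hv]
    show CAlg5.ColimSys.bmap B ψ (CAlg5.ColimSys.bmap B (φ.comp h) w) = z
    rw [CAlg5.ColimSys.bmap_comp_apply, ← AlgHom.comp_assoc, hψ, hh, hw]


end Groth.Agent.S9446
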