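import Groth.Statements.S9447
import Mathlib
import Groth.Agent.FlatMor67.ProjDescent

set_option autoImplicit false
universe u
open CAlg

namespace Groth.Agent.S9447

open TensorProduct in
/-- Formal smoothness descends along faithfully flat base change: for R → S arbitrary and R → R'
faithfully flat, the R-algebra S is formally smooth exactly when the R'-algebra R' ⊗_R S is formally
smooth. No finiteness hypothesis on S. -/
theorem result (R : Type u) [CommRing R]
    (S : Type u) [CommRing S] [Algebra R S] (R' : Type u) [CommRing R'] [Algebra R R']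
    [Module.FaithfullyFlat R R'] :
    Algebra.FormallySmooth R S ↔ Algebra.FormallySmooth R' (R' ⊗[R] S) := by
  refine ⟨fun _ => inferInstance, fun h => ?_⟩
  refine { projective_kaehlerDifferential := ?_, subsingleton_h1Cotangent := ?_ }
  · letI : Algebra R' (S ⊗[R] R') := Algebra.TensorProduct.rightAlgebra
    have : Algebra.FormallySmooth R' (S ⊗[R] R') :=
      Algebra.FormallySmooth.of_equiv (Algebra.TensorProduct.commRight R R' S)
    have : Module.Projective (S ⊗[R] R') Ω[(S ⊗[R] R')⁄R'] := Algebra.FormallySmooth.projective_kaehlerDifferential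
    have : Module.Projective (S ⊗[R] R') ((S ⊗[R] R') ⊗[S] Ω[S⁄R]) :=
      Module.Projective.of_equiv (KaehlerDifferential.tensorKaehlerEquiv R R' S (S ⊗[R] R')).symm
    exact Groth.Agent.FlatMor67.projective_descent (R := S) (S := S ⊗[R] R') (M := Ω[S⁄R])
  · have : Subsingleton (Algebra.H1Cotangent R' (R' ⊗[R] S)) := h.subsingleton_h1Cotangent
    have : Subsingleton (R' ⊗[R] Algebra.H1Cotangent R S) :=
      (Algebra.tensorH1CotangentOfFlat R S R').toEquiv.subsingleton
    exact Module.FaithfullyFlat.lTensor_reflects_triviality R R' _


end Groth.Agent.S9447
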