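import Groth.Statements.S9448
import Groth.Agent.Unr55.EtPoly

set_option autoImplicit false
open TensorProduct Groth.Agent
universe u
open Unram

namespace Groth.Agent.S9448

/-- For a field k and a finite type algebra A over the polynomial ring k[x_1, …, x_n] (the variables
mapping to a_1, …, a_n), the structure map is étale if and only if (a) the local rings of A at all
maximal ideals have dimension n and (b) da_1, …, da_n generate the module of differentials of A over
k. -/
theorem result (k : Type u) [Field k] (n : ℕ)
    (A : Type u) [CommRing A] [Algebra k A] [Algebra (MvPolynomial (Fin n) k) A]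
    [IsScalarTower k (MvPolynomial (Fin n) k) A] [Algebra.FiniteType (MvPolynomial (Fin n) k) A] :
    Algebra.Etale (MvPolynomial (Fin n) k) A ↔
      (∀ (m : Ideal A) [m.IsMaximal], ringKrullDim (Localization.AtPrime m) = n) ∧
        Submodule.span A (Set.range fun i : Fin n =>
          KaehlerDifferential.D k A (algebraMap (MvPolynomial (Fin n) k) A (MvPolynomial.X i))) = ⊤ := by
  let B := MvPolynomial (Fin n) k
  have : Algebra.FiniteType k A := Algebra.FiniteType.trans (S := B) inferInstance inferInstance
  have : IsNoetherianRing A := Algebra.FiniteType.isNoetherianRing k A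
  have : Algebra.FinitePresentation B A := Algebra.FinitePresentation.of_finiteType.mp inferInstance
  have hdim : ∀ (m : Ideal A) [m.IsMaximal], ringKrullDim (Localization.AtPrime m) = (n : WithBot ℕ∞) ↔
      CAlgH2.dimAt k m = n := by
    intro m _
    rw [IsLocalization.AtPrime.ringKrullDim_eq_height m (Localization.AtPrime m),
      CAlgH2.height_maximal_eq_dimAt k m]
    norm_cast
  constructor
  · intro h
    refine ⟨fun m _ => (hdim m).2 ?_, Unr55.EtPoly.span_eq_top_of_formallyUnramified k A A n⟩
    let e : m.ResidueField ⊗[A] Ω[A⁄k] ≃ₗ[m.ResidueField] m.ResidueField ⊗[B] Ω[B⁄k] :=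
      AlgebraTensorModule.congr (LinearEquiv.refl _ _)
        (KaehlerDifferential.tensorKaehlerEquivOfFormallyEtale k B A).symm ≪≫ₗ
        AlgebraTensorModule.cancelBaseChange B A m.ResidueField m.ResidueField _
    have hf : Module.finrank m.ResidueField (m.ResidueField ⊗[A] Ω[A⁄k]) = n := by
      rw [e.finrank_eq, Module.finrank_eq_card_basis
        ((KaehlerDifferential.mvPolynomialBasis k (Fin n)).baseChange m.ResidueField), Fintype.card_fin]
    have : Algebra.FormallySmooth k A := .comp k B A
    have : Algebra.IsSmoothAt k m := Algebra.FormallySmooth.comp k A (Localization.AtPrime m)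
    refine le_antisymm ((Unr55.EtPoly.dimAt_le_finrank k m).trans hf.le) ?_
    exact hf.ge.trans (CAlg1.le_dimAt_of_isSmoothAt k m)
  · rintro ⟨ha, hb⟩
    rw [← Algebra.etaleLocus_eq_univ_iff_etale, Set.eq_univ_iff_forall]
    intro q
    obtain ⟨m, hm, hqm⟩ := Ideal.exists_le_maximal q.asIdeal q.2.ne_top
    have hsp : q ⤳ ⟨m, hm.isPrime⟩ := (PrimeSpectrum.le_iff_specializes q ⟨m, hm.isPrime⟩).1 hqm
    refine hsp.mem_open Algebra.isOpen_etaleLocus ?_
    refine Unr55.EtPoly.isEtaleAt_of_span_eq_top k A n m ((hdim m).1 (ha m)) ?_
    rw [← top_le_iff, ← KaehlerDifferential.span_range_derivation k (Localization.AtPrime m), Submodule.span_le]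
    rintro _ ⟨x, rfl⟩
    obtain ⟨⟨a, s⟩, hx⟩ := IsLocalization.surj m.primeCompl x
    let L := Localization.AtPrime m
    let S := Submodule.span L (Set.range fun i : Fin n => KaehlerDifferential.D k L
      (algebraMap A L (algebraMap B A (MvPolynomial.X i))))
    have key : ∀ c : A, KaehlerDifferential.D k L (algebraMap A L c) ∈ S := by
      intro c
      have hc : KaehlerDifferential.D k A c ∈ (⊤ : Submodule A Ω[A⁄k]) := trivial
      rw [← hb] at hc
      rw [← KaehlerDifferential.map_D k k A L c]
      refine Submodule.span_induction (p := fun w _ => KaehlerDifferential.map k k A L w ∈ S) ?_ ?_ ?_ ?_ hc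
      · rintro _ ⟨i, rfl⟩
        rw [KaehlerDifferential.map_D]
        exact Submodule.subset_span ⟨i, rfl⟩
      · simp
      · intro a b _ _ h1 h2; rw [map_add]; exact add_mem h1 h2
      · intro a w _ h1; rw [map_smul]; exact Submodule.smul_of_tower_mem S a h1
    have h2 := congrArg (KaehlerDifferential.D k L) hx
    rw [Derivation.leibniz] at h2
    have h3 : algebraMap A L s • KaehlerDifferential.D k L x ∈ S := by
      rw [eq_sub_of_add_eq' h2]
      exact sub_mem (key a) (S.smul_mem x (key s))
    exact (Submodule.smul_mem_iff_of_isUnit S (IsLocalization.map_units L s)).1 h3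

end Groth.Agent.S9448
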