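import Groth.Statements.S9450
import Mathlib.RingTheory.Kaehler.Basic
import Mathlib.RingTheory.Ideal.Cotangent
import Mathlib.LinearAlgebra.TensorProduct.Quotient

set_option autoImplicit false
universe u
open CAlg

namespace Groth.Agent.S9450

/-- For ring maps A → B → C with A → C surjective and A → B formally smooth, writing I = ker(A → C) and
J = ker(B → C), the sequence 0 → I/I² → J/J² → C ⊗_B Ω_{B/A} → 0 is split exact: the first map is
injective and admits an A-linear retraction, its range is the kernel of the second map (class of x ↦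
1 ⊗ dx), and the second map is surjective. -/
theorem result (A : Type u) [CommRing A]
    (B : Type u) [CommRing B] [Algebra A B] [Algebra.FormallySmooth A B] (C : Type u) [CommRing C]
    [Algebra B C] [Algebra A C] [IsScalarTower A B C] (hC : Function.Surjective (algebraMap A C)) :
    Function.Injective (Ideal.mapCotangent (RingHom.ker (algebraMap A C))
        (RingHom.ker (algebraMap B C)) (Algebra.ofId A B)
        (le_of_eq (congrArg RingHom.ker (IsScalarTower.algebraMap_eq A B C)))) ∧
      (∃ r : (RingHom.ker (algebraMap B C)).Cotangent →ₗ[A] (RingHom.ker (algebraMap A C)).Cotangent,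
        r ∘ₗ (Ideal.mapCotangent (RingHom.ker (algebraMap A C)) (RingHom.ker (algebraMap B C))
          (Algebra.ofId A B)
          (le_of_eq (congrArg RingHom.ker (IsScalarTower.algebraMap_eq A B C)))) = LinearMap.id) ∧
      LinearMap.range (Ideal.mapCotangent (RingHom.ker (algebraMap A C))
          (RingHom.ker (algebraMap B C)) (Algebra.ofId A B)
          (le_of_eq (congrArg RingHom.ker (IsScalarTower.algebraMap_eq A B C)))) =
        LinearMap.ker ((KaehlerDifferential.kerCotangentToTensor A B C).restrictScalars A) ∧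
      Function.Surjective (KaehlerDifferential.kerCotangentToTensor A B C) := by
  have hBC : Function.Surjective (algebraMap B C) := by
    rw [IsScalarTower.algebraMap_eq A B C] at hC
    exact Function.Surjective.of_comp (g := algebraMap A B) hC
  set I := RingHom.ker (algebraMap A C) with hIdef
  set J := RingHom.ker (algebraMap B C) with hJdef
  have hIJ : I ≤ J.comap (Algebra.ofId A B) :=
    le_of_eq (congrArg RingHom.ker (IsScalarTower.algebraMap_eq A B C))
  have hIJ' : ∀ i, i ∈ I → algebraMap A B i ∈ J := fun i hi => hIJ hi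
  -- the lift of `B → C` to `A/I²`
  let q : A ⧸ I ^ 2 →ₐ[A] C := Ideal.Quotient.liftₐ _ (Algebra.ofId A C) fun a ha =>
    (Ideal.pow_le_self two_ne_zero ha : a ∈ I)
  have hq : Function.Surjective q := fun z => by
    obtain ⟨a, rfl⟩ := hC z
    exact ⟨Ideal.Quotient.mk _ a, rfl⟩
  have hqn : IsNilpotent (RingHom.ker (q : A ⧸ I ^ 2 →+* C)) := by
    refine ⟨2, le_bot_iff.mp ?_⟩
    have hle : RingHom.ker (q : A ⧸ I ^ 2 →+* C) ≤ I.map (Ideal.Quotient.mk (I ^ 2)) := fun z hz => by
      obtain ⟨r, rfl⟩ := Ideal.Quotient.mk_surjective z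
      exact Ideal.mem_map_of_mem _ hz
    refine (Ideal.pow_right_mono hle 2).trans ?_
    rw [← Ideal.map_pow, Ideal.map_quotient_self]
  let σ := Algebra.FormallySmooth.liftOfSurjective (IsScalarTower.toAlgHom A B C) q hq hqn
  choose a ha using fun b => Ideal.Quotient.mk_surjective (σ b)
  have hσ : ∀ b, algebraMap A C (a b) = algebraMap B C b := fun b => by
    have h := DFunLike.congr_fun (Algebra.FormallySmooth.comp_liftOfSurjective (IsScalarTower.toAlgHom A B C) q hq hqn) b
    rw [AlgHom.comp_apply] at h
    show q (Ideal.Quotient.mk _ (a b)) = _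
    rw [ha]; exact h
  have haI : ∀ j ∈ J, a j ∈ I := fun j hj => by
    rw [RingHom.mem_ker, hσ]; exact hj
  have hwd : ∀ (x : A) (b : B), x ∈ I → Ideal.Quotient.mk (I ^ 2) x = σ b → x - a b ∈ I ^ 2 :=
    fun x b _ h => Ideal.Quotient.eq.mp (h.trans (ha b).symm)
  -- the retraction
  let r0 : J →ₗ[A] I.Cotangent :=
    { toFun := fun j => I.toCotangent ⟨a j, haI j j.2⟩
      map_add' := fun x y => by
        rw [← map_add, Ideal.toCotangent_eq]
        show a (↑x + ↑y) - (a ↑x + a ↑y) ∈ I ^ 2
        refine Ideal.Quotient.eq.mp ?_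
        rw [map_add, ha, ha, ha, map_add]
      map_smul' := fun c x => by
        rw [RingHom.id_apply, ← LinearMap.map_smul, Ideal.toCotangent_eq]
        show a (c • ↑x) - c * a ↑x ∈ I ^ 2
        refine Ideal.Quotient.eq.mp ?_
        rw [ha, map_smul, map_mul, ha, Algebra.smul_def]
        rfl }
  have hJ2 : (J • ⊤ : Submodule B J).restrictScalars A ≤ LinearMap.ker r0 := by
    intro x hx
    show r0 x = 0
    rw [Submodule.restrictScalars_mem] at hx
    refine Submodule.smul_induction_on hx (fun b hb y _ => ?_) (fun x y hx hy => by rw [map_add, hx, hy, add_zero])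
    · show I.toCotangent ⟨a (b * y.1), _⟩ = 0
      rw [Ideal.toCotangent_eq_zero]
      have : a (b * y.1) - a b * a y.1 ∈ I ^ 2 := Ideal.Quotient.eq.mp (by
        rw [ha, map_mul, map_mul, ha, ha])
      have h2 : a b * a y.1 ∈ I ^ 2 := by
        rw [pow_two]; exact Ideal.mul_mem_mul (haI b hb) (haI _ y.2)
      have h3 := add_mem this h2
      rwa [sub_add_cancel] at h3
  let r : J.Cotangent →ₗ[A] I.Cotangent :=
    (Submodule.liftQ _ r0 hJ2).comp (Submodule.Quotient.restrictScalarsEquiv A (J • ⊤ : Submodule B J)).symm.toLinearMap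
  have hr : ∀ x : J, r (J.toCotangent x) = r0 x := fun x => rfl
  set m := Ideal.mapCotangent I J (Algebra.ofId A B) hIJ with hm
  have hrm : r ∘ₗ m = LinearMap.id := by
    refine LinearMap.ext fun z => ?_
    obtain ⟨i, rfl⟩ := I.toCotangent_surjective z
    show r (J.toCotangent ⟨algebraMap A B i.1, hIJ' i.1 i.2⟩) = I.toCotangent i
    rw [hr]
    show I.toCotangent ⟨a (algebraMap A B i.1), _⟩ = _
    rw [Ideal.toCotangent_eq]
    refine Ideal.Quotient.eq.mp ?_
    rw [ha, σ.commutes]
    rfl
  refine ⟨Function.LeftInverse.injective (g := r) fun z => DFunLike.congr_fun hrm z, ⟨r, hrm⟩, ?_, ?_⟩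
  · refine le_antisymm ?_ ?_
    · rintro _ ⟨z, rfl⟩
      obtain ⟨i, rfl⟩ := I.toCotangent_surjective z
      rw [LinearMap.mem_ker]
      show (1 : C) ⊗ₜ[B] KaehlerDifferential.D A B (algebraMap A B i.1) = 0
      rw [Derivation.map_algebraMap, TensorProduct.tmul_zero]
    · intro z hz
      obtain ⟨x, rfl⟩ := J.toCotangent_surjective z
      have hz' : (1 : C) ⊗ₜ[B] KaehlerDifferential.D A B x.1 = 0 := hz
      have hdb : ∀ b, b - algebraMap A B (a b) ∈ J := fun b => by
        rw [RingHom.mem_ker, map_sub, ← IsScalarTower.algebraMap_apply, hσ, sub_self]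
      -- the derivation measuring the failure of `B → A/I² → B/J²` to be the identity
      let δ0 : B →ₗ[A] J.Cotangent :=
        { toFun := fun b => J.toCotangent ⟨b - algebraMap A B (a b), hdb b⟩
          map_add' := fun b c => by
            rw [← map_add, Ideal.toCotangent_eq]
            show b + c - algebraMap A B (a (b + c)) - (b - algebraMap A B (a b) + (c - algebraMap A B (a c))) ∈ J ^ 2
            have h : a (b + c) - (a b + a c) ∈ I ^ 2 := Ideal.Quotient.eq.mp (by rw [ha, map_add, map_add, ha, ha])
            have h1' : algebraMap A B (a (b + c) - (a b + a c)) ∈ J ^ 2 :=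
              Ideal.le_comap_pow (Algebra.ofId A B) 2 (Ideal.pow_right_mono hIJ 2 h)
            have h2 := neg_mem h1'
            rw [map_sub, map_add] at h2
            convert h2 using 1
            ring
          map_smul' := fun t b => by
            rw [RingHom.id_apply, ← LinearMap.map_smul_of_tower, Ideal.toCotangent_eq]
            show t • b - algebraMap A B (a (t • b)) - t • (b - algebraMap A B (a b)) ∈ J ^ 2
            have h : a (t • b) - t * a b ∈ I ^ 2 := Ideal.Quotient.eq.mp (by
              rw [ha, map_smul, map_mul, ha, Algebra.smul_def]; rfl)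
            have h1' : algebraMap A B (a (t • b) - t * a b) ∈ J ^ 2 :=
              Ideal.le_comap_pow (Algebra.ofId A B) 2 (Ideal.pow_right_mono hIJ 2 h)
            have h2 := neg_mem h1'
            rw [map_sub, map_mul] at h2
            simp only [Algebra.smul_def] at h2 ⊢
            convert h2 using 1
            ring }
      let δ : Derivation A B J.Cotangent := Derivation.mk' δ0 fun b c => by
        show J.toCotangent ⟨b * c - algebraMap A B (a (b * c)), _⟩ =
          b • J.toCotangent ⟨c - algebraMap A B (a c), _⟩ + c • J.toCotangent ⟨b - algebraMap A B (a b), _⟩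
        rw [← LinearMap.map_smul, ← LinearMap.map_smul, ← map_add, Ideal.toCotangent_eq]
        show b * c - algebraMap A B (a (b * c)) -
          (b * (c - algebraMap A B (a c)) + c * (b - algebraMap A B (a b))) ∈ J ^ 2
        have h : a (b * c) - a b * a c ∈ I ^ 2 := Ideal.Quotient.eq.mp (by rw [ha, map_mul, map_mul, ha, ha])
        have h2 : algebraMap A B (a (b * c) - a b * a c) ∈ J ^ 2 :=
          Ideal.le_comap_pow (Algebra.ofId A B) 2 (Ideal.pow_right_mono hIJ 2 h)
        have h3 : (b - algebraMap A B (a b)) * (c - algebraMap A B (a c)) ∈ J ^ 2 := by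
          rw [pow_two]; exact Ideal.mul_mem_mul (hdb b) (hdb c)
        rw [map_sub, map_mul] at h2
        have h4 := neg_mem (add_mem h2 h3)
        convert h4 using 1
        ring
      have hω : KaehlerDifferential.D A B x.1 ∈ (J • ⊤ : Submodule B Ω[B⁄A]) := by
        have eC : (B ⧸ J) ≃ₐ[B] C := Ideal.quotientKerAlgEquivOfSurjective (f := Algebra.ofId B C) hBC
        have h1 : (Ideal.Quotient.mk J 1) ⊗ₜ[B] KaehlerDifferential.D A B x.1 = 0 := by
          apply (TensorProduct.congr eC.toLinearEquiv (LinearEquiv.refl B Ω[B⁄A])).injective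
          rw [map_zero, TensorProduct.congr_tmul]
          rw [show eC.toLinearEquiv (Ideal.Quotient.mk J 1) = 1 from map_one eC]
          exact hz'
        have h2 := congrArg (TensorProduct.quotTensorEquivQuotSMul Ω[B⁄A] J) h1
        rw [map_zero, TensorProduct.quotTensorEquivQuotSMul_mk_tmul, one_smul] at h2
        exact (Submodule.Quotient.mk_eq_zero _).mp h2
      have hkill : ∀ ω ∈ (J • ⊤ : Submodule B Ω[B⁄A]), δ.liftKaehlerDifferential ω = 0 := by
        intro ω hω'
        refine Submodule.smul_induction_on hω' (fun b hb y _ => ?_) (fun x y hx hy => by rw [map_add, hx, hy, add_zero])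
        · rw [map_smul]
          obtain ⟨w, hw⟩ := J.toCotangent_surjective (δ.liftKaehlerDifferential y)
          rw [← hw, ← LinearMap.map_smul, Ideal.toCotangent_eq_zero, SetLike.val_smul, smul_eq_mul, pow_two]
          exact Ideal.mul_mem_mul hb w.2
      have h5 : δ x.1 = 0 := by
        rw [← Derivation.liftKaehlerDifferential_comp_D δ]; exact hkill _ hω
      refine ⟨I.toCotangent ⟨a x.1, haI _ x.2⟩, ?_⟩
      show J.toCotangent ⟨algebraMap A B (a x.1), _⟩ = J.toCotangent x
      rw [eq_comm, ← sub_eq_zero, ← map_sub]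
      exact h5
  · intro z
    induction z using TensorProduct.induction_on with
    | zero => exact ⟨0, map_zero _⟩
    | add x y hx hy =>
      obtain ⟨⟨u, rfl⟩, ⟨v, rfl⟩⟩ := hx, hy
      exact ⟨u + v, map_add _ _ _⟩
    | tmul c ω =>
      have hω : ω ∈ Submodule.span B (Set.range (KaehlerDifferential.D A B)) := by
        rw [KaehlerDifferential.span_range_derivation]; trivial
      induction hω using Submodule.span_induction with
      | mem y hy =>
        obtain ⟨b, rfl⟩ := hy
        obtain ⟨a', ha'⟩ := hC (algebraMap B C b)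
        obtain ⟨b', rfl⟩ := hBC c
        have hj : b - algebraMap A B a' ∈ J := by
          rw [RingHom.mem_ker, map_sub, ← IsScalarTower.algebraMap_apply, ha', sub_self]
        refine ⟨b' • J.toCotangent ⟨_, hj⟩, ?_⟩
        rw [map_smul]
        show b' • ((1 : C) ⊗ₜ[B] KaehlerDifferential.D A B (b - algebraMap A B a')) = _
        rw [map_sub, Derivation.map_algebraMap, sub_zero, TensorProduct.smul_tmul',
          Algebra.algebraMap_eq_smul_one]
      | zero => exact ⟨0, by rw [map_zero, TensorProduct.tmul_zero]⟩
      | add x y _ _ hx hy =>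
        obtain ⟨⟨u, hu⟩, ⟨v, hv⟩⟩ := hx, hy
        exact ⟨u + v, by rw [map_add, hu, hv, TensorProduct.tmul_add]⟩
      | smul b x _ hx =>
        obtain ⟨u, hu⟩ := hx
        exact ⟨b • u, by rw [map_smul, hu, TensorProduct.tmul_smul]⟩


end Groth.Agent.S9450
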