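import Groth.Statements.S9451
import Mathlib.RingTheory.Smooth.NoetherianDescent
import Mathlib.Algebra.Category.Ring.FilteredColimits
import Mathlib.CategoryTheory.Limits.ConcreteCategory.Filtered
import Mathlib.CategoryTheory.Limits.ConcreteCategory.Basic
import Mathlib.RingTheory.FinitePresentation

set_option autoImplicit false
universe u
open CategoryTheory CategoryTheory.Limits TensorProduct
open CAlg

namespace Groth.Agent.S9451

/-- Let (A_i) be a filtered system of rings with colimit A and B a smooth A-algebra. Then some stage A_i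
carries a smooth A_i-algebra B_i with B isomorphic to A ⊗_{A_i} B_i as A-algebras (the base change
along the colimit map A_i → A; existence of an isomorphism). -/
theorem result {I : Type u} [SmallCategory I] [IsFiltered I]
    (D : I ⥤ CommRingCat.{u}) (c : Cocone D) (hc : IsColimit c) (B : Type u) [CommRing B]
    [Algebra c.pt B] [Algebra.Smooth c.pt B] :
    ∃ (i : I) (Bi : Type u) (_ : CommRing Bi) (_ : Algebra (D.obj i) Bi),
      Algebra.Smooth (D.obj i) Bi ∧
      (letI : Algebra (D.obj i) c.pt := (c.ι.app i).hom.toAlgebra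
       Nonempty (B ≃ₐ[c.pt] (c.pt ⊗[D.obj i] Bi))) := by
  classical
  let G : I → Type u := fun i => D.obj i
  let g : ∀ i, G i →ₐ[ℤ] c.pt := fun i => (c.ι.app i).hom.toIntAlgHom
  have hsurj : ∀ a : c.pt, ∃ i, ∃ x : G i, g i x = a := fun a =>
    Concrete.isColimit_exists_rep D hc a
  have hmap : ∀ {i j : I} (f : i ⟶ j) (x : G i), g j (D.map f x) = g i x := fun {i j} f x =>
    ConcreteCategory.congr_hom (c.w f) x
  obtain ⟨A₀, B₀, _, _, hA₀, _, ⟨e⟩⟩ := Algebra.Smooth.exists_subalgebra_fg ℤ c.pt B
  -- a presentation of the coefficient ring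
  have : Algebra.FiniteType ℤ A₀ := (Subalgebra.fg_iff_finiteType A₀).mp hA₀
  have : Algebra.FinitePresentation ℤ A₀ := (Algebra.FinitePresentation.of_finiteType).mp inferInstance
  obtain ⟨n, f, hf, T, hT⟩ := (inferInstance : Algebra.FinitePresentation ℤ A₀).out
  -- lift the generators to a single stage
  have hfin : ∀ s : Finset (Fin n), ∃ i, ∀ k ∈ s, ∃ x : G i, g i x = (f (MvPolynomial.X k) : c.pt) := by
    intro s
    induction s using Finset.induction with
    | empty => exact ⟨(IsFiltered.nonempty (C := I)).some, by simp⟩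
    | insert k s hk ih =>
      obtain ⟨i, hi⟩ := ih
      obtain ⟨j, y, hy⟩ := hsurj (f (MvPolynomial.X k) : c.pt)
      refine ⟨IsFiltered.max i j, fun k' hk' => ?_⟩
      rcases Finset.mem_insert.mp hk' with rfl | hk'
      · exact ⟨D.map (IsFiltered.rightToMax i j) y, by rw [hmap, hy]⟩
      · obtain ⟨x, hx⟩ := hi k' hk'
        exact ⟨D.map (IsFiltered.leftToMax i j) x, by rw [hmap, hx]⟩
  obtain ⟨i, hi⟩ := hfin Finset.univ
  choose x hx using fun k => hi k (Finset.mem_univ k)
  have hkill : ∀ s : Finset (MvPolynomial (Fin n) ℤ), s ⊆ T → ∃ (j : I) (φ : i ⟶ j),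
      ∀ t ∈ s, D.map φ (MvPolynomial.aeval x t) = 0 := by
    intro s
    induction s using Finset.induction with
    | empty => exact fun _ => ⟨i, 𝟙 i, by simp⟩
    | insert t s ht ih =>
      intro hsub
      obtain ⟨j, φ, hφ⟩ := ih fun y hy => hsub (Finset.mem_insert_of_mem hy)
      have h0 : g j (D.map φ (MvPolynomial.aeval x t)) = 0 := by
        rw [hmap]
        refine (DFunLike.congr_fun (MvPolynomial.comp_aeval x (g i)) t).trans ?_
        have e1 : (MvPolynomial.aeval fun k => g i (x k)) = A₀.val.comp f :=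
          MvPolynomial.algHom_ext fun k => by simp [hx]
        rw [e1]
        have : f t = 0 := by
          have h1 : t ∈ Ideal.span (T : Set (MvPolynomial (Fin n) ℤ)) :=
            Ideal.subset_span (hsub (Finset.mem_insert_self t s))
          rw [hT] at h1
          exact h1
        simp [this]
      obtain ⟨k, ψ, hψ⟩ := (IsColimit.eq_iff' hc (D.map φ (MvPolynomial.aeval x t)) (0 : G j)).mp
        (h0.trans (map_zero (g j)).symm)
      refine ⟨k, φ ≫ ψ, fun y hy => ?_⟩
      rcases Finset.mem_insert.mp hy with rfl | hy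
      · rw [D.map_comp]; exact hψ.trans (map_zero _)
      · rw [D.map_comp]
        show D.map ψ (D.map φ _) = 0
        rw [hφ y hy, map_zero]
  obtain ⟨j, φ, hφ⟩ := hkill T subset_rfl
  let ev : MvPolynomial (Fin n) ℤ →ₐ[ℤ] G j :=
    ((D.map φ).hom.toIntAlgHom).comp (MvPolynomial.aeval x)
  have hker : RingHom.ker f ≤ RingHom.ker ev := by
    show RingHom.ker f.toRingHom ≤ _
    rw [← hT, Ideal.span_le]
    exact fun t ht => hφ t ht
  let θ : A₀ →ₐ[ℤ] G j := (Ideal.Quotient.liftₐ (RingHom.ker f) ev fun t ht => hker ht).comp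
    (Ideal.quotientKerAlgEquivOfSurjective hf).symm.toAlgHom
  have hθ : ∀ a : A₀, g j (θ a) = (a : c.pt) := by
    intro a
    obtain ⟨p, rfl⟩ := hf a
    have h1 : θ (f p) = ev p := by
      show Ideal.Quotient.liftₐ (RingHom.ker f) ev (fun t ht => hker ht)
        ((Ideal.quotientKerAlgEquivOfSurjective hf).symm (f p)) = _
      have : (Ideal.quotientKerAlgEquivOfSurjective hf).symm (f p) = Ideal.Quotient.mk _ p := by
        rw [AlgEquiv.symm_apply_eq]; rfl
      rw [this]; rfl
    rw [h1]
    refine DFunLike.congr_fun (MvPolynomial.algHom_ext (f := (g j).comp ev) (g := A₀.val.comp f)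
      fun k => ?_) p
    show g j (D.map φ (MvPolynomial.aeval x (MvPolynomial.X k))) = _
    rw [hmap, MvPolynomial.aeval_X, hx]
    rfl
  let _ : Algebra A₀ (D.obj j) := θ.toRingHom.toAlgebra
  let _ : Algebra (D.obj j) c.pt := (c.ι.app j).hom.toAlgebra
  have : IsScalarTower A₀ (D.obj j) c.pt := IsScalarTower.of_algebraMap_eq fun a => (hθ a).symm
  exact ⟨j, (D.obj j) ⊗[A₀] B₀, inferInstance, inferInstance, inferInstance,
    ⟨e.trans (Algebra.TensorProduct.cancelBaseChange A₀ (D.obj j) c.pt c.pt B₀).symm⟩⟩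


end Groth.Agent.S9451
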