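import Groth.Statements.S9452
import Groth.Agent.Unr55.EtLocal

set_option autoImplicit false
universe u
open Unram

namespace Groth.Agent.S9452

open TensorProduct in
/-- Let R → S be of finite type and unramified at a prime q lying over p. Then there are an étale
R-algebra R', a prime p' of R' over p and an R'-algebra isomorphism e : R' ⊗_R S ≅ A × B with R' → A
surjective and p'A a prime ideal of A lying over p' whose pull-back along S → R' ⊗_R S ≅ A × B → A
is q. -/
theorem result (R : Type u) [CommRing R]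
    (S : Type u) [CommRing S] [Algebra R S] [Algebra.FiniteType R S] (q : Ideal S) [q.IsPrime]
    [Algebra.IsUnramifiedAt R q] :
    ∃ (R' : Type u) (_ : CommRing R') (_ : Algebra R R') (_ : Algebra.Etale R R') (p' : Ideal R')
      (_ : p'.IsPrime) (_ : p'.LiesOver (q.under R)) (A : Type u) (_ : CommRing A) (_ : Algebra R' A)
      (B : Type u) (_ : CommRing B) (_ : Algebra R' B) (e : (R' ⊗[R] S) ≃ₐ[R'] (A × B)),
      Function.Surjective (algebraMap R' A) ∧ (p'.map (algebraMap R' A)).IsPrime ∧
        (p'.map (algebraMap R' A)).comap (algebraMap R' A) = p' ∧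
        (p'.map (algebraMap R' A)).comap (((RingHom.fst A B).comp e.toRingHom).comp
          (Algebra.TensorProduct.includeRight : S →ₐ[R] R' ⊗[R] S).toRingHom) = q := by
  obtain ⟨R', _, _, _, p', _, _, e, he, h1, -, Q, _, hQc, hQS, heQ⟩ :=
    Unr55.exists_etale_idempotent q (q.under R)
  have h1e : (1 - e) ∈ Q := by
    have : e * (1 - e) ∈ Q := by rw [mul_sub, mul_one, he.eq, sub_self]; exact Q.zero_mem
    exact (Ideal.IsPrime.mem_or_mem ‹_› this).resolve_left heQ
  let mk := Ideal.Quotient.mkₐ R' (Ideal.span {1 - e})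
  have hmk : Function.Surjective mk := Ideal.Quotient.mk_surjective
  have hQQ : (Q.map mk.toRingHom).comap mk.toRingHom = Q := by
    rw [Ideal.comap_map_of_surjective mk.toRingHom hmk, ← RingHom.ker_eq_comap_bot]
    exact sup_eq_left.mpr fun z hz ↦ (Ideal.span_singleton_le_iff_mem _).mpr h1e
      (Ideal.Quotient.eq_zero_iff_mem.mp hz)
  have : (Q.map mk.toRingHom).IsPrime := Ideal.map_isPrime_of_surjective hmk
    fun z hz ↦ (Ideal.span_singleton_le_iff_mem _).mpr h1e (Ideal.Quotient.eq_zero_iff_mem.mp hz)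
  have hsur : Function.Surjective (algebraMap R' ((R' ⊗[R] S) ⧸ Ideal.span {1 - e})) := fun a ↦ by
    obtain ⟨t, rfl⟩ := Ideal.Quotient.mk_surjective a
    obtain ⟨r, hr⟩ := h1 t
    refine ⟨r, Ideal.Quotient.eq.mpr (Ideal.mem_span_singleton'.mpr ⟨algebraMap R' _ r - t, ?_⟩)⟩
    rw [mul_sub, mul_one, sub_mul, ← hr, sub_self, sub_zero]
  have hc : (Q.map mk.toRingHom).comap (algebraMap R' _) = p' := by
    rw [← hQc]
    conv_rhs => rw [← hQQ, Ideal.comap_comap]
    congr 1
  have hA : p'.map (algebraMap R' ((R' ⊗[R] S) ⧸ Ideal.span {1 - e})) = Q.map mk.toRingHom := by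
    rw [← hc, Ideal.map_comap_of_surjective _ hsur]
  refine ⟨R', inferInstance, inferInstance, inferInstance, p', inferInstance, inferInstance,
    (R' ⊗[R] S) ⧸ Ideal.span {1 - e}, inferInstance, inferInstance, (R' ⊗[R] S) ⧸ Ideal.span {e},
    inferInstance, inferInstance,
    AlgEquiv.prodQuotientOfIsIdempotentElem R' he.one_sub he (by simp) (by rw [sub_mul, one_mul, he.eq, sub_self]),
    hsur, ?_, ?_, ?_⟩
  · rw [hA]; infer_instance
  · rw [hA, hc]
  · rw [hA]
    refine Eq.trans ?_ hQS
    conv_rhs => rw [← hQQ, Ideal.comap_comap]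
    rfl

end Groth.Agent.S9452
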