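import Groth.Statements.S9454
import Groth.Agent.CAlg5.EtaleCover

set_option autoImplicit false
universe u
open CAlg

namespace Groth.Agent.S9454

/-- For an étale ring map R → S which is surjective on spectra there is a finite, finitely presented,
flat R-algebra S' with Spec S' → Spec R surjective such that, Zariski locally on S', the structure
map factors through S: every prime q' of S' has some g' ∉ q' and an R-algebra map S → S'_{g'}. -/
theorem result (R : Type u) [CommRing R]
    (S : Type u) [CommRing S] [Algebra R S] [Algebra.Etale R S]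
    (hs : Function.Surjective (PrimeSpectrum.comap (algebraMap R S))) :
    ∃ (S' : Type u) (_ : CommRing S') (_ : Algebra R S'),
      Module.Finite R S' ∧ Algebra.FinitePresentation R S' ∧ Module.Flat R S' ∧
        Function.Surjective (PrimeSpectrum.comap (algebraMap R S')) ∧
        ∀ (q' : Ideal S') [q'.IsPrime], ∃ (g' : S') (_ : g' ∉ q'),
          Nonempty (S →ₐ[R] Localization.Away g') := by
  classical
  have hex : ∀ q : PrimeSpectrum S, ∃ f, f ∉ q.asIdeal ∧ Algebra.IsStandardEtale R (Localization.Away f) := fun q =>
    Algebra.IsEtaleAt.exists_isStandardEtale (R := R) (Q := q.asIdeal)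
  choose f hf hst using hex
  have htop : Ideal.span (Set.range f) = ⊤ := by
    by_contra h
    obtain ⟨M, hM, hle⟩ := Ideal.exists_le_maximal _ h
    exact hf ⟨M, hM.isPrime⟩ (hle (Ideal.subset_span ⟨_, rfl⟩))
  obtain ⟨s, hs', hs1⟩ := Submodule.mem_span_finite_of_mem_span (R := S) (show (1 : S) ∈ Ideal.span (Set.range f) by rw [htop]; trivial)
  obtain ⟨S', _, _, h1, h2, h3, h4, h5⟩ := Groth.Agent.CAlg5.exists_cover_family R S s (fun x hx => by
    obtain ⟨q, rfl⟩ := hs' hx; exact hst q)
  refine ⟨S', inferInstance, inferInstance, h1, h2, h3, h4, fun q' _ => ?_⟩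
  obtain ⟨q, hq⟩ := hs ⟨q'.under R, inferInstance⟩
  refine h5 q' q.asIdeal (congrArg PrimeSpectrum.asIdeal hq).symm ?_
  by_contra hc
  push Not at hc
  exact q.isPrime.ne_top ((Ideal.eq_top_iff_one _).mpr (Submodule.span_le.mpr hc hs1))


end Groth.Agent.S9454
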