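import Groth.Statements.S9458
import Groth.Agent.Henz21.QuasiFiniteLocal
import Groth.Agent.Henz21.Unique
-- import your own Groth.Agent.* helpers here

set_option autoImplicit false
universe u
open Hensel

namespace Groth.Agent.S9458

/-- Let R → S be of finite type and quasi-finite at a prime q lying over p, and let R_p^h, S_q^h be
henselizations of the local rings, S_q^h carrying the compatible R_p^h-algebra structure (the
canonical local map R_p^h → S_q^h). Then S_q^h is finite over R_p^h. (The published statement also
identifies S_q^h with a localization of R_p^h ⊗_{R_p} S_q; this row states only that S_q^h is finite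
over R_p^h.) -/
theorem result (R : Type u) [CommRing R] (S : Type u)
    [CommRing S] [Algebra R S] [Algebra.FiniteType R S] (p : Ideal R) [p.IsPrime] (q : Ideal S)
    [q.IsPrime] [q.LiesOver p] [Algebra.QuasiFiniteAt R q]
    (Rh : Type u) [CommRing Rh] [IsLocalRing Rh] [Algebra (Localization.AtPrime p) Rh]
    [IsLocalHom (algebraMap (Localization.AtPrime p) Rh)]
    [Hensel.IsHenselization (Localization.AtPrime p) Rh]
    (Sh : Type u) [CommRing Sh] [IsLocalRing Sh] [Algebra (Localization.AtPrime q) Sh]
    [IsLocalHom (algebraMap (Localization.AtPrime q) Sh)]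
    [Hensel.IsHenselization (Localization.AtPrime q) Sh]
    [Algebra (Localization.AtPrime p) (Localization.AtPrime q)]
    [IsScalarTower R (Localization.AtPrime p) (Localization.AtPrime q)]
    [Algebra Rh Sh] [Algebra (Localization.AtPrime p) Sh]
    [IsScalarTower (Localization.AtPrime p) Rh Sh]
    [IsScalarTower (Localization.AtPrime p) (Localization.AtPrime q) Sh] :
    Module.Finite Rh Sh := by
  haveI := Groth.Agent.Henz21.isLocalHom_atPrime (A := Localization.AtPrime p)
    (Sq := Localization.AtPrime q) p q
  haveI hα : IsLocalHom (algebraMap Rh Sh) := by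
    refine ((IsLocalRing.local_hom_TFAE _).out 0 2).mpr ?_
    rw [← Groth.Agent.Henz21.henselization_map_maximalIdeal (R := Localization.AtPrime p) (S := Rh),
      Ideal.map_map, ← IsScalarTower.algebraMap_eq,
      IsScalarTower.algebraMap_eq (Localization.AtPrime p) (Localization.AtPrime q) Sh]
    haveI := RingHom.isLocalHom_comp (algebraMap (Localization.AtPrime q) Sh)
      (algebraMap (Localization.AtPrime p) (Localization.AtPrime q))
    exact ((IsLocalRing.local_hom_TFAE _).out 0 2).mp this
  haveI : IsLocalHom
      (IsScalarTower.toAlgHom (Localization.AtPrime p) Rh Sh).toRingHom := hα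
  obtain ⟨B', hB, hfrac⟩ := Groth.Agent.Henz21.exists_finite_subalgebra (R := R)
    (A := Localization.AtPrime p) (Sq := Localization.AtPrime q) q
  exact Groth.Agent.Henz21.finite_of_baseChange (S := Localization.AtPrime q) (B' := B')
    (Groth.Agent.Henz21.baseChangeMap_henselization (Ssh := Sh)
      (IsScalarTower.toAlgHom (Localization.AtPrime p) Rh Sh) hfrac
      (fun b hb => ⟨1, by simp, by rw [one_mul]; exact Subtype.ext hb⟩))

end Groth.Agent.S9458
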