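import Groth.Statements.S9461
import Groth.Agent.Henz21.QuasiFiniteLocal
-- import your own Groth.Agent.* helpers here

set_option autoImplicit false
universe u
open Hensel

namespace Groth.Agent.S9461

/-- Let R → S be of finite type and quasi-finite at a prime q over p, and R^{sh}, S^{sh} strict
henselizations of R_p and S_q with a compatible local map R^{sh} → S^{sh} (over R). Then R^{sh} →
S^{sh} is finite and its residue field extension is finite and purely inseparable. (The published
statement also identifies S^{sh} with a localization of R^{sh} ⊗_{R_p} S_q; this row states only the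
finiteness and the residue-field assertions.) -/
theorem result (R : Type u) [CommRing R] (S : Type u)
    [CommRing S] [Algebra R S] [Algebra.FiniteType R S] (p : Ideal R) [p.IsPrime] (q : Ideal S)
    [q.IsPrime] [q.LiesOver p] [Algebra.QuasiFiniteAt R q]
    (Rh : Type u) [CommRing Rh] [IsLocalRing Rh] [Algebra (Localization.AtPrime p) Rh]
    [IsLocalHom (algebraMap (Localization.AtPrime p) Rh)]
    [Hensel.IsStrictHenselization (Localization.AtPrime p) Rh] [Algebra R Rh]
    [IsScalarTower R (Localization.AtPrime p) Rh]
    (Sh : Type u) [CommRing Sh] [IsLocalRing Sh] [Algebra (Localization.AtPrime q) Sh]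
    [IsLocalHom (algebraMap (Localization.AtPrime q) Sh)]
    [Hensel.IsStrictHenselization (Localization.AtPrime q) Sh] [Algebra S Sh]
    [IsScalarTower S (Localization.AtPrime q) Sh] [Algebra R Sh] [IsScalarTower R S Sh]
    [Algebra Rh Sh] [IsScalarTower R Rh Sh] [IsLocalHom (algebraMap Rh Sh)] :
    Module.Finite Rh Sh ∧
      Module.Finite (IsLocalRing.ResidueField Rh) (IsLocalRing.ResidueField Sh) ∧
      IsPurelyInseparable (IsLocalRing.ResidueField Rh) (IsLocalRing.ResidueField Sh) := by
  let A := Localization.AtPrime p
  let Sq := Localization.AtPrime q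
  let i : A →+* Sq := Localization.localRingHom p q (algebraMap R S) (Ideal.over_def q p)
  letI : Algebra A Sq := i.toAlgebra
  haveI : IsScalarTower R A Sq := IsScalarTower.of_algebraMap_eq fun x =>
    (IsScalarTower.algebraMap_apply R S Sq x).trans
      (Localization.localRingHom_to_map p q _ _ x).symm
  letI : Algebra A Sh := ((algebraMap Sq Sh).comp i).toAlgebra
  haveI : IsScalarTower A Sq Sh := IsScalarTower.of_algebraMap_eq' rfl
  haveI : IsScalarTower A Rh Sh := IsScalarTower.of_algebraMap_eq' (by
    refine IsLocalization.ringHom_ext p.primeCompl (RingHom.ext fun x => ?_)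
    show algebraMap Sq Sh (algebraMap A Sq (algebraMap R A x)) =
      algebraMap Rh Sh (algebraMap A Rh (algebraMap R A x))
    rw [← IsScalarTower.algebraMap_apply R A Rh, ← IsScalarTower.algebraMap_apply R Rh Sh,
      ← IsScalarTower.algebraMap_apply R A Sq, IsScalarTower.algebraMap_apply R S Sq,
      ← IsScalarTower.algebraMap_apply S Sq Sh, ← IsScalarTower.algebraMap_apply R S Sh])
  haveI : IsLocalHom (IsScalarTower.toAlgHom A Rh Sh).toRingHom := ‹IsLocalHom (algebraMap Rh Sh)›
  obtain ⟨B', hB, hfrac⟩ := Groth.Agent.Henz21.exists_finite_subalgebra (R := R) (A := A) (Sq := Sq) q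
  haveI hfin : Module.Finite Rh Sh := Groth.Agent.Henz21.finite_of_baseChange (S := Sq) (B' := B')
    (Groth.Agent.Henz21.baseChangeMap_strict (Ssh := Sh) (IsScalarTower.toAlgHom A Rh Sh) hfrac
      (fun b hb => ⟨1, by simp, by rw [one_mul]; exact Subtype.ext hb⟩)).1
  haveI := (‹Hensel.IsStrictHenselization A Rh›).isSepClosure
  haveI : IsSepClosed (IsLocalRing.ResidueField Rh) :=
    IsSepClosure.sep_closed (IsLocalRing.ResidueField A)
  haveI hres : Module.Finite (IsLocalRing.ResidueField Rh) (IsLocalRing.ResidueField Sh) :=
    inferInstance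
  haveI : Algebra.IsAlgebraic (IsLocalRing.ResidueField Rh) (IsLocalRing.ResidueField Sh) :=
    Algebra.IsAlgebraic.of_finite _ _
  exact ⟨hfin, hres, inferInstance⟩

end Groth.Agent.S9461
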