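import Groth.Statements.S9462
import Mathlib
import Groth.Agent.Helper62.FlatNilCrit
import Groth.Agent.FlatMor68.FlatUnramified

set_option autoImplicit false
universe u
open CAlg

namespace Groth.Agent.S9462

open TensorProduct in
/-- Consider surjections A' → A and B' → B with square-zero kernels I and J and a commutative square A'
→ B', A → B. If A → B is étale and J = I ⊗_A B — that is, J = IB' and the multiplication map B'
⊗_{A'} I → B' is injective — then A' → B' is étale. -/
theorem result (A' : Type u) [CommRing A'] (A : Type u) [CommRing A]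
    [Algebra A' A] (hA : Function.Surjective (algebraMap A' A))
    (hI : RingHom.ker (algebraMap A' A) ^ 2 = ⊥)
    (B' : Type u) [CommRing B'] [Algebra A' B'] (B : Type u) [CommRing B] [Algebra B' B]
    [Algebra A B] [Algebra A' B] [IsScalarTower A' A B] [IsScalarTower A' B' B]
    (hB : Function.Surjective (algebraMap B' B)) (hJ : RingHom.ker (algebraMap B' B) ^ 2 = ⊥)
    [Algebra.Etale A B]
    (hJI : RingHom.ker (algebraMap B' B) = (RingHom.ker (algebraMap A' A)).map (algebraMap A' B'))
    (hinj : Function.Injective ((RingHom.ker (algebraMap A' A)).subtype.baseChange B')) :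
    Algebra.Etale A' B' := by
  classical
  set I := RingHom.ker (algebraMap A' A) with hIdef
  set J := RingHom.ker (algebraMap B' B) with hJdef
  have hmul : ∀ x ∈ J, ∀ y ∈ J, x * y = 0 := fun x hx y hy => by
    rw [← Ideal.mem_bot, ← hJ, pow_two]; exact Ideal.mul_mem_mul hx hy
  have hIJ : ∀ i ∈ I, algebraMap A' B' i ∈ J := fun i hi => hJI ▸ Ideal.mem_map_of_mem _ hi
  -- finite presentation
  obtain ⟨n, φb, hφb⟩ := Algebra.FiniteType.iff_quotient_mvPolynomial''.mp (inferInstance : Algebra.FiniteType A B)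
  choose b hb using fun j => hB (φb (MvPolynomial.X j))
  let φ : MvPolynomial (Fin n) A' →ₐ[A'] B' := MvPolynomial.aeval b
  let ρ : MvPolynomial (Fin n) A' →+* MvPolynomial (Fin n) A := MvPolynomial.map (algebraMap A' A)
  have hρ : Function.Surjective ρ := MvPolynomial.map_surjective _ hA
  have hcomm : ∀ z, algebraMap B' B (φ z) = φb (ρ z) := fun z => by
    have : (algebraMap B' B).comp φ.toRingHom = φb.toRingHom.comp ρ := by
      refine MvPolynomial.ringHom_ext (fun a => ?_) fun j => ?_
      · simp [φ, ρ, ← IsScalarTower.algebraMap_apply]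
      · simp [φ, ρ, hb]
    exact RingHom.congr_fun this z
  have hmodJ : ∀ x : B', ∃ z, x - φ z ∈ J := fun x => by
    obtain ⟨w, hw⟩ := hφb (algebraMap B' B x)
    obtain ⟨z, rfl⟩ := hρ w
    exact ⟨z, by rw [RingHom.mem_ker, map_sub, hcomm, hw, sub_self]⟩
  let IP : Ideal (MvPolynomial (Fin n) A') := I.map MvPolynomial.C
  have hJimg : ∀ x ∈ J, ∃ g ∈ IP, φ g = x := by
    intro x hx
    rw [hJI] at hx
    refine Submodule.span_induction (p := fun x _ => ∃ g ∈ IP, φ g = x) ?_ ?_ ?_ ?_ hx
    · rintro _ ⟨i, hi, rfl⟩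
      exact ⟨MvPolynomial.C i, Ideal.mem_map_of_mem _ hi, MvPolynomial.aeval_C _ _⟩
    · exact ⟨0, zero_mem _, map_zero _⟩
    · rintro _ _ _ _ ⟨g, hg, rfl⟩ ⟨g', hg', rfl⟩
      exact ⟨g + g', add_mem hg hg', map_add _ _ _⟩
    · rintro r _ _ ⟨g, hg, rfl⟩
      obtain ⟨z, hz⟩ := hmodJ r
      refine ⟨z * g, Ideal.mul_mem_left _ _ hg, ?_⟩
      rw [smul_eq_mul, map_mul, ← sub_eq_zero, ← sub_mul, ← neg_sub r, neg_mul, neg_eq_zero]
      refine hmul _ hz _ ?_
      rw [hJI]
      exact (Ideal.map_le_iff_le_comap.mpr (Ideal.map_le_iff_le_comap.mpr fun i hi => by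
        show φ (MvPolynomial.C i) ∈ Ideal.map (algebraMap A' B') I
        rw [MvPolynomial.aeval_C]; exact Ideal.mem_map_of_mem _ hi) : IP.map φ.toRingHom ≤ _)
        (Ideal.mem_map_of_mem _ hg)
  have hφ : Function.Surjective φ := fun x => by
    obtain ⟨z, hz⟩ := hmodJ x
    obtain ⟨g, -, hg⟩ := hJimg _ hz
    exact ⟨z + g, by rw [map_add, hg, add_sub_cancel]⟩
  have hkerρ : RingHom.ker ρ = IP := MvPolynomial.ker_map _
  obtain ⟨s, hs⟩ := Algebra.FinitePresentation.ker_fG_of_surjective φb hφb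
  have hlift : ∀ y : (s : Set _), ∃ f, φ f = 0 ∧ ρ f = y.1 := by
    intro y
    obtain ⟨f0, hf0⟩ := hρ y.1
    have hy : φb y.1 = 0 := hs.le (Ideal.subset_span y.2)
    obtain ⟨g, hg, hgf⟩ := hJimg (φ f0) (by rw [RingHom.mem_ker, hcomm, hf0, hy])
    refine ⟨f0 - g, by rw [map_sub, hgf, sub_self], ?_⟩
    rw [map_sub, hf0, show ρ g = 0 from hkerρ.ge hg, sub_zero]
  choose f hf hρf using hlift
  let F : Ideal (MvPolynomial (Fin n) A') := Ideal.span (Set.range f)
  set N := RingHom.ker φ.toRingHom with hN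
  have hFN : F ≤ N := Ideal.span_le.mpr (by rintro _ ⟨y, rfl⟩; exact hf y)
  have hw : ∀ w ∈ IP, φ w = 0 → w ∈ IP * N := by
    intro w hwI hw0
    let Θ : MvPolynomial (Fin n) A' ⊗[A'] I →ₗ[MvPolynomial (Fin n) A'] MvPolynomial (Fin n) A' :=
      (AlgebraTensorModule.rid A' (MvPolynomial (Fin n) A') _).toLinearMap ∘ₗ I.subtype.baseChange _
    have hΘ : ∀ p i, Θ (p ⊗ₜ i) = MvPolynomial.C i.1 * p := fun p i => by
      simp [Θ, MvPolynomial.smul_eq_C_mul]
    obtain ⟨t, rfl⟩ : w ∈ LinearMap.range Θ := by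
      refine (Ideal.map_le_iff_le_comap.mpr fun i hi => ?_ : IP ≤ (LinearMap.range Θ)) hwI
      exact ⟨(1 : MvPolynomial (Fin n) A') ⊗ₜ ⟨i, hi⟩, by rw [hΘ, mul_one]⟩
    let Ξ := (AlgebraTensorModule.rid A' B' B').toLinearMap ∘ₗ I.subtype.baseChange B'
    have hcomp : ∀ t, φ (Θ t) = Ξ (φ.toLinearMap.rTensor I t) := fun t => by
      induction t using TensorProduct.induction_on with
      | zero => simp only [map_zero]
      | add a b ha hb => simp only [map_add, ha, hb]
      | tmul p i => rw [hΘ]; simp [Ξ, φ, Algebra.smul_def]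
    have h0 : φ.toLinearMap.rTensor I t = 0 := by
      have h1 : Ξ (φ.toLinearMap.rTensor I t) = 0 := (hcomp t).symm.trans hw0
      simp only [Ξ, LinearMap.comp_apply, LinearEquiv.coe_coe, LinearEquiv.map_eq_zero_iff] at h1
      exact hinj (h1.trans (map_zero _).symm)
    obtain ⟨t', rfl⟩ := (rTensor_exact (↥I) (LinearMap.exact_subtype_ker_map φ.toLinearMap) hφ _).mp h0
    clear hw0 hwI h0
    induction t' using TensorProduct.induction_on with
    | zero => simp
    | add a b ha hb => rw [map_add, map_add]; exact add_mem ha hb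
    | tmul p i =>
      rw [LinearMap.rTensor_tmul, hΘ]
      exact Ideal.mul_mem_mul (Ideal.mem_map_of_mem _ i.2) p.2
  have hNle : N ≤ F ⊔ IP * N := by
    intro z hz
    have h1 : ρ z ∈ F.map ρ := by
      have h2 : φb (ρ z) = 0 := by rw [← hcomm, show φ z = 0 from hz, map_zero]
      refine (hs.ge.trans (Ideal.span_le.mpr fun y hy => ?_) : RingHom.ker φb ≤ F.map ρ) h2
      show ((⟨y, hy⟩ : (s : Set _)) : MvPolynomial (Fin n) A) ∈ F.map ρ
      rw [← hρf ⟨y, hy⟩]
      exact Ideal.mem_map_of_mem _ (Ideal.subset_span ⟨_, rfl⟩)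
    obtain ⟨c, hc, hcz⟩ := (Ideal.mem_map_iff_of_surjective _ hρ).mp h1
    rw [← add_sub_cancel c z]
    refine Submodule.add_mem_sup hc (hw _ (hkerρ.le ?_) ?_)
    · rw [RingHom.mem_ker, map_sub, hcz, sub_self]
    · rw [map_sub, show φ z = 0 from hz, show φ c = 0 from hFN hc, sub_zero]
  have hIP2 : IP * IP = ⊥ := by rw [← pow_two, ← Ideal.map_pow, hI, Ideal.map_bot]
  have hNF : N = F := by
    refine le_antisymm (hNle.trans (sup_le le_rfl ?_)) hFN
    calc IP * N ≤ IP * (F ⊔ IP * N) := Ideal.mul_mono le_rfl hNle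
      _ ≤ F := by
        rw [Ideal.mul_sup, ← mul_assoc, hIP2, Ideal.bot_mul, sup_bot_eq]
        exact Ideal.mul_le_right
  have : Algebra.FinitePresentation A' B' :=
    Algebra.FinitePresentation.of_surjective hφ (show N.FG by rw [hNF]; exact Submodule.fg_span (Set.finite_range f))
  -- flatness
  have hflat : Module.Flat A' B' := by
    let e : A' ⧸ I ≃+* A := RingHom.quotientKerEquivOfSurjective hA
    let : Algebra (A' ⧸ I) A := e.toRingHom.toAlgebra
    let : Algebra (A' ⧸ I) B := ((algebraMap A B).comp e.toRingHom).toAlgebra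
    have : IsScalarTower (A' ⧸ I) A B := IsScalarTower.of_algebraMap_eq fun _ => rfl
    have : IsScalarTower A' (A' ⧸ I) B := IsScalarTower.of_algebraMap_eq fun a =>
      IsScalarTower.algebraMap_apply A' A B a
    have : Module.Flat (A' ⧸ I) A := Module.Flat.of_linearEquiv
      (LinearEquiv.ofBijective (Algebra.linearMap (A' ⧸ I) A) e.bijective).symm
    have : Module.Flat (A' ⧸ I) B := Module.Flat.trans (A' ⧸ I) A B
    let θ : (A' ⧸ I) ⊗[A'] B' →ₐ[A' ⧸ I] B :=
      Algebra.TensorProduct.lift (Algebra.ofId _ _) (IsScalarTower.toAlgHom A' B' B) fun _ _ => Commute.all _ _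
    have hθt : ∀ x : B', θ ((1 : A' ⧸ I) ⊗ₜ x) = algebraMap B' B x := fun x => by simp [θ]
    have hθ : Function.Bijective θ := by
      refine ⟨(injective_iff_map_eq_zero θ).mpr fun z hz => ?_, fun y => ?_⟩
      · obtain ⟨x, rfl⟩ := TensorProduct.mk_surjective A' B' (A' ⧸ I) Ideal.Quotient.mk_surjective z
        rw [TensorProduct.mk_apply] at hz ⊢
        rw [hθt] at hz
        have hx : x ∈ J := hz
        rw [hJI] at hx
        refine Submodule.span_induction (p := fun x _ => (1 : A' ⧸ I) ⊗ₜ[A'] x = 0) ?_ ?_ ?_ ?_ hx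
        · rintro _ ⟨i, hi, rfl⟩
          rw [Algebra.algebraMap_eq_smul_one, ← TensorProduct.smul_tmul, Algebra.smul_def, mul_one,
            Ideal.Quotient.algebraMap_eq, Ideal.Quotient.eq_zero_iff_mem.mpr hi, TensorProduct.zero_tmul]
        · exact TensorProduct.tmul_zero _ _
        · intro a c _ _ ha hc; rw [TensorProduct.tmul_add, ha, hc, add_zero]
        · intro r a _ ha
          have := congrArg (((1 : A' ⧸ I) ⊗ₜ[A'] r) * ·) ha
          simpa [Algebra.TensorProduct.tmul_mul_tmul] using this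
      · obtain ⟨x, rfl⟩ := hB y
        exact ⟨_, hθt x⟩
    have : Module.Flat (A' ⧸ I) ((A' ⧸ I) ⊗[A'] B') :=
      Module.Flat.of_linearEquiv (AlgEquiv.ofBijective θ hθ).toLinearEquiv
    refine Groth.Agent.FlatNilCrit62.flat_of_nilpotent_injective (J := I) ⟨2, hI⟩ B' ?_
    intro x y hxy
    apply (TensorProduct.comm A' _ B').injective
    apply hinj
    have key : ∀ x : I ⊗[A'] B', I.subtype.baseChange B' (TensorProduct.comm A' _ B' x) =
        TensorProduct.comm A' A' B' (I.subtype.rTensor B' x) := fun x => by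
      induction x using TensorProduct.induction_on with
      | zero => simp only [map_zero]
      | add a b ha hb => simp only [map_add, ha, hb]
      | tmul a b => rfl
    rw [key, key, hxy]
  -- unramified
  have hunr : Algebra.FormallyUnramified A' B' := by
    have : Algebra.FormallyUnramified A' A := .of_surjective (Algebra.ofId A' A) hA
    have : Algebra.FormallyUnramified A' B := .comp A' A B
    have hΩ : ∀ z : B ⊗[B'] Ω[B'⁄A'], z = 0 := fun z => by
      obtain ⟨c, rfl⟩ := (KaehlerDifferential.exact_kerCotangentToTensor_mapBaseChange A' B' B hB z).mp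
        (Subsingleton.elim _ _)
      obtain ⟨⟨x, hx⟩, rfl⟩ := Ideal.toCotangent_surjective _ c
      rw [KaehlerDifferential.kerCotangentToTensor_toCotangent]
      have hx' : x ∈ Ideal.map (algebraMap A' B') I := hJI ▸ hx
      show (1 : B) ⊗ₜ[B'] KaehlerDifferential.D A' B' x = 0
      refine Submodule.span_induction (p := fun x _ => (1 : B) ⊗ₜ[B'] KaehlerDifferential.D A' B' x = 0) ?_ ?_ ?_ ?_ hx'
      · rintro _ ⟨i, -, rfl⟩
        rw [Derivation.map_algebraMap, TensorProduct.tmul_zero]
      · rw [map_zero, TensorProduct.tmul_zero]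
      · intro a c _ _ ha hc; rw [map_add, TensorProduct.tmul_add, ha, hc, add_zero]
      · intro r a ha' ha
        have hza : algebraMap B' B a = 0 := by
          have : a ∈ J := hJI ▸ ha'
          exact this
        rw [smul_eq_mul, Derivation.leibniz, TensorProduct.tmul_add, TensorProduct.tmul_smul, ha, smul_zero,
          zero_add, ← TensorProduct.smul_tmul, Algebra.smul_def, hza, zero_mul, TensorProduct.zero_tmul]
    let eB : (B' ⧸ J) ≃ₐ[B'] B := Ideal.quotientKerAlgEquivOfSurjective (f := Algebra.ofId B' B) hB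
    have hle : (⊤ : Submodule B' Ω[B'⁄A']) ≤ J • ⊤ := by
      intro ω _
      have h1 : (Ideal.Quotient.mk J 1) ⊗ₜ[B'] ω = 0 :=
        (TensorProduct.congr eB.toLinearEquiv (LinearEquiv.refl B' Ω[B'⁄A'])).injective
          ((hΩ _).trans (map_zero _).symm)
      have h2 := congrArg (TensorProduct.quotTensorEquivQuotSMul Ω[B'⁄A'] J) h1
      rw [map_zero, TensorProduct.quotTensorEquivQuotSMul_mk_tmul, one_smul] at h2
      exact (Submodule.Quotient.mk_eq_zero _).mp h2
    have htop : (⊤ : Submodule B' Ω[B'⁄A']) = ⊥ := by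
      refine le_bot_iff.mp (hle.trans ((Submodule.smul_mono le_rfl hle).trans ?_))
      rw [← Submodule.smul_assoc, smul_eq_mul, ← pow_two, hJ, Submodule.bot_smul]
    exact ⟨(Submodule.subsingleton_iff B').mp (subsingleton_of_bot_eq_top htop.symm)⟩
  exact ⟨Groth.Agent.FlatMor68.FlatUnramified.formallyEtale_of_flat, inferInstance⟩


end Groth.Agent.S9462
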