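import Groth.Statements.S9467
import Groth.Agent.Henz21.TensorSh
import Groth.Agent.Henz21.QuasiFiniteLocal
-- import your own Groth.Agent.* helpers here

set_option autoImplicit false
universe u
open Hensel

namespace Groth.Agent.S9467

open TensorProduct in
/-- Let A → B and A → C be ring maps, D = B ⊗_A C, and p_D a prime of D with images p_B, p_C, p_A in B,
C, A. Let A^{sh}, B^{sh}, C^{sh}, D^{sh} be strict henselizations of the local rings A_{p_A},
B_{p_B}, C_{p_C}, D_{p_D}, equipped with local homomorphisms A^{sh} → B^{sh} → D^{sh} and A^{sh} →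
C^{sh} → D^{sh} forming a commutative square compatible with A → B → D and A → C → D (such maps are
the ones attached to a compatible choice of residue-field embeddings into one separably closed
field, and are unique given that choice). If every finite subset of B lies in an A-subalgebra of
finite type that is quasi-finite over A (so that B is a directed union of quasi-finite A-algebras of
finite type), then the induced A^{sh}-algebra map B^{sh} ⊗_{A^{sh}} C^{sh} → D^{sh} is bijective.
(Two further published cases, B integral over A and B_{p_B} a directed union of quasi-finite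
A_{p_A}-algebras of finite type, are stated separately.) -/
theorem result (A B C : Type u) [CommRing A] [CommRing B]
    [CommRing C] [Algebra A B] [Algebra A C]
    (pA : Ideal A) [pA.IsPrime] (pB : Ideal B) [pB.IsPrime] [pB.LiesOver pA]
    (pC : Ideal C) [pC.IsPrime] [pC.LiesOver pA]
    (pD : Ideal (B ⊗[A] C)) [pD.IsPrime] [pD.LiesOver pB]
    (hDC : pD.comap (Algebra.TensorProduct.includeRight : C →ₐ[A] B ⊗[A] C).toRingHom = pC)
    (Ash : Type u) [CommRing Ash] [IsLocalRing Ash] [Algebra (Localization.AtPrime pA) Ash]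
    [IsLocalHom (algebraMap (Localization.AtPrime pA) Ash)]
    [Hensel.IsStrictHenselization (Localization.AtPrime pA) Ash] [Algebra A Ash]
    [IsScalarTower A (Localization.AtPrime pA) Ash]
    (Bsh : Type u) [CommRing Bsh] [IsLocalRing Bsh] [Algebra (Localization.AtPrime pB) Bsh]
    [IsLocalHom (algebraMap (Localization.AtPrime pB) Bsh)]
    [Hensel.IsStrictHenselization (Localization.AtPrime pB) Bsh] [Algebra B Bsh]
    [IsScalarTower B (Localization.AtPrime pB) Bsh] [Algebra A Bsh] [IsScalarTower A B Bsh]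
    [Algebra Ash Bsh] [IsScalarTower A Ash Bsh] [IsLocalHom (algebraMap Ash Bsh)]
    (Csh : Type u) [CommRing Csh] [IsLocalRing Csh] [Algebra (Localization.AtPrime pC) Csh]
    [IsLocalHom (algebraMap (Localization.AtPrime pC) Csh)]
    [Hensel.IsStrictHenselization (Localization.AtPrime pC) Csh] [Algebra C Csh]
    [IsScalarTower C (Localization.AtPrime pC) Csh] [Algebra A Csh] [IsScalarTower A C Csh]
    [Algebra Ash Csh] [IsScalarTower A Ash Csh] [IsLocalHom (algebraMap Ash Csh)]
    (Dsh : Type u) [CommRing Dsh] [IsLocalRing Dsh] [Algebra (Localization.AtPrime pD) Dsh]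
    [IsLocalHom (algebraMap (Localization.AtPrime pD) Dsh)]
    [Hensel.IsStrictHenselization (Localization.AtPrime pD) Dsh] [Algebra (B ⊗[A] C) Dsh]
    [IsScalarTower (B ⊗[A] C) (Localization.AtPrime pD) Dsh]
    [Algebra Bsh Dsh] [IsLocalHom (algebraMap Bsh Dsh)] [Algebra B Dsh] [IsScalarTower B Bsh Dsh]
    [IsScalarTower B (B ⊗[A] C) Dsh]
    [Algebra Csh Dsh] [IsLocalHom (algebraMap Csh Dsh)]
    (hC : ∀ c : C, algebraMap Csh Dsh (algebraMap C Csh c) = algebraMap (B ⊗[A] C) Dsh (1 ⊗ₜ[A] c))
    [Algebra Ash Dsh] [IsScalarTower Ash Bsh Dsh] [IsScalarTower Ash Csh Dsh]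
    (hB : ∀ s : Finset B, ∃ B₀ : Subalgebra A B, (↑s : Set B) ⊆ ↑B₀ ∧
      Algebra.FiniteType A ↥B₀ ∧ Algebra.QuasiFinite A ↥B₀) :
    Function.Bijective (Algebra.TensorProduct.lift (IsScalarTower.toAlgHom Ash Bsh Dsh)
      (IsScalarTower.toAlgHom Ash Csh Dsh) (fun _ _ => Commute.all _ _)) := by
  haveI := Groth.Agent.Henz21.isIntegral_strictHenselization_atPrime pA pB Ash Bsh fun x => by
    classical
    obtain ⟨b, ⟨s, hs⟩, rfl⟩ := IsLocalization.exists_mk'_eq pB.primeCompl x
    obtain ⟨B₀, hsub, hft, hqf⟩ := hB {b, s}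
    haveI := hft
    haveI := hqf
    let q₀ : Ideal B₀ := pB.comap B₀.val.toRingHom
    haveI : q₀.IsPrime := Ideal.IsPrime.comap _
    obtain ⟨r, hr, hri, hall⟩ := Algebra.zariskisMainProperty_iff.mp
      (Algebra.ZariskisMainProperty.of_finiteType (R := A) q₀)
    obtain ⟨m, hm⟩ := hall ⟨b, hsub (by simp)⟩
    obtain ⟨n, hn⟩ := hall ⟨s, hsub (by simp)⟩
    have hri' : IsIntegral A (r : B) := hri.map B₀.val
    have hm' : IsIntegral A ((r : B) ^ m * b) := hm.map B₀.val
    have hn' : IsIntegral A ((r : B) ^ n * s) := hn.map B₀.val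
    refine ⟨algebraMap B _ ((r : B) ^ n * ((r : B) ^ m * b)),
      algebraMap B _ ((r : B) ^ m * ((r : B) ^ n * s)),
      ((hri'.pow n).mul hm').algebraMap, ((hri'.pow m).mul hn').algebraMap, ?_, ?_⟩
    · exact IsLocalization.map_units _ (⟨_, pB.primeCompl.mul_mem
        (pow_mem (show (r : B) ∈ pB.primeCompl from hr) m)
        (pB.primeCompl.mul_mem (pow_mem (show (r : B) ∈ pB.primeCompl from hr) n) hs)⟩ : pB.primeCompl)
    · rw [show (r : B) ^ m * ((r : B) ^ n * s) = (r : B) ^ n * (r : B) ^ m * s by ring, map_mul,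
        mul_assoc, IsLocalization.mk'_spec' (S := Localization.AtPrime pB) b
          (⟨s, hs⟩ : pB.primeCompl), ← map_mul, mul_assoc]
  exact Groth.Agent.Henz21.bijective_tensor_strictHenselization pA pB pC pD Ash Bsh Csh Dsh hC

end Groth.Agent.S9467
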