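import Groth.Statements.S9468
import Groth.Agent.Henz21.Pairs
-- import your own Groth.Agent.* helpers here

set_option autoImplicit false
universe u
open Hensel

namespace Groth.Agent.S9468

/-- Let R be a ring and p a prime of R. Consider pairs (S, q) with S an étale R-algebra and q a prime of
S lying over p such that κ(p) → κ(q) is bijective; a morphism of pairs is an R-algebra map pulling
the second prime back to the first. Then any two pairs admit morphisms of pairs to a common third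
pair. -/
theorem result (R : Type u) [CommRing R]
    (p : Ideal R) [p.IsPrime] (S₁ : Type u) [CommRing S₁] [Algebra R S₁] [Algebra.Etale R S₁] (q₁ : Ideal S₁) [q₁.IsPrime] (hq₁ : p = q₁.comap (algebraMap R S₁))
    (hq₁κ : Function.Bijective (Ideal.ResidueField.map p q₁ (algebraMap R S₁) hq₁))
    (S₂ : Type u) [CommRing S₂] [Algebra R S₂] [Algebra.Etale R S₂] (q₂ : Ideal S₂) [q₂.IsPrime] (hq₂ : p = q₂.comap (algebraMap R S₂))
    (hq₂κ : Function.Bijective (Ideal.ResidueField.map p q₂ (algebraMap R S₂) hq₂)) :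
    ∃ (S₃ : Type u) (_ : CommRing S₃) (_ : Algebra R S₃) (_ : Algebra.Etale R S₃) (q₃ : Ideal S₃)
      (_ : q₃.IsPrime) (hq₃ : p = q₃.comap (algebraMap R S₃)),
      Function.Bijective (Ideal.ResidueField.map p q₃ (algebraMap R S₃) hq₃) ∧
        ∃ (φ₁ : S₁ →ₐ[R] S₃) (φ₂ : S₂ →ₐ[R] S₃),
          q₃.comap φ₁.toRingHom = q₁ ∧ q₃.comap φ₂.toRingHom = q₂ := by
  obtain ⟨σ₁, h₁⟩ := Henz21.exists_point p hq₁ hq₁κ
  obtain ⟨σ₂, h₂⟩ := Henz21.exists_point p hq₂ hq₂κ
  obtain ⟨i, e₁, he₁⟩ := Henz21.Pt.exists_equiv S₁ σ₁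
  obtain ⟨j, e₂, he₂⟩ := Henz21.Pt.exists_equiv S₂ σ₂
  let k := CategoryTheory.IsFiltered.max i j
  obtain ⟨hP, hq, hb⟩ := Henz21.point_pair p k.pt
  refine ⟨k.S, inferInstance, inferInstance, inferInstance, RingHom.ker k.pt, hP, hq, hb,
    (CategoryTheory.IsFiltered.leftToMax i j).φ.comp e₁.toAlgHom,
    (CategoryTheory.IsFiltered.rightToMax i j).φ.comp e₂.toAlgHom, ?_, ?_⟩
  · rw [← h₁]
    ext s
    simp only [Ideal.mem_comap, RingHom.mem_ker]
    show k.pt ((CategoryTheory.IsFiltered.leftToMax i j).φ (e₁ s)) = 0 ↔ _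
    rw [Henz21.Pt.Hom.pt_apply, he₁]
  · rw [← h₂]
    ext s
    simp only [Ideal.mem_comap, RingHom.mem_ker]
    show k.pt ((CategoryTheory.IsFiltered.rightToMax i j).φ (e₂ s)) = 0 ↔ _
    rw [Henz21.Pt.Hom.pt_apply, he₂]

end Groth.Agent.S9468
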