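import Groth.Statements.S9469
import Groth.Agent.Henz21.Pairs
-- import your own Groth.Agent.* helpers here

set_option autoImplicit false
universe u
open Hensel

namespace Groth.Agent.S9469

/-- Let R be a ring and p a prime of R. Consider pairs (S, q) with S an étale R-algebra and q a prime of
S lying over p such that κ(p) → κ(q) is bijective; a morphism of pairs is an R-algebra map pulling
the second prime back to the first. Then any two parallel morphisms of pairs φ, ψ : (S₁, q₁) → (S₂,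
q₂) are coequalized by a morphism of pairs (S₂, q₂) → (S₃, q₃). -/
theorem result (R : Type u) [CommRing R]
    (p : Ideal R) [p.IsPrime] (S₁ : Type u) [CommRing S₁] [Algebra R S₁] [Algebra.Etale R S₁] (q₁ : Ideal S₁) [q₁.IsPrime] (hq₁ : p = q₁.comap (algebraMap R S₁))
    (hq₁κ : Function.Bijective (Ideal.ResidueField.map p q₁ (algebraMap R S₁) hq₁))
    (S₂ : Type u) [CommRing S₂] [Algebra R S₂] [Algebra.Etale R S₂] (q₂ : Ideal S₂) [q₂.IsPrime] (hq₂ : p = q₂.comap (algebraMap R S₂))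
    (hq₂κ : Function.Bijective (Ideal.ResidueField.map p q₂ (algebraMap R S₂) hq₂))
    (φ ψ : S₁ →ₐ[R] S₂) (hφ : q₂.comap φ.toRingHom = q₁) (hψ : q₂.comap ψ.toRingHom = q₁) :
    ∃ (S₃ : Type u) (_ : CommRing S₃) (_ : Algebra R S₃) (_ : Algebra.Etale R S₃) (q₃ : Ideal S₃)
      (_ : q₃.IsPrime) (hq₃ : p = q₃.comap (algebraMap R S₃)),
      Function.Bijective (Ideal.ResidueField.map p q₃ (algebraMap R S₃) hq₃) ∧
        ∃ χ : S₂ →ₐ[R] S₃, q₃.comap χ.toRingHom = q₂ ∧ χ.comp φ = χ.comp ψ := by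
  obtain ⟨σ₁, h₁⟩ := Henz21.exists_point p hq₁ hq₁κ
  obtain ⟨σ₂, h₂⟩ := Henz21.exists_point p hq₂ hq₂κ
  have hc : ∀ χ : S₁ →ₐ[R] S₂, q₂.comap χ.toRingHom = q₁ → σ₂.comp χ = σ₁ := fun χ hχ =>
    Henz21.point_ext p (by rw [h₁, ← hχ, ← h₂]; rfl)
  obtain ⟨i, e₁, he₁⟩ := Henz21.Pt.exists_equiv S₁ σ₁
  obtain ⟨j, e₂, he₂⟩ := Henz21.Pt.exists_equiv S₂ σ₂
  have hm : ∀ χ : S₁ →ₐ[R] S₂, q₂.comap χ.toRingHom = q₁ →
      j.pt.comp (e₂.toAlgHom.comp (χ.comp e₁.symm.toAlgHom)) = i.pt := fun χ hχ => AlgHom.ext fun s => by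
    show j.pt (e₂ (χ (e₁.symm s))) = _
    rw [he₂, ← AlgHom.comp_apply, hc χ hχ, ← he₁, AlgEquiv.apply_symm_apply]
  let f : i ⟶ j := ⟨_, hm φ hφ⟩
  let g : i ⟶ j := ⟨_, hm ψ hψ⟩
  let k := CategoryTheory.IsFiltered.coeq f g
  obtain ⟨hP, hq, hb⟩ := Henz21.point_pair p k.pt
  refine ⟨k.S, inferInstance, inferInstance, inferInstance, RingHom.ker k.pt, hP, hq, hb,
    (CategoryTheory.IsFiltered.coeqHom f g).φ.comp e₂.toAlgHom, ?_, ?_⟩
  · rw [← h₂]
    ext s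
    simp only [Ideal.mem_comap, RingHom.mem_ker]
    show k.pt ((CategoryTheory.IsFiltered.coeqHom f g).φ (e₂ s)) = 0 ↔ _
    rw [Henz21.Pt.Hom.pt_apply, he₂]
  · refine AlgHom.ext fun s => ?_
    have := DFunLike.congr_fun
      (congrArg Henz21.Pt.Hom.φ (CategoryTheory.IsFiltered.coeq_condition f g)) (e₁ s)
    simpa [f, g] using this

end Groth.Agent.S9469
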