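import Groth.Statements.S9470
import Groth.Agent.Henz21.Pairs
import Groth.Agent.Henz21.AtPrime
-- import your own Groth.Agent.* helpers here

set_option autoImplicit false
universe u
open Hensel

namespace Groth.Agent.S9470

/-- Let R be a ring, p a prime of R and R^h a henselization of the local ring R_p, regarded as an
R-algebra through R_p. For pairs (S, q) with S an étale R-algebra and q a prime of S over p such
that κ(p) → κ(q) is bijective: (a) there is exactly one R-algebra map f : S → R^h under which the
maximal ideal pulls back to q; (b) every element of R^h is f(s) for some such pair, map f and s ∈ S;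
(c) if such an f sends s to 0, then some R-algebra map S → S' to another such pair (S', q'), pulling
q' back to q, already sends s to 0. Together with filteredness of the category of pairs this
expresses that R^h is canonically the colimit of S over all pairs (S, q). (The published statement
also records the equal colimit of the local rings S_q.) -/
theorem result (R : Type u) [CommRing R]
    (p : Ideal R) [p.IsPrime] (Rh : Type u) [CommRing Rh] [IsLocalRing Rh]
    [Algebra (Localization.AtPrime p) Rh] [IsLocalHom (algebraMap (Localization.AtPrime p) Rh)]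
    [Hensel.IsHenselization (Localization.AtPrime p) Rh] [Algebra R Rh]
    [IsScalarTower R (Localization.AtPrime p) Rh] :
    (∀ (S : Type u) [CommRing S] [Algebra R S] [Algebra.Etale R S] (q : Ideal S) [q.IsPrime]
        (hq : p = q.comap (algebraMap R S)),
        Function.Bijective (Ideal.ResidueField.map p q (algebraMap R S) hq) →
          ∃! f : S →ₐ[R] Rh, (IsLocalRing.maximalIdeal Rh).comap f.toRingHom = q) ∧
    (∀ x : Rh, ∃ (S : Type u) (_ : CommRing S) (_ : Algebra R S) (_ : Algebra.Etale R S) (q : Ideal S)
        (_ : q.IsPrime) (hq : p = q.comap (algebraMap R S)),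
        Function.Bijective (Ideal.ResidueField.map p q (algebraMap R S) hq) ∧
          ∃ (f : S →ₐ[R] Rh) (s : S), (IsLocalRing.maximalIdeal Rh).comap f.toRingHom = q ∧ f s = x) ∧
    (∀ (S : Type u) [CommRing S] [Algebra R S] [Algebra.Etale R S] (q : Ideal S) [q.IsPrime]
        (hq : p = q.comap (algebraMap R S)),
        Function.Bijective (Ideal.ResidueField.map p q (algebraMap R S) hq) →
          ∀ (f : S →ₐ[R] Rh), (IsLocalRing.maximalIdeal Rh).comap f.toRingHom = q → ∀ s : S, f s = 0 →
            ∃ (S' : Type u) (_ : CommRing S') (_ : Algebra R S') (_ : Algebra.Etale R S') (q' : Ideal S')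
              (_ : q'.IsPrime) (hq' : p = q'.comap (algebraMap R S')),
              Function.Bijective (Ideal.ResidueField.map p q' (algebraMap R S') hq') ∧
                ∃ φ : S →ₐ[R] S', q'.comap φ.toRingHom = q ∧ φ s = 0) := by
  obtain ⟨e⟩ := Henz21.exists_henselizationAt_equiv R p Rh
  have hcomap : ∀ (S : Type u) [CommRing S] [Algebra R S] (f : S →ₐ[R] Rh),
      (IsLocalRing.maximalIdeal Rh).comap f.toRingHom =
        RingHom.ker ((Henz21.H.proj R p.ResidueField).comp (e.symm.toAlgHom.comp f)) := by
    intro S _ _ f
    rw [← Henz21.H.comap_maximalIdeal]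
    ext s
    simp only [Ideal.mem_comap, IsLocalRing.mem_maximalIdeal, mem_nonunits_iff]
    exact (isUnit_map_iff e.symm.toRingEquiv (f s)).symm.not
  refine ⟨?_, ?_, ?_⟩
  · intro S _ _ _ q _ hq hb
    obtain ⟨σ, hσ⟩ := Henz21.exists_point p hq hb
    obtain ⟨F, hF⟩ := Henz21.H.exists_algHom_of_pt S σ
    refine ⟨e.toAlgHom.comp F, ?_, ?_⟩
    · show (IsLocalRing.maximalIdeal Rh).comap (e.toAlgHom.comp F).toRingHom = q
      rw [hcomap, ← hσ, ← hF]
      ext s
      simp
    · intro g hg
      have h1 : e.symm.toAlgHom.comp g = F := Henz21.H.algHom_ext_proj <| Henz21.point_ext p <| by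
        rw [← hcomap, hg, hF, hσ]
      refine AlgHom.ext fun s => ?_
      rw [← h1]
      simp
  · intro x
    obtain ⟨i, s, hs⟩ := Henz21.H.exists_rep (e.symm x)
    obtain ⟨hP, hq, hb⟩ := Henz21.point_pair p i.pt
    refine ⟨i.S, inferInstance, inferInstance, inferInstance, RingHom.ker i.pt, hP, hq, hb,
      e.toAlgHom.comp (Henz21.H.incl i), s, ?_, ?_⟩
    · rw [hcomap]
      ext t
      simp
    · simp [hs]
  · intro S _ _ _ q _ hq hb f hf s hs
    obtain ⟨σ, hσ⟩ := Henz21.exists_point p hq hb
    obtain ⟨i, e', he⟩ := Henz21.Pt.exists_equiv S σ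
    have h1 : e.symm.toAlgHom.comp f = (Henz21.H.incl i).comp e'.toAlgHom :=
      Henz21.H.algHom_ext_proj <| Henz21.point_ext p <| by
        rw [← hcomap, hf, ← hσ]
        ext t
        simp [he]
    have h2 : Henz21.H.incl i (e' s) = Henz21.H.incl i 0 := by
      rw [map_zero]
      have := DFunLike.congr_fun h1 s
      simp only [AlgHom.comp_apply, hs, map_zero] at this
      exact this.symm
    obtain ⟨k, a, b, hab⟩ := (Henz21.H.incl_eq_iff _ _).mp h2
    obtain ⟨hP, hq', hb'⟩ := Henz21.point_pair p k.pt
    refine ⟨k.S, inferInstance, inferInstance, inferInstance, RingHom.ker k.pt, hP, hq', hb',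
      a.φ.comp e'.toAlgHom, ?_, ?_⟩
    · rw [← hσ]
      ext t
      simp [Henz21.Pt.Hom.pt_apply, he]
    · simp [hab]

end Groth.Agent.S9470
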