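import Groth.Statements.S9472
import Groth.Agent.DiffOpCalc.Etale
import Mathlib.LinearAlgebra.TensorProduct.Tower

set_option autoImplicit false
universe u
open Diff16

open scoped TensorProduct

namespace Groth.Agent.S9472

open TensorProduct in
/-- Let R → S → S' be ring maps with S → S' formally étale, M an S-module and (P, D_u) a module of
principal parts of order k of M relative to R → S, i.e. D_u : M → P is a differential operator of
order at most k through which every differential operator of order at most k from M to an S-module
factors by a unique S-linear map. If D_u' : S' ⊗_S M → S' ⊗_S P is a differential operator of order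
at most k relative to R → S' with D_u'(1 ⊗ m) = 1 ⊗ D_u(m), then (S' ⊗_S P, D_u') is a module of
principal parts of order k of S' ⊗_S M relative to R → S'. (The published statement writes this as
an identification of S' ⊗_S P^k_{S/R}(M) with P^k_{S'/R}(M') and forms M' by base change over R
rather than over S; with base change over R the identification fails already for k = 0, R the
rationals, S = S' a polynomial ring in one variable and M = S, and the published proof computes with
the base change over S, used here. Target modules are taken in one universe.) -/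
theorem result (R S S' : Type u) [CommRing R]
    [CommRing S] [CommRing S'] [Algebra R S] [Algebra R S'] [Algebra S S'] [IsScalarTower R S S']
    [Algebra.FormallyEtale S S'] (M : Type u) [AddCommGroup M] [Module S M] [Module R M]
    [IsScalarTower R S M] (k : ℕ) (P : Type u) [AddCommGroup P] [Module S P] [Module R P]
    [IsScalarTower R S P] (Du : M →ₗ[R] P) (hDu : Diff16.IsDiffOpLE R S M P k Du)
    (huniv : ∀ (N : Type u) [AddCommGroup N] [Module S N] [Module R N] [IsScalarTower R S N]
      (D : M →ₗ[R] N), Diff16.IsDiffOpLE R S M N k D → ∃! α : P →ₗ[S] N, α.restrictScalars R ∘ₗ Du = D)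
    (Du' : S' ⊗[S] M →ₗ[R] S' ⊗[S] P) (hDu' : Diff16.IsDiffOpLE R S' (S' ⊗[S] M) (S' ⊗[S] P) k Du')
    (hext : Du' ∘ₗ (TensorProduct.mk S S' M 1).restrictScalars R =
      (TensorProduct.mk S S' P 1).restrictScalars R ∘ₗ Du) :
    ∀ (N' : Type u) [AddCommGroup N'] [Module S' N'] [Module R N'] [IsScalarTower R S' N']
      (D' : S' ⊗[S] M →ₗ[R] N'), Diff16.IsDiffOpLE R S' (S' ⊗[S] M) N' k D' →
        ∃! α : S' ⊗[S] P →ₗ[S'] N', α.restrictScalars R ∘ₗ Du' = D' := by
  intro N' _ _ _ _ D' hD'
  letI : Module S N' := Module.compHom N' (algebraMap S S')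
  haveI : IsScalarTower S S' N' := IsScalarTower.of_algebraMap_smul fun _ _ => rfl
  haveI : IsScalarTower R S N' := IsScalarTower.of_algebraMap_smul fun r n => by
    rw [← algebraMap_smul S' (algebraMap R S r) n, ← IsScalarTower.algebraMap_apply,
      algebraMap_smul]
  have hι : IsBaseChange S' (TensorProduct.mk S S' M 1) := TensorProduct.isBaseChange S M S'
  have hres : IsDiffOpLE R S M N' k (D' ∘ₗ (TensorProduct.mk S S' M 1).restrictScalars R) :=
    DiffOpCalc.le_comp_linear _ (DiffOpCalc.le_restrict hD')
  obtain ⟨α₀, hα₀, huα⟩ := huniv N' _ hres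
  have hα : ∀ p, (TensorProduct.isBaseChange S P S').lift α₀ ((1 : S') ⊗ₜ[S] p) = α₀ p :=
    fun p => IsBaseChange.lift_eq _ α₀ p
  refine ⟨(TensorProduct.isBaseChange S P S').lift α₀, ?_, fun β hβ => ?_⟩
  · refine (DiffOpCalc.existsUnique_extend hι _ hres).unique
      ⟨DiffOpCalc.le_linear_comp _ hDu', ?_⟩ ⟨hD', rfl⟩
    ext m
    have h1 := LinearMap.congr_fun hext m
    have h2 := LinearMap.congr_fun hα₀ m
    simp only [LinearMap.comp_apply, LinearMap.restrictScalars_apply, TensorProduct.mk_apply] at h1 h2 ⊢
    rw [h1, hα, h2]
  · have hb : β.restrictScalars S ∘ₗ TensorProduct.mk S S' P 1 = α₀ := by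
      refine huα _ ?_
      ext m
      have h1 := LinearMap.congr_fun hext m
      have h2 := LinearMap.congr_fun hβ ((1 : S') ⊗ₜ[S] m)
      simp only [LinearMap.comp_apply, LinearMap.restrictScalars_apply, TensorProduct.mk_apply] at h1 h2 ⊢
      rw [← h1, h2]
    refine IsBaseChange.algHom_ext (TensorProduct.isBaseChange S P S') _ _ fun p => ?_
    simp only [TensorProduct.mk_apply]
    rw [hα, ← hb]
    rfl

end Groth.Agent.S9472
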