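import Groth.Statements.S9474
import Groth.Agent.S12085
import Mathlib

set_option autoImplicit false
universe u
open CAlg

namespace Groth.Agent.S9474

open TensorProduct in
/-- If R → S is unramified (of finite type with vanishing module of differentials), then there are a
finite type ℤ-algebra R₀, an unramified R₀-algebra S₀, a ring map R₀ → R, and a surjective R-algebra
map from R ⊗_{R₀} S₀ onto S. -/
theorem result (R : Type u) [CommRing R] (S : Type u)
    [CommRing S] [Algebra R S] [Algebra.Unramified R S] :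
    ∃ (R₀ : Type u) (_ : CommRing R₀) (_ : Algebra.FiniteType ℤ R₀) (S₀ : Type u) (_ : CommRing S₀)
      (_ : Algebra R₀ S₀) (_ : Algebra.Unramified R₀ S₀) (_ : Algebra R₀ R)
      (ψ : R ⊗[R₀] S₀ →ₐ[R] S), Function.Surjective ψ := by
  classical
  obtain ⟨n, π, hπ⟩ := Algebra.FiniteType.iff_quotient_mvPolynomial''.1
    (Algebra.Unramified.finiteType : Algebra.FiniteType R S)
  have := (Algebra.Unramified.formallyUnramified : Algebra.FormallyUnramified R S)
  let P := MvPolynomial (Fin n) R
  let _ : Algebra P S := π.toRingHom.toAlgebra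
  have : IsScalarTower R P S := IsScalarTower.of_algebraMap_eq fun r => (π.commutes r).symm
  let coord : Fin n → (S ⊗[P] Ω[P⁄R] →ₗ[S] S) := fun l =>
    LinearMap.liftBaseChange S ((Algebra.linearMap P S).comp (MvPolynomial.pderiv l).liftKaehlerDifferential)
  have hcoord : ∀ l q, coord l ((1 : S) ⊗ₜ[P] KaehlerDifferential.D R P q) = π (MvPolynomial.pderiv l q) := by
    intro l q
    simp only [coord, LinearMap.liftBaseChange_tmul, one_smul, LinearMap.comp_apply,
      Algebra.linearMap_apply]
    exact congrArg π (Derivation.liftKaehlerDifferential_comp_D (MvPolynomial.pderiv l) q)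
  have hw : ∀ i, ∃ q : P, π q = 0 ∧ ∀ l, π (MvPolynomial.pderiv l q) = if l = i then 1 else 0 := by
    intro i
    obtain ⟨ξ, hξ⟩ := (KaehlerDifferential.exact_kerCotangentToTensor_mapBaseChange R P S hπ
      ((1 : S) ⊗ₜ[P] KaehlerDifferential.D R P (MvPolynomial.X i))).1 (Subsingleton.elim _ _)
    obtain ⟨⟨q, hq⟩, rfl⟩ := Ideal.toCotangent_surjective _ ξ
    refine ⟨q, hq, fun l => ?_⟩
    rw [KaehlerDifferential.kerCotangentToTensor_toCotangent] at hξ
    rw [← hcoord, hξ, hcoord, MvPolynomial.pderiv_X, Pi.single_apply, apply_ite π, map_one, map_zero]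
    simp only [eq_comm]
  choose q hq hqd using hw
  let e : Fin n → Fin n → P := fun i l => MvPolynomial.pderiv l (q i) - if l = i then 1 else 0
  let I' : Ideal P := Ideal.span (Set.range q ∪ Set.range fun il : Fin n × Fin n => e il.1 il.2)
  have hI' : ∀ x ∈ I', π x = 0 := fun x hx => by
    refine RingHom.mem_ker.1 ((Ideal.span_le.2 ?_ : I' ≤ RingHom.ker π.toRingHom) hx)
    rintro _ (⟨i, rfl⟩ | ⟨⟨i, l⟩, rfl⟩)
    · exact hq i
    · show π (e i l) = 0
      rw [map_sub, hqd, apply_ite π, map_one, map_zero, sub_self]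
  let π' : P →ₐ[R] P ⧸ I' := Ideal.Quotient.mkₐ R I'
  have : Algebra.FinitePresentation R (P ⧸ I') := Algebra.FinitePresentation.quotient
    (Submodule.fg_span ((Set.finite_range _).union (Set.finite_range _)))
  have : Algebra.FormallyUnramified R (P ⧸ I') := by
    refine S12085.unramified_of π' (Ideal.Quotient.mkₐ_surjective R I') q
      (fun i => Ideal.Quotient.eq_zero_iff_mem.2 (Ideal.subset_span (Or.inl ⟨i, rfl⟩)))
      (fun i k => if k = i then 1 else 0) fun i l => ?_
    have h0 : π' (e i l) = 0 :=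
      Ideal.Quotient.eq_zero_iff_mem.2 (Ideal.subset_span (Or.inr ⟨(i, l), rfl⟩))
    rw [map_sub, sub_eq_zero, apply_ite π', map_one, map_zero] at h0
    simp [ite_mul, h0]
  obtain ⟨R₀, _, hft, S₀, _, _, hfp, hun, _, ⟨eqv⟩⟩ := S12085.result R (P ⧸ I')
  have : Algebra.Unramified R₀ S₀ := ⟨hun, inferInstance⟩
  refine ⟨R₀, inferInstance, hft, S₀, inferInstance, inferInstance, inferInstance, inferInstance,
    (Ideal.Quotient.liftₐ I' π hI').comp eqv.toAlgHom, fun s => ?_⟩
  obtain ⟨p, rfl⟩ := hπ s
  refine ⟨eqv.symm (Ideal.Quotient.mk I' p), ?_⟩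
  show Ideal.Quotient.liftₐ I' π hI' (eqv (eqv.symm _)) = _
  rw [eqv.apply_symm_apply]
  rfl


end Groth.Agent.S9474
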