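import Groth.Statements.S9485
import Groth.Agent.FEt83.FullFaithful

set_option autoImplicit false
universe u
open Pi1

namespace Groth.Agent.S9485

open AlgebraicGeometry CategoryTheory CategoryTheory.Limits in
set_option backward.isDefEq.respectTransparency.types false in
/-- Let A be a Noetherian local ring with maximal ideal m and f ∈ m, U the punctured spectrum of A and
U₀ that of A/fA (realised as U ×_{Spec A} Spec(A/fA)). Let U' ⊆ U be an open through which U₀ ⟶ Spec
A factors (as u'). If dim(A/p) ≥ 2 for every minimal prime p of A which lies in U' and does not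
contain f, then restriction of finite etale covers along u' is faithful. (Such U' exist, e.g. the
complement in U of the one-dimensional irreducible components not meeting U₀, and the condition
passes to smaller such opens, so restriction from the system of these opens is faithful.) -/
theorem result (A : Type u) [CommRing A] [IsNoetherianRing A] [IsLocalRing A] (f : A) (hf : f ∈ IsLocalRing.maximalIdeal A)
    (U' : (Spec (CommRingCat.of A)).Opens) (hU' : U' ≤ FEt.puncturedSpec A)
    (u' : pullback (FEt.puncturedSpec A).ι (Spec.map (CommRingCat.ofHom (Ideal.Quotient.mk (Ideal.span {f})))) ⟶ (U' : Scheme.{u})) (hu' : u' ≫ U'.ι = (pullback.fst (FEt.puncturedSpec A).ι (Spec.map (CommRingCat.ofHom (Ideal.Quotient.mk (Ideal.span {f})))) ≫ (FEt.puncturedSpec A).ι))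
    (hdim : ∀ p : PrimeSpectrum A, p.asIdeal ∈ minimalPrimes A → p ∈ U' → f ∉ p.asIdeal →
      (2 : WithBot ℕ∞) ≤ ringKrullDim (A ⧸ p.asIdeal)) :
    (FEt.restrict u').Faithful := by
  apply FEt83.faithful_of_meets
  intro Y C hC hne
  obtain ⟨y, hy⟩ := hne
  have hD := FEt83.isClopen_image Y hC
  set D := (Y.hom '' C : Set (U' : Scheme.{u})) with hDdef
  -- a point of `U₀`
  have key : ∀ q : PrimeSpectrum A, f ∈ q.asIdeal → q.asIdeal ≠ IsLocalRing.maximalIdeal A →
      ∃ x, U'.ι (u' x) = q := by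
    intro q hfq hqm
    obtain ⟨r, hr⟩ : q ∈ Set.range (PrimeSpectrum.comap (Ideal.Quotient.mk (Ideal.span {f}))) := by
      rw [range_comap_of_surjective _ _ Ideal.Quotient.mk_surjective, Ideal.mk_ker]
      simpa [PrimeSpectrum.mem_zeroLocus, Set.singleton_subset_iff] using hfq
    have hqU : q ∈ FEt.puncturedSpec A := fun h => hqm (congrArg PrimeSpectrum.asIdeal h)
    obtain ⟨x, hx, -⟩ := Scheme.Pullback.exists_preimage_pullback
      (f := (FEt.puncturedSpec A).ι)
      (g := Spec.map (CommRingCat.ofHom (Ideal.Quotient.mk (Ideal.span {f})))) ⟨q, hqU⟩ r hr.symm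
    exact ⟨x, by rw [← Scheme.Hom.comp_apply, hu', Scheme.Hom.comp_apply, hx]; rfl⟩
  obtain ⟨p, hpmin, hpy⟩ := Ideal.exists_minimalPrimes_le (I := (⊥ : Ideal A))
    (J := (U'.ι (Y.hom y)).asIdeal) bot_le
  let P : PrimeSpectrum A := ⟨p, hpmin.1.1⟩
  have hPy : P ⤳ U'.ι (Y.hom y) := (PrimeSpectrum.le_iff_specializes P _).mp hpy
  have hPU : P ∈ U' := hPy.mem_open U'.2 (Y.hom y).2
  let P' : (U' : Scheme.{u}) := ⟨P, hPU⟩
  have hP' : P' ⤳ Y.hom y := U'.2.isOpenEmbedding_subtypeVal.isInducing.specializes_iff.mp hPy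
  have hPD : P' ∈ D := hP'.mem_open hD.2 ⟨y, hy, rfl⟩
  suffices ∃ x, u' x ∈ D by
    obtain ⟨x, y', hy', e⟩ := this
    obtain ⟨z, hz⟩ := FEt83.exists_point Y e
    exact ⟨z, by rwa [hz]⟩
  by_cases hfp : f ∈ p
  · have hPm : p ≠ IsLocalRing.maximalIdeal A := fun h => hU' hPU (PrimeSpectrum.ext h)
    obtain ⟨x, hx⟩ := key P hfp hPm
    exact ⟨x, by rwa [show u' x = P' from Subtype.ext hx]⟩
  obtain ⟨q, hpq, hfq, hqm⟩ : ∃ q : PrimeSpectrum A, p ≤ q.asIdeal ∧ f ∈ q.asIdeal ∧
      q.asIdeal ≠ IsLocalRing.maximalIdeal A := by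
    by_contra hcon
    push Not at hcon
    have : Nontrivial (A ⧸ p) := Ideal.Quotient.nontrivial_iff.mpr P.isPrime.ne_top
    have : IsLocalRing (A ⧸ p) :=
      IsLocalRing.of_surjective' (Ideal.Quotient.mk p) Ideal.Quotient.mk_surjective
    have h0 : Ring.KrullDimLE 0 ((A ⧸ p) ⧸ Ideal.span {Ideal.Quotient.mk p f}) := by
      refine Ring.krullDimLE_zero_iff.mpr fun Q hQ => ?_
      let π := (Ideal.Quotient.mk (Ideal.span {Ideal.Quotient.mk p f})).comp (Ideal.Quotient.mk p)
      have hπ : Function.Surjective π :=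
        Ideal.Quotient.mk_surjective.comp Ideal.Quotient.mk_surjective
      have h1 : Q.comap π = IsLocalRing.maximalIdeal A := hcon ⟨Q.comap π, inferInstance⟩
        (fun a ha => by simp [π, Ideal.Quotient.eq_zero_iff_mem.mpr ha])
        (by simp [π, Ideal.Quotient.eq_zero_iff_mem.mpr (Ideal.mem_span_singleton_self _)])
      rw [← Ideal.map_comap_of_surjective π hπ Q, h1]
      refine (Ideal.map_eq_top_or_isMaximal_of_surjective π hπ inferInstance).resolve_left ?_
      rw [← h1, Ideal.map_comap_of_surjective π hπ Q]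
      exact hQ.ne_top
    have h1 := ringKrullDim_le_ringKrullDim_quotient_add_card (R := A ⧸ p)
      {Ideal.Quotient.mk p f} (by
        rw [IsLocalRing.ringJacobson_eq_maximalIdeal, Finset.coe_singleton,
          Set.singleton_subset_iff]
        intro hu
        obtain ⟨v, hv⟩ := Ideal.Quotient.mk_surjective (hu.unit⁻¹ : (A ⧸ p)ˣ).val
        have h3 : Ideal.Quotient.mk p (f * v - 1) = 0 := by
          rw [map_sub, map_mul, hv, map_one, hu.mul_val_inv, sub_self]
        exact (IsLocalRing.maximalIdeal.isMaximal A).ne_top ((Ideal.eq_top_iff_one _).mpr (by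
          simpa using sub_mem (Ideal.mul_mem_right v _ hf)
            (IsLocalRing.le_maximalIdeal P.isPrime.ne_top (Ideal.Quotient.eq_zero_iff_mem.mp h3)))))
    rw [Finset.coe_singleton, Finset.card_singleton] at h1
    have h2 := (hdim P hpmin hPU hfp).trans (h1.trans (add_le_add_left
      (Ring.krullDimLE_iff.mp h0) _))
    norm_cast at h2
  obtain ⟨x, hx⟩ := key q hfq hqm
  refine ⟨x, ((U'.2.isOpenEmbedding_subtypeVal.isInducing.specializes_iff (x := P')).mp ?_).mem_closed hD.1 hPD⟩
  show P ⤳ U'.ι (u' x)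
  rw [hx]
  exact (PrimeSpectrum.le_iff_specializes P q).mp hpq

end Groth.Agent.S9485
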