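import Groth.Statements.S9497
import Groth.Agent.QC70.Loc

set_option autoImplicit false
universe u
open AffSch

namespace Groth.Agent.S9497

open CategoryTheory Limits AlgebraicGeometry in
theorem isQuasicoherent_colimit {R : CommRingCat.{u}} {J : Type u} [SmallCategory J]
    (F : J ⥤ (Spec R).Modules) (hF : ∀ j, (F.obj j).IsQuasicoherent) :
    (colimit F).IsQuasicoherent := by
  let G := F ⋙ moduleSpecΓFunctor (R := R)
  let α : G ⋙ tilde.functor R ⟶ F := (Functor.associator _ _ _).hom ≫
    Functor.whiskerLeft F (tilde.adjunction (R := R)).counit ≫ F.rightUnitor.hom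
  have hα : ∀ j, IsIso (α.app j) := fun j => by
    have := hF j
    have h : IsIso (Scheme.Modules.fromTildeΓ (R := R) (F.obj j)) := inferInstance
    simpa [α, tilde.adjunction] using! h
  let e : colimit (G ⋙ tilde.functor R) ≅ colimit F := HasColimit.isoOfNatIso (@asIso _ _ _ _ α
    (NatIso.isIso_of_isIso_app α))
  have := (tilde.adjunction (R := R)).leftAdjoint_preservesColimits.{u, u}
  refine QC70.isQuasicoherent_of_iso ((preservesColimitIso (tilde.functor R) G) ≪≫ e) ?_
  exact (inferInstance : (tilde (colimit G)).IsQuasicoherent)


open AlgebraicGeometry in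
open CategoryTheory Limits in
/-- Let X = Spec A be an affine scheme and F : J → Mod(O_X) a small diagram of quasi-coherent
O_X-modules. Then the colimit of F, computed in the category of all O_X-modules, is quasi-coherent
(this contains the case of arbitrary direct sums). -/
theorem result
    (A : Type u) [CommRing A] {J : Type u} [SmallCategory J]
    (F : J ⥤ (Spec (CommRingCat.of A)).Modules) (hF : ∀ j, Coh.IsQCoh (F.obj j)) :
    Coh.IsQCoh (colimit F) := by
  exact isQuasicoherent_colimit (R := CommRingCat.of A) F hF

end Groth.Agent.S9497
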