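import Groth.Statements.S9499
import Groth.Agent.SchBasics.MonoFields

set_option autoImplicit false
universe u
open SchMor

namespace Groth.Agent.S9499

open AlgebraicGeometry in
open CategoryTheory in
/-- Let (k_i) be a finite family of fields and f : X → Spec(∏_i k_i) a monomorphism of schemes. Then
there are a subset I of the index set and an isomorphism X ≅ Spec(∏_{i∈I} k_i) over Spec(∏_i k_i),
where Spec(∏_{i∈I} k_i) maps to Spec(∏_i k_i) through the projection ring homomorphism ∏_i k_i →
∏_{i∈I} k_i. -/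
theorem result
    {ι : Type u} [Finite ι] (k : ι → Type u) [∀ i, Field (k i)]
    {X : Scheme.{u}} (f : X ⟶ Spec (CommRingCat.of (Π i, k i))) [Mono f] :
    ∃ (I : Set ι) (e : X ≅ Spec (CommRingCat.of (Π i : I, k i))),
      e.hom ≫ Spec.map (CommRingCat.ofHom (Pi.ringHom fun i : I => Pi.evalRingHom k i.1)) = f := by
  let R : ι → CommRingCat.{u} := fun i => CommRingCat.of (k i)
  obtain ⟨J, e, he⟩ := Groth.Agent.SchBasics.exists_iso_sigma_of_mono k (f ≫ inv (sigmaSpec R))
  refine ⟨J, e ≪≫ @asIso _ _ _ _ (sigmaSpec fun j : J => R j.1) inferInstance, ?_⟩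
  have h2 : Limits.Sigma.desc (fun j : J => Limits.Sigma.ι (fun i => Spec (CommRingCat.of (k i))) j.1)
      ≫ sigmaSpec R = sigmaSpec (fun j : J => R j.1) ≫
        Spec.map (CommRingCat.ofHom (Pi.ringHom fun i : J => Pi.evalRingHom k i.1)) := by
    refine Limits.Sigma.hom_ext _ _ fun j => ?_
    rw [Limits.Sigma.ι_desc_assoc, ι_sigmaSpec_assoc]
    erw [ι_sigmaSpec]
    rw [← Spec.map_comp]
    rfl
  simp only [Iso.trans_hom, asIso_hom, Category.assoc]
  rw [← h2, ← Category.assoc, he, Category.assoc, IsIso.inv_hom_id, Category.comp_id]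

end Groth.Agent.S9499
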