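import Groth.Statements.S9502
import Mathlib.AlgebraicGeometry.Morphisms.ClosedImmersion

set_option autoImplicit false
universe u
open SchMor

namespace Groth.Agent.S9502

open AlgebraicGeometry in
open CategoryTheory in
/-- Let f : X → Y be a morphism of schemes such that (1) the underlying continuous map of f is a
homeomorphism onto a closed subset of Y and (2) the map of sheaves of rings O_Y → f_*O_X is
surjective (locally surjective on sections). Then f is a closed immersion in the sense of locally
ringed spaces: (1) and (2) hold and (3) the kernel of O_Y → f_*O_X is locally generated by sections,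
i.e. around every point of Y there are sections of O_Y killed in f_*O_X whose germs generate the
kernel of the stalk map O_{Y,y} → (f_*O_X)_y at every nearby point y. (For a morphism of schemes (1)
and (2) alone already give surjective stalk maps; the content of this row is condition (3).) -/
theorem result
    {X Y : Scheme.{u}} (f : X ⟶ Y) (h1 : Topology.IsClosedEmbedding f)
    (h2 : TopCat.Presheaf.IsLocallySurjective f.c) :
    LRSImm.IsClosedImmersion f.toLRSHom := by
  have hci : AlgebraicGeometry.IsClosedImmersion f := by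
    have : SurjectiveOnStalks f := ⟨fun x t => by
      obtain ⟨V, hxV, t, rfl⟩ := X.presheaf.exists_germ_eq t
      obtain ⟨W, hW, hWV⟩ := h1.isInducing.isOpen_iff.mp V.isOpen
      let W' : Y.Opens := ⟨W, hW⟩
      have hfW : f ⁻¹ᵁ W' = V := TopologicalSpace.Opens.ext hWV
      have hxW : f x ∈ W' := by
        have : x ∈ f ⁻¹ᵁ W' := hfW ▸ hxV
        exact this
      obtain ⟨W'', hle, ⟨b, hb⟩, hxW''⟩ := (TopCat.Presheaf.isLocallySurjective_iff _).mp h2 W'
        (X.presheaf.map (homOfLE hfW.le).op t) (f x) hxW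
      refine ⟨Y.presheaf.germ W'' (f x) hxW'' b, ?_⟩
      have h3 : f.app W'' b = X.presheaf.map (homOfLE ((f.preimage_mono hle).trans hfW.le)).op t := by
        refine hb.trans ?_
        change X.presheaf.map _ (X.presheaf.map (homOfLE hfW.le).op t) = _
        rw [← CommRingCat.comp_apply, ← Functor.map_comp]
        rfl
      refine (congrArg (fun φ => φ b) (f.germ_stalkMap W'' x hxW'')).trans ?_
      rw [CommRingCat.comp_apply, h3, TopCat.Presheaf.germ_res_apply]⟩
    exact AlgebraicGeometry.IsClosedImmersion.mk h1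
  refine ⟨h1, h2, fun x => ?_⟩
  obtain ⟨U, hU, hxU, -⟩ := exists_isAffineOpen_mem_and_subset (X := Y) (U := ⊤)
    (TopologicalSpace.Opens.mem_top x)
  refine ⟨U, hxU, {s : Γ(Y, U) // f.app U s = 0}, fun s => s.1, fun s => s.2, fun x' hx' => le_antisymm ?_ ?_⟩
  · rw [Ideal.span_le]
    rintro _ ⟨s, rfl⟩
    exact (TopCat.Presheaf.stalkFunctor_map_germ_apply (C := CommRingCat) U x' hx' f.c s.1).trans
      ((congrArg _ s.2).trans (map_zero _))
  intro a ha
  obtain ⟨V, hxV, a, rfl⟩ := Y.presheaf.exists_germ_eq a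
  have h3 : ((TopCat.Presheaf.pushforward _ f.base).obj X.presheaf).germ V x' hxV (f.c.app (Opposite.op V) a) =
      ((TopCat.Presheaf.pushforward _ f.base).obj X.presheaf).germ V x' hxV 0 :=
    ((TopCat.Presheaf.stalkFunctor_map_germ_apply (C := CommRingCat) V x' hxV f.c a).symm.trans ha).trans
      (map_zero _).symm
  obtain ⟨W, hxW, iWV, iWV', hWz⟩ := TopCat.Presheaf.germ_eq _ x' hxV hxV _ _ h3
  obtain ⟨g, hgle, hxg⟩ := hU.exists_basicOpen_le (V := W) ⟨x', hxW⟩ hx'
  have := hU.isLocalization_basicOpen g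
  obtain ⟨b, ⟨_, n, rfl⟩, hb⟩ := IsLocalization.exists_mk'_eq (Submonoid.powers g)
    (Y.presheaf.map (homOfLE (hgle.trans iWV.le)).op a)
  rw [IsLocalization.mk'_eq_iff_eq_mul] at hb
  change Y.presheaf.map (homOfLE (Y.basicOpen_le g)).op b =
    _ * Y.presheaf.map (homOfLE (Y.basicOpen_le g)).op (g ^ n) at hb
  have hWz' : X.presheaf.map (homOfLE (f.preimage_mono iWV.le)).op (f.app V a) = 0 :=
    hWz.trans (map_zero _)
  have h4 : X.presheaf.map (homOfLE (f.preimage_mono (Y.basicOpen_le g))).op (f.app U b) = 0 := by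
    have h := congrArg (f.app (Y.basicOpen g)) hb
    rw [map_mul] at h
    simp only [← CommRingCat.comp_apply, Scheme.Hom.naturality] at h
    simp only [CommRingCat.comp_apply] at h
    have h5 : X.presheaf.map (homOfLE (f.preimage_mono (hgle.trans iWV.le))).op (f.app V a) = 0 := by
      rw [show (homOfLE (f.preimage_mono (hgle.trans iWV.le))).op =
        (homOfLE (f.preimage_mono iWV.le)).op ≫ (homOfLE (f.preimage_mono hgle)).op from rfl,
        Functor.map_comp, CommRingCat.comp_apply, hWz', map_zero]
    refine h.trans ?_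
    exact (congrArg (· * _) h5).trans (zero_mul _)
  have haff : IsAffineOpen (f ⁻¹ᵁ U) := hU.preimage f
  have := haff.isLocalization_basicOpen (f.app U g)
  have h6 : algebraMap Γ(X, f ⁻¹ᵁ U) Γ(X, X.basicOpen (f.app U g)) (f.app U b) = 0 := by
    have e : X.basicOpen (f.app U g) ≤ f ⁻¹ᵁ Y.basicOpen g := (Scheme.preimage_basicOpen f g).ge
    have h := congrArg (X.presheaf.map (homOfLE e).op) h4
    rw [← CommRingCat.comp_apply, ← Functor.map_comp, map_zero] at h
    exact h
  obtain ⟨⟨_, m, rfl⟩, hm⟩ :=
    (IsLocalization.map_eq_zero_iff (Submonoid.powers (f.app U g)) _ _).mp h6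
  have hs : f.app U (g ^ m * b) = 0 := by rw [map_mul, map_pow]; exact hm
  have hu : IsUnit (Y.presheaf.germ U x' hx' g) := (Scheme.mem_basicOpen Y g x' hx').mp hxg
  have hgb : Y.presheaf.germ U x' hx' (g ^ m * b) = Y.presheaf.germ V x' hxV a *
      Y.presheaf.germ U x' hx' (g ^ (n + m)) := by
    have h := congrArg (Y.presheaf.germ (Y.basicOpen g) x' hxg) hb
    rw [map_mul, TopCat.Presheaf.germ_res_apply, TopCat.Presheaf.germ_res_apply,
      TopCat.Presheaf.germ_res_apply] at h
    rw [map_mul, h, pow_add, map_mul]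
    ring
  have hmem : Y.presheaf.germ U x' hx' (g ^ m * b) ∈ Ideal.span (Set.range
      fun s : {s : Γ(Y, U) // f.app U s = 0} => Y.presheaf.germ U x' hx' s.1) :=
    Ideal.subset_span ⟨⟨_, hs⟩, rfl⟩
  rw [hgb] at hmem
  exact (Ideal.mul_unit_mem_iff_mem _ (by rw [map_pow]; exact hu.pow _)).mp hmem

end Groth.Agent.S9502
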