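import Groth.Statements.S9503
import Groth.Agent.QC70.HomCoh

set_option autoImplicit false
universe u
open AffSch

namespace Groth.Agent.S9503

set_option backward.isDefEq.respectTransparency.types false
open CategoryTheory AlgebraicGeometry TopologicalSpace
open scoped TensorProduct
set_option maxHeartbeats 1000000 in
theorem aux {A : CommRingCat.{u}} (M₀ N₀ : ModuleCat.{u} A) [Module.FinitePresentation A M₀]
    [DCoh.HasSheafHom (tilde M₀)] :
    Nonempty ((DCoh.sheafHom (tilde M₀)).obj (tilde N₀) ≅ tilde (ModuleCat.of A (M₀ →ₗ[A] N₀))) := by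
  let T := tilde M₀
  let S := tilde N₀
  let B := Γ(Spec A, ⊤)
  let σ : A ≃+* B := (Scheme.ΓSpecIso A).commRingCatIsoToRingEquiv.symm
  have hsm : ∀ (W : (Spec A).Modules) (a : A) (x : Γ(W, ⊤)), a • x = σ a • x := by
    intro W a x
    refine (Scheme.Modules.smul_Spec_def (R := A) a x).trans ?_
    have h : (Spec A).presheaf.map ((⊤ : (Spec A).Opens).leTop).op = 𝟙 _ :=
      (Spec A).presheaf.map_id _
    rw [h]
    rfl
  let tM : M₀ ≃ₗ[A] Γ(T, ⊤) := (tilde.isoTop M₀).toLinearEquiv
  let tN : N₀ ≃ₗ[A] Γ(S, ⊤) := (tilde.isoTop N₀).toLinearEquiv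
  haveI : Module.FinitePresentation B Γ(T, ⊤) := by
    let _ : Algebra A B := σ.toRingHom.toAlgebra
    haveI : IsScalarTower A B Γ(T, ⊤) := IsScalarTower.of_algebraMap_smul fun a x => (hsm T a x).symm
    haveI : Module.FinitePresentation A Γ(T, ⊤) := Module.FinitePresentation.of_equiv tM
    let φ : B ⊗[A] Γ(T, ⊤) →ₗ[B] Γ(T, ⊤) := LinearMap.liftBaseChange B (LinearMap.id : Γ(T, ⊤) →ₗ[A] Γ(T, ⊤))
    have hφ : Function.Bijective φ := by
      refine Function.bijective_iff_has_inverse.2 ⟨fun x => (1 : B) ⊗ₜ x, fun z => ?_, fun x => ?_⟩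
      · induction z using TensorProduct.induction_on with
        | zero => simp
        | tmul b x =>
          obtain ⟨a, rfl⟩ := σ.surjective b
          show (1 : B) ⊗ₜ[A] (φ (σ a ⊗ₜ x)) = σ a ⊗ₜ x
          rw [LinearMap.liftBaseChange_tmul, LinearMap.id_apply, ← hsm, ← TensorProduct.smul_tmul,
            Algebra.smul_def, mul_one]
          rfl
        | add u v hu hv =>
          show (1 : B) ⊗ₜ[A] φ (u + v) = u + v
          rw [map_add, TensorProduct.tmul_add]
          exact congrArg₂ (· + ·) hu hv
      · show φ ((1 : B) ⊗ₜ x) = x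
        rw [LinearMap.liftBaseChange_tmul, one_smul, LinearMap.id_apply]
    exact Module.FinitePresentation.of_equiv (LinearEquiv.ofBijective φ hφ)
  let G := Groth.Agent.QC70.homMod T S
  have hloc : Groth.Agent.QC70.IsLocAt G ⊤ :=
    Groth.Agent.QC70.isLocAt_homMod
      (Groth.Agent.QC70.isLocAt_of_isQuasicoherent S (isAffineOpen_top _)) (isAffineOpen_top _)
  haveI : G.IsQuasicoherent := Groth.Agent.QC70.isQuasicoherent_of_isLocAt G (fun _ : PUnit.{u + 1} => ⊤)
    (TopologicalSpace.IsOpenCover.mk (by simp)) (fun _ => isAffineOpen_top _) fun _ => hloc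
  let h := Groth.Agent.QC70.homSecEquiv (M := T) (N := S) (isAffineOpen_top (Spec A))
  let toA : (Γ(T, ⊤) →ₗ[B] Γ(S, ⊤)) → (M₀ →ₗ[A] N₀) := fun l =>
    { toFun := fun m => tN.symm (l (tM m))
      map_add' := fun m m' => by simp
      map_smul' := fun a m => by
        rw [RingHom.id_apply, ← map_smul tN.symm, map_smul tM, hsm, map_smul, hsm] }
  let toB : (M₀ →ₗ[A] N₀) → (Γ(T, ⊤) →ₗ[B] Γ(S, ⊤)) := fun l =>
    { toFun := fun x => tN (l (tM.symm x))
      map_add' := fun x x' => by simp
      map_smul' := fun b x => by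
        obtain ⟨a, rfl⟩ := σ.surjective b
        rw [RingHom.id_apply, ← hsm, ← hsm, map_smul, map_smul, map_smul] }
  let el : Γ(G, ⊤) ≃ₗ[A] (M₀ →ₗ[A] N₀) :=
      { toFun := fun x => toA (h x)
        invFun := fun l => h.symm (toB l)
        map_add' := fun x y => by
          refine LinearMap.ext fun m => ?_
          show tN.symm (h (x + y) (tM m)) = tN.symm (h x (tM m)) + tN.symm (h y (tM m))
          rw [map_add h, LinearMap.add_apply, map_add]
        map_smul' := fun a x => by
          refine LinearMap.ext fun m => ?_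
          have hax : h (show Γ(G, ⊤) from a • x) = σ a • h x := by
            rw [show (show Γ(G, ⊤) from a • x) = σ a • (show Γ(G, ⊤) from x) from hsm G a x, map_smul]
          show tN.symm (h (show Γ(G, ⊤) from a • x) (tM m)) = a • tN.symm (h x (tM m))
          rw [hax, LinearMap.smul_apply, ← hsm, map_smul]
        left_inv := fun x => by
          refine (congrArg h.symm (LinearMap.ext fun z => ?_)).trans (h.symm_apply_apply x)
          show tN (tN.symm (h x (tM (tM.symm z)))) = h x z
          rw [LinearEquiv.apply_symm_apply, LinearEquiv.apply_symm_apply]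
        right_inv := fun l => by
          refine LinearMap.ext fun m => ?_
          show tN.symm (h (h.symm (toB l)) (tM m)) = l m
          rw [LinearEquiv.apply_symm_apply]
          show tN.symm (tN (l (tM.symm (tM m)))) = l m
          rw [LinearEquiv.symm_apply_apply, LinearEquiv.symm_apply_apply] }
  let E : (moduleSpecΓFunctor (R := A)).obj G ≅ ModuleCat.of A (M₀ →ₗ[A] N₀) :=
    LinearEquiv.toModuleIso (X₁ := (moduleSpecΓFunctor (R := A)).obj G)
      (X₂ := ModuleCat.of A (M₀ →ₗ[A] N₀)) el
  haveI : IsIso G.fromTildeΓ := inferInstance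
  exact ⟨(Groth.Agent.QC70.sheafHomIso T).app S ≪≫ (asIso G.fromTildeΓ).symm ≪≫
    (tilde.functor A).mapIso E⟩

open AlgebraicGeometry in
open CategoryTheory in
/-- Let A be a commutative ring, M a finitely presented A-module and N an A-module, with associated
O_X-modules M~ and N~ on X = Spec A, and let Hom_{O_X}(M~, -) denote the sheaf-Hom functor (the
right adjoint of M~ ⊗ -, assumed to exist). Then Hom_{O_X}(M~, N~) is isomorphic to the O_X-module
associated to the A-module Hom_A(M, N) (existence of an isomorphism only; the prelude's sheaf Hom is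
a chosen right adjoint, so no particular map is singled out). -/
theorem result
    (A : Type u) [CommRing A] (M N : Type u) [AddCommGroup M] [Module A M]
    [Module.FinitePresentation A M] [AddCommGroup N] [Module A N]
    [DCoh.HasSheafHom (tilde (R := CommRingCat.of A) (ModuleCat.of A M))] :
    Nonempty ((DCoh.sheafHom (tilde (R := CommRingCat.of A) (ModuleCat.of A M))).obj
        (tilde (R := CommRingCat.of A) (ModuleCat.of A N)) ≅
      tilde (R := CommRingCat.of A) (ModuleCat.of A (M →ₗ[A] N))) := by
  haveI : Module.FinitePresentation (CommRingCat.of A) (ModuleCat.of A M) :=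
    inferInstanceAs (Module.FinitePresentation A M)
  exact aux (A := CommRingCat.of A) (ModuleCat.of A M) (ModuleCat.of A N)

end Groth.Agent.S9503
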