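import Groth.Statements.S9504
import Groth.Agent.Om3.ExtPowPull

set_option autoImplicit false
universe u
open AffSch

namespace Groth.Agent.S9504

set_option backward.isDefEq.respectTransparency.types false
open CategoryTheory AlgebraicGeometry Opposite exteriorPower Groth.Agent.QC70
open scoped TensorProduct

theorem bijective_pullS_id {X : Scheme.{u}} (E : X.Modules) (U : X.Opens) :
    Function.Bijective (((Scheme.Modules.pullbackPushforwardAdjunction (𝟙 X)).unit.app E).app U) := by
  let adj := Scheme.Modules.pullbackPushforwardAdjunction (𝟙 X)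
  haveI : (Scheme.Modules.pushforward (𝟙 X)).IsEquivalence :=
    Functor.isEquivalence_of_iso (Scheme.Modules.pushforwardId X).symm
  haveI : (Scheme.Modules.pullback (𝟙 X)).IsEquivalence := adj.isEquivalence_left_of_isEquivalence_right
  haveI : IsIso (adj.unit.app E) := inferInstance
  exact ConcreteCategory.bijective_of_isIso ((adj.unit.app E).app U)

variable {A : CommRingCat.{u}} (M : ModuleCat.{u} A)

/-- The map to the sections of the associated sheaf, as a linear map. -/
noncomputable def toSec (U : (Spec A).Opens) : M →ₗ[A] Γ(tilde M, U) := (tilde.toOpen M U).hom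

theorem res_toSec {U V : (Spec A).Opens} (h : V ≤ U) (m : M) :
    res (tilde M) h (toSec M U m) = toSec M V m :=
  congr($(tilde.toOpen_res M U V (homOfLE h)) m)

/-- Sections over an affine open are the base change. -/
theorem isBaseChange_toSec {U : (Spec A).Opens} (hU : IsAffineOpen U) :
    IsBaseChange Γ(Spec A, U) (toSec M U) := by
  refine IsBaseChange.of_lift_unique.{u, u, u} _ fun Q _ _ _ _ g₀ => ?_
  letI : AddCommGroup Q := Module.addCommMonoidToAddCommGroup Γ(Spec A, U)
  let X := Spec A
  let W : X.Opens := ⊤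
  let e : U ≤ 𝟙 X ⁻¹ᵁ W := le_top
  let tW : M ≃ₗ[A] Γ(tilde M, W) := (tilde.isoTop M).toLinearEquiv
  let g : Γ(tilde M, W) →+ Q :=
    { toFun := fun x => g₀ (tW.symm x)
      map_zero' := by show g₀ (tW.symm 0) = 0; rw [map_zero, map_zero]
      map_add' := fun x y => by show g₀ (tW.symm (x + y)) = _; rw [map_add, map_add] }
  have hg : ∀ (r : Γ(X, W)) (x : Γ(tilde M, W)), g (r • x) = (𝟙 X : X ⟶ X).appLE W U e r • g x := by
    intro r x
    obtain ⟨a, rfl⟩ : ∃ a, r = (Scheme.ΓSpecIso A).inv a :=
      ⟨(Scheme.ΓSpecIso A).hom r, (congr($((Scheme.ΓSpecIso A).hom_inv_id) r)).symm⟩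
    have h1 : (Scheme.ΓSpecIso A).inv a • x = a • x := by
      rw [Scheme.Modules.smul_Spec_def]
      congr 1
    have h2 : (𝟙 X : X ⟶ X).appLE W U e ((Scheme.ΓSpecIso A).inv a) = algebraMap A Γ(X, U) a := by
      simp [Scheme.Hom.appLE]
      rfl
    show g₀ (tW.symm ((Scheme.ΓSpecIso A).inv a • x)) = _ • g₀ (tW.symm x)
    rw [h1, map_smul tW.symm, map_smul g₀, h2, algebraMap_smul]
  obtain ⟨l, hl⟩ := SchBasics.exists_linear_pullSect_module (𝟙 X) (tilde M) hU (isAffineOpen_top _) e Q g hg
  have hnat : ∀ m : M, res ((Scheme.Modules.pullback (𝟙 X)).obj (tilde M)) e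
      (OmegaSh.pullSect (𝟙 X) (tilde M) W (toSec M W m)) =
      ((Scheme.Modules.pullbackPushforwardAdjunction (𝟙 X)).unit.app (tilde M)).app U (toSec M U m) := by
    intro m
    rw [← res_toSec M (le_top : U ≤ W) m]
    exact (app_res ((Scheme.Modules.pullbackPushforwardAdjunction (𝟙 X)).unit.app (tilde M)) le_top
      (toSec M W m)).symm
  let u₁ := ((Scheme.Modules.pullbackPushforwardAdjunction (𝟙 X)).unit.app (tilde M)).app U
  have hu : ∀ (c : Γ(X, U)) (x : Γ(tilde M, U)), u₁ (c • x) =
      c • (show Γ((Scheme.Modules.pullback (𝟙 X)).obj (tilde M), U) from u₁ x) := fun c x =>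
    Scheme.Modules.Hom.app_smul _ c x
  let l' : Γ(tilde M, U) →ₗ[Γ(X, U)] Q :=
    { toFun := fun x => l (u₁ x)
      map_add' := fun x y => (congrArg l (map_add u₁.hom x y)).trans (map_add l _ _)
      map_smul' := fun c x => (congrArg l (hu c x)).trans (map_smul l c _) }
  have hl' : ∀ m, l' (toSec M U m) = g₀ m := fun m => by
    refine (congrArg l (hnat m).symm).trans ((hl _).trans ?_)
    exact congrArg g₀ (tW.symm_apply_apply m)
  refine ⟨l', LinearMap.ext hl', fun l'' hl'' => ?_⟩
  have hspan : Submodule.span Γ(X, U) (Set.range (toSec M U)) = ⊤ := by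
    have h := SchBasics.span_pullSect (𝟙 X) (tilde M) hU (isAffineOpen_top (Spec A)) e
    rw [eq_top_iff]
    intro x _
    have hx : (show Γ((Scheme.Modules.pullback (𝟙 X)).obj (tilde M), U) from u₁ x) ∈
        Submodule.span Γ(X, U) (Set.range fun m : Γ(tilde M, W) =>
          res ((Scheme.Modules.pullback (𝟙 X)).obj (tilde M)) e
            (OmegaSh.pullSect (𝟙 X) (tilde M) W m)) := h ▸ Submodule.mem_top
    obtain ⟨c, hc⟩ := (Finsupp.mem_span_range_iff_exists_finsupp).1 hx
    have key : x = c.sum fun m r => r • toSec M U (tW.symm m) := by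
      refine (bijective_pullS_id (tilde M) U).1 ?_
      refine hc.symm.trans ?_
      refine Eq.trans ?_ (map_finsuppSum u₁.hom _ _).symm
      refine Finsupp.sum_congr fun m _ => ?_
      refine Eq.trans ?_ (hu _ _).symm
      refine congrArg (c m • ·) ?_
      exact (congrArg (fun t => res _ e (OmegaSh.pullSect (𝟙 X) (tilde M) W t))
        (tW.apply_symm_apply m).symm).trans (hnat _)
    rw [key]
    exact Submodule.sum_mem _ fun m _ => Submodule.smul_mem _ _ (Submodule.subset_span ⟨_, rfl⟩)
  refine LinearMap.ext_on hspan ?_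
  rintro _ ⟨m, rfl⟩
  exact (congr($hl'' m)).trans (hl' m).symm

open Groth.Agent.Om3 in
theorem isExtPow_tilde (n : ℕ) :
    ExtPow.IsExtPow n (tilde M) (tilde (ModuleCat.of A ↥(⋀[A]^n M))) := by
  let L := ModuleCat.of A ↥(⋀[A]^n M)
  let φ : ∀ U : (Spec A).affineOpens, Γ(tilde L, U.1) ≃ₗ[Γ(Spec A, U.1)]
      ↥(⋀[Γ(Spec A, U.1)]^n Γ(tilde M, U.1)) := fun U =>
    (isBaseChange_toSec L U.2).equiv.symm ≪≫ₗ
      (ExtPowAlg.isBaseChange_extMap (isBaseChange_toSec M U.2) n).equiv
  have hφ : ∀ (U : (Spec A).affineOpens) (v : Fin n → M),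
      (φ U).symm (ιMulti _ n fun i => toSec M U.1 (v i)) = toSec L U.1 (ιMulti A n v) := by
    intro U v
    rw [LinearEquiv.symm_apply_eq, LinearEquiv.trans_apply, IsBaseChange.equiv_symm_apply,
      IsBaseChange.equiv_tmul, one_smul, ExtPowAlg.extMap_ιMulti]
  refine ⟨φ, fun U V h v => ?_⟩
  have key : AddMonoidHom.mk' (fun z => res (tilde L) h ((φ U).symm z)) (fun a b =>
      (congrArg (res (tilde L) h) (map_add _ a b)).trans (res_add h _ _)) =
    AddMonoidHom.mk' (fun z => (φ V).symm (resExt (tilde M) n h z)) (fun a b =>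
      (congrArg (φ V).symm (map_add _ a b)).trans (map_add _ _ _)) := by
    refine semilinear_ext (resO (Spec A) h) _ _ (fun r m => ?_) (fun r m => ?_)
      (ExtPowAlg.span_ιMulti_comp (toSec M U.1)
        (ExtPowAlg.span_range_of_isBaseChange (isBaseChange_toSec M U.2)) n) ?_
    · exact (congrArg (res (tilde L) h) ((φ U).symm.map_smul r m)).trans (res_smul h r _)
    · exact (congrArg (φ V).symm (resExt_smul (tilde M) h r m)).trans ((φ V).symm.map_smul _ _)
    · rintro _ ⟨w, rfl⟩
      show res (tilde L) h ((φ U).symm _) = (φ V).symm (resExt (tilde M) n h _)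
      rw [hφ, res_toSec, resExt_ιMulti]
      refine (hφ V w).symm.trans ?_
      simp only [res_toSec]
  exact (DFunLike.congr_fun key _).trans (congrArg (φ V).symm (resExt_ιMulti (tilde M) h v))

open AlgebraicGeometry in
open CategoryTheory in
/-- Let A be a commutative ring, M an A-module and n a natural number. On X = Spec A the O_X-module
associated to the A-module ⋀^n M is an n-th exterior power of M~: on every affine open U its
sections are identified, linearly over Γ(U, O_X), with the n-th exterior power of the sections of M~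
over U, compatibly with restrictions on decomposable elements. -/
theorem result
    (A : Type u) [CommRing A] (M : Type u) [AddCommGroup M] [Module A M] (n : ℕ) :
    ExtPow.IsExtPow n (tilde (R := CommRingCat.of A) (ModuleCat.of A M))
      (tilde (R := CommRingCat.of A) (ModuleCat.of A ↥(⋀[A]^n M))) := by
  exact isExtPow_tilde (A := CommRingCat.of A) (ModuleCat.of A M) n

end Groth.Agent.S9504
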