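import Groth.Statements.S9506
import Groth.Agent.LRSImm94.IsScheme

set_option autoImplicit false
universe u
open LRSImm

namespace Groth.Agent.S9506

open AlgebraicGeometry in
open CategoryTheory Opposite in
/-- Let R be a commutative ring and i : Z → Spec R a closed immersion of locally ringed spaces (a
homeomorphism onto a closed subset such that O → i_*O_Z is surjective as a map of sheaves with
kernel locally generated by sections). Let I ⊆ R be the kernel of the composite R = Γ(Spec R, O) →
Γ(Z, O_Z). Then Z is identified with Spec(R/I) over Spec R: there is an isomorphism of locally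
ringed spaces Z ≅ Spec(R/I) whose composite with the morphism Spec(R/I) → Spec R induced by R → R/I
is i (in particular the ideal I with this property is unique). -/
theorem result
    (R : Type u) [CommRing R] (Z : LocallyRingedSpace.{u})
    (i : Z ⟶ (Spec (CommRingCat.of R)).toLocallyRingedSpace) (hi : LRSImm.IsClosedImmersion i)
    (I : Ideal R)
    (hI : I = RingHom.ker ((Scheme.ΓSpecIso (CommRingCat.of R)).inv ≫ i.c.app (op ⊤)).hom) :
    ∃ e : Z ≅ (Spec (CommRingCat.of (R ⧸ I))).toLocallyRingedSpace,
      e.hom ≫ (Spec.map (CommRingCat.ofHom (Ideal.Quotient.mk I))).toLRSHom = i := by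
  let Z' := Groth.Agent.LRSImm94.schemeOfIsClosedImmersion i hi
  let f : Z' ⟶ Spec (CommRingCat.of R) := Scheme.Hom.mk i
  haveI : AlgebraicGeometry.IsClosedImmersion f :=
    Groth.Agent.LRSImm94.isClosedImmersion_schemeHom i hi
  obtain ⟨J, e, he⟩ := (AlgebraicGeometry.IsClosedImmersion.Spec_iff (f := f)).mp this
  have hIJ : I = J := by
    rw [hI]
    change RingHom.ker ((Scheme.ΓSpecIso (CommRingCat.of R)).inv ≫ f.appTop).hom = J
    rw [he, Scheme.Hom.comp_appTop, ← Scheme.ΓSpecIso_inv_naturality_assoc, CommRingCat.hom_comp,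
      RingHom.ker_comp_of_injective]
    · exact Ideal.mk_ker
    · haveI : IsIso e.hom.appTop := inferInstanceAs (IsIso (e.hom.c.app (Opposite.op ⊤)))
      haveI : IsIso ((Scheme.ΓSpecIso (CommRingCat.of (R ⧸ J))).inv ≫ e.hom.appTop) :=
        IsIso.comp_isIso
      exact (ConcreteCategory.bijective_of_isIso _).1
  subst hIJ
  exact ⟨Scheme.forgetToLocallyRingedSpace.mapIso e, (congrArg Scheme.Hom.toLRSHom he).symm⟩

end Groth.Agent.S9506
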