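import Groth.Statements.S9508
import Mathlib.AlgebraicGeometry.Morphisms.QuasiSeparated
set_option backward.isDefEq.respectTransparency.types false

set_option autoImplicit false
universe u
open SchMor

namespace Groth.Agent.S9508

open AlgebraicGeometry in
open CategoryTheory in
/-- (1) ⇔ (2): A morphism of schemes f : X → S is quasi-separated if and only if, whenever two affine
opens U and V of X both lie in the preimage f⁻¹(W) of one affine open W of S, their intersection U ∩
V is quasi-compact (equivalently, is covered by finitely many affine opens). -/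
theorem result
    {X S : Scheme.{u}} (f : X ⟶ S) :
    QuasiSeparated f ↔
      ∀ (U V : X.affineOpens) (W : S.affineOpens),
        (U : X.Opens) ≤ f ⁻¹ᵁ (W : S.Opens) → (V : X.Opens) ≤ f ⁻¹ᵁ (W : S.Opens) →
          IsCompact ((U : Set X) ∩ (V : Set X)) := by
  have key : QuasiSeparated f ↔ ∀ W : S.affineOpens, QuasiSeparatedSpace (f ⁻¹ᵁ W.1 : Scheme.{u}) := by
    rw [IsZariskiLocalAtTarget.iff_of_iSup_eq_top (P := @QuasiSeparated.{u}) (fun W : S.affineOpens => W.1)
      (iSup_affineOpens_eq_top S)]
    refine forall_congr' fun W => ?_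
    have : IsAffine W.1 := W.2
    exact quasiSeparated_iff_quasiSeparatedSpace _
  rw [key]
  constructor
  · intro h U V W hU hV
    exact (isQuasiSeparated_iff_quasiSeparatedSpace _ (f ⁻¹ᵁ W.1).isOpen).mpr (h W) _ _ hU U.1.isOpen
      U.2.isCompact hV V.1.isOpen V.2.isCompact
  · intro h W
    refine (isQuasiSeparated_iff_quasiSeparatedSpace _ (f ⁻¹ᵁ W.1).isOpen).mp ?_
    intro A B hA hAo hAc hB hBo hBc
    obtain ⟨s, hs, rfl⟩ := isCompact_and_isOpen_iff_finite_and_eq_biUnion_affineOpens.mp ⟨hAc, hAo⟩
    obtain ⟨r, hr, rfl⟩ := isCompact_and_isOpen_iff_finite_and_eq_biUnion_affineOpens.mp ⟨hBc, hBo⟩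
    rw [Set.iUnion₂_inter]
    refine hs.isCompact_biUnion fun U hU => ?_
    rw [Set.inter_iUnion₂]
    refine hr.isCompact_biUnion fun V hV => ?_
    exact h U V W ((Set.subset_biUnion_of_mem (u := fun i : X.affineOpens => (i.1 : Set X)) hU).trans hA)
      ((Set.subset_biUnion_of_mem (u := fun i : X.affineOpens => (i.1 : Set X)) hV).trans hB)

end Groth.Agent.S9508
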