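import Groth.Statements.S9509
import Mathlib.AlgebraicGeometry.Morphisms.QuasiSeparated
set_option backward.isDefEq.respectTransparency.types false

set_option autoImplicit false
universe u
open SchMor

namespace Groth.Agent.S9509

open AlgebraicGeometry in
open CategoryTheory in
/-- (3) ⇒ (1): Let f : X → S be a morphism of schemes. Suppose S is covered by affine opens W_i, each
preimage f⁻¹(W_i) is covered by affine opens V_{i,j}, and any two V_{i,j}, V_{i,j'} with the same
index i meet in a quasi-compact open (one covered by finitely many affine opens). Then f is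
quasi-separated. -/
theorem result
    {X S : Scheme.{u}} (f : X ⟶ S) {ι : Type u} (W : ι → S.affineOpens)
    (hW : ⨆ i, (W i : S.Opens) = ⊤) {κ : ι → Type u} (V : ∀ i, κ i → X.affineOpens)
    (hV : ∀ i, ⨆ j, (V i j : X.Opens) = f ⁻¹ᵁ (W i : S.Opens))
    (hVV : ∀ i (j j' : κ i), IsCompact ((V i j : Set X) ∩ (V i j' : Set X))) :
    QuasiSeparated f := by
  rw [IsZariskiLocalAtTarget.iff_of_iSup_eq_top (P := @QuasiSeparated.{u}) (fun i => (W i : S.Opens)) hW]
  intro i
  have : IsAffine (W i : S.Opens) := (W i).2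
  rw [quasiSeparated_iff_quasiSeparatedSpace]
  have hle : ∀ j, (V i j : X.Opens) ≤ f ⁻¹ᵁ (W i : S.Opens) := fun j => (hV i) ▸ le_iSup (fun j => (V i j : X.Opens)) j
  change QuasiSeparatedSpace (f ⁻¹ᵁ (W i : S.Opens) : Scheme.{u})
  refine Scheme.quasiSeparatedSpace_of_isOpenCover
    (fun j => (f ⁻¹ᵁ (W i : S.Opens)).ι ⁻¹ᵁ (V i j : X.Opens)) ?_ (fun j => ?_) (fun j j' => ?_)
  · refine top_le_iff.mp fun x _ => ?_
    obtain ⟨j, hj⟩ := TopologicalSpace.Opens.mem_iSup.mp ((hV i).ge x.2)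
    exact TopologicalSpace.Opens.mem_iSup.mpr ⟨j, hj⟩
  · exact (V i j).2.preimage_of_isOpenImmersion _ (by simpa using hle j)
  · rw [(f ⁻¹ᵁ (W i : S.Opens)).ι.isOpenEmbedding.isEmbedding.isCompact_iff]
    convert hVV i j j' using 1
    ext x
    simp only [Set.mem_image, Set.mem_inter_iff]
    exact ⟨fun ⟨y, hy, e⟩ => e ▸ hy, fun hx => ⟨⟨x, hle j hx.1⟩, hx, rfl⟩⟩

end Groth.Agent.S9509
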