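import Groth.Statements.S9511
import Mathlib.AlgebraicGeometry.AffineScheme
import Mathlib.AlgebraicGeometry.Limits

set_option autoImplicit false
universe u
open LRSImm

namespace Groth.Agent.S9511

open AlgebraicGeometry in
open CategoryTheory TopologicalSpace in
/-- Let X be a locally ringed space and U, V ⊆ X open with X = U ⊔ V (they cover X and are disjoint),
such that the open subspaces X|_U and X|_V are affine schemes. Then X is an affine scheme: the
canonical morphism X → Spec Γ(X, O_X) is an isomorphism of locally ringed spaces. -/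
theorem result
    (X : LocallyRingedSpace.{u}) (U V : Opens X.toTopCat) (hUV : IsCompl U V)
    (A B : CommRingCat.{u})
    (eU : X.restrict U.isOpenEmbedding ≅ (Spec A).toLocallyRingedSpace)
    (eV : X.restrict V.isOpenEmbedding ≅ (Spec B).toLocallyRingedSpace) :
    IsIso X.toΓSpec := by
  have hcov : ∀ x : X.toTopCat, x ∈ U ∨ x ∈ V := fun x => by
    have : x ∈ U ⊔ V := hUV.sup_eq_top ▸ trivial
    exact this
  let X' : Scheme.{u} :=
    { toLocallyRingedSpace := X
      local_affine := fun x => by
        rcases hcov x with h | h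
        · exact ⟨⟨U, h⟩, A, ⟨eU⟩⟩
        · exact ⟨⟨V, h⟩, B, ⟨eV⟩⟩ }
  let fU : Scheme.Opens.toScheme (X := X') U ⟶ Spec A := Scheme.Hom.mk eU.hom
  have : IsIso fU := by
    refine ⟨Scheme.Hom.mk eU.inv, ?_, ?_⟩
    · exact Scheme.Hom.ext' eU.hom_inv_id
    · exact Scheme.Hom.ext' eU.inv_hom_id
  let fV : Scheme.Opens.toScheme (X := X') V ⟶ Spec B := Scheme.Hom.mk eV.hom
  have : IsIso fV := by
    refine ⟨Scheme.Hom.mk eV.inv, ?_, ?_⟩
    · exact Scheme.Hom.ext' eV.hom_inv_id
    · exact Scheme.Hom.ext' eV.inv_hom_id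
  have hU : IsAffineOpen (X := X') U := IsAffine.of_isIso fU
  have hV : IsAffineOpen (X := X') V := IsAffine.of_isIso fV
  have htop := hU.sup_of_disjoint hV hUV.disjoint
  have h2 : (U : X'.Opens) ⊔ V = ⊤ := hUV.sup_eq_top
  rw [h2] at htop
  have : IsAffine X' := by
    have : IsAffine (Scheme.Opens.toScheme (X := X') ⊤) := htop
    exact IsAffine.of_isIso X'.topIso.inv
  exact inferInstanceAs (IsIso (Scheme.forgetToLocallyRingedSpace.map X'.toSpecΓ))

end Groth.Agent.S9511
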