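import Groth.Statements.S9512
-- import your own Groth.Agent.* helpers here

set_option autoImplicit false
universe u
open LRSImm

namespace Groth.Agent.S9512

open AlgebraicGeometry in
open CategoryTheory Opposite in
/-- Let X be a locally ringed space, Y = Spec R an affine scheme and f : X → Y a morphism of locally
ringed spaces. Given a point x of X, the image f(x) is the prime of R obtained as the inverse image
of the maximal ideal of O_{X,x} under the composite R = Γ(Y, O_Y) → Γ(X, O_X) → O_{X,x}. -/
theorem result
    (X : LocallyRingedSpace.{u}) (R : CommRingCat.{u})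
    (f : X ⟶ (Spec R).toLocallyRingedSpace) (x : X.toTopCat) :
    f.base x = PrimeSpectrum.comap
      ((Scheme.ΓSpecIso R).inv ≫ f.c.app (op ⊤) ≫ X.presheaf.germ ⊤ x trivial).hom
      (IsLocalRing.closedPoint (X.presheaf.stalk x)) := by
  apply PrimeSpectrum.ext
  ext r
  have h1 : r ∈ (f.base x).asIdeal ↔
      ¬ IsUnit ((Spec R).presheaf.germ ⊤ (f.base x) trivial ((Scheme.ΓSpecIso R).inv r)) := by
    rw [← Scheme.mem_basicOpen_top, basicOpen_eq_of_affine]
    exact (not_not).symm
  rw [h1, ← isUnit_map_iff (f.stalkMap x).hom]
  simp only [PrimeSpectrum.comap_asIdeal, Ideal.mem_comap, IsLocalRing.closedPoint,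
    IsLocalRing.mem_maximalIdeal, mem_nonunits_iff]
  erw [PresheafedSpace.stalkMap_germ_apply]
  rfl

end Groth.Agent.S9512
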