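import Groth.Statements.S9513
import Groth.Agent.SchBasics.AffineBasisSheaf

set_option autoImplicit false
universe u
open SchMor

namespace Groth.Agent.S9513

open AlgebraicGeometry in
open CategoryTheory TopologicalSpace Opposite in
/-- (1) ⇔ (3): Let X be a scheme and B the set of affine opens of X, ordered by inclusion; let F be a
presheaf of sets on B (a functor on Bᵒᵖ) and E ∈ B the empty open. Then F is isomorphic to the
restriction to B of a sheaf of sets on X if and only if (a) F(∅) is a singleton and (b) for all U ∈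
B and sections f, g of O_X over U with U = D(f) ∪ D(g), writing V = D(f), W = D(g) and V ∩ W = D(fg)
(all in B), the map F(U) → F(V) × F(W) is injective with image exactly the pairs (s, t) whose
restrictions to D(fg) agree. (The order relations V, W ≤ U and D(fg) ≤ V, W are supplied as
hypotheses; they follow from the equations.) -/
theorem result (X : Scheme.{u})
    (F : (X.affineOpens)ᵒᵖ ⥤ Type u) (E : X.affineOpens) (hE : (E : X.Opens) = ⊥) :
    (∃ G : TopCat.Sheaf (Type u) X.carrier,
        Nonempty ((Monotone.functor (f := fun U : X.affineOpens => (U : X.Opens)) (fun _ _ h => h)).op ⋙ G.1 ≅ F)) ↔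
    ((Nonempty (F.obj (op E)) ∧ Subsingleton (F.obj (op E))) ∧
      ∀ (U V W VW : X.affineOpens) (f g : Γ(X, (U : X.Opens))),
        (V : X.Opens) = X.basicOpen f → (W : X.Opens) = X.basicOpen g →
        (VW : X.Opens) = X.basicOpen (f * g) → (U : X.Opens) = (V : X.Opens) ⊔ (W : X.Opens) →
        ∀ (hV : V ≤ U) (hW : W ≤ U) (h1 : VW ≤ V) (h2 : VW ≤ W),
        Function.Injective (fun s : F.obj (op U) => (F.map (homOfLE hV).op s, F.map (homOfLE hW).op s)) ∧
        Set.range (fun s : F.obj (op U) => (F.map (homOfLE hV).op s, F.map (homOfLE hW).op s)) =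
          {p | F.map (homOfLE h1).op p.1 = F.map (homOfLE h2).op p.2}) := by
  open Groth.Agent.SchBasics.AffineBasis in
  constructor
  · rintro ⟨G, ⟨e⟩⟩
    have key : ∀ {U V : X.affineOpens} (h : V ≤ U) (s : F.obj (op U)),
        e.inv.app (op V) (F.map (homOfLE h).op s) =
          G.1.map (homOfLE (show (V : X.Opens) ≤ U from h)).op (e.inv.app (op U) s) := fun {U V} h s => by
      exact congr($(e.inv.naturality (homOfLE h).op) s)
    have hinj : ∀ U, Function.Injective (e.inv.app (op U)) := fun U =>
      ((CategoryTheory.isIso_iff_bijective _).1 inferInstance).1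
    have hsurj : ∀ U, Function.Surjective (e.inv.app (op U)) := fun U =>
      ((CategoryTheory.isIso_iff_bijective _).1 inferInstance).2
    refine ⟨⟨?_, ⟨fun a b => hinj E ?_⟩⟩, fun U V W VW f g hVf hWg hVW hUVW hV hW h1 h2 => ⟨?_, ?_⟩⟩
    · obtain ⟨s, -⟩ := G.existsUnique_gluing' (fun i : PEmpty.{u+1} => (i.elim : X.Opens)) (E : X.Opens)
        (fun i => i.elim) (by rw [hE]; exact bot_le) (fun i => i.elim) (fun i => i.elim)
      exact ⟨(hsurj E s).choose⟩
    · exact G.eq_of_locally_eq' (fun i : PEmpty.{u+1} => (i.elim : X.Opens)) (E : X.Opens)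
        (fun i => i.elim) (by rw [hE]; exact bot_le) _ _ (fun i => i.elim)
    · intro s t hst
      obtain ⟨e1, e2⟩ := Prod.mk.inj hst
      refine hinj U (G.eq_of_locally_eq₂ (homOfLE (show (V : X.Opens) ≤ U from hV))
        (homOfLE (show (W : X.Opens) ≤ U from hW)) hUVW.le _ _ ?_ ?_)
      · rw [← key hV, ← key hV]
        exact congrArg _ e1
      · rw [← key hW, ← key hW]
        exact congrArg _ e2
    · refine Set.Subset.antisymm ?_ fun p hp => ?_
      · rintro _ ⟨s, rfl⟩
        show F.map _ (F.map _ s) = F.map _ (F.map _ s)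
        rw [← FunctorToTypes.map_comp_apply, ← FunctorToTypes.map_comp_apply]
        rfl
      · have hVW' : (V : X.Opens) ⊓ W = VW := by rw [hVf, hWg, hVW, X.basicOpen_mul]
        let O : ULift.{u} Bool → X.Opens := fun b => bif b.down then V else W
        have hO : ∀ b, O b ≤ (U : X.Opens) := by rintro ⟨_ | _⟩; exacts [hW, hV]
        let sf : ∀ b, G.1.obj (op (O b)) := fun b => match b with
          | ⟨true⟩ => e.inv.app (op V) p.1
          | ⟨false⟩ => e.inv.app (op W) p.2
        have hagree : G.1.map (homOfLE (show (VW : X.Opens) ≤ V from h1)).op (e.inv.app (op V) p.1) =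
            G.1.map (homOfLE (show (VW : X.Opens) ≤ W from h2)).op (e.inv.app (op W) p.2) := by
          rw [← key h1, ← key h2, show F.map _ p.1 = F.map _ p.2 from hp]
        have hc : TopCat.Presheaf.IsCompatible G.1 O sf := by
          rintro ⟨_ | _⟩ ⟨_ | _⟩
          · rfl
          · have := congrArg (G.1.map (homOfLE (inf_comm (W : X.Opens) V ▸ hVW'.le :
              (W : X.Opens) ⊓ V ≤ VW)).op) hagree
            simp only [← FunctorToTypes.map_comp_apply, ← op_comp, homOfLE_comp] at this
            exact this.symm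
          · have := congrArg (G.1.map (homOfLE hVW'.le).op) hagree
            simp only [← FunctorToTypes.map_comp_apply, ← op_comp, homOfLE_comp] at this
            exact this
          · rfl
        obtain ⟨s, hs, -⟩ := G.existsUnique_gluing' O (U : X.Opens) (fun b => homOfLE (hO b)) (fun x hx => by
          rcases hUVW.le hx with h | h
          · exact Opens.mem_iSup.2 ⟨⟨true⟩, h⟩
          · exact Opens.mem_iSup.2 ⟨⟨false⟩, h⟩) sf hc
        obtain ⟨s', rfl⟩ := hsurj U s
        refine ⟨s', Prod.ext (hinj V ?_) (hinj W ?_)⟩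
        · exact (key hV s').trans (hs ⟨true⟩)
        · exact (key hW s').trans (hs ⟨false⟩)
  · rintro ⟨⟨hne, hss⟩, hpair⟩
    have hbot : ∀ U : X.affineOpens, (U : X.Opens) = ⊥ → U = E := fun U hU =>
      Subtype.ext (hU.trans hE.symm)
    have hspec : ∀ (U : X.affineOpens) (f g : Γ(X, (U : X.Opens))),
        (U : X.Opens) ≤ X.basicOpen f ⊔ X.basicOpen g → (U : X.Opens) = X.basicOpen f ⊔ X.basicOpen g :=
      fun U f g h => le_antisymm h (sup_le (X.basicOpen_le f) (X.basicOpen_le g))
    have hmulf : ∀ (U : X.affineOpens) (f g : Γ(X, (U : X.Opens))),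
        X.affineBasicOpen (f * g) ≤ X.affineBasicOpen f := fun U f g =>
      show X.basicOpen (f * g) ≤ X.basicOpen f by rw [X.basicOpen_mul]; exact inf_le_left
    have hmulg : ∀ (U : X.affineOpens) (f g : Γ(X, (U : X.Opens))),
        X.affineBasicOpen (f * g) ≤ X.affineBasicOpen g := fun U f g =>
      show X.basicOpen (f * g) ≤ X.basicOpen g by rw [X.basicOpen_mul]; exact inf_le_right
    have hP : PairGlue F := by
      refine ⟨fun U hU => hbot U hU ▸ hss, fun U hU => hbot U hU ▸ hne, fun U f g h s t e1 e2 => ?_,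
        fun U f g h a b hab => ?_⟩
      · exact (hpair U (X.affineBasicOpen f) (X.affineBasicOpen g) (X.affineBasicOpen (f * g)) f g rfl rfl
          rfl (hspec U f g h) (X.basicOpen_le f) (X.basicOpen_le g) (hmulf U f g) (hmulg U f g)).1
          (Prod.ext e1 e2)
      · have hr := (hpair U (X.affineBasicOpen f) (X.affineBasicOpen g) (X.affineBasicOpen (f * g)) f g
          rfl rfl rfl (hspec U f g h) (X.basicOpen_le f) (X.basicOpen_le g) (hmulf U f g) (hmulg U f g)).2
        obtain ⟨t, ht⟩ := hr.ge (show (a, b) ∈ _ from hab _ (hmulf U f g) (hmulg U f g))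
        exact ⟨t, (Prod.mk.inj ht).1, (Prod.mk.inj ht).2⟩
    obtain ⟨G, ⟨e⟩⟩ := (S7588.result X.isBasis_affineOpens (toPre F) (isSheaf hP)).1
    refine ⟨G, ⟨NatIso.ofComponents (fun U => Equiv.toIso
      { toFun := e.hom.app U.unop
        invFun := e.inv.app U.unop
        left_inv := e.hom_inv U.unop
        right_inv := e.inv_hom U.unop }) fun {U V} h => ?_⟩⟩
    ext s
    exact (e.hom.natural (U := U.unop) (V := V.unop) (leOfHom h.unop) s).symm

end Groth.Agent.S9513
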