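import Groth.Statements.S9515
import Groth.Agent.QC70.Deligne

set_option autoImplicit false
set_option backward.isDefEq.respectTransparency.types false
universe u
open CategoryTheory CategoryTheory.Limits AlgebraicGeometry
attribute [local instance] HasDerivedCategory.standard
open Coherent

namespace Groth.Agent.S9515

/-- Let X be a Noetherian scheme, F a quasi-coherent O_X-module, G a coherent O_X-module and I a
quasi-coherent sheaf of ideals, with U the open complement of the closed subset cut out by I. For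
every morphism φ : G|_U → F|_U there are an n ≥ 0 and a morphism ψ : I^n G → F whose restriction to
U is the restriction of the inclusion I^n G → G followed by φ. (Here I^n G ⊆ G is the submodule
sheaf Dual3.idealMul (I^n) G.) -/
theorem result (X : Scheme.{u}) [IsNoetherian X] (F G : X.Modules)
    (hF : Coh.IsQCoh F) (hG : Coh.IsCoh G) (I : X.IdealSheafData)
    (U : X.Opens) (hU : (U : Set X) = (I.support : Set X)ᶜ)
    (φ : (Scheme.Modules.restrictFunctor U.ι).obj G ⟶
      (Scheme.Modules.restrictFunctor U.ι).obj F) :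
    ∃ (n : ℕ) (ψ : (Dual3.idealMul (I ^ n)).obj G ⟶ F),
      (Scheme.Modules.restrictFunctor U.ι).map ψ =
        (Scheme.Modules.restrictFunctor U.ι).map (Dual3.idealMulι (I ^ n) G) ≫ φ := by
  obtain ⟨_, _⟩ := hG
  haveI : F.IsQuasicoherent := hF
  obtain ⟨n, ψ, hψ⟩ := Groth.Agent.QC70.exists_idealMul_lift I hU F G
    (Groth.Agent.QC70.HomOn.ofRestrictHom φ)
  refine ⟨n, ψ, Scheme.Modules.hom_ext _ _ fun W => ?_⟩
  ext s
  refine (hψ (U.ι ''ᵁ W) (Groth.Agent.QC70.HomOn.range_le W) _).trans ?_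
  let y : Γ(G.restrict U.ι, W) := (Dual3.idealMulι (I ^ n) G).app (U.ι ''ᵁ W) s
  change Groth.Agent.QC70.res F (Groth.Agent.QC70.HomOn.image_preimage
      (Groth.Agent.QC70.HomOn.range_le W)).ge
    (φ.app (U.ι ⁻¹ᵁ U.ι ''ᵁ W) (Groth.Agent.QC70.res G (Groth.Agent.QC70.HomOn.image_preimage
      (Groth.Agent.QC70.HomOn.range_le W)).le y)) = φ.app W y
  have hW : W ≤ U.ι ⁻¹ᵁ U.ι ''ᵁ W := (U.ι.preimage_image_eq W).ge
  have hW' : U.ι ⁻¹ᵁ U.ι ''ᵁ W ≤ W := (U.ι.preimage_image_eq W).le
  change Groth.Agent.QC70.res (F.restrict U.ι) hW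
    (φ.app _ (Groth.Agent.QC70.res (G.restrict U.ι) hW' y)) = _
  rw [← Groth.Agent.QC70.app_res, Groth.Agent.QC70.res_res, Groth.Agent.QC70.res_self]

end Groth.Agent.S9515
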