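import Groth.Statements.S9516
import Groth.Agent.QC70.Vanish
import Groth.Agent.QC70.Coherent

set_option autoImplicit false
universe u
open CategoryTheory CategoryTheory.Limits AlgebraicGeometry
attribute [local instance] HasDerivedCategory.standard
open Coherent

namespace Groth.Agent.S9516

/-- Let X be a Noetherian scheme, F a quasi-coherent O_X-module, G a coherent O_X-module and I a
quasi-coherent sheaf of ideals, with U the open complement of the closed subset cut out by I. If a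
morphism ψ : I^n G → F restricts to zero on U, then ψ vanishes on I^N G for some N: there is a
morphism ι : I^N G → I^n G commuting with the inclusions into G and with ι ≫ ψ = 0. (Together with
the surjectivity statement this says that colim_n Hom(I^n G, F) → Hom(G|_U, F|_U) is bijective.) -/
theorem result (X : Scheme.{u}) [IsNoetherian X] (F G : X.Modules)
    (hF : Coh.IsQCoh F) (hG : Coh.IsCoh G) (I : X.IdealSheafData)
    (U : X.Opens) (hU : (U : Set X) = (I.support : Set X)ᶜ) (n : ℕ)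
    (ψ : (Dual3.idealMul (I ^ n)).obj G ⟶ F)
    (hψ : (Scheme.Modules.restrictFunctor U.ι).map ψ = 0) :
    ∃ (N : ℕ) (ι : (Dual3.idealMul (I ^ N)).obj G ⟶ (Dual3.idealMul (I ^ n)).obj G),
      ι ≫ Dual3.idealMulι (I ^ n) G = Dual3.idealMulι (I ^ N) G ∧ ι ≫ ψ = 0 := by
  obtain ⟨_, _⟩ := hG
  have : F.IsQuasicoherent := hF
  have : ((Dual3.idealMul (I ^ n)).obj G).IsQuasicoherent :=
    Groth.Agent.QC70.isQuasicoherent_idealMul (I ^ n) G
  have : ((Dual3.idealMul (I ^ n)).obj G).IsFiniteType :=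
    Groth.Agent.QC70.isFiniteType_idealMul (I ^ n) G
  obtain ⟨t, htfin, htcov⟩ := isCompact_and_isOpen_iff_finite_and_eq_biUnion_affineOpens.mp
    ⟨(isCompact_univ : IsCompact (Set.univ : Set X)), isOpen_univ⟩
  have hcov : ⨆ W : t, (W.1 : X.Opens) = ⊤ := by
    ext1
    simpa using htcov.symm
  have := htfin.to_subtype
  cases nonempty_fintype t
  have hm : ∀ W : t, ∃ m : ℕ, ∀ a ∈ I.ideal W.1 ^ m,
      ∀ x : Γ((Dual3.idealMul (I ^ n)).obj G, W.1.1), a • ψ.app W.1.1 x = 0 := by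
    intro W
    let L := Groth.Agent.QC70.appLinear ψ W.1.1
    have hfin := Groth.Agent.QC70.finite_sections_of_isFiniteType
      ((Dual3.idealMul (I ^ n)).obj G) W.1.2
    obtain ⟨m, hm⟩ := Groth.Agent.QC70.exists_pow_smul_eq_zero I hU F W.1 (LinearMap.range L)
      (LinearMap.range_eq_map L ▸ hfin.fg_top.map L) (by
        rintro _ ⟨x, rfl⟩
        change Groth.Agent.QC70.res F _ (ψ.app W.1.1 x) = 0
        rw [← Groth.Agent.QC70.app_res]
        have e := (Groth.Agent.QC70.HomOn.image_preimage (inf_le_right : W.1.1 ⊓ U ≤ U))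
        have h0 : ∀ y, ψ.app (U.ι ''ᵁ (U.ι ⁻¹ᵁ (W.1.1 ⊓ U))) y = 0 := fun y =>
          congr((Scheme.Modules.Hom.app $hψ (U.ι ⁻¹ᵁ (W.1.1 ⊓ U))) y)
        rw [← Groth.Agent.QC70.res_self
            (Groth.Agent.QC70.res ((Dual3.idealMul (I ^ n)).obj G) inf_le_left x),
          ← Groth.Agent.QC70.res_res e.le e.ge, Groth.Agent.QC70.app_res, h0,
          Groth.Agent.QC70.res_zero])
    exact ⟨m, fun a ha x => hm a ha _ ⟨x, rfl⟩⟩
  choose m hm using hm
  let M := Finset.univ.sup m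
  have hle : ∀ W : X.affineOpens, I.ideal W ^ (n + M) ≤ I.ideal W ^ n :=
    fun W => Ideal.pow_le_pow_right (Nat.le_add_right n M)
  obtain ⟨ι, hι⟩ := Groth.Agent.QC70.exists_lift_of_mono (Dual3.idealMulι (I ^ (n + M)) G)
    (Dual3.idealMulι (I ^ n) G) (fun W : t => (W.1 : X.Opens)) hcov (fun W => W.1.2)
    (fun W => Groth.Agent.QC70.isLocAt_idealMul _ _ W.1.2) (fun W x => by
      refine (Groth.Agent.QC70.mem_idealMul_iff (I ^ n) G W.1 _).mpr ?_
      have h := (Groth.Agent.QC70.mem_idealMul_iff (I ^ (n + M)) G W.1 _).mp ⟨x, rfl⟩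
      simp only [Scheme.IdealSheafData.ideal_pow, Pi.pow_apply] at h ⊢
      exact Submodule.smul_mono_left (hle W.1) h)
  refine ⟨n + M, ι, hι, Groth.Agent.QC70.hom_eq_zero_of_cover _ (fun W : t => (W.1 : X.Opens))
    hcov (fun W => W.1.2) (fun W => Groth.Agent.QC70.isLocAt_idealMul _ _ W.1.2) fun W x => ?_⟩
  have h := (Groth.Agent.QC70.mem_idealMul_iff (I ^ (n + M)) G W.1 _).mp ⟨x, rfl⟩
  have hmem : ∀ z ∈ (I ^ (n + M)).ideal W.1 • (⊤ : Submodule Γ(X, W.1.1) Γ(G, W.1.1)),
      ∃ c, (Dual3.idealMulι (I ^ n) G).app W.1.1 c = z ∧ ψ.app W.1.1 c = 0 := by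
    intro z hz
    rw [Scheme.IdealSheafData.ideal_pow, Pi.pow_apply, add_comm n M, pow_add, Submodule.mul_smul] at hz
    induction hz using Submodule.smul_induction_on' with
    | smul a ha y hy =>
      obtain ⟨c, hc⟩ := (Groth.Agent.QC70.mem_idealMul_iff (I ^ n) G W.1 y).mpr (by
        rwa [Scheme.IdealSheafData.ideal_pow, Pi.pow_apply])
      refine ⟨a • c, by rw [Scheme.Modules.Hom.app_smul, hc], ?_⟩
      rw [Scheme.Modules.Hom.app_smul]
      exact hm W a (Ideal.pow_le_pow_right (Finset.le_sup (Finset.mem_univ W)) ha) c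
    | add y _ z _ hy hz =>
      obtain ⟨c, hc, hc'⟩ := hy
      obtain ⟨d, hd, hd'⟩ := hz
      exact ⟨c + d, by rw [map_add, hc, hd], by rw [map_add, hc', hd', add_zero]⟩
  obtain ⟨c, hc, hc'⟩ := hmem _ h
  have hιx : (Dual3.idealMulι (I ^ n) G).app W.1.1 (ι.app W.1.1 x) =
      (Dual3.idealMulι (I ^ (n + M)) G).app W.1.1 x := congr((Scheme.Modules.Hom.app $hι W.1.1) x)
  rw [Scheme.Modules.Hom.comp_app, ConcreteCategory.comp_apply,
    Groth.Agent.QC70.app_injective_of_mono (Dual3.idealMulι (I ^ n) G) _ (hιx.trans hc.symm)]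
  exact hc'

end Groth.Agent.S9516
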