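import Groth.Statements.S9517
import Groth.Agent.QC70.Inf
import Groth.Agent.QC70.Coherent

set_option autoImplicit false
set_option backward.isDefEq.respectTransparency.types false
universe u
open CategoryTheory CategoryTheory.Limits AlgebraicGeometry
attribute [local instance] HasDerivedCategory.standard
open Coherent

namespace Groth.Agent.S9517

/-- Let X be a Noetherian scheme, F a coherent O_X-module, G ⊆ F a quasi-coherent submodule (given by a
monomorphism ι : G → F) and I a quasi-coherent sheaf of ideals. Then there is c ≥ 0 such that for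
every n ≥ c the two subobjects I^(n-c)·(I^c F ∩ G) and I^n F ∩ G of F are equal. (Products J·M are
the submodule sheaves Dual3.idealMul J M; intersections are taken in the lattice of subobjects of
F.) -/
theorem result (X : Scheme.{u}) [IsNoetherian X] (F G : X.Modules) (hF : Coh.IsCoh F)
    (hG : Coh.IsQCoh G) (ι : G ⟶ F) [Mono ι] (I : X.IdealSheafData) :
    ∃ c : ℕ, ∀ n : ℕ, c ≤ n →
      Subobject.mk (Dual3.idealMulι (I ^ (n - c))
          (Subobject.underlying.obj (Subobject.mk (Dual3.idealMulι (I ^ c) F) ⊓ Subobject.mk ι)) ≫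
        (Subobject.mk (Dual3.idealMulι (I ^ c) F) ⊓ Subobject.mk ι).arrow) =
      Subobject.mk (Dual3.idealMulι (I ^ n) F) ⊓ Subobject.mk ι := by
  obtain ⟨_, _⟩ := hF
  haveI : G.IsQuasicoherent := hG
  obtain ⟨t, htfin, htcov⟩ := isCompact_and_isOpen_iff_finite_and_eq_biUnion_affineOpens.mp
    ⟨(isCompact_univ : IsCompact (Set.univ : Set X)), isOpen_univ⟩
  have hcov : ⨆ W : t, (W.1 : X.Opens) = ⊤ := by
    ext1
    simpa using htcov.symm
  have := htfin.to_subtype
  cases nonempty_fintype t
  have hk : ∀ W : t, ∃ k : ℕ, ∀ n ≥ k,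
      I.ideal W.1 ^ n • ⊤ ⊓ LinearMap.range (Groth.Agent.QC70.appLinear ι W.1.1) =
        I.ideal W.1 ^ (n - k) •
          (I.ideal W.1 ^ k • ⊤ ⊓ LinearMap.range (Groth.Agent.QC70.appLinear ι W.1.1)) := by
    intro W
    have := Groth.Agent.QC70.finite_sections_of_isFiniteType F W.1.2
    have := IsLocallyNoetherian.component_noetherian W.1
    exact Ideal.exists_pow_inf_eq_pow_smul _ _
  choose k hk using hk
  refine ⟨Finset.univ.sup k, fun n hn => ?_⟩
  generalize hc : Finset.univ.sup k = c at hn ⊢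
  have hkc : ∀ W, k W ≤ c := fun W => hc ▸ Finset.le_sup (Finset.mem_univ W)
  have hq : ∀ m, (Subobject.underlying.obj (Subobject.mk (Dual3.idealMulι (I ^ m) F) ⊓
      Subobject.mk ι) : X.Modules).IsQuasicoherent := fun m =>
    haveI := Groth.Agent.QC70.isQuasicoherent_idealMul (I ^ m) F
    Groth.Agent.QC70.isQuasicoherent_inf _ _
  have hinf : ∀ m (W : t),
      LinearMap.range (Groth.Agent.QC70.appLinear
        (Subobject.mk (Dual3.idealMulι (I ^ m) F) ⊓ Subobject.mk ι).arrow W.1.1) =
        I.ideal W.1 ^ m • ⊤ ⊓ LinearMap.range (Groth.Agent.QC70.appLinear ι W.1.1) := by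
    intro m W
    apply SetLike.coe_injective
    refine (Groth.Agent.QC70.range_inf_arrow _ _ W.1.1).trans ?_
    rw [Groth.Agent.QC70.range_idealMulι_app, Scheme.IdealSheafData.ideal_pow, Pi.pow_apply]
    rfl
  haveI := hq c
  haveI := hq n
  conv_rhs => rw [← Subobject.mk_arrow (Subobject.mk (Dual3.idealMulι (I ^ n) F) ⊓ Subobject.mk ι)]
  refine Groth.Agent.QC70.subobject_mk_eq _ _ (fun W : t => (W.1 : X.Opens)) hcov (fun W => W.1.2)
    (fun W => Groth.Agent.QC70.isLocAt_idealMul _ _ W.1.2)
    (fun W => Groth.Agent.QC70.isLocAt_of_isQuasicoherent _ W.1.2) fun W => ?_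
  refine Eq.trans ?_ (congrArg SetLike.coe (hinf n W)).symm
  rw [Scheme.Modules.Hom.comp_app, CategoryTheory.ConcreteCategory.coe_comp, Set.range_comp,
    Groth.Agent.QC70.range_idealMulι_app, Scheme.IdealSheafData.ideal_pow, Pi.pow_apply]
  refine (Submodule.map_coe (Groth.Agent.QC70.appLinear _ W.1.1) _).symm.trans
    (congrArg SetLike.coe ?_)
  rw [Submodule.map_smul'', Submodule.map_top, hinf c W, hk W c (hkc W),
    hk W n ((hkc W).trans hn), ← Submodule.mul_smul, ← pow_add,
    Nat.sub_add_sub_cancel hn (hkc W)]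

end Groth.Agent.S9517
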