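import Groth.Statements.S9520
import Groth.Agent.Cx47.SysHyper

set_option autoImplicit false
universe u
open CategoryTheory CategoryTheory.Limits AlgebraicGeometry
attribute [local instance] HasDerivedCategory.standard
open CechOX Groth.Agent

namespace Groth.Agent.S9520

/-- Let f : X → S be a quasi-compact and quasi-separated morphism of schemes with S quasi-compact and
separated, and F a quasi-coherent O_X-module. There is a bounded below complex K of quasi-coherent
O_S-modules such that for every morphism g : S' → S, writing f' : X ×_S S' → S' and g' : X ×_S S' →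
X for the projections, the complex g^* K (termwise pullback) represents Rf'_* (g')^* F: its image in
the derived category of O_S'-modules is isomorphic to Rf'_* (g')^* F. (Rf'_* is the unbounded
derived functor under its existence binder; existence of an isomorphism is asserted.) -/
theorem result {X S : Scheme.{u}} (f : X ⟶ S) [QuasiCompact f]
    [QuasiSeparated f] [CompactSpace S] [S.IsSeparated] (F : X.Modules) (hF : Coh.IsQCoh F) :
    ∃ K : CochainComplex S.Modules ℤ,
      (∃ a : ℤ, ∀ i : ℤ, i < a → IsZero (K.X i)) ∧ (∀ i : ℤ, Coh.IsQCoh (K.X i)) ∧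
      ∀ (S' : Scheme.{u}) (g : S' ⟶ S) [(Scheme.Modules.pullback g).Additive]
        [DCoh.HasRpush (pullback.snd f g)],
        Nonempty (DCoh.toD S' (((Scheme.Modules.pullback g).mapHomologicalComplex (ComplexShape.up ℤ)).obj K) ≅
          (DCoh.Rpush (pullback.snd f g)).obj
            (DCoh.inD _ ((Scheme.Modules.pullback (pullback.fst f g)).obj F))) := by
  have : CompactSpace X := QuasiCompact.compactSpace_of_compactSpace f
  have : QuasiSeparatedSpace X := quasiSeparatedSpace_of_quasiSeparated f
  obtain ⟨T, hfin, hT, hc⟩ := Cx47.exists_affine_sys X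
  have haff : ∀ n (t : Cx47.Idx T n), IsAffineHom ((Cx47.opn T t).ι ≫ f) := fun n t =>
    have : IsAffine (Cx47.opn T t).toScheme := hT n t
    Cx47.isAffineHom_of_isAffine_source _
  refine ⟨((Cx47.relCx T f).obj F).extend ComplexShape.embeddingUpNat,
    ⟨0, fun i hi => HomologicalComplex.isZero_extend_X _ _ _ fun k hk => by simp at hk; omega⟩,
    fun i => ?_, fun S' g _ _ => ?_⟩
  · by_cases hi : 0 ≤ i
    · obtain ⟨n, rfl⟩ := Int.eq_ofNat_of_zero_le hi
      exact (SheafOfModules.isQuasicoherent S.ringCatSheaf).prop_of_iso
        (HomologicalComplex.extendXIso ((Cx47.relCx T f).obj F) ComplexShape.embeddingUpNat rfl).symm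
        (Cx47.isQCoh_relCx T f (haff n) F hF)
    · exact QC70.isQuasicoherent_of_isZero
        (HomologicalComplex.isZero_extend_X _ _ _ fun k hk => by simp at hk; omega)
  · obtain ⟨e⟩ := Cx47.nonempty_bc_iso_Rpush (IsPullback.of_hasPullback f g) T haff hc F hF
    exact ⟨DerivedCategory.Q.mapIso (CohDer42.mapExtendIso (Scheme.Modules.pullback g) _).symm ≪≫ e⟩

end Groth.Agent.S9520
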