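import Groth.Statements.S9522
import Groth.Agent.QC70.DevissageAux

set_option autoImplicit false
set_option backward.isDefEq.respectTransparency.types false
universe u
open CategoryTheory CategoryTheory.Limits AlgebraicGeometry
attribute [local instance] HasDerivedCategory.standard
open Coherent

namespace Groth.Agent.S9522

/-- Let X be a Noetherian scheme, Z₀ ⊆ X an irreducible closed subset with generic point ξ, and P an
isomorphism-invariant property of O_X-modules that holds for every zero module and such that (1) for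
every short exact sequence 0 → F₁ → F → F₂ → 0 of coherent modules, P(F₁) and P(F₂) imply P(F); (2)
for coherent F, P(F^⊕r) for some r ≥ 1 implies P(F); (3) P holds for i_*I for every closed immersion
i : Z → X with Z integral, i(Z) a proper subset of Z₀, and every quasi-coherent ideal sheaf I ⊆ O_Z;
(4) there is a coherent module G with support equal to Z₀, whose stalk at ξ is annihilated by the
maximal ideal of O_{X,ξ}, and such that for every quasi-coherent sheaf of ideals J on X with ξ ∉
V(J) there is a quasi-coherent submodule G' ⊆ J·G whose inclusion into G induces an isomorphism on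
stalks at ξ and for which P holds. Then P holds for every coherent O_X-module whose support is
contained in Z₀. (The published statement does not ask that P hold for the zero module, although its
proof uses this for a filtration with no steps; without it the conclusion fails for the zero module
when Z₀ is a closed point: on the spectrum of a field, with P(F) meaning that F is nonzero, every
other hypothesis holds. This row assumes that P holds for every zero module.) -/
theorem result (X : Scheme.{u}) [IsNoetherian X]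
    (Z₀ : Set X) (hZ₀ : IsClosed Z₀) (hirr : IsIrreducible Z₀) (ξ : X) (hξ : ξ ∈ Z₀ ∧ closure {ξ} = Z₀)
    (P : X.Modules → Prop) (hP : ∀ M N : X.Modules, Nonempty (M ≅ N) → P M → P N)
    (h₀ : ∀ M : X.Modules, IsZero M → P M)
    (h₁ : ∀ S : ShortComplex X.Modules, S.ShortExact → Coh.IsCoh S.X₁ → Coh.IsCoh S.X₂ → Coh.IsCoh S.X₃ →
      P S.X₁ → P S.X₃ → P S.X₂)
    (h₂ : ∀ (F : X.Modules) (r : ℕ), Coh.IsCoh F → 1 ≤ r → P (∐ fun _ : Fin r => F) → P F)
    (h₃ : ∀ (Z : Scheme.{u}) (i : Z ⟶ X), IsClosedImmersion i → IsIntegral Z →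
      Set.range ⇑i ⊆ Z₀ → Set.range ⇑i ≠ Z₀ →
      ∀ (I : Z.Modules) (ι : I ⟶ Coh.structureModule Z), Mono ι → Coh.IsQCoh I → P ((Coh.push i).obj I))
    (h₄ : ∃ G : X.Modules, Coh.IsCoh G ∧ CohB1.support G = Z₀ ∧
      (∀ a ∈ IsLocalRing.maximalIdeal (X.presheaf.stalk ξ), ∀ m : ↑(G.presheaf.stalk ξ), a • m = 0) ∧
      ∀ J : X.IdealSheafData, ξ ∉ (J.support : Set X) →
        ∃ (G' : X.Modules) (ι' : G' ⟶ (Dual3.idealMul J).obj G), Mono ι' ∧ Coh.IsQCoh G' ∧
          IsIso ((TopCat.Presheaf.stalkFunctor _ ξ).map (ι' ≫ Dual3.idealMulι J G).mapPresheaf) ∧ P G')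
    (F : X.Modules) (hF : Coh.IsCoh F) (hsupp : CohB1.support F ⊆ Z₀) : P F := by
  classical
  refine Groth.Agent.QC70.devissage P hP h₀ h₁ h₂ Z₀ hZ₀ ?_ F hF hsupp
  intro y hy _
  by_cases hyξ : y = ξ
  · subst hyξ
    obtain ⟨G, hG, hGs, hGk, hGJ⟩ := h₄
    refine ⟨G, hG, not_subsingleton_iff_nontrivial.mp (hGs.ge hy), hGk, fun J hJ => ?_⟩
    obtain ⟨G', ι', hm, hq, hiso, hPG⟩ := hGJ J hJ
    exact ⟨G', ι', hm,
      Groth.Agent.QC70.isCoh_of_mono ι' hq (Groth.Agent.QC70.isCoh_idealMul J hG),
      ConcreteCategory.bijective_of_isIso _, hPG⟩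
  · obtain ⟨Z, i, hi, hZ, hr, rfl⟩ := Groth.Agent.QC70.exists_integral_closed y
    have hsub : Set.range i ⊆ Z₀ :=
      hr.le.trans (hZ₀.closure_subset_iff.mpr (Set.singleton_subset_iff.mpr hy))
    have hne : Set.range i ≠ Z₀ := fun h => hyξ ((isGenericPoint_def.mpr (hr.symm.trans h)).eq
      (isGenericPoint_def.mpr hξ.2))
    haveI : IsLocallyNoetherian Z := LocallyOfFiniteType.isLocallyNoetherian i
    have hO := Groth.Agent.QC70.isCoh_unit (X := Z)
    haveI := hO.1
    haveI := Groth.Agent.QC70.nontrivial_stalk_unit (genericPoint Z)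
    refine ⟨_, Groth.Agent.QC70.isCoh_pushforward i _ hO,
      Groth.Agent.QC70.nontrivial_stalk_pushforward i (Coh.structureModule Z) _,
      Groth.Agent.QC70.stalk_pushforward_killed i (Coh.structureModule Z), fun J hJ => ?_⟩
    obtain ⟨e, he⟩ :=
      Groth.Agent.QC70.exists_iso_pushforward_idealMul i (Coh.structureModule Z) J
    have hI := Groth.Agent.QC70.isCoh_idealMul (J.comap i) hO
    refine ⟨_, e.hom, inferInstance, Groth.Agent.QC70.isCoh_pushforward i _ hI, ?_,
      h₃ Z i hi hZ hsub hne _ (Dual3.idealMulι (J.comap i) (Coh.structureModule Z)) inferInstance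
        hI.1⟩
    rw [he]
    refine Groth.Agent.QC70.bijective_stalkMapM_pushforward i _ _ _
      (Groth.Agent.QC70.bijective_stalk_idealMulι _ _ ?_)
    rw [Scheme.IdealSheafData.support_comap]
    exact hJ

end Groth.Agent.S9522
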