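import Groth.Statements.S9523
import Groth.Agent.QC70.Ideal
import Groth.Agent.QC70.Comap

set_option autoImplicit false
universe u
open CategoryTheory CategoryTheory.Limits AlgebraicGeometry
attribute [local instance] HasDerivedCategory.standard
open Coherent

namespace Groth.Agent.S9523

/-- Let f : Y → X be an affine morphism of schemes, F a quasi-coherent O_Y-module and I a quasi-coherent
sheaf of ideals on X. Then I·f_*F = f_*((f⁻¹I O_Y)·F) as submodules of f_*F: there is an isomorphism
I·f_*F ≅ f_*((f⁻¹I O_Y)·F) whose composite with f_* of the inclusion (f⁻¹I O_Y)·F → F is the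
inclusion I·f_*F → f_*F. (J·M denotes the submodule sheaf Dual3.idealMul J M; f⁻¹I O_Y is the
pulled-back ideal sheaf I.comap f.) -/
theorem result {Y X : Scheme.{u}} (f : Y ⟶ X) [IsAffineHom f]
    (F : Y.Modules) (hF : Coh.IsQCoh F) (I : X.IdealSheafData) :
    ∃ e : (Dual3.idealMul I).obj ((Scheme.Modules.pushforward f).obj F) ≅
        (Scheme.Modules.pushforward f).obj ((Dual3.idealMul (I.comap f)).obj F),
      e.hom ≫ (Scheme.Modules.pushforward f).map (Dual3.idealMulι (I.comap f) F) =
        Dual3.idealMulι I ((Scheme.Modules.pushforward f).obj F) := by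
  have : F.IsQuasicoherent := hF
  let P := Scheme.Modules.pushforward f
  have hP : (P.obj F).IsQuasicoherent :=
    Groth.Agent.QCqs72.isQuasicoherent_pushforward (M := F) f
  have := Groth.Agent.QC70.isQuasicoherent_idealMul I (P.obj F)
  have := Groth.Agent.QC70.isQuasicoherent_idealMul (I.comap f) F
  have hC : (P.obj ((Dual3.idealMul (I.comap f)).obj F)).IsQuasicoherent :=
    Groth.Agent.QCqs72.isQuasicoherent_pushforward (M := (Dual3.idealMul (I.comap f)).obj F) f
  have : P.IsRightAdjoint := inferInstanceAs (Scheme.Modules.pushforward f).IsRightAdjoint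
  have : Mono (P.map (Dual3.idealMulι (I.comap f) F)) := inferInstance
  have key : Subobject.mk (Dual3.idealMulι I (P.obj F)) =
      Subobject.mk (P.map (Dual3.idealMulι (I.comap f) F)) := by
    refine Groth.Agent.QC70.subobject_mk_eq _ _ (fun U : X.affineOpens => U.1)
      (iSup_affineOpens_eq_top X) (fun U => U.2)
      (fun U => Groth.Agent.QC70.isLocAt_of_isQuasicoherent _ U.2)
      (fun U => Groth.Agent.QC70.isLocAt_of_isQuasicoherent _ U.2) fun U => ?_
    rw [Groth.Agent.QC70.range_idealMulι_app]
    refine Eq.trans ?_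
      (Groth.Agent.QC70.range_idealMulι_app (I.comap f) F ⟨f ⁻¹ᵁ U.1, U.2.preimage f⟩).symm
    rw [Groth.Agent.QC70.ideal_comap_preimage]
    refine Set.Subset.antisymm (fun y hy => ?_) (fun (z : Γ(F, f ⁻¹ᵁ U.1)) hz => ?_)
    · induction hy using Submodule.smul_induction_on' with
      | smul a ha m _ =>
        have h := Submodule.smul_mem_smul (N := (⊤ : Submodule Γ(Y, f ⁻¹ᵁ U.1) Γ(F, f ⁻¹ᵁ U.1)))
          (Ideal.mem_map_of_mem (f.app U.1).hom ha) (n := (m : Γ(F, f ⁻¹ᵁ U.1))) trivial
        exact (Groth.Agent.QCqs72.pushforward_smul F f a m).symm ▸ h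
      | add a _ b _ iha ihb => exact add_mem (S := Submodule Γ(Y, f ⁻¹ᵁ U.1) Γ(F, f ⁻¹ᵁ U.1)) iha ihb
    · induction hz using Submodule.smul_induction_on' with
      | smul a ha m _ =>
        induction ha using Submodule.span_induction generalizing m with
        | mem a ha =>
          obtain ⟨b, hb, rfl⟩ := ha
          have h := Submodule.smul_mem_smul (N := (⊤ : Submodule Γ(X, U.1) Γ(P.obj F, U.1)))
            hb (n := (m : Γ(P.obj F, U.1))) trivial
          exact (Groth.Agent.QCqs72.pushforward_smul F f b m) ▸ h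
        | zero =>
          rw [zero_smul]
          exact zero_mem (I.ideal U • (⊤ : Submodule Γ(X, U.1) Γ(P.obj F, U.1)))
        | add a b _ _ iha ihb =>
          rw [add_smul]
          exact add_mem (S := Submodule Γ(X, U.1) Γ(P.obj F, U.1)) (iha m trivial) (ihb m trivial)
        | smul c a _ iha =>
          rw [show (c • a) • m = a • (c • m) by rw [smul_smul, smul_eq_mul, mul_comm]]
          exact iha (c • m) trivial
      | add a _ b _ iha ihb => exact add_mem (S := Submodule Γ(X, U.1) Γ(P.obj F, U.1)) iha ihb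
  exact ⟨Subobject.isoOfMkEqMk _ _ key, Subobject.ofMkLEMk_comp key.le⟩

end Groth.Agent.S9523
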