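import Groth.Statements.S9525
import Groth.Agent.QC70.Stalk

set_option autoImplicit false
universe u
open Coherent

namespace Groth.Agent.S9525

open CategoryTheory CategoryTheory.Limits AlgebraicGeometry in
/-- Let X be a locally Noetherian scheme, F and G coherent O_X-modules, φ : G → F a morphism and x ∈ X.
(1) If F_x = 0 there is an open neighbourhood U of x with F|_U = 0. (2) If the stalk map φ_x : G_x →
F_x is injective there is an open neighbourhood U of x with φ|_U injective. (4) If φ_x is bijective
there is an open neighbourhood U of x with φ|_U an isomorphism. (Part (3), surjectivity, is the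
finite-type statement valid on any ringed space and is not restated.) -/
theorem result (X : Scheme.{u}) [IsLocallyNoetherian X]
    (F G : X.Modules) (hF : Coh.IsCoh F) (hG : Coh.IsCoh G) (φ : G ⟶ F) (x : X) :
    (Subsingleton ↑(F.presheaf.stalk x) →
      ∃ U : X.Opens, x ∈ U ∧ IsZero ((Scheme.Modules.restrictFunctor U.ι).obj F)) ∧
    (Function.Injective ((TopCat.Presheaf.stalkFunctor _ x).map φ.mapPresheaf).hom →
      ∃ U : X.Opens, x ∈ U ∧ Mono ((Scheme.Modules.restrictFunctor U.ι).map φ)) ∧
    (Function.Bijective ((TopCat.Presheaf.stalkFunctor _ x).map φ.mapPresheaf).hom →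
      ∃ U : X.Opens, x ∈ U ∧ IsIso ((Scheme.Modules.restrictFunctor U.ι).map φ)) := by
  obtain ⟨_, _⟩ := hF
  obtain ⟨_, _⟩ := hG
  refine ⟨fun h => ?_, fun h => ?_, fun h => ?_⟩
  · obtain ⟨U, hxU, hU⟩ := Groth.Agent.QC70.exists_nhd_sections_subsingleton (M := F) x h
    exact ⟨U, hxU, Groth.Agent.QC70.isZero_restrict_of_sections_subsingleton hU⟩
  · have := Groth.Agent.QC70.isFiniteType_kernel φ
    obtain ⟨U, hxU, hU⟩ := Groth.Agent.QC70.exists_nhd_sections_subsingleton (M := kernel φ) x
      (Groth.Agent.QC70.subsingleton_stalk_kernel φ x h)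
    exact ⟨U, hxU, Groth.Agent.QC70.mono_restrict_of_kernel_subsingleton φ hU⟩
  · have := Groth.Agent.QC70.isFiniteType_kernel φ
    have := Groth.Agent.QC70.isFiniteType_cokernel φ
    obtain ⟨U, hxU, hU⟩ := Groth.Agent.QC70.exists_nhd_sections_subsingleton (M := kernel φ) x
      (Groth.Agent.QC70.subsingleton_stalk_kernel φ x h.1)
    obtain ⟨V, hxV, hV⟩ := Groth.Agent.QC70.exists_nhd_sections_subsingleton (M := cokernel φ) x
      (Groth.Agent.QC70.subsingleton_stalk_cokernel φ x h.2)
    refine ⟨U ⊓ V, ⟨hxU, hxV⟩, ?_⟩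
    have := Groth.Agent.QC70.mono_restrict_of_kernel_subsingleton (U := U ⊓ V) φ
      fun W hW => hU W (hW.trans inf_le_left)
    have := Groth.Agent.QC70.epi_restrict_of_cokernel_subsingleton (U := U ⊓ V) φ
      fun W hW => hV W (hW.trans inf_le_right)
    exact isIso_of_mono_of_epi _

end Groth.Agent.S9525
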