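import Groth.Statements.S9526
import Groth.Agent.QC70.StalkLoc

set_option autoImplicit false
universe u
open Coherent

namespace Groth.Agent.S9526

open CategoryTheory CategoryTheory.Limits AlgebraicGeometry in
/-- Let X be a locally Noetherian scheme, F and G coherent O_X-modules, x ∈ X and ψ : G_x → F_x an
O_{X,x}-linear map. Then there are an open neighbourhood U of x and a morphism φ : G|_U → F|_U with
φ_x = ψ (the stalk map of φ at x, composed with the canonical identifications of the stalks of G|_U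
and F|_U at x with G_x and F_x, is ψ). -/
theorem result (X : Scheme.{u}) [IsLocallyNoetherian X]
    (F G : X.Modules) (hF : Coh.IsCoh F) (hG : Coh.IsCoh G) (x : X)
    (ψ : ↑(G.presheaf.stalk x) →ₗ[X.presheaf.stalk x] ↑(F.presheaf.stalk x)) :
    ∃ (U : X.Opens) (hx : x ∈ U)
      (φ : (Scheme.Modules.restrictFunctor U.ι).obj G ⟶ (Scheme.Modules.restrictFunctor U.ι).obj F),
      (Scheme.Modules.restrictStalkNatIso U.ι (⟨x, hx⟩ : U)).inv.app G ≫
          (TopCat.Presheaf.stalkFunctor _ (⟨x, hx⟩ : U)).map φ.mapPresheaf ≫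
            (Scheme.Modules.restrictStalkNatIso U.ι (⟨x, hx⟩ : U)).hom.app F =
        AddCommGrpCat.ofHom ψ.toAddMonoidHom := by
  obtain ⟨_, _⟩ := hG
  obtain ⟨_, _⟩ := hF
  obtain ⟨_, ⟨U, hU, rfl⟩, hxU, -⟩ :=
    X.isBasis_affineOpens.exists_subset_of_mem_open (Set.mem_univ x) isOpen_univ
  have : IsNoetherianRing Γ(X, U) := IsLocallyNoetherian.component_noetherian ⟨U, hU⟩
  have := Groth.Agent.QC70.finite_sections_of_isFiniteType G hU
  have : Module.FinitePresentation Γ(X, U) Γ(G, U) := Module.finitePresentation_of_finite _ _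
  obtain ⟨s, h, hxs, hh⟩ := Groth.Agent.QC70.exists_lift_stalk hU hxU
    (Groth.Agent.QC70.isLocAt_of_isQuasicoherent F hU) ψ
  have hu : IsUnit (Groth.Agent.QC70.resO X (X.basicOpen_le s) s) :=
    RingedSpace.isUnit_res_basicOpen X.toSheafedSpace s
  obtain ⟨v, hv⟩ := hu.exists_left_inv
  let φ := ((Groth.Agent.QC70.HomOn.ofLinear hU h).mono (X.basicOpen_le s)).smulFun v
  refine ⟨X.basicOpen s, hxs, φ.toRestrictHom, ?_⟩
  ext e
  obtain ⟨W₀, hxW₀, z₀, rfl⟩ := Groth.Agent.QC70.germM_exist (M := G) (x := x) e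
  let W := W₀ ⊓ X.basicOpen s
  have hW : W ≤ X.basicOpen s := inf_le_right
  have hxW : x ∈ W := ⟨hxW₀, hxs⟩
  rw [← Groth.Agent.QC70.germM_res (inf_le_left : W ≤ W₀) hxW z₀]
  generalize Groth.Agent.QC70.res G (inf_le_left : W ≤ W₀) z₀ = z
  refine (Groth.Agent.QC70.stalkMapM_toRestrictHom φ hxs hW hxW z).trans ?_
  change _ = ψ (Groth.Agent.QC70.germM G W x hxW z)
  obtain ⟨f, t, hxf, ht⟩ := Groth.Agent.QC70.stalk_exists_smul
    (Groth.Agent.QC70.isLocAt_of_isQuasicoherent G hU) hU hxU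
    (Groth.Agent.QC70.germM G W x hxW z)
  have hWU : W ≤ U := hW.trans (X.basicOpen_le s)
  rw [← Groth.Agent.QC70.germ_resO hWU hxW f, ← Groth.Agent.QC70.germM_smul,
    ← Groth.Agent.QC70.germM_res hWU hxW t] at ht
  obtain ⟨W', hxW', i₁, i₂, e'⟩ := TopCat.Presheaf.germ_eq G.presheaf x hxW hxW _ _ ht
  refine (Groth.Agent.QC70.isUnit_germ hxf).smul_left_cancel.mp ?_
  have key : Groth.Agent.QC70.germM F W x hxW
        (φ.app W hW (Groth.Agent.QC70.resO X hWU f • z)) =
      ψ (Groth.Agent.QC70.germM G W x hxW (Groth.Agent.QC70.resO X hWU f • z)) := by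
    have heq : Groth.Agent.QC70.germM F W x hxW
          (φ.app W hW (Groth.Agent.QC70.resO X hWU f • z)) =
        Groth.Agent.QC70.germM F W x hxW (φ.app W hW (Groth.Agent.QC70.res G hWU t)) := by
      rw [← Groth.Agent.QC70.germM_res i₁.le hxW', ← φ.app_res,
        ← Groth.Agent.QC70.germM_res i₁.le hxW' (φ.app W hW (Groth.Agent.QC70.res G hWU t)),
        ← φ.app_res]
      exact congrArg (fun y => Groth.Agent.QC70.germM F W' x hxW' (φ.app W' (i₁.le.trans hW) y)) e'
    rw [heq, ht, Groth.Agent.QC70.germM_res hWU hxW t]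
    change Groth.Agent.QC70.germM F W x hxW (Groth.Agent.QC70.resO X hW v •
      (Groth.Agent.QC70.HomOn.ofLinear hU h).app W hWU (Groth.Agent.QC70.res G hWU t)) = _
    rw [(Groth.Agent.QC70.HomOn.ofLinear hU h).app_res le_rfl hWU,
      Groth.Agent.QC70.germM_smul,
      Groth.Agent.QC70.germ_resO, Groth.Agent.QC70.germM_res,
      show (Groth.Agent.QC70.HomOn.ofLinear hU h).app U le_rfl t = h t from
        LinearMap.congr_fun (Groth.Agent.QC70.HomOn.ofLinear_app_self hU h) t, hh, smul_smul,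
      ← Groth.Agent.QC70.germ_resO (X.basicOpen_le s) hxs s, ← map_mul, hv, map_one, one_smul]
  rw [map_smul, Groth.Agent.QC70.germM_smul, Groth.Agent.QC70.germM_smul, ψ.map_smul,
    Groth.Agent.QC70.germ_resO] at key
  exact key

end Groth.Agent.S9526
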