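import Groth.Statements.S9527
import Groth.Agent.QC70.HomStalk
import Groth.Agent.TF3.Depth
import Groth.Agent.QC70.ExtZero

set_option autoImplicit false
set_option backward.isDefEq.respectTransparency.types false
universe u
open CategoryTheory CategoryTheory.Limits AlgebraicGeometry
attribute [local instance] HasDerivedCategory.standard
open Coherent

namespace Groth.Agent.S9527

/-- Let X be a locally Noetherian scheme, F and G coherent O_X-modules, x ∈ X, and H = Hom_{O_X}(F, G)
the sheaf Hom. (1) If depth G_x ≥ 1 then depth H_x ≥ 1. (2) If depth G_x ≥ 2 then depth H_x ≥ 2.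
(Depths over the local ring O_{X,x}; the sheaf Hom is the right adjoint of F ⊗ − under its existence
binder; the zero module has depth ∞ in this convention.) -/
theorem result (X : Scheme.{u}) [IsLocallyNoetherian X] (F G : X.Modules)
    (hF : Coh.IsCoh F) (hG : Coh.IsCoh G) [DCoh.HasSheafHom F] (x : X) :
    ((1 : ℕ∞) ≤ LocCoh.depth (X.presheaf.stalk x) ↑(G.presheaf.stalk x) →
      (1 : ℕ∞) ≤ LocCoh.depth (X.presheaf.stalk x) ↑(((DCoh.sheafHom F).obj G).presheaf.stalk x)) ∧
    ((2 : ℕ∞) ≤ LocCoh.depth (X.presheaf.stalk x) ↑(G.presheaf.stalk x) →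
      (2 : ℕ∞) ≤ LocCoh.depth (X.presheaf.stalk x) ↑(((DCoh.sheafHom F).obj G).presheaf.stalk x)) := by
  obtain ⟨hR, hfF, hfG, ⟨e⟩⟩ := QC70.exists_homStalk_coh hF hG x
  haveI := hR
  haveI := hfF
  haveI := hfG
  let eh := ((QC70.sheafHomIso F).app G).hom
  let e' := (LinearEquiv.ofBijective (QC70.stalkLinear eh x)
    (QC70.bijective_stalkMapM_of_isIso eh x)).trans e
  rw [EGA4Alg4.depth_eq_of_equiv e']
  exact ⟨fun h => TF3.natCast_le_depth_hom (k := 1) (by norm_num) h,
    fun h => TF3.natCast_le_depth_hom (k := 2) le_rfl h⟩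

end Groth.Agent.S9527
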