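import Groth.Statements.S9528
import Groth.Agent.GE14.ChangeIdeal

set_option autoImplicit false
universe u
open Formal2

namespace Groth.Agent.S9528

open CategoryTheory AlgebraicGeometry in
/-- For the ideal sheaves generated by ideals of a base ring: let X be a Noetherian scheme over Spec A
and I, J ideals of A such that the closed subsets of X lying over V(I) and over V(J) coincide (that
is, V(I·O_X) = V(J·O_X)). Then the category of coherent formal modules for I on X is equivalent to
the one for J. (The published statement treats arbitrary quasi-coherent ideal sheaves of X with the
same vanishing locus; this row covers ideal sheaves generated by ideals of a base ring.) -/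
theorem result (A : Type u) [CommRing A] (I J : Ideal A)
    (X : Scheme.{u}) [X.Over (Spec (CommRingCat.of A))] [IsNoetherian X]
    (hV : (fun x : X => (X ↘ Spec (CommRingCat.of A)) x) ⁻¹' PrimeSpectrum.zeroLocus (I : Set A) =
      (fun x : X => (X ↘ Spec (CommRingCat.of A)) x) ⁻¹' PrimeSpectrum.zeroLocus (J : Set A)) :
    Nonempty (Formal2.CohFormalCat I X ≌ Formal2.CohFormalCat J X) := by
  exact GE14.nonempty_equivalence ((GE14.zI_eq_preimage I).trans (hV.trans (GE14.zI_eq_preimage J).symm))

end Groth.Agent.S9528
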