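import Groth.Statements.S9537
import Groth.Agent.Algz14.ExtendsTorsion

set_option autoImplicit false
universe u
open CategoryTheory CategoryTheory.Limits AlgebraicGeometry Opposite
open Algz

namespace Groth.Agent.S9537

/-- Let A be a Noetherian ring, I ⊆ 𝔞 ideals, U = Spec A ∖ V(𝔞), and α a morphism between objects (F_n),
(F'_n) of Coh(U, I O_U) such that one fixed power of I kills the kernel and the cokernel of every
component of α. Then (F_n) extends to Spec A if and only if (F'_n) does. (Part (2), the same
equivalence for being the completion of a coherent module, is the content of the two existence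
results for maps into and out of a completion and is not restated.) -/
theorem result (A : Type u) [CommRing A] [IsNoetherianRing A] (I 𝔞 : Ideal A) (hI𝔞 : I ≤ 𝔞)
    (G G' : ℕᵒᵖ ⥤ (↑(LocCoh.puncturedOpen A 𝔞) : Scheme.{u}).Modules) (hG : Formal.IsCohFormal I G) (hG' : Formal.IsCohFormal I G')
    (α : G ⟶ G') (hα : Formal2.KerCokerKilledByIPow I α) :
    @Algz.Extends A _ (Spec (CommRingCat.of A)) ⟨𝟙 (Spec (CommRingCat.of A))⟩ I (LocCoh.puncturedOpen A 𝔞) G ↔ @Algz.Extends A _ (Spec (CommRingCat.of A)) ⟨𝟙 (Spec (CommRingCat.of A))⟩ I (LocCoh.puncturedOpen A 𝔞) G' := by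
  exact Algz14.extends_iff_of_kerCoker I (LocCoh.puncturedOpen A 𝔞) G G' hG hG' α hα

end Groth.Agent.S9537
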