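import Groth.Statements.S9539
import Groth.Agent.Algz14.CompExt

set_option autoImplicit false
universe u
open CategoryTheory CategoryTheory.Limits AlgebraicGeometry Opposite
open Algz

namespace Groth.Agent.S9539

/-- Let A be a Noetherian ring, I ⊆ 𝔞 ideals, U = Spec A ∖ V(𝔞), (F_n) an object of Coh(U, I O_U); let
A' be the I-adic completion of A, f : Spec A' → Spec A and U' the inverse image of U. Then (F_n)
extends to Spec A if and only if the pullback of (F_n) to U' is isomorphic to the completion, for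
the ideal I A', of a coherent O_{U'}-module. -/
theorem result (A : Type u) [CommRing A] [IsNoetherianRing A] (I 𝔞 : Ideal A) (hI𝔞 : I ≤ 𝔞)
    (G : ℕᵒᵖ ⥤ (↑(LocCoh.puncturedOpen A 𝔞) : Scheme.{u}).Modules) (hG : Formal.IsCohFormal I G) :
    @Algz.Extends A _ (Spec (CommRingCat.of A)) ⟨𝟙 (Spec (CommRingCat.of A))⟩ I (LocCoh.puncturedOpen A 𝔞) G ↔
      ∃ F' : (↑(Spec.map (CommRingCat.ofHom (algebraMap A (AdicCompletion I A))) ⁻¹ᵁ (LocCoh.puncturedOpen A 𝔞)) : Scheme.{u}).Modules, Coh.IsCoh F' ∧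
        Nonempty (Formal.completion (I.map (algebraMap A (AdicCompletion I A))) F' ≅
          G ⋙ Scheme.Modules.pullback (morphismRestrict (Spec.map (CommRingCat.ofHom (algebraMap A (AdicCompletion I A)))) (LocCoh.puncturedOpen A 𝔞))) := by
  exact ⟨fun h => Algz14.exists_completion_of_extends I (LocCoh.puncturedOpen A 𝔞) G h,
    fun ⟨F', hF, ⟨e⟩⟩ => Algz14.extends_of_completion I (LocCoh.puncturedOpen A 𝔞) G hG F' hF e⟩

end Groth.Agent.S9539
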