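import Groth.Statements.S9557
import Groth.Agent.Hens22.SheetsRestrict

set_option autoImplicit false
universe u
open EtLocal

namespace Groth.Agent.S9557

open AlgebraicGeometry CategoryTheory Limits in
/-- Let f : X ⟶ S be any morphism of schemes, s a point of S and x_1, …, x_n pairwise distinct points of
X over s such that f is étale at each x_i (the restriction of f to some open neighbourhood of x_i is
étale). Then there are an étale morphism g : U ⟶ S, a point u of U over s and finitely many opens
V_k of X_U = X ×_S U, each labelled by one of the x_i, such that (1) each V_k ⟶ U is an isomorphism,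
(2) no point of X_U over u lies in two different V_k, and (3) every point of X_U over u mapping to
x_i lies in some V_k labelled by x_i. -/
theorem result {X S : Scheme.{u}} (f : X ⟶ S) (s : S)
    {ι : Type} [Finite ι] (x : ι → ↑X) (hinj : Function.Injective x) (hs : ∀ i, f (x i) = s)
    (hx : ∀ i, ∃ W : X.Opens, x i ∈ W ∧ Etale (W.ι ≫ f)) :
    ∃ (U : Scheme.{u}) (g : U ⟶ S) (u : U), Etale g ∧ g u = s ∧
      ∃ (K : Type) (_ : Finite K) (lab : K → ι) (V : K → (pullback f g).Opens),
        (∀ k, IsIso ((V k).ι ≫ pullback.snd f g)) ∧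
        (∀ (k k' : K) (w : ↑(pullback f g)), w ∈ V k → w ∈ V k' → pullback.snd f g w = u → k = k') ∧
        (∀ (w : ↑(pullback f g)) (i : ι), pullback.snd f g w = u → pullback.fst f g w = x i →
          ∃ k, lab k = i ∧ w ∈ V k) := by
  choose W hxW het using hx
  obtain ⟨U, g, u, hg, hgu, K, hK, lab, V, h⟩ :=
    Groth.Agent.Hens22.exists_sheets f s x hinj hs W hxW (fun i => inferInstance) (fun i => inferInstance)
  have ho : ∀ k, IsOpenImmersion ((V k).ι ≫ pullback.snd f g) := fun k => by
    have := h.closed k
    have := Groth.Agent.Hens22.etale_sheet f g (het (lab k)) (h.le k)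
    exact IsOpenImmersion.of_flat_of_mono _
  obtain ⟨O, huO, hO⟩ := h.exists_surjOn ho
  have h' := h.restrict f g O huO
  exact ⟨O, O.ι ≫ g, ⟨u, huO⟩, inferInstance, hgu, K, hK, lab, _,
    fun k => Groth.Agent.Hens22.isIso_sheet f g O (V k) (ho k) (hO k), h'.unique, h'.cover⟩

end Groth.Agent.S9557
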