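import Groth.Statements.S9558
import Groth.Agent.Hens22.SheetsRestrict

set_option autoImplicit false
universe u
open EtLocal

namespace Groth.Agent.S9558

open AlgebraicGeometry CategoryTheory Limits in
/-- Let f : X ⟶ S be a separated morphism of schemes, s a point of S and x_1, …, x_n pairwise distinct
points of X over s such that f is étale at each x_i (the restriction of f to some open neighbourhood
of x_i is étale). Then there are an étale morphism g : U ⟶ S, a point u of U over s, and a
decomposition of X_U = X ×_S U into pairwise disjoint open subschemes W and finitely many V_k which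
together cover X_U, such that each V_k ⟶ U is an isomorphism and no point of W over u maps to any of
the x_i. -/
theorem result {X S : Scheme.{u}} (f : X ⟶ S)
    [IsSeparated f] (s : S)
    {ι : Type} [Finite ι] (x : ι → ↑X) (hinj : Function.Injective x) (hs : ∀ i, f (x i) = s)
    (hx : ∀ i, ∃ W : X.Opens, x i ∈ W ∧ Etale (W.ι ≫ f)) :
    ∃ (U : Scheme.{u}) (g : U ⟶ S) (u : U), Etale g ∧ g u = s ∧
      ∃ (K : Type) (_ : Finite K) (W : (pullback f g).Opens) (V : K → (pullback f g).Opens),
        W ⊔ (⨆ k, V k) = ⊤ ∧ (∀ k, Disjoint W (V k)) ∧ (∀ k k', k ≠ k' → Disjoint (V k) (V k')) ∧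
        (∀ k, IsIso ((V k).ι ≫ pullback.snd f g)) ∧
        (∀ (w : ↑(pullback f g)) (i : ι), w ∈ W → pullback.snd f g w = u → pullback.fst f g w ≠ x i) := by
  choose W hxW het using hx
  obtain ⟨U, g, u, hg, hgu, K, hK, lab, V, h⟩ :=
    Groth.Agent.Hens22.exists_sheets f s x hinj hs W hxW (fun i => inferInstance) (fun i => inferInstance)
  have ho : ∀ k, IsOpenImmersion ((V k).ι ≫ pullback.snd f g) := fun k => by
    have := h.closed k
    have := Groth.Agent.Hens22.etale_sheet f g (het (lab k)) (h.le k)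
    exact IsOpenImmersion.of_flat_of_mono _
  obtain ⟨O₁, huO₁, hO₁⟩ := h.exists_disjoint
  obtain ⟨O₂, huO₂, hO₂⟩ := h.exists_surjOn ho
  let O := O₁ ⊓ O₂
  have huO : u ∈ O := ⟨huO₁, huO₂⟩
  have h' := h.restrict f g O huO
  have hd : ∀ k k', k ≠ k' → ∀ w : ↥(pullback f (O.ι ≫ g)),
      w ∈ Groth.Agent.Hens22.resBase f g O ⁻¹ᵁ V k → w ∉ Groth.Agent.Hens22.resBase f g O ⁻¹ᵁ V k' := by
    intro k k' hkk w hw hw'
    refine hO₁ k k' hkk _ hw hw' ?_
    rw [← Scheme.Hom.comp_apply, Groth.Agent.Hens22.resBase_snd]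
    exact (pullback.snd f (O.ι ≫ g) w).2.1
  obtain ⟨R, hR1, hR2, hR3, hR4⟩ := h'.exists_decomposition hd
  exact ⟨O, O.ι ≫ g, ⟨u, huO⟩, inferInstance, hgu, K, hK, R, _, hR1, hR2, hR3,
    fun k => Groth.Agent.Hens22.isIso_sheet f g O (V k) (ho k) (fun y hy => hO₂ k y hy.2), hR4⟩

end Groth.Agent.S9558
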