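import Groth.Statements.S9567
import Groth.Agent.Hens22.Monogenic

set_option autoImplicit false
universe u
open EtLocal

namespace Groth.Agent.S9567

open AlgebraicGeometry CategoryTheory in
/-- Let φ : X ⟶ Y be any morphism of schemes, x a point of X and V an affine open neighbourhood of φ(x),
with ring R = Γ(Y, V). If φ is étale on some open neighbourhood of x, then there are an affine open
neighbourhood U of x with φ(U) ⊆ V, a monic polynomial p over R and an open immersion j of U into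
Spec of (R[t]/(p))[1/p′] (the localization of R[t]/(p) away from the image of the derivative of p)
such that j followed by the projection to Spec R is the morphism U → Spec R induced by φ. -/
theorem result {X Y : Scheme.{u}} (φ : X ⟶ Y) (x : X)
    (V : Y.Opens) (hV : IsAffineOpen V) (hxV : φ.base x ∈ V)
    (hφ : ∃ W : X.Opens, x ∈ W ∧ Etale (W.ι ≫ φ)) :
    ∃ (U : X.Opens) (hU : IsAffineOpen U) (_ : x ∈ U) (e : U ≤ φ ⁻¹ᵁ V)
      (p : Polynomial Γ(Y, V)) (_ : p.Monic)
      (j : U.toScheme ⟶ Spec (CommRingCat.of (Localization.Away (AdjoinRoot.mk p (Polynomial.derivative p))))),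
      IsOpenImmersion j ∧
        j ≫ Spec.map (CommRingCat.ofHom
            (algebraMap Γ(Y, V) (Localization.Away (AdjoinRoot.mk p (Polynomial.derivative p))))) =
          hU.isoSpec.hom ≫ Spec.map (φ.appLE V U e) := by
  obtain ⟨W, hxW, hW⟩ := hφ
  obtain ⟨_, ⟨U0, hU0, rfl⟩, hxU0, hle⟩ := X.isBasis_affineOpens.exists_subset_of_mem_open
    (show x ∈ W ⊓ φ ⁻¹ᵁ V from ⟨hxW, hxV⟩) (W ⊓ φ ⁻¹ᵁ V).2
  have hW0 : U0 ≤ W := fun z hz => (hle hz).1
  have e0 : U0 ≤ φ ⁻¹ᵁ V := fun z hz => (hle hz).2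
  have het : (φ.appLE V U0 e0).hom.Etale := Groth.Agent.Hens22.appLE_of_restrict (P := @Etale) φ hV hU0 e0 inferInstance
    (by
      rw [← X.homOfLE_ι hW0, Category.assoc]
      infer_instance)
  let _ : Algebra Γ(Y, V) Γ(X, U0) := (φ.appLE V U0 e0).hom.toAlgebra
  have : Algebra.Etale Γ(Y, V) Γ(X, U0) := het
  let Q := (hU0.primeIdealOf ⟨x, hxU0⟩).asIdeal
  have : Algebra.IsEtaleAt Γ(Y, V) Q := Groth.Agent.Hens22.isEtaleAt_of_etale Q
  obtain ⟨g, hg, hge⟩ := Algebra.IsEtaleAt.exists_isStandardEtale (R := Γ(Y, V)) Q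
  have hDW : X.basicOpen g ≤ U0 := X.basicOpen_le g
  have hxD : x ∈ X.basicOpen g := by
    rw [Scheme.mem_basicOpen _ _ _ hxU0]
    let _ : Algebra Γ(X, U0) (X.presheaf.stalk x) := TopCat.Presheaf.algebra_section_stalk X.presheaf ⟨x, hxU0⟩
    have : IsLocalization.AtPrime (X.presheaf.stalk x) Q := hU0.isLocalization_stalk ⟨x, hxU0⟩
    exact IsLocalization.map_units (X.presheaf.stalk x) (⟨g, hg⟩ : Q.primeCompl)
  have := hU0.isLocalization_basicOpen g
  let _ : Algebra Γ(Y, V) Γ(X, X.basicOpen g) :=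
    ((algebraMap Γ(X, U0) _).comp (algebraMap Γ(Y, V) Γ(X, U0))).toAlgebra
  have : IsScalarTower Γ(Y, V) Γ(X, U0) Γ(X, X.basicOpen g) := IsScalarTower.of_algebraMap_eq fun _ => rfl
  have : Algebra.IsStandardEtale Γ(Y, V) Γ(X, X.basicOpen g) := Algebra.IsStandardEtale.of_equiv
    ((IsLocalization.algEquiv (Submonoid.powers g) (Localization.Away g) Γ(X, X.basicOpen g)).restrictScalars
      Γ(Y, V))
  obtain ⟨p, hp, ψ, hψ⟩ := Groth.Agent.Hens22.exists_monogenic (R := Γ(Y, V)) Γ(X, X.basicOpen g)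
  refine ⟨X.basicOpen g, hU0.basicOpen g, hxD, hDW.trans e0, p, hp,
    (hU0.basicOpen g).isoSpec.hom ≫ Spec.map (CommRingCat.ofHom ψ.toRingHom), inferInstance, ?_⟩
  rw [Category.assoc, ← Spec.map_comp, ← CommRingCat.ofHom_comp, AlgHom.toRingHom_eq_coe,
    AlgHom.comp_algebraMap, ← φ.appLE_map e0 (homOfLE hDW).op]
  rfl

end Groth.Agent.S9567
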