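import Groth.Statements.S9572
import Groth.Agent.EGAProj74.PConeDom

set_option autoImplicit false
universe u
open CategoryTheory CategoryTheory.Limits AlgebraicGeometry TopologicalSpace Opposite
open Constr

namespace Groth.Agent.S9572

/-- Let ψ : A → B be a homomorphism of graded rings such that A_d → B_d is bijective for all d ≥ d₀. Let
U(ψ) ⊆ Proj B be the union of the opens D_+(ψ f) over homogeneous f of positive degree, and r_ψ :
U(ψ) → Proj A the morphism whose restriction to each chart Spec B_(ψ f) is Spec of the induced map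
A_(f) → B_(ψ f) followed by the chart of Proj A. Then U(ψ) = Proj B and r_ψ is an isomorphism. (Here
r_ψ is any morphism with that chart description; it is unique.) -/
theorem result {R A : Type u} [CommRing R] [CommRing A] [Algebra R A] (𝒜 : ℕ → Submodule R A) [GradedAlgebra 𝒜]
    {B : Type u} [CommRing B] [Algebra R B] (ℬ : ℕ → Submodule R B) [GradedAlgebra ℬ] (ψ : 𝒜 →+*ᵍ ℬ)
    (d₀ : ℕ) (hbij : ∀ d : ℕ, d₀ ≤ d → Set.BijOn ψ (𝒜 d) (ℬ d))
    (r : (PCone.dom ψ : Scheme.{u}) ⟶ Proj 𝒜)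
    (hr : ∀ (d : ℕ) (f : A) (hd : 0 < d) (hf : f ∈ 𝒜 d),
      PCone.chart ψ hf hd ≫ r =
        Spec.map (CommRingCat.ofHom (HomogeneousLocalization.Away.map ψ f)) ≫ Proj.awayι 𝒜 f hf hd) :
    PCone.dom ψ = ⊤ ∧ IsIso r := by
  have hs : ∀ n, d₀ ≤ n → Set.SurjOn ψ (𝒜 n) (ℬ n) := fun n hn => (hbij n hn).surjOn
  have hi : ∀ n, d₀ ≤ n → ∀ a ∈ 𝒜 n, ψ a = 0 → a = 0 := fun n hn a ha h =>
    (hbij n hn).injOn ha (zero_mem _) (h.trans (map_zero ψ).symm)
  refine ⟨(EGAProj74.dom_eq_domOpen ψ).trans (EGAProj74.domOpen_eq_top_of_surjOn ψ d₀ hs), ?_⟩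
  have := EGAProj74.isIso_domMap ψ d₀ hs hi
  rw [EGAProj74.eq_isoOfEq_comp_domMap ψ r hr]
  infer_instance

end Groth.Agent.S9572
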