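import Groth.Statements.S9578
import Groth.Agent.EGAProj74.ShiftLocal

set_option autoImplicit false
universe u
open CategoryTheory CategoryTheory.Limits AlgebraicGeometry TopologicalSpace Opposite
open Constr

namespace Groth.Agent.S9578

/-- Let S be a graded ring, M a graded S-module (graded in non-negative degrees here), X = Proj S and d
≥ 1; let W_d ⊆ X be the union of the standard opens D_+(ab) over the pairs of homogeneous elements
a, b with deg a = deg b + d (the open over which the twisting sheaves O_X(nd) are invertible with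
compatible multiplications). Then for every integer n the restrictions to W_d of M~(nd) = M~ ⊗
O_X(nd) and of M(nd)~, the module attached to the shifted module, are isomorphic. (Existence of an
isomorphism only; in the published statement it is the canonical multiplication map M~ ⊗ O_X(nd) →
M(nd)~ that restricts to an isomorphism over W_d. That W_d is the largest open over which the
O_X(nd) are invertible with compatible multiplications is not stated here.) -/
theorem result {R A : Type u} [CommRing R] [CommRing A] [Algebra R A] (𝒜 : ℕ → Submodule R A) [GradedAlgebra 𝒜]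
    {M : Type u} [AddCommGroup M] [Module R M] [Module A M] [IsScalarTower R A M] (ℳ : ℕ → Submodule R M)
    [DirectSum.Decomposition ℳ] [SetLike.GradedSMul 𝒜 ℳ]
    {d : ℕ} (hd : 0 < d) (n : ℤ) :
    Nonempty ((Twist.twistBy 𝒜 (GrTilde.tilde 𝒜 ℳ 0) (n * d)).restrict
        (⨆ (j : ℕ) (a : 𝒜 (j + d)) (b : 𝒜 j), Proj.basicOpen 𝒜 ((a : A) * b)).ι ≅
      (GrTilde.tilde 𝒜 ℳ (n * d)).restrict
        (⨆ (j : ℕ) (a : 𝒜 (j + d)) (b : 𝒜 j), Proj.basicOpen 𝒜 ((a : A) * b)).ι) := by
  have h := Groth.Agent.EGAProj74.ShiftLocal.isIso_restrict (ℳ := ℳ) (a := 0) (b := n * d)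
    (W := ⨆ (j : ℕ) (a : 𝒜 (j + d)) (b : 𝒜 j), Proj.basicOpen 𝒜 ((a : A) * b)) ?_
  · exact ⟨@asIso _ _ _ _ _ h ≪≫ CategoryTheory.eqToIso (by rw [zero_add])⟩
  intro x hx
  simp only [TopologicalSpace.Opens.mem_iSup] at hx
  obtain ⟨j, a, b, hab⟩ := hx
  refine ⟨_, hab, ⟨?_⟩⟩
  exact Groth.Agent.EGAProj74.ShiftLocal.fracUnit a b n

end Groth.Agent.S9578
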