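import Groth.Statements.S9581
import Groth.Agent.CAlg5.WeakAss

set_option autoImplicit false
universe u
open CAlg

namespace Groth.Agent.S9581

/-- (1) ⇔ (3): for a ring R, an R-module M and a prime p of R, the prime p is weakly associated to M
(minimal among the primes containing the annihilator of some element of M) if and only if the
localization M_p contains an element whose annihilator in R_p has radical equal to the maximal ideal
p R_p. -/
theorem result {R : Type u} [CommRing R] (M : Type u) [AddCommGroup M] [Module R M] (p : Ideal R) [p.IsPrime] :
    p ∈ FlatCA.weakAss R M ↔ IsAssociatedPrime (IsLocalRing.maximalIdeal (Localization.AtPrime p)) (LocalizedModule p.primeCompl M) := by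
  have hd : Disjoint (p.primeCompl : Set R) (p : Set R) :=
    Set.disjoint_left.mpr fun a ha hap => ha hap
  rw [CAlg5.mem_weakAss_localized_iff p.primeCompl
    (LocalizedModule.mkLinearMap p.primeCompl M) hd]
  have key := CAlg5.mem_weakAss_iff_comap_mem (M' := LocalizedModule p.primeCompl M) p.primeCompl
    (Localization.AtPrime p) (q := IsLocalRing.maximalIdeal (Localization.AtPrime p))
  have hu : (IsLocalRing.maximalIdeal (Localization.AtPrime p)).comap
      (algebraMap R (Localization.AtPrime p)) = p :=
    IsLocalization.AtPrime.under_maximalIdeal (Localization.AtPrime p) p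
  simp only [hu] at key
  rw [← key]
  have hcolon : ∀ x : LocalizedModule p.primeCompl M,
      (Submodule.span (Localization.AtPrime p) {x}).annihilator =
        (⊥ : Submodule (Localization.AtPrime p) (LocalizedModule p.primeCompl M)).colon {x} := by
    intro x
    ext r
    rw [CAlg5.mem_ann, Submodule.mem_colon_singleton, Submodule.mem_bot]
  constructor
  · rintro ⟨x, hx⟩
    refine ⟨inferInstance, x, ?_⟩
    rw [← hcolon, ← Ideal.sInf_minimalPrimes]
    refine le_antisymm (le_sInf fun q hq => ?_) (sInf_le hx)
    have := hq.isPrime
    exact hx.2 hq.1 (IsLocalRing.le_maximalIdeal hq.1.1.ne_top)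
  · rintro ⟨_, x, hx⟩
    refine ⟨x, ?_⟩
    rw [hcolon, ← Ideal.radical_minimalPrimes, ← hx, Ideal.minimalPrimes_eq_subsingleton_self]
    exact rfl


end Groth.Agent.S9581
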