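import Groth.Statements.S9584
import Groth.Agent.CAlg5.WeakAss

set_option autoImplicit false
universe u
open CAlg

namespace Groth.Agent.S9584

/-- For a ring R and an R-module M, M has no weakly associated prime (no prime minimal over the
annihilator of an element) if and only if M = 0. -/
theorem result {R : Type u} [CommRing R] (M : Type u) [AddCommGroup M] [Module R M] :
    FlatCA.weakAss R M = ∅ ↔ Subsingleton M := by
  refine ⟨fun h => subsingleton_of_forall_eq 0 fun x => ?_, fun _ => Set.eq_empty_iff_forall_notMem.mpr fun p hp => ?_⟩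
  · by_contra hx
    obtain ⟨p, hp, -⟩ := CAlg5.exists_mem_weakAss (R := R) hx
    rw [h] at hp
    exact hp
  · have hpp := CAlg5.weakAss_isPrime hp
    obtain ⟨m, h1, -⟩ := CAlg5.mem_weakAss_iff.mp hp
    exact hpp.ne_top ((Ideal.eq_top_iff_one p).mpr (h1 1 (Subsingleton.elim _ _)))


end Groth.Agent.S9584
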