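import Groth.Statements.S9585
import Groth.Agent.CAlg5.WeakAss

set_option autoImplicit false
universe u
open CAlg

namespace Groth.Agent.S9585

/-- For a ring R and an R-module M, an element of R lies in some weakly associated prime of M exactly
when multiplication by it on M is not injective; in other words the union of the weakly associated
primes of M equals the set of zerodivisors on M. -/
theorem result {R : Type u} [CommRing R] (M : Type u) [AddCommGroup M] [Module R M] :
    ⋃ q ∈ FlatCA.weakAss R M, (q : Set R) = {f : R | ¬ IsSMulRegular M f} := by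
  ext r
  simp only [Set.mem_iUnion, SetLike.mem_coe, exists_prop, Set.mem_ofPred_eq]
  constructor
  · rintro ⟨q, hq, hr⟩ hreg
    have hpp := CAlg5.weakAss_isPrime hq
    obtain ⟨m, h1, h2⟩ := CAlg5.mem_weakAss_iff.mp hq
    obtain ⟨s, hs, n, hn⟩ := h2 r hr
    refine hs (h1 s ?_)
    rw [mul_comm, mul_smul] at hn
    exact (hreg.pow n).right_eq_zero_of_smul hn
  · intro hreg
    obtain ⟨x, hx, hx0⟩ : ∃ x : M, r • x = 0 ∧ x ≠ 0 := by
      by_contra H
      push Not at H
      exact hreg (isSMulRegular_iff_right_eq_zero_of_smul.mpr fun x hx => H x hx)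
    obtain ⟨p, hp, hple⟩ := CAlg5.exists_mem_weakAss (R := R) hx0
    exact ⟨p, hp, hple r hx⟩


end Groth.Agent.S9585
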