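import Groth.Statements.S9588
import Groth.Agent.CAlg5.WeakAss

set_option autoImplicit false
universe u
open CAlg

namespace Groth.Agent.S9588

/-- For a ring R, an R-module M and a multiplicative subset S of R, the primes of R weakly associated to
S⁻¹M regarded as an R-module are exactly the inverse images under R → S⁻¹R of the primes of S⁻¹R
weakly associated to S⁻¹M. -/
theorem result {R : Type u} [CommRing R] (S : Submonoid R) (M : Type u) [AddCommGroup M] [Module R M] :
    FlatCA.weakAss R (LocalizedModule S M) = Ideal.comap (algebraMap R (Localization S)) '' FlatCA.weakAss (Localization S) (LocalizedModule S M) := by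
  ext p
  constructor
  · intro hp
    have := CAlg5.weakAss_isPrime hp
    have hd := CAlg5.disjoint_of_mem_weakAss_localized S (LocalizedModule.mkLinearMap S M) hp
    have hcm := IsLocalization.under_map_of_isPrime_disjoint S (Localization S) ‹p.IsPrime› hd
    have hprime := IsLocalization.isPrime_of_isPrime_disjoint S (Localization S) p ‹p.IsPrime› hd
    refine ⟨p.map (algebraMap R (Localization S)), ?_, hcm⟩
    rw [CAlg5.mem_weakAss_iff_comap_mem (M' := LocalizedModule S M) S (Localization S)]
    rw [show Ideal.comap (algebraMap R (Localization S)) (p.map (algebraMap R (Localization S))) = p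
      from hcm]
    exact hp
  · rintro ⟨q, hq, rfl⟩
    have := CAlg5.weakAss_isPrime hq
    exact (CAlg5.mem_weakAss_iff_comap_mem (M' := LocalizedModule S M) S (Localization S)).mp hq


end Groth.Agent.S9588
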