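import Groth.Statements.S9590
import Groth.Agent.CAlg5.WeakAss

set_option autoImplicit false
universe u
open CAlg

namespace Groth.Agent.S9590

/-- For a ring R, an R-module M and a multiplicative subset S of R such that every element of S is a
nonzerodivisor on M, the primes of R weakly associated to M are the same as those weakly associated
to the R-module S⁻¹M. -/
theorem result {R : Type u} [CommRing R] (S : Submonoid R) (M : Type u) [AddCommGroup M] [Module R M] (hS : ∀ s ∈ S, IsSMulRegular M s) :
    FlatCA.weakAss R M = FlatCA.weakAss R (LocalizedModule S M) := by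
  ext p
  constructor
  · intro hp
    have hpp := CAlg5.weakAss_isPrime hp
    have hd : Disjoint (S : Set R) (p : Set R) := Set.disjoint_left.mpr fun s hs hsp => by
      obtain ⟨m, h1, h2⟩ := CAlg5.mem_weakAss_iff.mp hp
      obtain ⟨t, ht, n, hn⟩ := h2 s hsp
      refine ht (h1 t ?_)
      rw [mul_comm, mul_smul] at hn
      exact ((hS s hs).pow n).right_eq_zero_of_smul hn
    exact (CAlg5.mem_weakAss_localized_iff S (LocalizedModule.mkLinearMap S M) hd).mp hp
  · intro hp
    have hpp := CAlg5.weakAss_isPrime hp
    have hd := CAlg5.disjoint_of_mem_weakAss_localized S (LocalizedModule.mkLinearMap S M) hp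
    exact (CAlg5.mem_weakAss_localized_iff S (LocalizedModule.mkLinearMap S M) hd).mpr hp


end Groth.Agent.S9590
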