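import Groth.Statements.S9594
import Groth.Agent.CAlg5.WeakAss

set_option autoImplicit false
universe u
open CAlg

namespace Groth.Agent.S9594

/-- For a ring R, an R-module M and a multiplicative subset S of R, (1) the primes of R associated to
the R-module S⁻¹M are the inverse images of the primes of S⁻¹R associated to S⁻¹M, and (2) a prime
of R associated to M which does not meet S is associated to the R-module S⁻¹M. Here a prime is
associated to a module when it equals the annihilator of some element. -/
theorem result {R : Type u} [CommRing R] (S : Submonoid R) (M : Type u) [AddCommGroup M] [Module R M] :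
    FlatCA.ass R (LocalizedModule S M) = Ideal.comap (algebraMap R (Localization S)) '' FlatCA.ass (Localization S) (LocalizedModule S M) ∧
      ∀ p ∈ FlatCA.ass R M, Disjoint (S : Set R) (p : Set R) → p ∈ FlatCA.ass R (LocalizedModule S M) := by
  refine ⟨Set.ext fun p => ⟨?_, ?_⟩, ?_⟩
  · rintro ⟨hp, x, hx⟩
    have hd : Disjoint (S : Set R) (p : Set R) := Set.disjoint_left.mpr fun s hs hsp => by
      rw [hx, SetLike.mem_coe, CAlg5.mem_ann] at hsp
      have h0 : x = 0 := IsLocalizedModule.smul_injective (LocalizedModule.mkLinearMap S M) ⟨s, hs⟩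
        (a₁ := x) (a₂ := 0) (by simpa [Submonoid.smul_def] using hsp)
      exact hp.ne_top ((Ideal.eq_top_iff_one p).mpr (by rw [hx, CAlg5.mem_ann, h0, smul_zero]))
    have hq : (Submodule.span (Localization S) {x}).annihilator.comap
        (algebraMap R (Localization S)) = p := by
      ext r
      rw [Ideal.mem_comap, hx, CAlg5.mem_ann, CAlg5.mem_ann, algebraMap_smul]
    refine ⟨_, ⟨?_, x, rfl⟩, hq⟩
    rw [← IsLocalization.map_under S (Localization S) (Submodule.span (Localization S) {x}).annihilator,
      show Ideal.under R (Submodule.span (Localization S) {x}).annihilator = p from hq]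
    exact IsLocalization.isPrime_of_isPrime_disjoint S (Localization S) p hp hd
  · rintro ⟨q, ⟨hq, x, hx⟩, rfl⟩
    refine ⟨hq.comap _, x, ?_⟩
    ext r
    rw [Ideal.mem_comap, hx, CAlg5.mem_ann, CAlg5.mem_ann, algebraMap_smul]
  · rintro p ⟨hp, m, hm⟩ hd
    refine ⟨hp, LocalizedModule.mkLinearMap S M m, le_antisymm (fun r hr => ?_) fun r hr => ?_⟩
    · rw [hm, CAlg5.mem_ann] at hr
      rw [CAlg5.mem_ann, ← map_smul, hr, map_zero]
    · rw [CAlg5.mem_ann, ← map_smul, IsLocalizedModule.eq_zero_iff S] at hr
      obtain ⟨s, hs⟩ := hr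
      rw [Submonoid.smul_def, smul_smul] at hs
      exact (hp.mem_or_mem (show s.1 * r ∈ p by rw [hm, CAlg5.mem_ann]; exact hs)).resolve_left
        fun h => Set.disjoint_left.mp hd s.2 h


end Groth.Agent.S9594
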