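import Groth.Statements.S9595
import Groth.Agent.CAlg5.WeakAss

set_option autoImplicit false
universe u
open CAlg

namespace Groth.Agent.S9595

/-- For a ring R, an R-module M and a multiplicative subset S of R whose elements are all
nonzerodivisors on M, a prime of R is the annihilator of an element of M if and only if it is the
annihilator in R of an element of S⁻¹M. -/
theorem result {R : Type u} [CommRing R] (S : Submonoid R) (M : Type u) [AddCommGroup M] [Module R M] (hS : ∀ s ∈ S, IsSMulRegular M s) :
    FlatCA.ass R M = FlatCA.ass R (LocalizedModule S M) := by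
  have hinj : ∀ m : M, (Submodule.span R {m}).annihilator =
      (Submodule.span R {LocalizedModule.mkLinearMap S M m}).annihilator := by
    intro m
    ext r
    rw [CAlg5.mem_ann, CAlg5.mem_ann, ← map_smul, IsLocalizedModule.eq_zero_iff S]
    refine ⟨fun h => ⟨1, by rw [h, smul_zero]⟩, fun ⟨s, hs⟩ => ?_⟩
    rw [Submonoid.smul_def] at hs
    exact (hS s s.2).right_eq_zero_of_smul hs
  ext p
  constructor
  · rintro ⟨hp, m, rfl⟩
    exact ⟨hp, _, hinj m⟩
  · rintro ⟨hp, x, rfl⟩
    obtain ⟨⟨m, t⟩, hmt⟩ := IsLocalizedModule.surj S (LocalizedModule.mkLinearMap S M) x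
    refine ⟨hp, m, ?_⟩
    rw [hinj, ← hmt]
    ext r
    rw [CAlg5.mem_ann, CAlg5.mem_ann, smul_comm]
    refine ⟨fun h => by rw [h, smul_zero], fun h => ?_⟩
    exact IsLocalizedModule.smul_injective (LocalizedModule.mkLinearMap S M) t
      (a₁ := r • x) (a₂ := 0) (by simpa using h)


end Groth.Agent.S9595
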