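import Groth.Statements.S9596
import Groth.Agent.CAlg5.WeakAss

set_option autoImplicit false
universe u
open CAlg

namespace Groth.Agent.S9596

/-- For a Noetherian ring R and any R-module M, a prime which is minimal among the primes in the support
of M is an associated prime of M. -/
theorem result {R : Type u} [CommRing R] [IsNoetherianRing R] (M : Type u) [AddCommGroup M] [Module R M] (p : PrimeSpectrum R) (hp : Minimal (fun q : PrimeSpectrum R => q ∈ Module.support R M) p) :
    p.asIdeal ∈ associatedPrimes R M := by
  obtain ⟨m, hm⟩ := Module.mem_support_iff'.mp hp.1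
  have hle : (⊥ : Submodule R M).colon {m} ≤ p.asIdeal := fun r hr => by
    by_contra hrp
    exact hm r hrp (by simpa [Submodule.mem_colon_singleton] using hr)
  have hmin : p.asIdeal ∈ ((⊥ : Submodule R M).colon {m}).minimalPrimes := by
    refine ⟨⟨p.isPrime, hle⟩, fun q hq hqp => ?_⟩
    have hq' : (⟨q, hq.1⟩ : PrimeSpectrum R) ∈ Module.support R M :=
      Module.mem_support_iff'.mpr ⟨m, fun r hr h0 => hr (hq.2 (by
        simpa [Submodule.mem_colon_singleton] using h0))⟩
    exact hp.2 hq' hqp
  obtain ⟨x, hx⟩ := Submodule.exists_eq_colon_of_mem_minimalPrimes hmin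
  exact AssociatedPrimes.mem_iff.mpr (isAssociatedPrime_iff.mpr ⟨p.isPrime, x, hx⟩)


end Groth.Agent.S9596
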