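import Groth.Statements.S9597
import Groth.Agent.CAlg5.WeakAss

set_option autoImplicit false
universe u
open CAlg

namespace Groth.Agent.S9597

/-- Let R be a Noetherian ring, M a finite R-module whose associated primes are pairwise incomparable
under inclusion (M has no embedded associated primes), and I the annihilator of M. Then the
associated primes of R/I, viewed as a module over itself, are again pairwise incomparable: R/I has
no embedded primes either. -/
theorem result {R : Type u} [CommRing R] [IsNoetherianRing R] (M : Type u) [AddCommGroup M] [Module R M] [Module.Finite R M] (hM : ∀ p ∈ associatedPrimes R M, ∀ q ∈ associatedPrimes R M, p ≤ q → p = q) :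
    ∀ p ∈ associatedPrimes (R ⧸ Module.annihilator R M) (R ⧸ Module.annihilator R M), ∀ q ∈ associatedPrimes (R ⧸ Module.annihilator R M) (R ⧸ Module.annihilator R M), p ≤ q → p = q := by
  have key : ∀ P ∈ associatedPrimes (R ⧸ Module.annihilator R M) (R ⧸ Module.annihilator R M),
      P.comap (Ideal.Quotient.mk (Module.annihilator R M)) ∈ associatedPrimes R M := by
    intro P hP
    obtain ⟨hPp, x, hx⟩ := isAssociatedPrime_iff.mp (AssociatedPrimes.mem_iff.mp hP)
    obtain ⟨a, rfl⟩ := Ideal.Quotient.mk_surjective x
    obtain ⟨G, hG⟩ := (Module.Finite.fg_top : (⊤ : Submodule R M).FG)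
    have hprime := hPp.comap (Ideal.Quotient.mk (Module.annihilator R M))
    have hmem : ∀ r : R, r ∈ P.comap (Ideal.Quotient.mk (Module.annihilator R M)) ↔
        ∀ g ∈ G, r • (a • g) = 0 := by
      intro r
      rw [Ideal.mem_comap, hx, Submodule.mem_colon_singleton, Submodule.mem_bot, smul_eq_mul,
        ← map_mul, Ideal.Quotient.eq_zero_iff_mem, ← Submodule.annihilator_top, ← hG,
        Submodule.mem_annihilator_span]
      exact ⟨fun h g hg => by rw [smul_smul]; exact h ⟨g, hg⟩,
        fun h g => by rw [← smul_smul]; exact h g.1 g.2⟩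
    have hinf : G.inf (fun g => (⊥ : Submodule R M).colon {a • g}) ≤
        P.comap (Ideal.Quotient.mk (Module.annihilator R M)) := fun r hr => by
      rw [hmem]
      intro g hg
      have : r ∈ (⊥ : Submodule R M).colon {a • g} := (SetLike.le_def.mp (Finset.inf_le hg)) hr
      simpa [Submodule.mem_colon_singleton] using this
    obtain ⟨g, hg, hgle⟩ := hprime.inf_le'.mp hinf
    refine AssociatedPrimes.mem_iff.mpr (isAssociatedPrime_iff.mpr ⟨hprime, a • g, ?_⟩)
    refine le_antisymm (fun r hr => ?_) hgle
    rw [Submodule.mem_colon_singleton, Submodule.mem_bot]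
    exact (hmem r).mp hr g hg
  intro p hp q hq hpq
  exact Ideal.comap_injective_of_surjective _ Ideal.Quotient.mk_surjective
    (hM _ (key p hp) _ (key q hq) (Ideal.comap_mono hpq))


end Groth.Agent.S9597
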