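import Groth.Statements.S9598
import Mathlib.RingTheory.Jacobson.Ring
import Mathlib.RingTheory.Ideal.AssociatedPrime.Finiteness

set_option autoImplicit false
universe u
open CAlg

namespace Groth.Agent.S9598

/-- For a field k and a finite type k-algebra S with dim S > 0, some element of S is a nonzerodivisor
and a nonunit. -/
theorem result {k S : Type u} [Field k] [CommRing S] [Algebra k S] [Algebra.FiniteType k S] (hdim : 0 < ringKrullDim S) :
    ∃ f : S, f ∈ nonZeroDivisors S ∧ ¬ IsUnit f := by
  have : IsNoetherianRing S := Algebra.FiniteType.isNoetherianRing k S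
  have : IsJacobsonRing S := isJacobsonRing_of_finiteType (A := k)
  by_contra H
  push Not at H
  have hsub : ∀ m : Ideal S, m.IsMaximal → m ∈ associatedPrimes S S := by
    intro m hm
    have h1 : (m : Set S) ⊆ ⋃ P ∈ associatedPrimes S S, (P : Set S) := fun x hx => by
      rw [biUnion_associatedPrimes_eq_compl_nonZeroDivisors]
      exact fun hn => hm.ne_top (Ideal.eq_top_of_isUnit_mem _ hx (H x hn))
    have hfin := associatedPrimes.finite S S
    rw [← hfin.coe_toFinset] at h1
    obtain ⟨P, hP, hmP⟩ := (Ideal.subset_union_prime (R := S) (f := id) (⊥ : Ideal S) ⊥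
      (fun i hi _ _ => IsAssociatedPrime.isPrime (hfin.mem_toFinset.mp hi))).mp h1
    rw [hfin.mem_toFinset] at hP
    exact (hm.eq_of_le (IsAssociatedPrime.isPrime hP).ne_top hmP) ▸ hP
  have h0 : Ring.KrullDimLE 0 S := Ring.KrullDimLE.mk₀ fun P hP => by
    by_contra hPm
    obtain ⟨M, hM, hPM⟩ := isJacobsonRing_iff_sInf_maximal'.mp ‹_› hP
    classical
    have hle : (associatedPrimes.finite S S).toFinset.inf (fun m => if m.IsMaximal ∧ P ≤ m then m else ⊤) ≤ P := by
      intro x hx
      rw [hPM, Submodule.mem_sInf]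
      intro (J : Ideal S) hJ
      by_cases htop : J = ⊤
      · simp [htop]
      have hmem := (associatedPrimes.finite S S).mem_toFinset.mpr (hsub J ⟨⟨htop, hM J hJ⟩⟩)
      have := (SetLike.le_def.mp (Finset.inf_le (f := fun m => if m.IsMaximal ∧ P ≤ m then m else ⊤) hmem)) hx
      rwa [if_pos ⟨⟨⟨htop, hM J hJ⟩⟩, hPM ▸ sInf_le hJ⟩] at this
    obtain ⟨m, hm, hmle⟩ := hP.inf_le'.mp hle
    split_ifs at hmle with hPle
    · exact hPm (le_antisymm hPle.2 hmle ▸ hPle.1)
    · exact hP.ne_top (top_le_iff.mp hmle)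
  exact absurd (Ring.krullDimLE_iff.mp h0) (not_le.mpr (by exact_mod_cast hdim))


end Groth.Agent.S9598
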