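import Groth.Statements.S9600
import Groth.Agent.CAlg5.Adic

set_option autoImplicit false
universe u
open CAlg

namespace Groth.Agent.S9600

/-- Let R be a ring, I an ideal of R and 0 → M → N → Q → 0 a short exact sequence of R-modules in which
Q is killed by some power I^c of I. Then on I-adic completions the map M^ → N^ is injective, N^ → Q^
is surjective with kernel equal to the image of M^, and the canonical map Q → Q^ is bijective; so 0
→ M^ → N^ → Q → 0 is again short exact. -/
theorem result {R : Type u} [CommRing R] (I : Ideal R) {M N Q : Type u} [AddCommGroup M] [Module R M] [AddCommGroup N] [Module R N] [AddCommGroup Q] [Module R Q] (i : M →ₗ[R] N) (g : N →ₗ[R] Q) (hi : Function.Injective i) (hg : Function.Surjective g) (hig : Function.Exact i g) (c : ℕ) (hc : ∀ x ∈ I ^ c, ∀ q : Q, x • q = 0) :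
    Function.Injective (AdicCompletion.map I i) ∧ Function.Exact (AdicCompletion.map I i) (AdicCompletion.map I g) ∧ Function.Surjective (AdicCompletion.map I g) ∧ Function.Bijective (AdicCompletion.of I Q) := by
  have hr : (I ^ c • ⊤ : Submodule R N) ≤ Submodule.map i ⊤ := by
    refine Submodule.smul_le.mpr fun r hr x _ => ?_
    rw [Submodule.map_top]
    exact (hig (r • x)).mp (by rw [map_smul, hc r hr])
  have h : ∀ n, ∃ m, (I ^ m • ⊤ : Submodule R N).comap i ≤ I ^ n • ⊤ := fun n => by
    refine ⟨n + c, fun x hx => ?_⟩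
    have h1 : i x ∈ Submodule.map i (I ^ n • ⊤ : Submodule R M) := by
      rw [Submodule.map_smul'']
      refine (smul_mono_right _ hr : I ^ n • (I ^ c • ⊤ : Submodule R N) ≤ _) ?_
      rw [← Submodule.smul_assoc, smul_eq_mul, ← pow_add]
      exact hx
    obtain ⟨x', hx', he⟩ := h1
    exact hi he ▸ hx'
  refine ⟨CAlg5.map_injective_of_comap_le I i h, CAlg5.map_exact_of_comap_le I i g hg hig h,
    AdicCompletion.map_surjective I hg, ?_⟩
  have h0 : (I ^ c • ⊤ : Submodule R Q) = ⊥ :=
    eq_bot_iff.mpr (Submodule.smul_le.mpr fun r hr q _ => (Submodule.mem_bot R).mpr (hc r hr q))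
  have : IsHausdorff I Q := ⟨fun x hx => by
    have h1 := hx c
    rw [SModEq.sub_mem, sub_zero, h0] at h1
    exact (Submodule.mem_bot R).mp h1⟩
  have : IsPrecomplete I Q := ⟨fun f hf => ⟨f c, fun n => by
    rcases le_total n c with hnc | hcn
    · exact hf hnc
    · have h1 := hf hcn
      rw [SModEq.sub_mem, h0, Submodule.mem_bot, sub_eq_zero] at h1
      rw [h1]⟩⟩
  exact AdicCompletion.of_bijective_iff.mpr { }


end Groth.Agent.S9600
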