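import Groth.Statements.S9601
import Groth.Agent.CAlg5.Adic

set_option autoImplicit false
universe u
open CAlg

namespace Groth.Agent.S9601

/-- For a ring R, an ideal I of R and an R-module M, let M^ be the I-adic completion and K_n the kernel
of the projection M^ → M/IⁿM. The completion M^ is I-adically complete exactly when K_n = Iⁿ M^
holds for every n ≥ 1. -/
theorem result {R : Type u} [CommRing R] (I : Ideal R) (M : Type u) [AddCommGroup M] [Module R M] :
    IsAdicComplete I (AdicCompletion I M) ↔ ∀ n : ℕ, 1 ≤ n → LinearMap.ker (AdicCompletion.eval I M n) = I ^ n • (⊤ : Submodule R (AdicCompletion I M)) := by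
  constructor
  · intro hc n hn
    refine le_antisymm (fun x hx => ?_) (AdicCompletion.pow_smul_top_le_ker_eval (I := I) (M := M) n)
    obtain ⟨y, hy⟩ : ∃ y : ℕ → M, ∀ m, Submodule.Quotient.mk (y m) = x.val m :=
      ⟨fun m => (Submodule.Quotient.mk_surjective _ (x.val m)).choose,
        fun m => (Submodule.Quotient.mk_surjective _ (x.val m)).choose_spec⟩
    have hle : ∀ {a b : ℕ}, a ≤ b → y a - y b ∈ (I ^ a • ⊤ : Submodule R M) := fun {a b} hab =>
      (Submodule.Quotient.eq _).mp ((hy a).trans (CAlg5.val_eq_mk_of_le I hab (hy b).symm))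
    obtain ⟨z, hz⟩ := hc.toIsPrecomplete.prec (f := fun m => AdicCompletion.of I M (y m))
      (fun {a b} hab => by
        rw [SModEq.sub_mem, ← map_sub, ← Submodule.mem_comap]
        exact Submodule.smul_top_le_comap_smul_top _ _ (hle hab))
    have hzx : z = x := by
      refine AdicCompletion.ext fun m => ?_
      have h1 := AdicCompletion.pow_smul_top_le_ker_eval (I := I) (M := M) m (SModEq.sub_mem.mp (hz m))
      rw [LinearMap.mem_ker, map_sub, sub_eq_zero, AdicCompletion.eval_of] at h1
      exact h1.symm.trans (hy m)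
    have hyn : y n ∈ (I ^ n • ⊤ : Submodule R M) := by
      rw [← Submodule.Quotient.mk_eq_zero, hy n]
      exact LinearMap.mem_ker.mp hx
    have h2 : AdicCompletion.of I M (y n) ∈ (I ^ n • ⊤ : Submodule R (AdicCompletion I M)) :=
      Submodule.smul_top_le_comap_smul_top _ _ hyn
    have h3 := sub_mem h2 (SModEq.sub_mem.mp (hz n))
    rw [sub_sub_cancel] at h3
    exact hzx ▸ h3
  · intro h
    refine { toIsPrecomplete := ⟨fun f hf => ?_⟩ }
    have heq : ∀ n, LinearMap.ker (AdicCompletion.eval I M n) =
        I ^ n • (⊤ : Submodule R (AdicCompletion I M)) := by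
      intro n
      rcases Nat.eq_zero_or_pos n with rfl | hn
      · refine le_antisymm ?_ (AdicCompletion.pow_smul_top_le_ker_eval (I := I) (M := M) 0)
        simp
      · exact h n hn
    let L : AdicCompletion I M := ⟨fun n => (f n).val n, fun {a b} hab => ?_⟩
    rotate_left
    · refine ((f b).2 hab).trans ?_
      have h1 := AdicCompletion.pow_smul_top_le_ker_eval (I := I) (M := M) a (SModEq.sub_mem.mp (hf hab))
      rw [LinearMap.mem_ker, map_sub, sub_eq_zero] at h1
      exact h1.symm
    · refine ⟨L, fun n => ?_⟩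
      rw [SModEq.sub_mem, ← heq, LinearMap.mem_ker, map_sub, sub_eq_zero]
      rfl


end Groth.Agent.S9601
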