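import Groth.Statements.S9602
import Groth.Agent.CAlg5.Adic
import Mathlib.RingTheory.Nilpotent.Basic

set_option autoImplicit false
universe u
open CAlg

namespace Groth.Agent.S9602

/-- Let R be a ring, I an ideal of R and R^ = lim R/Iⁿ the I-adic completion. An element of R^ whose
image in R/I is invertible is itself invertible in R^; and the kernel of R^ → R/I as well as the
extended ideal I R^ both lie inside the Jacobson radical of R^. -/
theorem result {R : Type u} [CommRing R] (I : Ideal R) :
    (∀ x : AdicCompletion I R, IsUnit (AdicCompletion.evalOneₐ I x) → IsUnit x) ∧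
      RingHom.ker (AdicCompletion.evalOneₐ I).toRingHom ≤ (⊥ : Ideal (AdicCompletion I R)).jacobson ∧
      I.map (algebraMap R (AdicCompletion I R)) ≤ (⊥ : Ideal (AdicCompletion I R)).jacobson := by
  have hunit : ∀ x : AdicCompletion I R, IsUnit (AdicCompletion.evalOneₐ I x) → IsUnit x := by
    intro x hx
    have hu : ∀ n, IsUnit (AdicCompletion.evalₐ I n x) := by
      intro n
      rcases Nat.eq_zero_or_pos n with rfl | hn
      · have : Subsingleton (R ⧸ I ^ 0) := Ideal.Quotient.subsingleton_iff.mpr (by simp)
        exact isUnit_of_subsingleton _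
      obtain ⟨a, ha⟩ := Ideal.Quotient.mk_surjective (AdicCompletion.evalₐ I n x)
      have hax : AdicCompletion.evalOneₐ I x = Ideal.Quotient.mk I a := by
        have hfac : Ideal.Quotient.factor (Ideal.pow_le_self hn.ne') (AdicCompletion.evalₐ I n x) =
            AdicCompletion.evalOneₐ I x := by
          induction x using AdicCompletion.induction_on with
          | _ s =>
            rw [← AdicCompletion.factorₐ_evalₐ_one, AdicCompletion.evalₐ_mk, AdicCompletion.evalₐ_mk,
              Ideal.Quotient.factor_mk, Ideal.Quotient.factor_mk, Ideal.Quotient.eq]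
            have h := SModEq.sub_mem.mp (s.2 (show 1 ≤ n from hn))
            rw [pow_one, smul_eq_mul, Ideal.mul_top] at h
            have h' := neg_mem h
            rwa [neg_sub] at h'
        rw [← hfac, ← ha, Ideal.Quotient.factor_mk]
      rw [hax] at hx
      obtain ⟨b, hb⟩ := hx.exists_right_inv
      obtain ⟨b, rfl⟩ := Ideal.Quotient.mk_surjective b
      rw [← ha]
      refine isUnit_of_mul_isUnit_left (y := Ideal.Quotient.mk (I ^ n) b) ?_
      have hnil : IsNilpotent (Ideal.Quotient.mk (I ^ n) (a * b - 1)) := by
        exact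
        ⟨n, by
          rw [← map_pow, Ideal.Quotient.eq_zero_iff_mem]
          exact Ideal.pow_mem_pow (Ideal.Quotient.eq.mp (by rw [map_mul, hb, map_one])) n⟩
      have := IsNilpotent.isUnit_add_one hnil
      rwa [map_sub, map_one, sub_add_cancel, map_mul] at this
    choose v hv using fun n => (hu n).exists_right_inv
    choose u hu' using fun n => Ideal.Quotient.mk_surjective (v n)
    induction x using AdicCompletion.induction_on with
    | _ s =>
      have hs : ∀ n, s.1 n * u n - 1 ∈ I ^ n := fun n => Ideal.Quotient.eq.mp (by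
        rw [map_mul, map_one, hu', ← AdicCompletion.evalₐ_mk]; exact hv n)
      have hst : ∀ n, u n ≡ u (n + 1) [SMOD (I ^ n • ⊤ : Submodule R R)] := fun n => by
        rw [SModEq.sub_mem, smul_eq_mul, Ideal.mul_top]
        have h1 := SModEq.sub_mem.mp (s.2 (Nat.le_succ n))
        rw [smul_eq_mul, Ideal.mul_top] at h1
        have : u n - u (n + 1) = u (n + 1) * (s.1 n * u n - 1)
            - u n * (s.1 (n + 1) * u (n + 1) - 1) - u n * u (n + 1) * (s.1 n - s.1 (n + 1)) := by
          ring
        rw [this]
        exact sub_mem (sub_mem (Ideal.mul_mem_left _ _ (hs n))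
          (Ideal.mul_mem_left _ _ (Ideal.pow_le_pow_right (Nat.le_succ n) (hs (n + 1)))))
          (Ideal.mul_mem_left _ _ h1)
      refine IsUnit.of_mul_eq_one (AdicCompletion.mk I R (AdicCompletion.AdicCauchySequence.mk I R u hst))
        (AdicCompletion.ext_evalₐ fun n => ?_)
      rw [map_mul, map_one, AdicCompletion.evalₐ_mk, AdicCompletion.evalₐ_mk, ← map_mul,
        ← map_one (Ideal.Quotient.mk (I ^ n)), Ideal.Quotient.eq]
      exact hs n
  have hker : RingHom.ker (AdicCompletion.evalOneₐ I).toRingHom ≤
      (⊥ : Ideal (AdicCompletion I R)).jacobson := fun x hx => Ideal.mem_jacobson_bot.mpr fun y =>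
    hunit _ (by
      have hx' : AdicCompletion.evalOneₐ I x = 0 := hx
      rw [map_add, map_mul, map_one, hx', zero_mul, zero_add]
      exact isUnit_one)
  refine ⟨hunit, hker, le_trans (Ideal.map_le_iff_le_comap.mpr fun r hr => ?_) hker⟩
  rw [Ideal.mem_comap, RingHom.mem_ker]
  show AdicCompletion.evalOneₐ I (algebraMap R _ r) = 0
  rw [AlgHom.commutes]
  exact (Ideal.Quotient.eq_zero_iff_mem).mpr hr


end Groth.Agent.S9602
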