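import Groth.Statements.S9603
import Groth.Agent.CAlg5.Adic

set_option autoImplicit false
universe u
open CAlg

namespace Groth.Agent.S9603

/-- For a ring A, elements f_1, …, f_r generating an ideal I and an A-module M, if the canonical map
from M to its (f_i)-adic completion is surjective for every i, then the canonical map from M to its
I-adic completion is surjective. -/
theorem result {A : Type u} [CommRing A] {r : ℕ} (f : Fin r → A) (M : Type u) [AddCommGroup M] [Module A M] (h : ∀ i, Function.Surjective (AdicCompletion.of (Ideal.span {f i}) M)) :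
    Function.Surjective (AdicCompletion.of (Ideal.span (Set.range f)) M) := by
  classical
  set I := Ideal.span (Set.range f) with hI
  intro x
  obtain ⟨y, hy⟩ : ∃ y : ℕ → M, ∀ m, Submodule.Quotient.mk (y m) = x.val m :=
    ⟨fun m => (Submodule.Quotient.mk_surjective _ (x.val m)).choose,
      fun m => (Submodule.Quotient.mk_surjective _ (x.val m)).choose_spec⟩
  have hle : ∀ {a b : ℕ}, a ≤ b → y b - y a ∈ (I ^ a • ⊤ : Submodule A M) := fun {a b} hab =>
    (Submodule.Quotient.eq _).mp ((CAlg5.val_eq_mk_of_le I hab (hy b).symm).symm.trans (hy a).symm)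
  have hpow : ∀ n, I ^ (r * n + 1) ≤ Ideal.span (Set.range fun i => f i ^ n) := by
    intro n
    have key : ∀ s : Finset (Fin r), (s.sup fun i => Ideal.span {f i}) ^ (s.card * n + 1) ≤
        s.sup fun i => Ideal.span {f i ^ n} := by
      intro s
      induction s using Finset.induction with
      | empty => simp
      | insert a s ha ih =>
        rw [Finset.sup_insert, Finset.sup_insert, Finset.card_insert_of_notMem ha,
          show (s.card + 1) * n + 1 = n + (s.card * n + 1) by ring]
        exact Ideal.sup_pow_add_le_pow_sup_pow.trans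
          (sup_le_sup (Ideal.span_singleton_pow _ _).le ih)
    have h1 : I ≤ Finset.univ.sup fun i => Ideal.span {f i} := by
      rw [hI, Ideal.span_le]
      rintro _ ⟨i, rfl⟩
      exact (Finset.le_sup (f := fun i => Ideal.span {f i}) (Finset.mem_univ i))
        (Ideal.mem_span_singleton_self _)
    have h2 := (Ideal.pow_right_mono h1 _).trans (key Finset.univ)
    rw [Finset.card_univ, Fintype.card_fin] at h2
    refine h2.trans (Finset.sup_le fun i _ => Ideal.span_mono ?_)
    simp
  have hz : ∀ n, ∃ z : Fin r → M,
      y (r * (n + 1) + 1) - y (r * n + 1) = ∑ i, f i ^ n • z i := by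
    intro n
    have h1 := Submodule.smul_mono_left (hpow n) (hle (show r * n + 1 ≤ r * (n + 1) + 1 by
      rw [mul_add]; omega))
    rw [Ideal.span, ← Submodule.span_univ, Submodule.span_smul_span] at h1
    generalize y (r * (n + 1) + 1) - y (r * n + 1) = d at h1 ⊢
    induction h1 using Submodule.span_induction with
    | mem a ha =>
      obtain ⟨_, ⟨i, rfl⟩, m, -, rfl⟩ := ha
      exact ⟨Pi.single i m, by simp [Pi.single_apply]⟩
    | zero => exact ⟨0, by simp⟩
    | add a b _ _ ha hb =>
      obtain ⟨za, rfl⟩ := ha
      obtain ⟨zb, rfl⟩ := hb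
      exact ⟨za + zb, by simp [Finset.sum_add_distrib]⟩
    | smul c a _ ha =>
      obtain ⟨za, rfl⟩ := ha
      exact ⟨c • za, by simp [Finset.smul_sum, smul_comm c]⟩
  choose z hz using hz
  have hw : ∀ i, ∃ w : M, ∀ n, (∑ j ∈ Finset.range n, f i ^ j • z j i) - w ∈
      ((Ideal.span {f i}) ^ n • ⊤ : Submodule A M) := by
    intro i
    obtain ⟨w, hw⟩ := (AdicCompletion.of_surjective_iff.mp (h i)).prec
      (f := fun n => ∑ j ∈ Finset.range n, f i ^ j • z j i) (fun {a b} hab => by
        rw [SModEq.sub_mem, ← Finset.sum_range_add_sum_Ico _ hab, sub_add_cancel_left]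
        refine neg_mem (Submodule.sum_mem _ fun j hj => ?_)
        exact Submodule.smul_mem_smul (Ideal.pow_le_pow_right (Finset.mem_Ico.mp hj).1
          (Ideal.pow_mem_pow (Ideal.mem_span_singleton_self _) j)) trivial)
    exact ⟨w, fun n => SModEq.sub_mem.mp (hw n)⟩
  choose w hw using hw
  refine ⟨y 1 + ∑ i, w i, AdicCompletion.ext fun n => ?_⟩
  rw [AdicCompletion.of_apply, Submodule.mkQ_apply, ← hy n, Submodule.Quotient.eq]
  have hsum : ∀ N, y (r * N + 1) = y 1 + ∑ i, ∑ j ∈ Finset.range N, f i ^ j • z j i := by
    intro N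
    induction N with
    | zero => simp
    | succ N ih =>
      simp only [Finset.sum_range_succ, Finset.sum_add_distrib]
      rw [← hz, ← add_assoc, ← ih]
      abel
  rcases Nat.eq_zero_or_pos r with rfl | hr
  · have h0 : I = ⊥ := by simp [hI]
    rcases Nat.eq_zero_or_pos n with rfl | hn
    · simp
    · have h1 := hle (show 1 ≤ n from hn)
      simp only [h0, pow_one, Submodule.bot_smul, Submodule.mem_bot, sub_eq_zero] at h1
      simp [h1]
  have h2 : n ≤ r * n + 1 := (Nat.le_mul_of_pos_left n hr).trans (Nat.le_succ _)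
  have h3 : y 1 + ∑ i, w i - y (r * n + 1) ∈ (I ^ n • ⊤ : Submodule A M) := by
    rw [hsum, add_sub_add_left_eq_sub, ← Finset.sum_sub_distrib]
    refine Submodule.sum_mem _ fun i _ => ?_
    have h4 := neg_mem (hw i n)
    rw [neg_sub] at h4
    exact Submodule.smul_mono_left (Ideal.pow_right_mono
      (Ideal.span_mono (by simp)) n) h4
  have h5 := add_mem h3 (hle h2)
  rwa [sub_add_sub_cancel] at h5


end Groth.Agent.S9603
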