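import Groth.Statements.S9605
import Groth.Agent.CAlg5.Adic

set_option autoImplicit false
universe u
open CAlg

namespace Groth.Agent.S9605

/-- For a ring R, an ideal I of R, an I-adically complete R-module M and a submodule K of M, the
quotient M/K is I-adically complete if and only if K = ⋂ₙ (K + IⁿM). -/
theorem result {R : Type u} [CommRing R] (I : Ideal R) (M : Type u) [AddCommGroup M] [Module R M] [IsAdicComplete I M] (K : Submodule R M) :
    IsAdicComplete I (M ⧸ K) ↔ K = ⨅ n : ℕ, K ⊔ I ^ n • (⊤ : Submodule R M) := by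
  have hpre : IsPrecomplete I (M ⧸ K) := by
    refine AdicCompletion.of_surjective_iff.mp fun y => ?_
    obtain ⟨x, rfl⟩ := AdicCompletion.map_surjective I K.mkQ_surjective y
    obtain ⟨m, rfl⟩ := AdicCompletion.of_surjective I M x
    exact ⟨K.mkQ m, (AdicCompletion.map_of I K.mkQ m).symm⟩
  have hmem : ∀ (n : ℕ) (x : M), K.mkQ x ∈ (I ^ n • ⊤ : Submodule R (M ⧸ K)) ↔
      x ∈ K ⊔ I ^ n • (⊤ : Submodule R M) := by
    intro n x
    rw [← LinearMap.range_eq_top.mpr K.mkQ_surjective, ← Submodule.map_top,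
      ← Submodule.map_smul'', ← Submodule.comap_map_mkQ]
    rfl
  constructor
  · intro h
    refine le_antisymm (le_iInf fun n => le_sup_left) fun x hx => ?_
    rw [← Submodule.Quotient.mk_eq_zero]
    exact h.toIsHausdorff.haus' _ fun n =>
      SModEq.sub_mem.mpr (by rw [sub_zero]; exact (hmem n x).mpr (Submodule.mem_iInf _ |>.mp hx n))
  · intro h
    refine { toIsHausdorff := ⟨fun q hq => ?_⟩, toIsPrecomplete := hpre }
    obtain ⟨x, rfl⟩ := K.mkQ_surjective q
    rw [Submodule.mkQ_apply, Submodule.Quotient.mk_eq_zero]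
    rw [h, Submodule.mem_iInf]
    intro n
    have h1 := hq n
    rw [SModEq.sub_mem, sub_zero] at h1
    exact (hmem n x).mp h1


end Groth.Agent.S9605
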