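import Groth.Statements.S9606
import Mathlib.RingTheory.Spectrum.Prime.Homeomorph

set_option autoImplicit false
universe u
open CAlg

namespace Groth.Agent.S9606

/-- Let R → S be a ring map with locally nilpotent kernel such that S is generated over R by elements x
with x² and x³ in the image of R. Then the induced map on spectra is a homeomorphism and every
residue field map κ(p) → κ(q), for q a prime of S with inverse image p, is bijective. -/
theorem result {R S : Type u} [CommRing R] [CommRing S] [Algebra R S]
    (hgen : Algebra.adjoin R {x : S | x ^ 2 ∈ Set.range (algebraMap R S) ∧ x ^ 3 ∈ Set.range (algebraMap R S)} = ⊤)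
    (hker : ∀ r : R, algebraMap R S r = 0 → IsNilpotent r) :
    IsHomeomorph (PrimeSpectrum.comap (algebraMap R S)) ∧
      ∀ (q : Ideal S) [q.IsPrime], Function.Bijective (Ideal.ResidueField.map (q.comap (algebraMap R S)) q (algebraMap R S) rfl) := by
  set G : Set S := {x : S | x ^ 2 ∈ Set.range (algebraMap R S) ∧ x ^ 3 ∈ Set.range (algebraMap R S)}
  -- values at a point lie in the residue field of the image point
  have hres : ∀ (q : Ideal S) [q.IsPrime] (P : Ideal R) [P.IsPrime]
      (hP : P = q.comap (algebraMap R S)) (s : S), ∃ z : P.ResidueField,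
      Ideal.ResidueField.map P q (algebraMap R S) hP z = algebraMap S q.ResidueField s := by
    intro q _ P _ hP s
    have hs : s ∈ Algebra.adjoin R G := hgen ▸ Algebra.mem_top
    induction hs using Algebra.adjoin_induction with
    | mem x hx =>
      obtain ⟨⟨a, ha⟩, ⟨b, hb⟩⟩ := hx
      refine ⟨algebraMap R _ b / algebraMap R _ a, ?_⟩
      rw [map_div₀, Ideal.ResidueField.map_algebraMap, Ideal.ResidueField.map_algebraMap, ha, hb,
        map_pow, map_pow]
      by_cases h0 : algebraMap S q.ResidueField x = 0
      · simp [h0]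
      · field_simp
    | algebraMap r => exact ⟨algebraMap R _ r, Ideal.ResidueField.map_algebraMap _ _ _ _ r⟩
    | add x y _ _ hx hy =>
      obtain ⟨⟨a, ha⟩, ⟨b, hb⟩⟩ := hx, hy
      exact ⟨a + b, by rw [map_add, map_add, ha, hb]⟩
    | mul x y _ _ hx hy =>
      obtain ⟨⟨a, ha⟩, ⟨b, hb⟩⟩ := hx, hy
      exact ⟨a * b, by rw [map_mul, map_mul, ha, hb]⟩
  have huniq : ∀ (T : Type u) [Field T] [Algebra R T] (φ ψ : S →ₐ[R] T), φ = ψ := by
    intro T _ _ φ ψ
    refine AlgHom.ext_of_adjoin_eq_top hgen fun x hx => ?_
    obtain ⟨⟨a, ha⟩, ⟨b, hb⟩⟩ := hx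
    have h2 : φ x ^ 2 = ψ x ^ 2 := by
      rw [← map_pow, ← map_pow, ← ha, AlgHom.commutes, AlgHom.commutes]
    have h3 : φ x ^ 3 = ψ x ^ 3 := by
      rw [← map_pow, ← map_pow, ← hb, AlgHom.commutes, AlgHom.commutes]
    by_cases h0 : φ x = 0
    · rw [h0] at h2 ⊢
      exact (pow_eq_zero_iff two_ne_zero).mp (by simpa using h2.symm) |>.symm
    · exact mul_left_cancel₀ (pow_ne_zero 2 h0) (by linear_combination h3 - ψ x * h2)
  have hint : (algebraMap R S).IsIntegral := by
    have : Algebra.IsIntegral R S := by
      constructor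
      intro s
      have hle : Algebra.adjoin R G ≤ integralClosure R S := Algebra.adjoin_le fun x hx =>
        IsIntegral.of_pow two_pos (by obtain ⟨a, ha⟩ := hx.1; exact ha ▸ isIntegral_algebraMap)
      exact hle (hgen ▸ Algebra.mem_top)
    exact Algebra.IsIntegral.isIntegral
  refine ⟨?_, fun q _ => ⟨RingHom.injective _, fun y => ?_⟩⟩
  · have hinj : Function.Injective (PrimeSpectrum.comap (algebraMap R S)) := by
      intro q q' hqq'
      let p := PrimeSpectrum.comap (algebraMap R S) q
      let mk : ∀ (Q : Ideal S) [Q.IsPrime], Q.comap (algebraMap R S) = p.asIdeal →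
          ∃ φ : S →ₐ[R] p.asIdeal.ResidueField, ∀ s, φ s = 0 ↔ s ∈ Q := by
        intro Q _ hQ
        have hinj := RingHom.injective (Ideal.ResidueField.map p.asIdeal Q (algebraMap R S) hQ.symm)
        have hr := hres Q p.asIdeal hQ.symm
        choose z hz using hr
        refine ⟨{ toFun := z
                  map_one' := hinj (by rw [hz, map_one, map_one])
                  map_mul' := fun a b => hinj (by rw [hz, map_mul, map_mul, hz, hz])
                  map_zero' := hinj (by rw [hz, map_zero, map_zero])
                  map_add' := fun a b => hinj (by rw [hz, map_add, map_add, hz, hz])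
                  commutes' := fun r => hinj (by
                    show _ = Ideal.ResidueField.map p.asIdeal Q (algebraMap R S) hQ.symm (algebraMap R _ r)
                    rw [hz, Ideal.ResidueField.map_algebraMap]) }, fun s => ?_⟩
        show z s = 0 ↔ _
        rw [← (map_eq_zero_iff _ hinj), hz, Ideal.algebraMap_residueField_eq_zero]
      obtain ⟨φ, hφ⟩ := mk q.asIdeal rfl
      obtain ⟨ψ, hψ⟩ := mk q'.asIdeal (congrArg PrimeSpectrum.asIdeal hqq').symm
      refine PrimeSpectrum.ext (Ideal.ext fun s => ?_)
      rw [← hφ s, ← hψ s, huniq _ φ ψ]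
    have hclosed := PrimeSpectrum.isClosedMap_comap_of_isIntegral (algebraMap R S) hint
    have hsurj : Function.Surjective (PrimeSpectrum.comap (algebraMap R S)) := by
      intro p
      have : Algebra.IsIntegral R S := ⟨fun s => hint s⟩
      obtain ⟨Q, -, hQ, hQp⟩ := Ideal.exists_ideal_over_prime_of_isIntegral (S := S)
        p.asIdeal (⊥ : Ideal S) (fun r hr => by
          rw [Ideal.mem_comap, Ideal.mem_bot] at hr
          obtain ⟨n, hn⟩ := hker r hr
          exact p.isPrime.mem_of_pow_mem n (hn ▸ zero_mem _))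
      exact ⟨⟨Q, hQ⟩, PrimeSpectrum.ext hQp⟩
    refine isHomeomorph_iff_continuous_isClosedMap_bijective.mpr
      ⟨PrimeSpectrum.continuous_comap _, hclosed, hinj, hsurj⟩
  · obtain ⟨a, b, hb, rfl⟩ := IsFractionRing.div_surjective (A := S ⧸ q) y
    obtain ⟨a, rfl⟩ := Ideal.Quotient.mk_surjective a
    obtain ⟨b, rfl⟩ := Ideal.Quotient.mk_surjective b
    obtain ⟨za, hza⟩ := hres q _ rfl a
    obtain ⟨zb, hzb⟩ := hres q _ rfl b
    refine ⟨za / zb, ?_⟩
    rw [map_div₀, hza, hzb, Ideal.algebraMap_quotient_residueField_mk,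
      Ideal.algebraMap_quotient_residueField_mk]


end Groth.Agent.S9606
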