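import Groth.Statements.S9607
import Mathlib.Data.Nat.Choose.Sum
import Mathlib.Algebra.GCDMonoid.Nat
import Mathlib.Data.Nat.Prime.Basic

set_option autoImplicit false
universe u
open CAlg

namespace Groth.Agent.S9607

/-- For a prime number p and integers n, m > 0 there exists an integer a such that (x + y)^(p^a) and p^a
(x + y) both belong to the subring ℤ[x^(p^n), p^n x, y^(p^m), p^m y] of the polynomial ring ℤ[x, y]. -/
theorem result (p : ℕ) (hp : p.Prime) (n m : ℕ) (hn : 0 < n) (hm : 0 < m) :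
    ∃ a : ℕ, ((MvPolynomial.X 0 + MvPolynomial.X 1 : MvPolynomial (Fin 2) ℤ) ^ (p ^ a) ∈ Algebra.adjoin ℤ ({MvPolynomial.X 0 ^ (p ^ n), (p : MvPolynomial (Fin 2) ℤ) ^ n * MvPolynomial.X 0, MvPolynomial.X 1 ^ (p ^ m), (p : MvPolynomial (Fin 2) ℤ) ^ m * MvPolynomial.X 1} : Set (MvPolynomial (Fin 2) ℤ)) ∧
      (p : MvPolynomial (Fin 2) ℤ) ^ a * (MvPolynomial.X 0 + MvPolynomial.X 1) ∈ Algebra.adjoin ℤ ({MvPolynomial.X 0 ^ (p ^ n), (p : MvPolynomial (Fin 2) ℤ) ^ n * MvPolynomial.X 0, MvPolynomial.X 1 ^ (p ^ m), (p : MvPolynomial (Fin 2) ℤ) ^ m * MvPolynomial.X 1} : Set (MvPolynomial (Fin 2) ℤ))) := by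
  set A := Algebra.adjoin ℤ ({MvPolynomial.X 0 ^ (p ^ n), (p : MvPolynomial (Fin 2) ℤ) ^ n * MvPolynomial.X 0, MvPolynomial.X 1 ^ (p ^ m), (p : MvPolynomial (Fin 2) ℤ) ^ m * MvPolynomial.X 1} : Set (MvPolynomial (Fin 2) ℤ))
  set x : MvPolynomial (Fin 2) ℤ := MvPolynomial.X 0
  set y : MvPolynomial (Fin 2) ℤ := MvPolynomial.X 1
  have gx : x ^ p ^ n ∈ A := Algebra.subset_adjoin (by simp [x, y])
  have gx' : (p : MvPolynomial (Fin 2) ℤ) ^ n * x ∈ A := Algebra.subset_adjoin (by simp [x, y])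
  have gy : y ^ p ^ m ∈ A := Algebra.subset_adjoin (by simp [x, y])
  have gy' : (p : MvPolynomial (Fin 2) ℤ) ^ m * y ∈ A := Algebra.subset_adjoin (by simp [x, y])
  set a := n * p ^ n + m * p ^ m + (n + m)
  refine ⟨a, ?_, ?_⟩
  · rw [add_pow]
    refine sum_mem fun i hi => ?_
    have hi' : i ≤ p ^ a := Nat.lt_succ_iff.mp (Finset.mem_range.mp hi)
    have hdvd : ∀ k, k ≤ a → ¬ p ^ k ∣ i → p ^ (a - k) ∣ (p ^ a).choose i := by
      intro k hk hki
      rcases i with _ | i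
      · exact absurd (dvd_zero _) hki
      have h1 : p ^ a ∣ (p ^ a).choose (i + 1) * (i + 1) := by
        rcases hpa : p ^ a with _ | N
        · exact absurd hpa (pow_ne_zero _ hp.ne_zero)
        · exact ⟨N.choose i, (Nat.add_one_mul_choose_eq N i).symm⟩
      obtain ⟨d1, d2, hd1, hd2, hd⟩ := exists_dvd_and_dvd_of_dvd_mul h1
      obtain ⟨j1, -, rfl⟩ := (Nat.dvd_prime_pow hp).mp (hd ▸ Dvd.intro d2 rfl : d1 ∣ p ^ a)
      obtain ⟨j2, -, rfl⟩ := (Nat.dvd_prime_pow hp).mp (hd ▸ Dvd.intro_left (p ^ j1) rfl : d2 ∣ p ^ a)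
      rw [← pow_add] at hd
      have hj := Nat.pow_right_injective hp.two_le hd
      refine (pow_dvd_pow p ?_).trans hd1
      by_contra hlt
      exact hki ((pow_dvd_pow p (by omega : k ≤ j2)).trans hd2)
    by_cases hin : p ^ n ∣ i ∧ p ^ m ∣ p ^ a - i
    · obtain ⟨⟨q1, h1⟩, ⟨q2, h2⟩⟩ := hin
      refine mul_mem (mul_mem ?_ ?_) (natCast_mem A _)
      · rw [h1, pow_mul]; exact pow_mem gx _
      · rw [h2, pow_mul]; exact pow_mem gy _
    · have hC : p ^ (n * p ^ n + m * p ^ m) ∣ (p ^ a).choose i := by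
        rw [not_and_or] at hin
        rcases hin with h | h
        · exact (pow_dvd_pow p (by omega)).trans (hdvd n (by omega) h)
        · refine (pow_dvd_pow p (by omega)).trans (hdvd m (by omega) fun hmi => h ?_)
          exact Nat.dvd_sub (pow_dvd_pow p (by omega)) hmi
      obtain ⟨C, hC⟩ := (pow_dvd_pow p (Nat.add_le_add (Nat.mul_le_mul_left n (Nat.mod_lt i (pow_pos hp.pos n)).le)
        (Nat.mul_le_mul_left m (Nat.mod_lt (p ^ a - i) (pow_pos hp.pos m)).le))).trans hC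
      have key : ∀ qi ri qj rj : ℕ, x ^ (p ^ n * qi + ri) * y ^ (p ^ m * qj + rj) *
            ((p ^ (n * ri + m * rj) * C : ℕ) : MvPolynomial (Fin 2) ℤ) =
          (x ^ p ^ n) ^ qi * ((p : MvPolynomial (Fin 2) ℤ) ^ n * x) ^ ri *
          ((y ^ p ^ m) ^ qj * ((p : MvPolynomial (Fin 2) ℤ) ^ m * y) ^ rj) * (C : MvPolynomial (Fin 2) ℤ) := by
        intro qi ri qj rj
        push_cast
        simp only [pow_add, mul_pow, ← pow_mul]
        ring
      have key' := key (i / p ^ n) (i % p ^ n) ((p ^ a - i) / p ^ m) ((p ^ a - i) % p ^ m)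
      rw [← hC, Nat.div_add_mod, Nat.div_add_mod] at key'
      rw [key']
      exact mul_mem (mul_mem (mul_mem (pow_mem gx _) (pow_mem gx' _)) (mul_mem (pow_mem gy _) (pow_mem gy' _))) (natCast_mem A _)
  · have h1 : (p : MvPolynomial (Fin 2) ℤ) ^ a * (x + y) =
        (p : MvPolynomial (Fin 2) ℤ) ^ (a - n) * ((p : MvPolynomial (Fin 2) ℤ) ^ n * x) +
          (p : MvPolynomial (Fin 2) ℤ) ^ (a - m) * ((p : MvPolynomial (Fin 2) ℤ) ^ m * y) := by
      rw [← mul_assoc, ← mul_assoc, ← pow_add, ← pow_add, Nat.sub_add_cancel (by omega),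
        Nat.sub_add_cancel (by omega), mul_add]
    rw [h1]
    exact add_mem (mul_mem (pow_mem (natCast_mem A _) _) gx') (mul_mem (pow_mem (natCast_mem A _) _) gy')


end Groth.Agent.S9607
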