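import Groth.Statements.S9608
import Mathlib.FieldTheory.PurelyInseparable.PerfectClosure

set_option autoImplicit false
universe u
open CAlg

namespace Groth.Agent.S9608

/-- Let k'/k be a field extension and p a prime number. Then k' is generated over k by elements x for
which some n > 0 has x^(p^n) ∈ k and p^n x ∈ k, if and only if either k' = k, or k has
characteristic p and k'/k is purely inseparable. -/
theorem result {k k' : Type u} [Field k] [Field k'] [Algebra k k'] (p : ℕ) (hp : p.Prime) :
    IntermediateField.adjoin k {x : k' | ∃ n : ℕ, 0 < n ∧ x ^ (p ^ n) ∈ Set.range (algebraMap k k') ∧ (p : k') ^ n * x ∈ Set.range (algebraMap k k')} = ⊤ ↔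
      (Function.Surjective (algebraMap k k') ∨ (CharP k p ∧ IsPurelyInseparable k k')) := by
  set G := {x : k' | ∃ n : ℕ, 0 < n ∧ x ^ (p ^ n) ∈ Set.range (algebraMap k k') ∧ (p : k') ^ n * x ∈ Set.range (algebraMap k k')}
  constructor
  · intro hgen
    by_cases hpk : (p : k) = 0
    · right
      have : Fact p.Prime := ⟨hp⟩
      have hc : CharP k p := (CharP.charP_iff_prime_eq_zero hp).mpr hpk
      refine ⟨hc, ?_⟩
      have : ExpChar k p := ExpChar.prime hp
      have h1 : IsPurelyInseparable k (IntermediateField.adjoin k G) :=
        (IntermediateField.isPurelyInseparable_adjoin_iff_pow_mem k k' p).mpr fun x hx => by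
          obtain ⟨n, -, hn, -⟩ := hx
          exact ⟨n, hn⟩
      rw [hgen] at h1
      exact AlgEquiv.isPurelyInseparable IntermediateField.topEquiv
    · left
      have hle : IntermediateField.adjoin k G ≤ ⊥ := IntermediateField.adjoin_le_iff.mpr fun x hx => by
        obtain ⟨n, -, -, ⟨c, hc⟩⟩ := hx
        refine IntermediateField.mem_bot.mpr ⟨c / (p : k) ^ n, ?_⟩
        have h0 : (p : k') ≠ 0 := by
          intro h; apply hpk
          apply (algebraMap k k').injective
          rw [map_natCast, h, map_zero]
        rw [map_div₀, map_pow, map_natCast, hc]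
        field_simp
      intro x
      rw [hgen] at hle
      exact IntermediateField.mem_bot.mp (hle IntermediateField.mem_top)
  · rintro (hsurj | ⟨hc, hpi⟩)
    · refine eq_top_iff.mpr fun x _ => ?_
      obtain ⟨c, rfl⟩ := hsurj x
      exact IntermediateField.algebraMap_mem _ c
    · refine eq_top_iff.mpr fun x _ => IntermediateField.subset_adjoin k G ?_
      have : ExpChar k p := ExpChar.prime hp
      obtain ⟨n, c, hn⟩ := IsPurelyInseparable.pow_mem k p x
      have hp0 : (p : k') = 0 := by rw [← map_natCast (algebraMap k k'), CharP.cast_eq_zero, map_zero]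
      refine ⟨n + 1, Nat.succ_pos n, ⟨c ^ p, ?_⟩, ⟨0, by simp [hp0]⟩⟩
      rw [map_pow, hn, ← pow_mul, pow_succ]


end Groth.Agent.S9608
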