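import Groth.Statements.S9609
import Mathlib

set_option autoImplicit false
universe u
open CAlg

namespace Groth.Agent.S9609

open TensorProduct in
/-- Let R → S be a ring map which is injective on spectra and whose residue field extensions κ(p) → κ(q)
(q a prime of S with inverse image p) are purely inseparable: every element of κ(q) has a power with
exponent a power of the characteristic exponent lying in the image of κ(p). Then, given an arbitrary
R-algebra R', the induced map R' → R' ⊗_R S is likewise injective on spectra and has purely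
inseparable residue field extensions. -/
theorem result {R S R' : Type u} [CommRing R] [CommRing S] [CommRing R'] [Algebra R S] [Algebra R R']
    (hinj : Function.Injective (PrimeSpectrum.comap (algebraMap R S)))
    (hpi : ∀ (q : Ideal S) [q.IsPrime] (x : q.ResidueField), ∃ n : ℕ, x ^ (ringExpChar (q.comap (algebraMap R S)).ResidueField) ^ n ∈ Set.range (Ideal.ResidueField.map (q.comap (algebraMap R S)) q (algebraMap R S) rfl)) :
    Function.Injective (PrimeSpectrum.comap (algebraMap R' (R' ⊗[R] S))) ∧
      ∀ (q' : Ideal (R' ⊗[R] S)) [q'.IsPrime] (x : q'.ResidueField), ∃ n : ℕ, x ^ (ringExpChar (q'.comap (algebraMap R' (R' ⊗[R] S))).ResidueField) ^ n ∈ Set.range (Ideal.ResidueField.map (q'.comap (algebraMap R' (R' ⊗[R] S))) q' (algebraMap R' (R' ⊗[R] S)) rfl) := by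
  classical
  let T := R' ⊗[R] S
  have key : ∀ (p' : Ideal R') [p'.IsPrime] (z : T), ∃ (n : ℕ) (c : p'.ResidueField),
      ∀ (Q : Ideal T) [Q.IsPrime] (h : p' = Q.comap (algebraMap R' T)),
        (algebraMap T Q.ResidueField z) ^ (ringExpChar p'.ResidueField) ^ n =
          Ideal.ResidueField.map p' Q (algebraMap R' T) h c := by
    intro p' _ z
    set e := ringExpChar p'.ResidueField
    induction z using TensorProduct.induction_on with
    | zero =>
      refine ⟨0, 0, fun Q _ h => ?_⟩
      rw [map_zero, map_zero, pow_zero, pow_one]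
    | add a b ha hb =>
      obtain ⟨n, c, hc⟩ := ha
      obtain ⟨m, d, hd⟩ := hb
      refine ⟨n + m, c ^ e ^ m + d ^ e ^ n, fun Q _ h => ?_⟩
      have : ExpChar p'.ResidueField e := ringExpChar.expChar _
      have : ExpChar Q.ResidueField e :=
        expChar_of_injective_ringHom (Ideal.ResidueField.map p' Q (algebraMap R' T) h).injective e
      rw [map_add, map_add, map_pow, map_pow, ← hc Q h, ← hd Q h, add_pow_expChar_pow, ← pow_mul,
        ← pow_mul, ← pow_add, ← pow_add, add_comm m n]
    | tmul r s =>
      by_cases hex : ∃ (q : Ideal S) (_ : q.IsPrime), q.comap (algebraMap R S) = p'.comap (algebraMap R R')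
      · obtain ⟨q, _, hq⟩ := hex
        obtain ⟨n, c0, hc0⟩ := hpi q (algebraMap S q.ResidueField s)
        have hp : q.comap (algebraMap R S) = p'.comap (algebraMap R R') := hq
        have hexp : ringExpChar (q.comap (algebraMap R S)).ResidueField = e := by
          have : ExpChar (q.comap (algebraMap R S)).ResidueField (ringExpChar (q.comap (algebraMap R S)).ResidueField) :=
            ringExpChar.expChar _
          have := expChar_of_injective_ringHom
            (Ideal.ResidueField.map (q.comap (algebraMap R S)) p' (algebraMap R R') hp).injective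
            (ringExpChar (q.comap (algebraMap R S)).ResidueField)
          exact (ringExpChar.eq _ _).symm
        refine ⟨n, (algebraMap R' p'.ResidueField r) ^ e ^ n *
          Ideal.ResidueField.map (q.comap (algebraMap R S)) p' (algebraMap R R') hp c0, fun Q _ h => ?_⟩
        have hQq : q = Q.comap (Algebra.TensorProduct.includeRight : S →ₐ[R] T).toRingHom := by
          have h1 : (q.comap (algebraMap R S)) =
              (Q.comap (Algebra.TensorProduct.includeRight : S →ₐ[R] T).toRingHom).comap (algebraMap R S) := by
            rw [hp, h, Ideal.comap_comap, Ideal.comap_comap]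
            congr 1
            rw [AlgHom.toRingHom_eq_coe, AlgHom.comp_algebraMap, ← IsScalarTower.algebraMap_eq]
          have hpr : (Q.comap (Algebra.TensorProduct.includeRight : S →ₐ[R] T).toRingHom).IsPrime := Ideal.IsPrime.comap _
          have := @hinj ⟨q, inferInstance⟩ ⟨_, hpr⟩ (PrimeSpectrum.ext h1)
          exact congrArg PrimeSpectrum.asIdeal this
        let ψ := Ideal.ResidueField.map q Q (Algebra.TensorProduct.includeRight : S →ₐ[R] T).toRingHom hQq
        let θ := Ideal.ResidueField.map p' Q (algebraMap R' T) h
        have hcomm : ψ.comp (Ideal.ResidueField.map (q.comap (algebraMap R S)) q (algebraMap R S) rfl) =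
            θ.comp (Ideal.ResidueField.map (q.comap (algebraMap R S)) p' (algebraMap R R') hp) := by
          refine Ideal.ResidueField.ringHom_ext (RingHom.ext fun x => ?_)
          simp only [RingHom.comp_apply, ψ, θ, Ideal.ResidueField.map_algebraMap]
          congr 1
          show (1 : R') ⊗ₜ algebraMap R S x = algebraMap R R' x ⊗ₜ (1 : S)
          rw [Algebra.algebraMap_eq_smul_one, Algebra.algebraMap_eq_smul_one, TensorProduct.smul_tmul]
        have h2 := congrArg ψ hc0
        rw [hexp, ← RingHom.comp_apply, hcomm, RingHom.comp_apply, map_pow,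
          Ideal.ResidueField.map_algebraMap] at h2
        have hz : algebraMap T Q.ResidueField (r ⊗ₜ s) =
            algebraMap T Q.ResidueField (algebraMap R' T r) *
              algebraMap T Q.ResidueField ((Algebra.TensorProduct.includeRight : S →ₐ[R] T).toRingHom s) := by
          rw [← map_mul]; congr 1
          show r ⊗ₜ s = (r ⊗ₜ[R] (1 : S)) * ((1 : R') ⊗ₜ[R] s)
          rw [Algebra.TensorProduct.tmul_mul_tmul, mul_one, one_mul]
        rw [map_mul, map_pow, Ideal.ResidueField.map_algebraMap, hz, mul_pow, h2]
      · refine ⟨0, 0, fun Q _ h => (hex ⟨Q.comap (Algebra.TensorProduct.includeRight : S →ₐ[R] T).toRingHom,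
          Ideal.IsPrime.comap _, ?_⟩).elim⟩
        rw [h, Ideal.comap_comap, Ideal.comap_comap]
        congr 1
        rw [AlgHom.toRingHom_eq_coe, AlgHom.comp_algebraMap, ← IsScalarTower.algebraMap_eq]
  refine ⟨?_, ?_⟩
  · rintro ⟨Q1, hQ1⟩ ⟨Q2, hQ2⟩ heq
    have h12 : Q1.comap (algebraMap R' T) = Q2.comap (algebraMap R' T) := congrArg PrimeSpectrum.asIdeal heq
    refine PrimeSpectrum.ext (Ideal.ext fun z => ?_)
    obtain ⟨n, c, hc⟩ := key (Q1.comap (algebraMap R' T)) z
    have h1 := hc Q1 rfl
    have h2 := hc Q2 h12
    have : ExpChar (Q1.comap (algebraMap R' T)).ResidueField (ringExpChar (Q1.comap (algebraMap R' T)).ResidueField) := ringExpChar.expChar _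
    have hne : (ringExpChar (Q1.comap (algebraMap R' T)).ResidueField) ^ n ≠ 0 := pow_ne_zero _ (expChar_pos (Q1.comap (algebraMap R' T)).ResidueField _).ne'
    have e1 := congrArg (· = 0) h1
    have e2 := congrArg (· = 0) h2
    simp only [pow_eq_zero_iff hne, map_eq_zero, Ideal.algebraMap_residueField_eq_zero, eq_iff_iff] at e1 e2
    exact e1.trans e2.symm
  · intro Q _ x
    obtain ⟨a, b, hb, rfl⟩ := IsFractionRing.div_surjective (A := T ⧸ Q) x
    obtain ⟨a, rfl⟩ := Ideal.Quotient.mk_surjective a
    obtain ⟨b, rfl⟩ := Ideal.Quotient.mk_surjective b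
    obtain ⟨n, c, hc⟩ := key (Q.comap (algebraMap R' T)) a
    obtain ⟨m, d, hd⟩ := key (Q.comap (algebraMap R' T)) b
    set e := ringExpChar (Q.comap (algebraMap R' T)).ResidueField
    refine ⟨n + m, c ^ e ^ m / d ^ e ^ n, ?_⟩
    rw [map_div₀, map_pow, map_pow, ← hc Q rfl, ← hd Q rfl, Ideal.algebraMap_quotient_residueField_mk,
      Ideal.algebraMap_quotient_residueField_mk, div_pow, ← pow_mul, ← pow_mul, ← pow_add, ← pow_add, add_comm m n]


end Groth.Agent.S9609
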