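import Groth.Statements.S9610

set_option autoImplicit false
universe u
open CAlg

namespace Groth.Agent.S9610

/-- Let k be a field and V a nonzero k-vector space with dim_k V < #k as cardinals. Then every k-linear
endomorphism T of V admits a monic polynomial P over k for which P(T) is not invertible. -/
theorem result {k V : Type u} [Field k] [AddCommGroup V] [Module k V] [Nontrivial V] (hV : Module.rank k V < Cardinal.mk k) (T : Module.End k V) :
    ∃ P : Polynomial k, P.Monic ∧ ¬ IsUnit (Polynomial.aeval T P) := by
  classical
  by_contra H
  push Not at H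
  obtain ⟨v, hv⟩ := exists_ne (0 : V)
  have hu : ∀ a : k, IsUnit (Polynomial.aeval T (Polynomial.X - Polynomial.C a)) := fun a =>
    H _ (Polynomial.monic_X_sub_C a)
  let w : k → V := fun a => (↑(hu a).unit⁻¹ : Module.End k V) v
  have hli : LinearIndependent k w := by
    rw [linearIndependent_iff']
    intro s c hc a ha
    by_contra hca
    let P : Polynomial k := ∑ b ∈ s, Polynomial.C (c b) * ∏ b' ∈ s.erase b, (Polynomial.X - Polynomial.C b')
    have hP : P ≠ 0 := by
      intro h0
      have h1 : P.eval a = 0 := by simp [h0]
      rw [Polynomial.eval_finset_sum, Finset.sum_eq_single a] at h1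
      · simp only [Polynomial.eval_mul, Polynomial.eval_C, Polynomial.eval_prod, mul_eq_zero, hca,
          false_or, Finset.prod_eq_zero_iff] at h1
        obtain ⟨b', hb', h2⟩ := h1
        simp [sub_eq_zero] at h2
        exact (Finset.mem_erase.mp hb').1 h2.symm
      · intro b _ hba
        rw [Polynomial.eval_mul, Polynomial.eval_prod,
          Finset.prod_eq_zero (Finset.mem_erase.mpr ⟨hba.symm, ha⟩) (by simp), mul_zero]
      · exact fun h => absurd ha h
    have hPv : Polynomial.aeval T P v = 0 := by
      have h1 : ∀ b ∈ s, c b • (Polynomial.aeval T (∏ b' ∈ s, (Polynomial.X - Polynomial.C b'))) (w b) =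
          Polynomial.aeval T (Polynomial.C (c b) * ∏ b' ∈ s.erase b, (Polynomial.X - Polynomial.C b')) v := by
        intro b hb
        rw [← Finset.prod_erase_mul s _ hb, map_mul, map_mul, Polynomial.aeval_C]
        simp only [Module.End.mul_apply, Module.algebraMap_end_apply, w]
        congr 1
        rw [← Module.End.mul_apply (Polynomial.aeval T (Polynomial.X - Polynomial.C b)) _ v,
          IsUnit.mul_val_inv, Module.End.one_apply]
      rw [map_sum, LinearMap.sum_apply, ← Finset.sum_congr rfl h1]
      simp only [← map_smul, ← map_sum, hc, map_zero]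
    obtain ⟨u, hu'⟩ := H _ (Polynomial.monic_mul_leadingCoeff_inv hP)
    apply hv
    have h3 : (u : Module.End k V) v = 0 := by
      rw [hu', mul_comm, map_mul, Module.End.mul_apply, hPv, map_zero]
    calc v = (↑u⁻¹ : Module.End k V) ((u : Module.End k V) v) := by
          rw [← Module.End.mul_apply, Units.inv_mul, Module.End.one_apply]
      _ = 0 := by rw [h3, map_zero]
  exact absurd hli.cardinal_le_rank (not_le.mpr hV)


end Groth.Agent.S9610
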