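import Groth.Statements.S9611

set_option autoImplicit false
universe u
open CAlg

namespace Groth.Agent.S9611

/-- Let R be a Jacobson ring, p a prime ideal of R which is not maximal, and f an element of R not in p.
Then the set of primes of R containing p and not containing f is infinite. -/
theorem result {R : Type u} [CommRing R] [IsJacobsonRing R] (p : Ideal R) [p.IsPrime] (hp : ¬ p.IsMaximal) (f : R) (hf : f ∉ p) :
    {q : PrimeSpectrum R | p ≤ q.asIdeal ∧ f ∉ q.asIdeal}.Infinite := by
  intro hfin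
  obtain ⟨M, hM, hpM⟩ := isJacobsonRing_iff_sInf_maximal'.mp ‹_› ‹p.IsPrime›
  classical
  have hJ : hfin.toFinset.inf (fun q : PrimeSpectrum R => if q.asIdeal.IsMaximal then q.asIdeal else ⊤) ≤ p := by
    intro r hr
    refine (‹p.IsPrime›.mem_or_mem (?_ : r * f ∈ p)).resolve_right hf
    rw [hpM, Submodule.mem_sInf]
    intro (J : Ideal R) hJ
    by_cases htop : J = ⊤
    · simp [htop]
    have hmax : J.IsMaximal := ⟨⟨htop, hM J hJ⟩⟩
    by_cases hfJ : f ∈ J
    · exact J.mul_mem_left r hfJ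
    · refine J.mul_mem_right f ?_
      have hmem : (⟨J, hmax.isPrime⟩ : PrimeSpectrum R) ∈ hfin.toFinset :=
        hfin.mem_toFinset.mpr ⟨hpM ▸ sInf_le hJ, hfJ⟩
      have := (SetLike.le_def.mp (Finset.inf_le (f := fun q : PrimeSpectrum R =>
        if q.asIdeal.IsMaximal then q.asIdeal else ⊤) hmem)) hr
      rwa [if_pos hmax] at this
  obtain ⟨q, hq, hqle⟩ := ‹p.IsPrime›.inf_le'.mp hJ
  split_ifs at hqle with hqm
  · have := hqm.eq_of_le ‹p.IsPrime›.ne_top hqle
    exact hp (this ▸ hqm)
  · exact ‹p.IsPrime›.ne_top (top_le_iff.mp hqle)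


end Groth.Agent.S9611
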