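import Groth.Statements.S9613
import Groth.Agent.Helper62.Goldman

set_option autoImplicit false
universe u
open CAlg

namespace Groth.Agent.S9613

/-- Let R → K be an injective ring map into a field K which makes K an R-algebra of finite type. Then
for some nonzero f ∈ R the localization R_f is a field over which K is finite; here R_f is realised
as the R-subalgebra of K that is a localization of R away from f. -/
theorem result {R K : Type u} [CommRing R] [Field K] [Algebra R K] (hinj : Function.Injective (algebraMap R K)) [Algebra.FiniteType R K] :
    ∃ f : R, f ≠ 0 ∧ ∃ Rf : Subalgebra R K, IsLocalization.Away f Rf ∧ IsField Rf ∧ Module.Finite Rf K := by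
  have : IsDomain R := hinj.isDomain
  obtain ⟨f, hf, hfield⟩ := Groth.Agent.Goldman62.exists_isField_away_of_finiteType hinj
  have hu : IsUnit (algebraMap R K f) :=
    isUnit_iff_ne_zero.mpr ((map_ne_zero_iff _ hinj).mpr hf)
  let φ : Localization.Away f →ₐ[R] K :=
    IsLocalization.liftAlgHom (M := Submonoid.powers f) (f := Algebra.ofId R K) (by
      rintro ⟨_, n, rfl⟩
      simpa using hu.pow n)
  let := hfield.toField
  have hφ : Function.Injective φ := φ.toRingHom.injective
  let e : Localization.Away f ≃ₐ[R] φ.range := AlgEquiv.ofInjective φ hφ
  have hR : IsField φ.range := e.symm.toMulEquiv.isField hfield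
  refine ⟨f, hf, φ.range, IsLocalization.isLocalization_of_algEquiv (Submonoid.powers f) e, hR, ?_⟩
  let := hR.toField
  have : Algebra.FiniteType φ.range K := Algebra.FiniteType.of_restrictScalars_finiteType R _ _
  exact finite_of_finite_type_of_isJacobsonRing φ.range K


end Groth.Agent.S9613
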