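import Groth.Statements.S9614
import Mathlib

set_option autoImplicit false
universe u
open CAlg

namespace Groth.Agent.S9614

/-- Let S be an ℕ-graded ring and M a finitely generated graded S-module, graded in nonnegative degrees
(the source allows all integer degrees). If x_1, …, x_n are homogeneous elements of M which generate
M modulo S₊ M (S₊ the irrelevant ideal), then x_1, …, x_n generate M. -/
theorem result {R S : Type u} [CommRing R] [CommRing S] [Algebra R S] (𝒜 : ℕ → Submodule R S) [GradedAlgebra 𝒜]
    (M : Type u) [AddCommGroup M] [Module R M] [Module S M] [IsScalarTower R S M] [Module.Finite S M] (ℳ : ℕ → Submodule R M) [DirectSum.Decomposition ℳ] [SetLike.GradedSMul 𝒜 ℳ]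
    {n : ℕ} (x : Fin n → M) (hx : ∀ i, SetLike.IsHomogeneousElem ℳ (x i))
    (h : Submodule.span S (Set.range x) ⊔ (HomogeneousIdeal.irrelevant 𝒜).toIdeal • (⊤ : Submodule S M) = ⊤) :
    Submodule.span S (Set.range x) = ⊤ := by
  classical
  set W := Submodule.span S (Set.range x) with hW
  let c : M → ℕ → M := fun z n => ((DirectSum.decompose ℳ z n : ℳ n) : M)
  have hc0 : ∀ n, c 0 n = 0 := fun n => by simp [c]
  have hadd : ∀ a b n, c (a + b) n = c a n + c b n := fun a b n => by simp [c]
  have hcs : ∀ (k : ℕ) (a : S) (y : M) (j n : ℕ), a ∈ 𝒜 k → y ∈ ℳ j →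
      c (a • y) n = if k + j = n then a • y else 0 := by
    intro k a y j n ha hy
    have hm : a • y ∈ ℳ (k + j) := SetLike.GradedSMul.smul_mem ha hy
    by_cases he : k + j = n
    · subst he; rw [if_pos rfl]; exact DirectSum.decompose_of_mem_same ℳ hm
    · rw [if_neg he]; exact DirectSum.decompose_of_mem_ne ℳ hm he
  have hsum : ∀ (a : S) (y : M) (P : Submodule S M) (n : ℕ),
      (∀ k j, k + j = n → ((DirectSum.decompose 𝒜 a k : 𝒜 k) : S) • ((DirectSum.decompose ℳ y j : ℳ j) : M) ∈ P) →
      c (a • y) n ∈ P := by
    intro a y P n hP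
    have e : a • y = ∑ k ∈ (DirectSum.decompose 𝒜 a).support, ∑ j ∈ (DirectSum.decompose ℳ y).support,
        ((DirectSum.decompose 𝒜 a k : 𝒜 k) : S) • ((DirectSum.decompose ℳ y j : ℳ j) : M) := by
      conv_lhs => rw [← DirectSum.sum_support_decompose 𝒜 a, ← DirectSum.sum_support_decompose ℳ y]
      simp only [Finset.sum_smul, Finset.smul_sum]
      exact Finset.sum_comm
    rw [e]
    simp only [c, DirectSum.decompose_sum, DirectSum.sum_apply, AddSubmonoidClass.coe_finsetSum]
    refine sum_mem fun k _ => sum_mem fun j _ => ?_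
    have := hcs k _ _ j n (SetLike.coe_mem (DirectSum.decompose 𝒜 a k)) (SetLike.coe_mem (DirectSum.decompose ℳ y j))
    simp only [c] at this
    rw [this]
    split
    · exact hP k j ‹_›
    · exact zero_mem _
  have hWhom : ∀ z ∈ W, ∀ n, c z n ∈ W := by
    intro z hz n
    induction hz using Submodule.span_induction with
    | mem z hz =>
      obtain ⟨i, rfl⟩ := hz
      obtain ⟨j, hj⟩ := hx i
      by_cases he : j = n
      · subst he; simp only [c]; rw [DirectSum.decompose_of_mem_same ℳ hj]; exact Submodule.subset_span ⟨i, rfl⟩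
      · simp only [c]; rw [DirectSum.decompose_of_mem_ne ℳ hj he]; exact zero_mem _
    | zero => rw [hc0]; exact zero_mem _
    | add a b ha hb h1 h2 => rw [hadd]; exact add_mem (by assumption) (by assumption)
    | smul a z hz ih =>
      clear ih
      induction hz using Submodule.span_induction generalizing a with
      | mem z hz =>
        obtain ⟨i, rfl⟩ := hz
        obtain ⟨j, hj⟩ := hx i
        refine hsum a (x i) W n fun k l _ => ?_
        by_cases he : j = l
        · subst he; rw [DirectSum.decompose_of_mem_same ℳ hj]; exact W.smul_mem _ (Submodule.subset_span ⟨i, rfl⟩)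
        · rw [DirectSum.decompose_of_mem_ne ℳ hj he, smul_zero]; exact zero_mem _
      | zero => rw [smul_zero, hc0]; exact zero_mem _
      | add z w _ _ h1 h2 => rw [smul_add, hadd]; exact add_mem (h1 a) (h2 a)
      | smul b z _ ih => rw [smul_smul]; exact ih (a * b)
  have key : ∀ n, ∀ z : M, c z n ∈ W := by
    intro n
    induction n using Nat.strong_induction_on with
    | _ n ih =>
      intro z
      obtain ⟨w, hw, v, hv, rfl⟩ := Submodule.mem_sup.1 (show z ∈ W ⊔ (HomogeneousIdeal.irrelevant 𝒜).toIdeal • (⊤ : Submodule S M) by rw [h]; trivial)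
      rw [hadd]
      refine add_mem (hWhom w hw n) ?_
      refine Submodule.smul_induction_on hv (fun a ha y _ => ?_) (fun a b h1 h2 => by rw [hadd]; exact add_mem h1 h2)
      refine hsum a y W n fun k j hkj => ?_
      rcases Nat.eq_zero_or_pos k with rfl | hk
      · change a ∈ HomogeneousIdeal.irrelevant 𝒜 at ha
        rw [HomogeneousIdeal.mem_irrelevant_iff, GradedRing.proj_apply] at ha
        rw [ha, zero_smul]; exact zero_mem _
      · exact W.smul_mem _ (ih j (by omega) y)
  refine eq_top_iff.2 fun z _ => ?_
  rw [← DirectSum.sum_support_decompose ℳ z]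
  exact sum_mem fun n _ => key n z

end Groth.Agent.S9614
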