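import Groth.Statements.S9615
import Mathlib
import Groth.Agent.CAlg6.PSEndo

set_option autoImplicit false
universe u
open CAlg

namespace Groth.Agent.S9615

/-- Let R → S be a homomorphism of ℕ-graded rings, i.e. the structure map carries each graded piece R_i
into S_i. If an element s of S is integral over R, then each homogeneous component of s is integral
over R; so the integral closure of R in S is a graded subring of S. -/
theorem result {R S : Type u} [CommRing R] [CommRing S] [Algebra R S] (ℛ : ℕ → AddSubgroup R) [GradedRing ℛ] (𝒮 : ℕ → AddSubgroup S) [GradedRing 𝒮]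
    (hmap : ∀ i : ℕ, ∀ r ∈ ℛ i, algebraMap R S r ∈ 𝒮 i) (s : S) (hs : IsIntegral R s) (i : ℕ) :
    IsIntegral R ((DirectSum.decompose 𝒮 s i : 𝒮 i) : S) := by
  classical
  let F : S → Polynomial S := fun x => ∑ k ∈ (DirectSum.decompose 𝒮 x).support, Polynomial.monomial k ((DirectSum.decompose 𝒮 x k : 𝒮 k) : S)
  let G : R → Polynomial R := fun x => ∑ k ∈ (DirectSum.decompose ℛ x).support, Polynomial.monomial k ((DirectSum.decompose ℛ x k : ℛ k) : R)
  have hFc : ∀ x k, (F x).coeff k = ((DirectSum.decompose 𝒮 x k : 𝒮 k) : S) := fun x k => by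
    simp only [F, Polynomial.finsetSum_coeff, Polynomial.coeff_monomial, Finset.sum_ite_eq', DFinsupp.mem_support_iff]
    split
    · rfl
    · rename_i h; push Not at h; simp [h]
  have hGc : ∀ x k, (G x).coeff k = ((DirectSum.decompose ℛ x k : ℛ k) : R) := fun x k => by
    simp only [G, Polynomial.finsetSum_coeff, Polynomial.coeff_monomial, Finset.sum_ite_eq', DFinsupp.mem_support_iff]
    split
    · rfl
    · rename_i h; push Not at h; simp [h]
  let Φ : S →+* Polynomial S :=
    { toFun := F
      map_one' := by
        ext k
        rw [hFc, Polynomial.coeff_one]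
        by_cases h : k = 0
        · subst h; rw [DirectSum.decompose_of_mem_same 𝒮 SetLike.GradedOne.one_mem, if_pos rfl]
        · rw [DirectSum.decompose_of_mem_ne 𝒮 SetLike.GradedOne.one_mem (Ne.symm h), if_neg h]
      map_zero' := by ext k; rw [hFc, DirectSum.decompose_zero]; simp
      map_add' := fun x y => by ext k; rw [Polynomial.coeff_add, hFc, hFc, hFc, DirectSum.decompose_add]; simp
      map_mul' := fun x y => by
        ext k
        rw [hFc, DirectSum.decompose_mul, DirectSum.coe_mul_apply_eq_sum_antidiagonal, Polynomial.coeff_mul]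
        simp only [hFc] }
  have hnat : ∀ r, Φ (algebraMap R S r) = (G r).map (algebraMap R S) := by
    intro r
    ext k
    show (F _).coeff k = _
    rw [hFc, Polynomial.coeff_map, hGc]
    conv_lhs => rw [← DirectSum.sum_support_decompose ℛ r, map_sum, DirectSum.decompose_sum, DirectSum.sum_apply, AddSubmonoidClass.coe_finsetSum]
    rw [Finset.sum_eq_single k (fun j _ hj => DirectSum.decompose_of_mem_ne 𝒮 (hmap j _ (SetLike.coe_mem _)) hj) (fun hk => by
      simp only [DFinsupp.notMem_support_iff.1 hk, ZeroMemClass.coe_zero, map_zero, DirectSum.decompose_zero, DirectSum.zero_apply])]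
    exact DirectSum.decompose_of_mem_same 𝒮 (hmap k _ (SetLike.coe_mem _))
  let alg : Algebra (Polynomial R) (Polynomial S) := Polynomial.algebra R S
  have hint : IsIntegral (Polynomial R) (Φ s) := by
    obtain ⟨P, hP, hPs⟩ := hs
    let Ψ : R →+* Polynomial R :=
      { toFun := G
        map_one' := by
          ext k
          rw [hGc, Polynomial.coeff_one]
          by_cases h : k = 0
          · subst h; rw [DirectSum.decompose_of_mem_same ℛ SetLike.GradedOne.one_mem, if_pos rfl]
          · rw [DirectSum.decompose_of_mem_ne ℛ SetLike.GradedOne.one_mem (Ne.symm h), if_neg h]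
        map_zero' := by ext k; rw [hGc, DirectSum.decompose_zero]; simp
        map_add' := fun x y => by ext k; rw [Polynomial.coeff_add, hGc, hGc, hGc, DirectSum.decompose_add]; simp
        map_mul' := fun x y => by
          ext k
          rw [hGc, DirectSum.decompose_mul, DirectSum.coe_mul_apply_eq_sum_antidiagonal, Polynomial.coeff_mul]
          simp only [hGc] }
    refine ⟨P.map Ψ, hP.map _, ?_⟩
    rw [Polynomial.eval₂_map]
    have h2 := Polynomial.hom_eval₂ P (algebraMap R S) Φ s
    rw [hPs, map_zero] at h2
    rw [show (algebraMap (Polynomial R) (Polynomial S)).comp Ψ = Φ.comp (algebraMap R S) from RingHom.ext fun r => (hnat r).symm]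
    exact h2.symm
  have := (Polynomial.isIntegral_iff_isIntegral_coeff.1 hint) i
  rwa [show (Φ s).coeff i = _ from hFc s i] at this

end Groth.Agent.S9615
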