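import Groth.Statements.S9616
import Mathlib

set_option autoImplicit false
universe u
open CAlg

namespace Groth.Agent.S9616

/-- Let S be an ℕ-graded ring, p_1, …, p_r homogeneous prime ideals of S and I ⊆ S₊ a homogeneous ideal
not contained in any p_i. Then there is a homogeneous element x ∈ I of positive degree with x ∉ p_i
for all i. -/
theorem result {R S : Type u} [CommRing R] [CommRing S] [Algebra R S] (𝒜 : ℕ → Submodule R S) [GradedAlgebra 𝒜]
    {r : ℕ} (p : Fin r → HomogeneousIdeal 𝒜) (hp : ∀ i, (p i).toIdeal.IsPrime) (I : HomogeneousIdeal 𝒜) (hI : I ≤ HomogeneousIdeal.irrelevant 𝒜) (h : ∀ i, ¬ I ≤ p i) :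
    ∃ x : S, ∃ d : ℕ, 0 < d ∧ x ∈ 𝒜 d ∧ x ∈ I ∧ ∀ i, x ∉ p i := by
  classical
  have hpd : ∀ a ∈ I, ∀ k, ((DirectSum.decompose 𝒜 a k : 𝒜 k) : S) ∈ I := fun a ha k => I.isHomogeneous k ha
  let T : Finset (Ideal S) := (Finset.univ.image fun i => (p i).toIdeal).filter fun q => ∀ i, q ≤ (p i).toIdeal → (p i).toIdeal = q
  have hT : ∀ i, ∃ q ∈ T, (p i).toIdeal ≤ q := by
    intro i
    obtain ⟨q, hle, hq⟩ := (Finset.univ.image fun i => (p i).toIdeal).exists_le_maximal (Finset.mem_image_of_mem _ (Finset.mem_univ i))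
    refine ⟨q, Finset.mem_filter.2 ⟨hq.1, fun j hj => le_antisymm (hq.2 (Finset.mem_image_of_mem _ (Finset.mem_univ j)) hj) hj⟩, hle⟩
  have key : ∀ q ∈ T, ∃ x d, 0 < d ∧ x ∈ 𝒜 d ∧ x ∈ I ∧ x ∉ q ∧ ∀ q' ∈ T, q' ≠ q → x ∈ q' := by
    intro q hq
    obtain ⟨hq1, hq2⟩ := Finset.mem_filter.1 hq
    obtain ⟨i, -, rfl⟩ := Finset.mem_image.1 hq1
    have hprime := hp i
    obtain ⟨a, haI, hap⟩ : ∃ a ∈ I, a ∉ (p i).toIdeal := SetLike.not_le_iff_exists.1 (h i)
    obtain ⟨k, hk⟩ : ∃ k, ((DirectSum.decompose 𝒜 a k : 𝒜 k) : S) ∉ (p i).toIdeal := by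
      by_contra hc; push Not at hc
      exact hap ((p i).isHomogeneous.mem_iff.2 hc)
    have hk0 : 0 < k := by
      rcases Nat.eq_zero_or_pos k with rfl | h0
      · exfalso; apply hk
        have := hI (hpd a haI 0)
        rw [HomogeneousIdeal.mem_irrelevant_iff, GradedRing.proj_apply, DirectSum.decompose_of_mem_same 𝒜 (SetLike.coe_mem _)] at this
        rw [this]; exact zero_mem _
      · exact h0
    have hb : ∀ q' ∈ T.erase (p i).toIdeal, ∃ b d, b ∈ 𝒜 d ∧ b ∈ q' ∧ b ∉ (p i).toIdeal := by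
      intro q' hq'
      obtain ⟨hne, hq'T⟩ := Finset.mem_erase.1 hq'
      obtain ⟨hq'1, hq'2⟩ := Finset.mem_filter.1 hq'T
      obtain ⟨j, -, rfl⟩ := Finset.mem_image.1 hq'1
      have hnle : ¬ (p j).toIdeal ≤ (p i).toIdeal := fun hle => hne (hq'2 i hle).symm
      obtain ⟨b, hbj, hbi⟩ := SetLike.not_le_iff_exists.1 hnle
      obtain ⟨d, hd⟩ : ∃ d, ((DirectSum.decompose 𝒜 b d : 𝒜 d) : S) ∉ (p i).toIdeal := by
        by_contra hc; push Not at hc
        exact hbi ((p i).isHomogeneous.mem_iff.2 hc)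
      exact ⟨_, d, SetLike.coe_mem _, (p j).isHomogeneous d hbj, hd⟩
    choose b d hbd hbq hbp using hb
    refine ⟨((DirectSum.decompose 𝒜 a k : 𝒜 k) : S) * ∏ q' ∈ (T.erase (p i).toIdeal).attach, b q' q'.2,
      k + ∑ q' ∈ (T.erase (p i).toIdeal).attach, d q' q'.2, by omega, ?_, ?_, ?_, ?_⟩
    · exact SetLike.mul_mem_graded (SetLike.coe_mem _) (SetLike.prod_mem_graded _ _ _ fun q' _ => hbd q' q'.2)
    · exact I.toIdeal.mul_mem_right _ (hpd a haI k)
    · intro hmem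
      rcases hprime.mem_or_mem hmem with h1 | h1
      · exact hk h1
      · obtain ⟨q', -, h2⟩ := Ideal.IsPrime.prod_mem_iff.1 h1
        exact hbp q' q'.2 h2
    · intro q' hq' hne
      refine Ideal.mul_mem_left _ _ ?_
      have hm : q' ∈ T.erase (p i).toIdeal := Finset.mem_erase.2 ⟨hne, hq'⟩
      rw [Finset.prod_eq_mul_prod_sdiff_singleton_of_mem (Finset.mem_attach _ ⟨q', hm⟩) _]
      exact Ideal.mul_mem_right _ _ (hbq q' hm)
  choose x d hd hxd hxI hxq hxo using key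
  rcases Nat.eq_zero_or_pos r with rfl | hr
  · exact ⟨0, 1, one_pos, zero_mem _, zero_mem _, fun i => i.elim0⟩
  let D := ∏ q ∈ T.attach, d q q.2
  have hD : 0 < D := Finset.prod_pos fun q _ => hd q q.2
  have hdD : ∀ q : T, d q q.2 ∣ D := fun q => Finset.dvd_prod_of_mem _ (Finset.mem_attach _ q)
  have hpos : ∀ q : T, D / d q q.2 ≠ 0 := fun q => (Nat.div_pos (Nat.le_of_dvd hD (hdD q)) (hd q q.2)).ne'
  refine ⟨∑ q ∈ T.attach, x q q.2 ^ (D / d q q.2), D, hD, ?_, ?_, ?_⟩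
  · refine sum_mem fun q _ => ?_
    have := SetLike.pow_mem_graded (D / d q q.2) (hxd q q.2)
    rwa [smul_eq_mul, Nat.div_mul_cancel (hdD q)] at this
  · exact sum_mem fun q _ => I.toIdeal.pow_mem_of_mem (hxI q q.2) _ (Nat.pos_of_ne_zero (hpos q))
  · intro i hmem
    obtain ⟨q, hqT, hle⟩ := hT i
    have hqp : q.IsPrime := by
      obtain ⟨j, -, rfl⟩ := Finset.mem_image.1 (Finset.mem_filter.1 hqT).1
      exact hp j
    have h1 := hle hmem
    rw [Finset.sum_eq_add_sum_sdiff_singleton_of_mem (Finset.mem_attach _ ⟨q, hqT⟩)] at h1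
    have h2 : ∑ x_1 ∈ T.attach \ {⟨q, hqT⟩}, x x_1 x_1.2 ^ (D / d x_1 x_1.2) ∈ q := by
      refine sum_mem fun q' hq' => q.pow_mem_of_mem (hxo q' q'.2 q hqT ?_) _ (Nat.pos_of_ne_zero (hpos q'))
      intro he
      exact (Finset.mem_sdiff.1 hq').2 (Finset.mem_singleton.2 (Subtype.ext he.symm))
    exact hxq q hqT (hqp.mem_of_pow_mem _ ((Ideal.add_mem_iff_left q h2).1 h1))

end Groth.Agent.S9616
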