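import Groth.Statements.S9617
import Mathlib

set_option autoImplicit false
set_option maxHeartbeats 1000000
universe u
open CAlg

namespace Groth.Agent.S9617

/-- Let S be an ℕ-graded ring, presented as a graded algebra over a ring A mapping onto S₀, such that S
is of finite type over A, i.e. over S₀. If M is a finitely generated graded S-module, graded in
nonnegative degrees (the source allows all integer degrees), then each graded piece M_n is a finite
module over A, i.e. over S₀. -/
theorem result {A S : Type u} [CommRing A] [CommRing S] [Algebra A S] (𝒜 : ℕ → Submodule A S) [GradedAlgebra 𝒜]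
    (h0 : ∀ s ∈ 𝒜 0, s ∈ Set.range (algebraMap A S)) [Algebra.FiniteType A S]
    (M : Type u) [AddCommGroup M] [Module A M] [Module S M] [IsScalarTower A S M] [Module.Finite S M] (ℳ : ℕ → Submodule A M) [DirectSum.Decomposition ℳ] [SetLike.GradedSMul 𝒜 ℳ] (n : ℕ) :
    Module.Finite A (ℳ n) := by
  classical
  obtain ⟨s, hs⟩ := ‹Algebra.FiniteType A S›.out
  let G : Finset ((k : ℕ) × S) := s.biUnion fun a => (DirectSum.decompose 𝒜 a).support.filter (0 < ·) |>.image fun k => ⟨k, ((DirectSum.decompose 𝒜 a k : 𝒜 k) : S)⟩
  let J : Ideal S := Ideal.span (G.image Sigma.snd : Set S)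
  have hG : ∀ g ∈ G, 0 < g.1 ∧ g.2 ∈ 𝒜 g.1 := by
    intro g hg
    simp only [G, Finset.mem_biUnion, Finset.mem_image, Finset.mem_filter] at hg
    obtain ⟨a, -, k, ⟨-, hk⟩, rfl⟩ := hg
    exact ⟨hk, SetLike.coe_mem _⟩
  have hS : ∀ a : S, ∃ b : A, a - algebraMap A S b ∈ J := by
    intro a
    have ha : a ∈ Algebra.adjoin A (s : Set S) := hs ▸ trivial
    induction ha using Algebra.adjoin_induction with
    | mem a ha =>
      obtain ⟨b, hb⟩ := h0 _ (SetLike.coe_mem (DirectSum.decompose 𝒜 a 0))
      refine ⟨b, ?_⟩
      rw [hb]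
      nth_rw 1 [← DirectSum.sum_support_decompose 𝒜 a]
      have : ∀ k ∈ (DirectSum.decompose 𝒜 a).support, 0 < k → ((DirectSum.decompose 𝒜 a k : 𝒜 k) : S) ∈ J := by
        intro k hk hpos
        refine Ideal.subset_span (Finset.mem_coe.2 (Finset.mem_image.2 ⟨⟨k, _⟩, ?_, rfl⟩))
        simp only [G, Finset.mem_biUnion, Finset.mem_image, Finset.mem_filter]
        exact ⟨a, ha, k, ⟨hk, hpos⟩, rfl⟩
      by_cases h0s : 0 ∈ (DirectSum.decompose 𝒜 a).support
      · rw [Finset.sum_eq_add_sum_sdiff_singleton_of_mem h0s, add_sub_cancel_left]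
        exact sum_mem fun k hk => this k (Finset.mem_sdiff.1 hk).1 (Nat.pos_of_ne_zero fun hk0 => (Finset.mem_sdiff.1 hk).2 (Finset.mem_singleton.2 hk0))
      · rw [DFinsupp.notMem_support_iff.1 h0s]
        simp only [ZeroMemClass.coe_zero, sub_zero]
        exact sum_mem fun k hk => this k hk (Nat.pos_of_ne_zero fun hk0 => h0s (hk0 ▸ hk))
    | algebraMap b => exact ⟨b, by simp⟩
    | add a b _ _ ha hb =>
      obtain ⟨x, hx⟩ := ha; obtain ⟨y, hy⟩ := hb
      exact ⟨x + y, by rw [map_add, show a + b - (algebraMap A S x + algebraMap A S y) = (a - algebraMap A S x) + (b - algebraMap A S y) by ring]; exact add_mem hx hy⟩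
    | mul a b _ _ ha hb =>
      obtain ⟨x, hx⟩ := ha; obtain ⟨y, hy⟩ := hb
      exact ⟨x * y, by rw [map_mul, show a * b - algebraMap A S x * algebraMap A S y = (a - algebraMap A S x) * b + algebraMap A S x * (b - algebraMap A S y) by ring]; exact add_mem (J.mul_mem_right _ hx) (J.mul_mem_left _ hy)⟩
  obtain ⟨X, hX⟩ := ‹Module.Finite S M›.fg_top
  let Y : Finset ((j : ℕ) × M) := X.biUnion fun a => (DirectSum.decompose ℳ a).support.image fun k => ⟨k, ((DirectSum.decompose ℳ a k : ℳ k) : M)⟩
  have hY : ∀ y ∈ Y, y.2 ∈ ℳ y.1 := by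
    intro y hy
    simp only [Y, Finset.mem_biUnion, Finset.mem_image] at hy
    obtain ⟨a, -, k, -, rfl⟩ := hy
    exact SetLike.coe_mem _
  -- every element is an `A`-combination of `Y` modulo `J • M`
  have hM : ∀ z : M, z ∈ Submodule.span A (Y.image Sigma.snd : Set M) ⊔ (J • (⊤ : Submodule S M)).restrictScalars A := by
    intro z
    have hz : z ∈ Submodule.span S (Y.image Sigma.snd : Set M) := by
      have hle : Submodule.span S (X : Set M) ≤ Submodule.span S (Y.image Sigma.snd : Set M) := by
        rw [Submodule.span_le]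
        intro a ha
        rw [SetLike.mem_coe, ← DirectSum.sum_support_decompose ℳ a]
        refine sum_mem fun k hk => Submodule.subset_span (Finset.mem_coe.2 (Finset.mem_image.2 ⟨⟨k, _⟩, ?_, rfl⟩))
        simp only [Y, Finset.mem_biUnion, Finset.mem_image]
        exact ⟨a, ha, k, hk, rfl⟩
      exact hle (hX ▸ trivial)
    induction hz using Submodule.span_induction with
    | mem y hy => exact Submodule.mem_sup_left (Submodule.subset_span hy)
    | zero => exact zero_mem _
    | add _ _ _ _ h1 h2 => exact add_mem h1 h2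
    | smul a y _ hy =>
      obtain ⟨b, hb⟩ := hS a
      rw [show a • y = b • y + (a - algebraMap A S b) • y by rw [sub_smul, algebraMap_smul]; abel]
      exact add_mem (Submodule.smul_mem _ b hy) (Submodule.mem_sup_right ((Submodule.restrictScalars_mem A (J • (⊤ : Submodule S M)) ((a - algebraMap A S b) • y)).2 (Submodule.smul_mem_smul hb Submodule.mem_top)))
  rw [Module.Finite.iff_fg]
  induction n using Nat.strong_induction_on with
  | _ n ih =>
    let T : Submodule A M := Submodule.span A ((Y.filter (·.1 = n)).image Sigma.snd : Set M) ⊔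
      (G.filter (·.1 ≤ n)).sup fun g => (ℳ (n - g.1)).map (Algebra.lsmul A A M g.2)
    have hTle : ∀ z ∈ ℳ n, z ∈ T := by
      intro z hz
      have key : ∀ w ∈ Submodule.span A (Y.image Sigma.snd : Set M) ⊔ (J • (⊤ : Submodule S M)).restrictScalars A, ((DirectSum.decompose ℳ w n : ℳ n) : M) ∈ T := by
        intro w hw
        obtain ⟨u, hu, v, hv, rfl⟩ := Submodule.mem_sup.1 hw
        rw [DirectSum.decompose_add, DirectSum.add_apply, Submodule.coe_add]
        refine add_mem ?_ ?_
        · clear hw
          induction hu using Submodule.span_induction with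
          | mem w hw' =>
            obtain ⟨y, hy, rfl⟩ := Finset.mem_image.1 (Finset.mem_coe.1 hw')
            by_cases he : y.1 = n
            · rw [← he, DirectSum.decompose_of_mem_same ℳ (hY y hy)]
              exact Submodule.mem_sup_left (Submodule.subset_span (Finset.mem_coe.2 (Finset.mem_image_of_mem _ (Finset.mem_filter.2 ⟨hy, he⟩))))
            · rw [DirectSum.decompose_of_mem_ne ℳ (hY y hy) he]; exact zero_mem _
          | zero => simp
          | add _ _ _ _ h1 h2 => rw [DirectSum.decompose_add, DirectSum.add_apply, Submodule.coe_add]; exact add_mem h1 h2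
          | smul a y _ hy =>
            rw [DirectSum.decompose_smul]; simp only [DirectSum.smul_apply, SetLike.val_smul]
            exact Submodule.smul_mem _ a hy
        · change v ∈ J • (⊤ : Submodule S M) at hv
          refine Submodule.smul_induction_on hv (fun a ha y _ => ?_) (fun a b h1 h2 => by rw [DirectSum.decompose_add, DirectSum.add_apply, Submodule.coe_add]; exact add_mem h1 h2)
          clear hw hv
          induction ha using Submodule.span_induction generalizing y with
          | mem a ha =>
            obtain ⟨g, hg, rfl⟩ := Finset.mem_image.1 ha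
            rw [← DirectSum.sum_support_decompose ℳ y, Finset.smul_sum, DirectSum.decompose_sum, DirectSum.sum_apply, AddSubmonoidClass.coe_finsetSum]
            refine sum_mem fun j _ => ?_
            have hm : g.2 • ((DirectSum.decompose ℳ y j : ℳ j) : M) ∈ ℳ (g.1 + j) := SetLike.GradedSMul.smul_mem (hG g hg).2 (SetLike.coe_mem (DirectSum.decompose ℳ y j))
            by_cases he : g.1 + j = n
            · subst he
              rw [DirectSum.decompose_of_mem_same ℳ hm]
              have hmem : g.2 • ((DirectSum.decompose ℳ y j : ℳ j) : M) ∈ (ℳ (g.1 + j - g.1)).map (Algebra.lsmul A A M g.2) := by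
                refine ⟨_, ?_, rfl⟩
                rw [Nat.add_sub_cancel_left]; exact SetLike.coe_mem _
              exact Submodule.mem_sup_right (Finset.le_sup (f := fun g : (k : ℕ) × S => (ℳ (_ - g.1)).map (Algebra.lsmul A A M g.2)) (Finset.mem_filter.2 ⟨hg, Nat.le_add_right _ _⟩) hmem)
            · rw [DirectSum.decompose_of_mem_ne ℳ hm he]; exact zero_mem _
          | zero => simp
          | add a b _ _ h1 h2 => rw [add_smul, DirectSum.decompose_add, DirectSum.add_apply, Submodule.coe_add]; exact add_mem (h1 y Submodule.mem_top) (h2 y Submodule.mem_top)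
          | smul a b _ ih => rw [smul_eq_mul, mul_comm, mul_smul]; exact ih (a • y) Submodule.mem_top
      have := key z (hM z)
      rwa [DirectSum.decompose_of_mem_same ℳ hz] at this
    have hTn : T ≤ ℳ n := by
      refine sup_le (Submodule.span_le.2 ?_) (Finset.sup_le fun g hg => ?_)
      · intro m hm
        obtain ⟨y, hy, rfl⟩ := Finset.mem_image.1 hm
        obtain ⟨hyY, rfl⟩ := Finset.mem_filter.1 hy
        exact hY y hyY
      · rintro _ ⟨m, hm, rfl⟩
        obtain ⟨hgG, hle⟩ := Finset.mem_filter.1 hg
        have := SetLike.GradedSMul.smul_mem (hG g hgG).2 hm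
        rwa [vadd_eq_add, Nat.add_sub_cancel' hle] at this
    rw [le_antisymm hTle hTn]
    refine (Submodule.fg_span (Finset.finite_toSet _)).sup (Submodule.fg_finset_sup _ _ fun g hg => ?_)
    obtain ⟨hgG, hle⟩ := Finset.mem_filter.1 hg
    exact (ih _ (by have := (hG g hgG).1; omega)).map _

end Groth.Agent.S9617
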