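import Groth.Statements.S9620
import Mathlib

set_option autoImplicit false
universe u
open CAlg

namespace Groth.Agent.S9620

/-- For a ring R and a point p of Spec R, the connected component of p is the zero locus of the ideal I
generated by the idempotents of R contained in p, and every idempotent e of R satisfies e ∈ I or 1 -
e ∈ I (e maps to 0 or 1 in R/I). -/
theorem result {R : Type u} [CommRing R] (p : PrimeSpectrum R) :
    connectedComponent p = PrimeSpectrum.zeroLocus {e : R | IsIdempotentElem e ∧ e ∈ p.asIdeal} ∧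
      ∀ e : R, IsIdempotentElem e → (e ∈ Ideal.span {e : R | IsIdempotentElem e ∧ e ∈ p.asIdeal} ∨ 1 - e ∈ Ideal.span {e : R | IsIdempotentElem e ∧ e ∈ p.asIdeal}) := by
  classical
  set I := Ideal.span {e : R | IsIdempotentElem e ∧ e ∈ p.asIdeal} with hI
  have hdir : ∀ a ∈ I, ∃ e, IsIdempotentElem e ∧ e ∈ p.asIdeal ∧ e * a = a := by
    intro a ha
    induction ha using Submodule.span_induction with
    | mem x hx => exact ⟨x, hx.1, hx.2, hx.1⟩
    | zero => exact ⟨0, .zero, zero_mem _, mul_zero _⟩
    | add x y _ _ hx hy =>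
      obtain ⟨e, he, hep, hex⟩ := hx
      obtain ⟨f, hf, hfp, hfy⟩ := hy
      refine ⟨e + f - e * f, he.add_sub_mul hf, sub_mem (add_mem hep hfp) (Ideal.mul_mem_right _ _ hep), ?_⟩
      linear_combination (1 - f) * hex + (1 - e) * hfy
    | smul r x _ hx =>
      obtain ⟨e, he, hep, hex⟩ := hx
      exact ⟨e, he, hep, by rw [smul_eq_mul, mul_left_comm, hex]⟩
  have hid : ∀ e : R, IsIdempotentElem e → e ∈ I ∨ 1 - e ∈ I := fun e he => by
    by_cases h : e ∈ p.asIdeal
    · exact .inl (Ideal.subset_span ⟨he, h⟩)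
    · refine .inr (Ideal.subset_span ⟨he.one_sub, ?_⟩)
      have : e * (1 - e) ∈ p.asIdeal := by rw [mul_sub, mul_one, he.eq, sub_self]; exact zero_mem _
      exact (p.isPrime.mem_or_mem this).resolve_left h
  refine ⟨?_, hid⟩
  rw [← PrimeSpectrum.zeroLocus_span]
  have hpI : p ∈ PrimeSpectrum.zeroLocus (I : Set R) := Ideal.span_le.2 (fun e he => he.2)
  apply Set.Subset.antisymm
  · rw [PrimeSpectrum.zeroLocus_span]
    intro x hx e ⟨he, hep⟩
    have hc : IsClopen (PrimeSpectrum.zeroLocus ({e} : Set R)) :=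
      PrimeSpectrum.isClopen_iff_zeroLocus.2 ⟨e, he, rfl⟩
    have := hc.connectedComponent_subset (x := p) (by simpa using hep) hx
    simpa using this
  · have hne : Nontrivial (R ⧸ I) := Ideal.Quotient.nontrivial_iff.2 (fun h => p.isPrime.ne_top (top_le_iff.1 (h ▸ hpI)))
    have htriv : ∀ a : R ⧸ I, IsIdempotentElem a → a = 0 ∨ a = 1 := by
      intro a ha
      obtain ⟨a, rfl⟩ := Ideal.Quotient.mk_surjective a
      have : a * a - a ∈ I := Ideal.Quotient.eq.1 (by rw [map_mul]; exact ha.eq)
      obtain ⟨e, he, hep, hea⟩ := hdir _ this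
      have hf : IsIdempotentElem ((1 - e) * a) := by
        have h1 : (1 - e) * (1 - e) = 1 - e := he.one_sub.eq
        show _ = _
        linear_combination (a * a) * h1 - hea
      have he0 : Ideal.Quotient.mk I e = 0 := Ideal.Quotient.eq_zero_iff_mem.2 (Ideal.subset_span ⟨he, hep⟩)
      have hfa : Ideal.Quotient.mk I ((1 - e) * a) = Ideal.Quotient.mk I a := by simp [he0]
      rcases hid _ hf with h | h
      · left; rw [← hfa]; exact Ideal.Quotient.eq_zero_iff_mem.2 h
      · right; rw [← Ideal.Quotient.eq_zero_iff_mem, map_sub, map_one, hfa, sub_eq_zero] at h; exact h.symm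
    have : ConnectedSpace (PrimeSpectrum (R ⧸ I)) := by
      rw [connectedSpace_iff_clopen]
      refine ⟨inferInstance, fun s hs => ?_⟩
      obtain ⟨a, ha, rfl⟩ := PrimeSpectrum.isClopen_iff_zeroLocus.1 hs
      rcases htriv a ha with rfl | rfl
      · right; simp
      · left; simp
    have hr : IsPreconnected (Set.range (PrimeSpectrum.comap (Ideal.Quotient.mk I))) :=
      isPreconnected_range (PrimeSpectrum.continuous_comap _)
    rw [range_comap_of_surjective _ _ Ideal.Quotient.mk_surjective, Ideal.mk_ker] at hr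
    exact hr.subset_connectedComponent hpI

end Groth.Agent.S9620
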