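import Groth.Statements.S9618
import Groth.Agent.S9620
import Mathlib

set_option autoImplicit false
universe u
open CAlg

namespace Groth.Agent.S9618

/-- For a ring R and a subset T of Spec R the following are equivalent: (1) T is closed and contains the
connected component of each of its points; (2) T can be written as an intersection of subsets of
Spec R that are both open and closed; (3) T is the common zero locus of some set of idempotent
elements of R (equivalently, of the ideal they generate). -/
theorem result {R : Type u} [CommRing R] (T : Set (PrimeSpectrum R)) :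
    [IsClosed T ∧ ∀ x ∈ T, connectedComponent x ⊆ T,
      ∃ U : Set (Set (PrimeSpectrum R)), (∀ u ∈ U, IsClopen u) ∧ T = ⋂₀ U,
      ∃ E : Set R, (∀ e ∈ E, IsIdempotentElem e) ∧ T = PrimeSpectrum.zeroLocus E].TFAE := by
  tfae_have 3 → 2 := by
    rintro ⟨E, hE, rfl⟩
    refine ⟨(fun e => PrimeSpectrum.zeroLocus ({e} : Set R)) '' E, ?_, ?_⟩
    · rintro _ ⟨e, he, rfl⟩
      exact PrimeSpectrum.isClopen_iff_zeroLocus.2 ⟨e, hE e he, rfl⟩
    · ext x
      simp [PrimeSpectrum.mem_zeroLocus, Set.subset_def]
  tfae_have 2 → 1 := by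
    rintro ⟨U, hU, rfl⟩
    exact ⟨isClosed_sInter fun u hu => (hU u hu).isClosed, fun x hx =>
      Set.subset_sInter fun u hu => (hU u hu).connectedComponent_subset (hx u hu)⟩
  tfae_have 1 → 3 := by
    rintro ⟨hT, hc⟩
    obtain ⟨J, rfl⟩ := (PrimeSpectrum.isClosed_iff_zeroLocus_ideal T).1 hT
    refine ⟨{e | IsIdempotentElem e ∧ PrimeSpectrum.zeroLocus (J : Set R) ⊆ PrimeSpectrum.zeroLocus {e}}, fun e he => he.1, ?_⟩
    refine Set.Subset.antisymm (fun x hx e he => by simpa using he.2 hx) fun x hx => ?_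
    by_contra hxJ
    have hdisj : PrimeSpectrum.zeroLocus ((Ideal.span {e : R | IsIdempotentElem e ∧ e ∈ x.asIdeal} ⊔ J : Ideal R) : Set R) = ∅ := by
      rw [PrimeSpectrum.zeroLocus_sup, PrimeSpectrum.zeroLocus_span, ← (Groth.Agent.S9620.result x).1, ← Set.disjoint_iff_inter_eq_empty, Set.disjoint_left]
      intro y hy hyJ
      exact hxJ (hc y hyJ (connectedComponent_eq hy ▸ mem_connectedComponent))
    have htop := PrimeSpectrum.zeroLocus_empty_iff_eq_top.1 hdisj
    obtain ⟨a, ha, j, hj, haj⟩ := Submodule.mem_sup.1 ((Ideal.eq_top_iff_one _).1 htop)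
    have hdir : ∀ a ∈ Ideal.span {e : R | IsIdempotentElem e ∧ e ∈ x.asIdeal}, ∃ e, IsIdempotentElem e ∧ e ∈ x.asIdeal ∧ e * a = a := by
      intro a ha
      induction ha using Submodule.span_induction with
      | mem x hx => exact ⟨x, hx.1, hx.2, hx.1⟩
      | zero => exact ⟨0, .zero, zero_mem _, mul_zero _⟩
      | add x y _ _ hx hy =>
        obtain ⟨e, he, hep, hex⟩ := hx
        obtain ⟨f, hf, hfp, hfy⟩ := hy
        refine ⟨e + f - e * f, he.add_sub_mul hf, sub_mem (add_mem hep hfp) (Ideal.mul_mem_right _ _ hep), ?_⟩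
        linear_combination (1 - f) * hex + (1 - e) * hfy
      | smul r x _ hx =>
        obtain ⟨e, he, hep, hex⟩ := hx
        exact ⟨e, he, hep, by rw [smul_eq_mul, mul_left_comm, hex]⟩
    obtain ⟨e, he, hex, hea⟩ := hdir a ha
    have hmem : 1 - e ∈ J := by
      rw [show 1 - e = (1 - e) * j by linear_combination (-(1 - e)) * haj - hea]
      exact Ideal.mul_mem_left _ _ hj
    have : 1 - e ∈ x.asIdeal := hx ⟨he.one_sub, fun y hy => by simpa using hy hmem⟩
    exact x.isPrime.ne_top ((Ideal.eq_top_iff_one _).2 (by simpa using add_mem this hex))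
  tfae_finish

end Groth.Agent.S9618
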