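import Groth.Statements.S9621
import Mathlib

set_option autoImplicit false
universe u
open CAlg

namespace Groth.Agent.S9621

/-- Let R be a ring, p a minimal prime of R and W a quasi-compact open subset of Spec R not containing
p. Then there is an f ∈ R, f ∉ p, whose basic open D(f) is disjoint from W. -/
theorem result {R : Type u} [CommRing R] (p : PrimeSpectrum R) (hp : p.asIdeal ∈ minimalPrimes R) (W : Set (PrimeSpectrum R)) (hWo : IsOpen W) (hWc : IsCompact W) (hpW : p ∉ W) :
    ∃ f : R, f ∉ p.asIdeal ∧ Disjoint (PrimeSpectrum.basicOpen f : Set (PrimeSpectrum R)) W := by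
  obtain ⟨s, hs⟩ := (PrimeSpectrum.isCompact_isOpen_iff).1 ⟨hWc, hWo⟩
  -- each g in s lies in p, and is nilpotent in the localization at p
  have hg : ∀ g ∈ s, g ∈ p.asIdeal := fun g hg => by
    by_contra hc
    exact hpW (hs ▸ (by simp only [Set.mem_compl_iff, PrimeSpectrum.mem_zeroLocus]; exact fun h => hc (h hg)))
  have : ∀ g ∈ s, ∃ f ∉ p.asIdeal, ∃ n : ℕ, f * g ^ n = 0 := fun g hgs => by
    by_contra hc
    push Not at hc
    let T : Submonoid R := p.asIdeal.primeCompl ⊔ Submonoid.powers g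
    have hd : Disjoint ((⊥ : Ideal R) : Set R) (T : Set R) := by
      rw [Set.disjoint_left]
      intro z hz hzT
      obtain ⟨f, hf, y, hy, rfl⟩ := Submonoid.mem_sup.1 hzT
      obtain ⟨n, rfl⟩ := hy
      exact hc f hf n (by simpa using hz)
    obtain ⟨q, hq, _, hqT⟩ := Ideal.exists_le_prime_disjoint ⊥ T hd
    have hle : q ≤ p.asIdeal := fun z hz => by
      by_contra h
      exact Set.disjoint_left.1 hqT hz (Submonoid.mem_sup_left (by exact h))
    have := hp.2 ⟨hq, bot_le⟩ hle (hg g hgs)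
    exact Set.disjoint_left.1 hqT this (Submonoid.mem_sup_right (Submonoid.mem_powers g))
  choose f hf n hn using this
  refine ⟨∏ g ∈ s.attach, f g g.2, fun h => ?_, ?_⟩
  · obtain ⟨g, _, hg⟩ := Ideal.IsPrime.prod_mem_iff.1 h
    exact hf g g.2 hg
  · rw [← hs, Set.disjoint_left]
    intro x hx hx'
    apply hx'
    intro g hgs
    rw [PrimeSpectrum.basicOpen, SetLike.mem_coe] at hx
    change (∏ g ∈ s.attach, f g g.2) ∉ x.asIdeal at hx
    have hfx : f g hgs ∉ x.asIdeal := fun h => hx (Ideal.IsPrime.prod_mem_iff.2 ⟨⟨g, hgs⟩, Finset.mem_attach _ _, h⟩)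
    have := hn g hgs ▸ x.asIdeal.zero_mem
    exact x.isPrime.mem_of_pow_mem _ ((x.isPrime.mem_or_mem this).resolve_left hfx)

end Groth.Agent.S9621
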