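import Groth.Statements.S9622
import Mathlib

set_option autoImplicit false
universe u
open CAlg

namespace Groth.Agent.S9622

/-- Let R → S be a ring map whose target S is a local Artinian ring, and write m for the maximal ideal
of S. Then S is a finite R-module exactly when S/m is, and S is an R-algebra of finite type exactly
when S/m is. -/
theorem result {R S : Type u} [CommRing R] [CommRing S] [Algebra R S] [IsArtinianRing S] [IsLocalRing S] :
    (Module.Finite R S ↔ Module.Finite R (S ⧸ IsLocalRing.maximalIdeal S)) ∧
      (Algebra.FiniteType R S ↔ Algebra.FiniteType R (S ⧸ IsLocalRing.maximalIdeal S)) := by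
  classical
  set m := IsLocalRing.maximalIdeal S
  obtain ⟨N, hN⟩ : IsNilpotent m := by
    have := IsArtinianRing.isNilpotent_jacobson_bot (R := S)
    rwa [IsLocalRing.jacobson_eq_maximalIdeal ⊥ bot_ne_top] at this
  obtain ⟨s, hs⟩ := IsNoetherian.noetherian (R := S) (M := S) m
  refine ⟨⟨fun h => Module.Finite.of_surjective (Ideal.Quotient.mkₐ R m).toLinearMap Ideal.Quotient.mk_surjective, fun h => ?_⟩,
    ⟨fun h => Algebra.FiniteType.of_surjective (Ideal.Quotient.mkₐ R m) Ideal.Quotient.mk_surjective, fun h => ?_⟩⟩
  · suffices ∀ n (M : Type u) [AddCommGroup M] [Module S M] [Module R M] [IsScalarTower R S M] [Module.Finite S M], (∀ a ∈ m ^ n, ∀ x : M, a • x = 0) → Module.Finite R M from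
      this N S (fun a ha x => by rw [hN] at ha; simp [Ideal.mem_bot.1 ha])
    intro n
    induction n with
    | zero =>
      intro M _ _ _ _ _ hM
      have : Subsingleton M := ⟨fun x y => by
        have := hM 1 (by simp) (x - y); rw [one_smul] at this; exact sub_eq_zero.1 this⟩
      infer_instance
    | succ n ih =>
      intro M _ _ _ _ _ hM
      let P : Submodule S M := m • ⊤
      have hP : Module.Finite R P := ih P (fun a ha x => by
        refine Subtype.ext ?_
        show a • (x : M) = 0
        refine Submodule.smul_induction_on x.2 (fun c hc y _ => ?_) (fun y z hy hz => by rw [smul_add, hy, hz, add_zero])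
        rw [smul_smul]; exact hM _ (by rw [pow_succ]; exact Ideal.mul_mem_mul ha hc) y)
      have hQ : Module.Finite R (M ⧸ P) := by
        have : IsScalarTower R (S ⧸ m) (M ⧸ P) := .of_algebraMap_smul fun r x => by
          rw [IsScalarTower.algebraMap_apply R S (S ⧸ m)]
          exact algebraMap_smul S r x
        have : Module.Finite (S ⧸ m) (M ⧸ P) := Module.Finite.of_restrictScalars_finite S _ _
        exact Module.Finite.trans (S ⧸ m) (M ⧸ P)
      have : Module.Finite R (P.restrictScalars R) := hP
      have : Module.Finite R (M ⧸ P.restrictScalars R) := Module.Finite.equiv (Submodule.Quotient.restrictScalarsEquiv R P).symm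
      exact Module.Finite.of_submodule_quotient (P.restrictScalars R)
  · obtain ⟨t, ht⟩ := h.out
    choose l hl using fun x => Ideal.Quotient.mk_surjective (I := m) x
    let A : Subalgebra R S := Algebra.adjoin R (↑(t.image l) ∪ ↑s)
    refine ⟨⟨t.image l ∪ s, eq_top_iff.2 fun x _ => ?_⟩⟩
    rw [Finset.coe_union]
    have h1 : ∀ x : S, ∃ a ∈ A, x - a ∈ m := by
      intro x
      have : Ideal.Quotient.mk m x ∈ A.map (Ideal.Quotient.mkₐ R m) := by
        have : Algebra.adjoin R (t : Set (S ⧸ m)) ≤ A.map (Ideal.Quotient.mkₐ R m) :=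
          Algebra.adjoin_le fun y hy => ⟨l y, Algebra.subset_adjoin (Or.inl (Finset.mem_coe.2 (Finset.mem_image_of_mem _ hy))), hl y⟩
        exact this (ht ▸ trivial)
      obtain ⟨a, ha, hax⟩ := this
      exact ⟨a, ha, Ideal.Quotient.eq.1 hax.symm⟩
    have h2 : ∀ n, 1 ≤ n → ∀ x : S, ∃ a ∈ A, x - a ∈ m ^ n := by
      intro n hn
      induction n, hn using Nat.le_induction with
      | base => simpa using h1
      | succ n hn ih =>
        intro x
        obtain ⟨a, ha, hxa⟩ := h1 x
        rw [← hs, Submodule.mem_span_finset] at hxa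
        obtain ⟨c, -, hc⟩ := hxa
        choose b hb hcb using fun g => ih (c g)
        refine ⟨a + ∑ g ∈ s, b g * g, A.add_mem ha (A.sum_mem fun g hg => A.mul_mem (hb g) (Algebra.subset_adjoin (Or.inr hg))), ?_⟩
        rw [show x - (a + ∑ g ∈ s, b g * g) = ∑ g ∈ s, (c g - b g) * g by
          rw [Finset.sum_congr rfl (fun g _ => sub_mul (c g) (b g) g), Finset.sum_sub_distrib]
          simp only [smul_eq_mul] at hc
          rw [hc]; ring]
        refine Submodule.sum_mem _ fun g hg => ?_
        rw [pow_succ]
        exact Ideal.mul_mem_mul (hcb g) (hs ▸ Submodule.subset_span hg)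
    obtain ⟨a, ha, hxa⟩ := h2 (N+1) (by omega) x
    rw [pow_succ, hN, zero_mul] at hxa
    rwa [sub_eq_zero.1 (Ideal.mem_bot.1 hxa)]

end Groth.Agent.S9622
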