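import Groth.Statements.S9625
import Mathlib
import Groth.Agent.CAlg6.GeomTensor

set_option autoImplicit false
universe u
open CAlg
open Groth.Agent

namespace Groth.Agent.S9625

open TensorProduct in
/-- Let k be a field and S a k-algebra such that Spec(k' ⊗_k S) is irreducible for every field extension
k'/k. Then every k-subalgebra of S has the same property. Here the test fields range over field
extensions in the universe of k; this is equivalent to the unrestricted notion, since an algebraic
closure of k suffices as a test. -/
theorem result {k S : Type u} [Field k] [CommRing S] [Algebra k S]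
    (hS : ∀ (k' : Type u) [Field k'] [Algebra k k'], IrreducibleSpace (PrimeSpectrum (k' ⊗[k] S))) (S' : Subalgebra k S) :
    ∀ (k' : Type u) [Field k'] [Algebra k k'], IrreducibleSpace (PrimeSpectrum (k' ⊗[k] S')) := by
  intro k' _ _
  rw [PrimeSpectrum.irreducibleSpace_iff_isPrime_nilradical]
  exact FBase64.isPrime_nilradical_of_injective (Algebra.TensorProduct.map (AlgHom.id k k') S'.val).toRingHom
    (Module.Flat.lTensor_preserves_injective_linearMap (M := k') S'.val.toLinearMap Subtype.val_injective)
    (PrimeSpectrum.irreducibleSpace_iff_isPrime_nilradical.1 (hS k'))

end Groth.Agent.S9625
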