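import Groth.Statements.S9626
import Mathlib
import Groth.Agent.CAlg6.GeomTensor

set_option autoImplicit false
set_option maxHeartbeats 1000000
universe u
open CAlg
open Groth.Agent

namespace Groth.Agent.S9626

open TensorProduct in
/-- Let k be a field, S a k-algebra with Spec(k' ⊗_k S) irreducible for every field extension k'/k, and
R any k-algebra. Then Spec(R ⊗_k S) → Spec(R) induces a bijection on irreducible components: taking
inverse images along R → R ⊗_k S maps the set of minimal primes of R ⊗_k S bijectively onto the set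
of minimal primes of R. Here the test fields range over field extensions in the universe of k; this
is equivalent to the unrestricted notion, since an algebraic closure of k suffices as a test. -/
theorem result {k R S : Type u} [Field k] [CommRing R] [CommRing S] [Algebra k R] [Algebra k S]
    (hS : ∀ (k' : Type u) [Field k'] [Algebra k k'], IrreducibleSpace (PrimeSpectrum (k' ⊗[k] S))) :
    Set.BijOn (Ideal.comap (algebraMap R (R ⊗[k] S))) (minimalPrimes (R ⊗[k] S)) (minimalPrimes R) := by
  set T := R ⊗[k] S
  set ι := algebraMap R T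
  have key : ∀ p : Ideal R, p.IsPrime → (p.map ι).radical.IsPrime ∧ (p.map ι).comap ι = p := by
    intro p hp
    let q : R →ₐ[k] R ⧸ p := Ideal.Quotient.mkₐ k p
    let f := Algebra.TensorProduct.map q (AlgHom.id k S)
    have hker : RingHom.ker f = p.map ι := by
      have h0 : RingHom.ker q = p := Ideal.mk_ker
      have h1 := Algebra.TensorProduct.rTensor_ker (R := k) (C := S) q Ideal.Quotient.mk_surjective
      rw [h0] at h1
      exact h1
    have hirr := CAlg6.irreducibleSpace_tensor k (R ⧸ p) S (fun r => hS r.asIdeal.ResidueField)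
    rw [PrimeSpectrum.irreducibleSpace_iff_isPrime_nilradical] at hirr
    refine ⟨?_, ?_⟩
    · have h1 : ((nilradical ((R ⧸ p) ⊗[k] S)).comap f).IsPrime := Ideal.comap_isPrime _ _
      rwa [nilradical, Ideal.comap_radical, Ideal.zero_eq_bot, ← RingHom.ker_eq_comap_bot, hker] at h1
    · have : Nontrivial (k ⊗[k] S) := by
        have := (hS k).toNonempty
        exact PrimeSpectrum.nonempty_iff_nontrivial.1 this
      have : Nontrivial S := (Algebra.TensorProduct.lid k S).toEquiv.symm.nontrivial
      rw [← hker]
      ext r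
      rw [Ideal.mem_comap, RingHom.mem_ker]
      have : f (ι r) = algebraMap (R ⧸ p) ((R ⧸ p) ⊗[k] S) (Ideal.Quotient.mk p r) := by simp [f, ι, T, q]
      rw [this, map_eq_zero_iff _ (CAlg6.includeLeft_injective k (R ⧸ p) S), Ideal.Quotient.eq_zero_iff_mem]
  have hmem : ∀ q ∈ minimalPrimes T, q.comap ι ∈ minimalPrimes R ∧ ((q.comap ι).map ι).radical = q := by
    intro q hq
    have hqp : q.IsPrime := hq.1.1
    obtain ⟨p, hp, hle⟩ := Ideal.exists_minimalPrimes_le (I := (⊥ : Ideal R)) (J := q.comap ι) bot_le
    have hpp : p.IsPrime := hp.1.1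
    obtain ⟨h1, h2⟩ := key (q.comap ι) inferInstance
    have hqQ : ((q.comap ι).map ι).radical ≤ q := hqp.radical_le_iff.2 Ideal.map_comap_le
    have heq : ((q.comap ι).map ι).radical = q := le_antisymm hqQ (hq.2 ⟨h1, bot_le⟩ hqQ)
    obtain ⟨h1', h2'⟩ := key p hpp
    have hpq : (p.map ι).radical ≤ q := hqp.radical_le_iff.2 (Ideal.map_le_iff_le_comap.2 hle)
    have heq' : (p.map ι).radical = q := le_antisymm hpq (hq.2 ⟨h1', bot_le⟩ hpq)
    have : q.comap ι = p := by rw [← heq', Ideal.comap_radical, h2', hpp.radical]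
    exact ⟨this ▸ hp, heq⟩
  refine ⟨fun q hq => (hmem q hq).1, fun a ha b hb hab => ?_, fun p hp => ?_⟩
  · rw [← (hmem a ha).2, ← (hmem b hb).2]; simp only [show Ideal.comap ι a = Ideal.comap ι b from hab]
  · have hpp : p.IsPrime := hp.1.1
    obtain ⟨h1, h2⟩ := key p hpp
    refine ⟨(p.map ι).radical, ⟨⟨h1, bot_le⟩, fun q hq hle => ?_⟩, by show Ideal.comap ι _ = p; rw [Ideal.comap_radical, h2, hpp.radical]⟩
    have hqp : q.IsPrime := hq.1
    have hle' : q.comap ι ≤ p := by
      refine (Ideal.comap_mono hle).trans ?_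
      rw [Ideal.comap_radical, h2, hpp.radical]
    have hpq : p ≤ q.comap ι := hp.2 ⟨inferInstance, bot_le⟩ hle'
    exact hqp.radical_le_iff.2 (Ideal.map_le_iff_le_comap.2 hpq)

end Groth.Agent.S9626
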