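import Groth.Statements.S9629
import Mathlib
import Groth.Agent.CAlg6.GeomTensor

set_option autoImplicit false
universe u
open CAlg
open Groth.Agent

namespace Groth.Agent.S9629

open TensorProduct in
/-- For a field k and a k-algebra S the following are equivalent: (1) S is geometrically integral, i.e.
k' ⊗_k S is an integral domain for every field extension k'/k; (2) k' ⊗_k S is an integral domain
for every finite field extension k'/k; (3) k̄ ⊗_k S is an integral domain for the algebraic closure
k̄ of k. Here the test fields range over field extensions in the universe of k; this is equivalent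
to the unrestricted notion, since an algebraic closure of k suffices as a test. -/
theorem result {k S : Type u} [Field k] [CommRing S] [Algebra k S] :
    [∀ (k' : Type u) [Field k'] [Algebra k k'], IsDomain (k' ⊗[k] S),
      ∀ (k' : Type u) [Field k'] [Algebra k k'] [Module.Finite k k'], IsDomain (k' ⊗[k] S),
      IsDomain (AlgebraicClosure k ⊗[k] S)].TFAE := by
  tfae_have 1 → 2 := fun h k' _ _ _ => h k'
  tfae_have 2 → 3 := by
    intro h
    have h0 : IsDomain (k ⊗[k] S) := h k
    have : Nontrivial S := (Algebra.TensorProduct.lid k S).toEquiv.symm.nontrivial
    have : Nontrivial (AlgebraicClosure k ⊗[k] S) :=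
      (Algebra.TensorProduct.includeRight_injective (R := k) (A := AlgebraicClosure k) (B := S)
        (algebraMap k _).injective).nontrivial
    suffices NoZeroDivisors (AlgebraicClosure k ⊗[k] S) from NoZeroDivisors.to_isDomain _
    refine FBase64.noZeroDivisors_tensor_of_forall_fg fun A0 hA0 => ?_
    have hfin : Module.Finite k A0 := by
      obtain ⟨s, hs⟩ := hA0
      subst hs
      exact ⟨(Submodule.fg_top _).2 (fg_adjoin_of_finite s.finite_toSet fun a _ => Algebra.IsIntegral.isIntegral a)⟩
    let F : Field A0 := (isField_of_isIntegral_of_isField' (R := k) (S := A0) (Field.toIsField k)).toField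
    have := @h A0 F A0.algebra hfin
    exact @IsDomain.to_noZeroDivisors _ _ this
  tfae_have 3 → 1 := fun h K _ _ => CAlg6.isDomain_of_algebraicClosure k S h K
  tfae_finish

end Groth.Agent.S9629
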