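import Groth.Statements.S9630
import Mathlib
import Groth.Agent.CAlg6.GeomTensor

set_option autoImplicit false
universe u
open CAlg
open Groth.Agent

namespace Groth.Agent.S9630

open TensorProduct in
/-- For a field k and a k-algebra R the following are equivalent: (1) Spec(k' ⊗_k R) is irreducible for
every field extension k'/k; (2) the same for every finite separable extension k'/k; (3) Spec(k^sep
⊗_k R) is irreducible for the separable closure k^sep; (4) Spec(k̄ ⊗_k R) is irreducible for the
algebraic closure k̄. Here the test fields range over field extensions in the universe of k; this is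
equivalent to the unrestricted notion, since an algebraic closure of k suffices as a test. -/
theorem result {k R : Type u} [Field k] [CommRing R] [Algebra k R] :
    [∀ (k' : Type u) [Field k'] [Algebra k k'], IrreducibleSpace (PrimeSpectrum (k' ⊗[k] R)),
      ∀ (k' : Type u) [Field k'] [Algebra k k'] [Module.Finite k k'] [Algebra.IsSeparable k k'], IrreducibleSpace (PrimeSpectrum (k' ⊗[k] R)),
      IrreducibleSpace (PrimeSpectrum (SeparableClosure k ⊗[k] R)),
      IrreducibleSpace (PrimeSpectrum (AlgebraicClosure k ⊗[k] R))].TFAE := by
  tfae_have 1 → 2 := fun h k' _ _ _ _ => h k'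
  tfae_have 4 → 1 := fun h K _ _ => CAlg6.irreducibleSpace_of_algebraicClosure k R h K
  tfae_have 3 → 4 := by
    intro h
    have hh := PrimeSpectrum.isHomeomorph_comap_tensorProductMap_of_isPurelyInseparable
      (R := k) (K := SeparableClosure k) (L := AlgebraicClosure k) (S := R)
    exact (hh.homeomorph _).irreducibleSpace_iff.2 h
  tfae_have 2 → 3 := by
    intro h
    rw [PrimeSpectrum.irreducibleSpace_iff_isPrime_nilradical]
    have h0 := PrimeSpectrum.irreducibleSpace_iff_isPrime_nilradical.1 (h k)
    have : Nontrivial (k ⊗[k] R) := by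
      by_contra hc
      rw [not_nontrivial_iff_subsingleton] at hc
      exact h0.ne_top (Subsingleton.elim _ _)
    have : Nontrivial R := (Algebra.TensorProduct.lid k R).toEquiv.symm.nontrivial
    have : Nontrivial (SeparableClosure k ⊗[k] R) :=
      (Algebra.TensorProduct.includeRight_injective (R := k) (A := SeparableClosure k) (B := R)
        (algebraMap k _).injective).nontrivial
    refine ⟨fun htop => ?_, fun {x y} hxy => ?_⟩
    · rw [nilradical, Ideal.radical_eq_top, Ideal.zero_eq_bot] at htop
      exact bot_ne_top htop
    · obtain ⟨A0, hA0, hx⟩ := FBase64.exists_fg_range x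
      obtain ⟨A1, hA1, hy⟩ := FBase64.exists_fg_range y
      have hfin : ∀ A : Subalgebra k (SeparableClosure k), A.FG → Module.Finite k A := by
        intro A hA
        obtain ⟨s, hs⟩ := hA
        subst hs
        exact ⟨(Submodule.fg_top _).2 (fg_adjoin_of_finite s.finite_toSet fun a _ => Algebra.IsIntegral.isIntegral a)⟩
      have := hfin _ (hA0.sup hA1)
      let F : Field ↥(A0 ⊔ A1) := (isField_of_isIntegral_of_isField' (R := k) (S := ↥(A0 ⊔ A1)) (Field.toIsField k)).toField
      have hsep : Algebra.IsSeparable k ↥(A0 ⊔ A1) :=
        Algebra.IsSeparable.of_algHom k (SeparableClosure k) (A0 ⊔ A1).val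
      have hp := @h ↥(A0 ⊔ A1) F (A0 ⊔ A1).algebra (hfin _ (hA0.sup hA1)) hsep
      rw [PrimeSpectrum.irreducibleSpace_iff_isPrime_nilradical] at hp
      let f := Algebra.TensorProduct.map (A0 ⊔ A1).val (AlgHom.id k R)
      have hf : Function.Injective f := FBase64.map_injective_left _ Subtype.val_injective
      obtain ⟨a, ha⟩ := FBase64.range_mono le_sup_left hx
      obtain ⟨b, hb⟩ := FBase64.range_mono le_sup_right hy
      have ha' : f a = x := ha
      have hb' : f b = y := hb
      subst ha' hb'
      rw [← map_mul, mem_nilradical, IsNilpotent.map_iff hf] at hxy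
      rw [mem_nilradical, mem_nilradical, IsNilpotent.map_iff hf, IsNilpotent.map_iff hf]
      simpa only [mem_nilradical] using hp.mem_or_mem (mem_nilradical.2 hxy)
  tfae_finish

end Groth.Agent.S9630
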