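import Groth.Statements.S9632
import Mathlib

set_option autoImplicit false
universe u
open CAlg

namespace Groth.Agent.S9632

open TensorProduct in
/-- Let R → A be a ring map making A a finite free R-module of rank n, let f ∈ A and let P(T) = Tⁿ +
r_{n-1}Tⁿ⁻¹ + ⋯ + r_0 be the characteristic polynomial of multiplication by f on A. Then for a prime
p of R, f acts nilpotently on κ(p) ⊗_R A if and only if p contains r_0, …, r_{n-1}. -/
theorem result {R A : Type u} [CommRing R] [CommRing A] [Algebra R A] [Module.Free R A] [Module.Finite R A] (f : A) (p : Ideal R) [p.IsPrime] :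
    IsNilpotent ((1 : p.ResidueField) ⊗ₜ[R] f : p.ResidueField ⊗[R] A) ↔
      ∀ i : ℕ, i < Module.finrank R A → (LinearMap.mulLeft R f).charpoly.coeff i ∈ p := by
  set K := p.ResidueField
  rcases subsingleton_or_nontrivial R with h | h
  · exact absurd (Subsingleton.elim p ⊤) (Ideal.IsPrime.ne_top ‹_›)
  set g : Module.End K (K ⊗[R] A) := (LinearMap.mulLeft R f).baseChange K
  have hg : g = LinearMap.mulLeft K ((1 : K) ⊗ₜ[R] f) := by
    refine LinearMap.ext fun z => ?_
    induction z using TensorProduct.induction_on with
    | zero => simp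
    | tmul x y => simp [g, Algebra.TensorProduct.tmul_mul_tmul]
    | add x y hx hy => rw [map_add, map_add, hx, hy]
  rw [← LinearMap.isNilpotent_mulLeft_iff (R := K), ← hg, LinearMap.isNilpotent_iff_charpoly,
    Module.finrank_baseChange, LinearMap.charpoly_baseChange]
  constructor
  · intro h i hi
    have := congrArg (fun P => Polynomial.coeff P i) h
    simp only [Polynomial.coeff_map, Polynomial.coeff_X_pow, if_neg (ne_of_lt hi)] at this
    exact Ideal.algebraMap_residueField_eq_zero.1 this
  · intro h
    ext i
    rw [Polynomial.coeff_map, Polynomial.coeff_X_pow]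
    have hdeg := LinearMap.charpoly_natDegree (LinearMap.mulLeft R f)
    rcases lt_trichotomy i (Module.finrank R A) with hi | hi | hi
    · rw [if_neg (ne_of_lt hi)]; exact Ideal.algebraMap_residueField_eq_zero.2 (h i hi)
    · rw [if_pos hi, hi, ← hdeg, (LinearMap.charpoly_monic _).coeff_natDegree, map_one]
    · rw [if_neg (ne_of_gt hi), Polynomial.coeff_eq_zero_of_natDegree_lt (hdeg.trans_lt hi), map_zero]


end Groth.Agent.S9632
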