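import Groth.Statements.S9633
import Mathlib

set_option autoImplicit false
set_option maxHeartbeats 800000
universe u
open CAlg

namespace Groth.Agent.S9633

/-- For a ring R with spectrum X the following are equivalent: (1) X is profinite, i.e. compact,
Hausdorff and totally disconnected; (2) X is Hausdorff; (3) X is totally disconnected; (4) every
quasi-compact open subset of X is closed; (5) there are no nontrivial inclusions among prime ideals
of R; (6) every prime ideal of R is maximal; (7) every prime ideal of R is a minimal prime; (8)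
every standard open D(f) is closed. -/
theorem result {R : Type u} [CommRing R] :
    [CompactSpace (PrimeSpectrum R) ∧ T2Space (PrimeSpectrum R) ∧ TotallyDisconnectedSpace (PrimeSpectrum R),
      T2Space (PrimeSpectrum R),
      TotallyDisconnectedSpace (PrimeSpectrum R),
      ∀ W : Set (PrimeSpectrum R), IsOpen W → IsCompact W → IsClosed W,
      ∀ p q : PrimeSpectrum R, p ≤ q → p = q,
      ∀ p : Ideal R, p.IsPrime → p.IsMaximal,
      ∀ p : Ideal R, p.IsPrime → p ∈ minimalPrimes R,
      ∀ f : R, IsClosed (PrimeSpectrum.basicOpen f : Set (PrimeSpectrum R))].TFAE := by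
  tfae_have 1 → 2 := fun h => h.2.1
  tfae_have 1 → 3 := fun h => h.2.2
  tfae_have 2 → 5 := by
    intro h p q hpq
    exact ((PrimeSpectrum.le_iff_specializes p q).1 hpq).eq
  tfae_have 3 → 5 := by
    intro h p q hpq
    have hc : IsPreconnected (closure ({p} : Set (PrimeSpectrum R))) := isPreconnected_singleton.closure
    exact h.isTotallyDisconnected_univ _ (Set.subset_univ _) hc (subset_closure rfl)
      ((PrimeSpectrum.le_iff_specializes p q).1 hpq).mem_closure
  tfae_have 5 → 6 := by
    intro h p hp
    obtain ⟨m, hm, hpm⟩ := Ideal.exists_le_maximal p hp.ne_top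
    have := congrArg PrimeSpectrum.asIdeal (h ⟨p, hp⟩ ⟨m, hm.isPrime⟩ hpm)
    simp only at this
    exact this ▸ hm
  tfae_have 6 → 7 := by
    intro h p hp
    refine ⟨⟨hp, bot_le⟩, fun q hq hqp => ?_⟩
    exact ((h q hq.1).eq_of_le hp.ne_top hqp).ge
  tfae_have 7 → 8 := by
    intro h f
    rw [← PrimeSpectrum.localization_away_comap_range (Localization.Away f) f]
    apply PrimeSpectrum.isClosed_range_of_stableUnderSpecialization
    intro x y hxy hx
    have hle := (PrimeSpectrum.le_iff_specializes x y).2 hxy
    have : x = y := PrimeSpectrum.ext (le_antisymm hle ((h y.asIdeal y.isPrime).2 ⟨x.isPrime, bot_le⟩ hle))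
    exact this ▸ hx
  tfae_have 8 → 4 := by
    intro h W hWo hWc
    obtain ⟨s, rfl⟩ := PrimeSpectrum.isCompact_isOpen_iff.1 ⟨hWc, hWo⟩
    have : (PrimeSpectrum.zeroLocus (s : Set R))ᶜ = ⋃ f ∈ s, (PrimeSpectrum.basicOpen f : Set (PrimeSpectrum R)) := by
      ext x; simp [PrimeSpectrum.mem_zeroLocus, Set.subset_def]
    rw [this]
    exact isClosed_biUnion_finset fun f _ => h f
  tfae_have 4 → 8 := fun h f => h _ PrimeSpectrum.isOpen_basicOpen (PrimeSpectrum.isCompact_basicOpen f)
  tfae_have 8 → 1 := by
    intro h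
    have : TotallySeparatedSpace (PrimeSpectrum R) := by
      refine totallySeparatedSpace_iff_exists_isClopen.2 fun x y hne => ?_
      obtain ⟨f, hf⟩ : ∃ f, ¬ (f ∈ x.asIdeal ↔ f ∈ y.asIdeal) := by
        by_contra hc; push Not at hc
        exact hne (PrimeSpectrum.ext (Ideal.ext hc))
      by_cases hx : f ∈ x.asIdeal
      · exact ⟨(PrimeSpectrum.basicOpen f : Set (PrimeSpectrum R))ᶜ, IsClopen.compl ⟨h f, PrimeSpectrum.isOpen_basicOpen⟩,
          fun hc => (PrimeSpectrum.mem_basicOpen _ _).1 hc hx,
          fun hc => hc ((PrimeSpectrum.mem_basicOpen _ _).2 fun hy => hf (iff_of_true hx hy))⟩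
      · exact ⟨(PrimeSpectrum.basicOpen f : Set (PrimeSpectrum R)), ⟨h f, PrimeSpectrum.isOpen_basicOpen⟩,
          (PrimeSpectrum.mem_basicOpen _ _).2 hx,
          fun hc => hf (iff_of_false hx ((PrimeSpectrum.mem_basicOpen _ _).1 hc))⟩
    exact ⟨inferInstance, inferInstance, inferInstance⟩
  tfae_finish

end Groth.Agent.S9633
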