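import Groth.Statements.S9634
import Mathlib
import Groth.Agent.FBase64.TensorField
import Groth.Agent.CAlg6.SepTensor
import Groth.Agent.CAlg1.Complete

set_option autoImplicit false
universe u
open CAlg
open Groth.Agent
open TensorProduct

namespace Groth.Agent.S9634

open TensorProduct in
/-- (1) ⇔ (4) ⇔ (5): for a field k and a k-algebra S the following are equivalent: (1) the ring k' ⊗_k S
is reduced whenever k'/k is a finite purely inseparable field extension; (4) S is geometrically
reduced in Mathlib's sense, which over a field amounts to k̄ ⊗_k S being reduced for an algebraic
closure k̄; (5) K ⊗_k S is reduced for all field extensions K/k. In (1) and (5) the test fields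
range over field extensions in the universe of k; this is equivalent to the unrestricted notion,
since an algebraic closure of k suffices as a test. -/
theorem result {k S : Type u} [Field k] [CommRing S] [Algebra k S] :
    [∀ (k' : Type u) [Field k'] [Algebra k k'] [Module.Finite k k'] [IsPurelyInseparable k k'], IsReduced (k' ⊗[k] S),
      Algebra.IsGeometricallyReduced k S,
      ∀ (K : Type u) [Field K] [Algebra k K], IsReduced (K ⊗[k] S)].TFAE := by
  tfae_have 1 → 2 := by
    intro h
    rw [Algebra.isGeometricallyReduced_field_iff]
    let P := perfectClosure k (AlgebraicClosure k)
    have : IsReduced (S ⊗[k] P) := by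
      refine IsReduced.tensorProduct_of_flat_of_forall_fg fun B hB => ?_
      have : Algebra.FiniteType k B := B.fg_iff_finiteType.mp hB
      have : Algebra.IsIntegral k B := ⟨fun x =>
        (isIntegral_algHom_iff B.val Subtype.val_injective).mp (Algebra.IsIntegral.isIntegral _)⟩
      have : Module.Finite k B := Algebra.IsIntegral.finite
      let F : Field B := (isField_of_isIntegral_of_isField' (R := k) (S := B) (Field.toIsField k)).toField
      let : Algebra B P := B.val.toRingHom.toAlgebra
      have : IsScalarTower k B P := IsScalarTower.of_algebraMap_eq fun _ => rfl
      have hpi : IsPurelyInseparable k B := IsPurelyInseparable.tower_bot k B P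
      have := @h B F B.algebra inferInstance hpi
      exact isReduced_of_injective (Algebra.TensorProduct.comm k S B) (AlgEquiv.injective _)
    have : IsReduced (P ⊗[k] S) :=
      isReduced_of_injective (Algebra.TensorProduct.comm k P S) (AlgEquiv.injective _)
    exact CAlg6.isReduced_tensor_of_perfect_base (P := P)
  tfae_have 2 → 3 := fun h K _ _ => FBase64.isReduced_tensor_of_geomReduced k S K
  tfae_have 3 → 1 := fun h k' _ _ _ _ => h k'
  tfae_finish

end Groth.Agent.S9634
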