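import Groth.Statements.S9635
import Mathlib
import Groth.Agent.FBase64.TensorField
import Groth.Agent.CAlg6.SepTensor
import Groth.Agent.CAlg1.Complete

set_option autoImplicit false
universe u
open CAlg
open Groth.Agent
open TensorProduct

namespace Groth.Agent.S9635

open TensorProduct in
/-- Let k ⊆ k' be fields with k' separable algebraic over k, and A a k'-algebra. Then A is geometrically
reduced over k (K ⊗_k A reduced for all field extensions K/k) if and only if A is geometrically
reduced over k' (K ⊗_{k'} A reduced for all field extensions K/k'). Here the test fields K range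
over field extensions (of k, respectively of k') in the common universe of k and k'; this is
equivalent to the unrestricted notions, since an algebraic closure of the base field suffices as a
test. -/
theorem result {k k' A : Type u} [Field k] [Field k'] [Algebra k k'] [Algebra.IsSeparable k k'] [CommRing A] [Algebra k' A] [Algebra k A] [IsScalarTower k k' A] :
    (∀ (K : Type u) [Field K] [Algebra k K], IsReduced (K ⊗[k] A)) ↔
      ∀ (K : Type u) [Field K] [Algebra k' K], IsReduced (K ⊗[k'] A) := by
  constructor
  · intro h K _ _
    let : Algebra k K := ((algebraMap k' K).comp (algebraMap k k')).toAlgebra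
    have : IsScalarTower k k' K := IsScalarTower.of_algebraMap_eq fun _ => rfl
    have := h K
    exact CAlg6.isReduced_tensor_of_isSeparable (k := k)
  · intro h K _ _
    have hgA : Algebra.IsGeometricallyReduced k' A :=
      (Algebra.isGeometricallyReduced_field_iff k' A).2 (h (AlgebraicClosure k'))
    have hred : IsReduced (K ⊗[k] k') := by
      refine IsReduced.tensorProduct_of_flat_of_forall_fg fun B hB => ?_
      have : Algebra.FiniteType k B := B.fg_iff_finiteType.mp hB
      have : Algebra.IsIntegral k B := ⟨fun x =>
        (isIntegral_algHom_iff B.val Subtype.val_injective).mp (Algebra.IsIntegral.isIntegral _)⟩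
      let : Field B := (isField_of_isIntegral_of_isField' (R := k) (S := B) (Field.toIsField k)).toField
      have : Algebra.IsSeparable k B := Algebra.IsSeparable.of_algHom k k' B.val
      have := Algebra.FormallyUnramified.of_isSeparable k B
      exact Algebra.FormallyUnramified.isReduced_of_field K (K ⊗[k] B)
    have : IsReduced (k' ⊗[k] K) :=
      isReduced_of_injective (Algebra.TensorProduct.comm k k' K) (AlgEquiv.injective _)
    have hB : IsReduced ((k' ⊗[k] K) ⊗[k'] A) :=
      FBase64.isReduced_tensor_of_geomReduced k' A (k' ⊗[k] K)
    have h1 : IsReduced (A ⊗[k'] (k' ⊗[k] K)) :=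
      isReduced_of_injective (Algebra.TensorProduct.comm k' A (k' ⊗[k] K)) (AlgEquiv.injective _)
    have h2 : IsReduced (A ⊗[k] K) :=
      isReduced_of_injective (Algebra.TensorProduct.cancelBaseChange k k' k' A K).symm
        (AlgEquiv.injective _)
    exact isReduced_of_injective (Algebra.TensorProduct.comm k K A) (AlgEquiv.injective _)

end Groth.Agent.S9635
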