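import Groth.Statements.S9636
import Mathlib

set_option autoImplicit false
universe u
open CAlg

namespace Groth.Agent.S9636

open TensorProduct in
/-- Let k'/k be a separable algebraic field extension. Then for some multiplicative subset S of k' ⊗_k
k' the multiplication map k' ⊗_k k' → k' is a localization at S: there is a ring isomorphism S⁻¹(k'
⊗_k k') ≅ k' carrying the localization map to the multiplication map. -/
theorem result {k k' : Type u} [Field k] [Field k'] [Algebra k k'] [Algebra.IsSeparable k k'] :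
    ∃ (S : Submonoid (k' ⊗[k] k')) (e : Localization S ≃+* k'), ∀ x : k' ⊗[k] k', e (algebraMap (k' ⊗[k] k') (Localization S) x) = Algebra.TensorProduct.lmul' (S := k') k x := by
  classical
  let μ := Algebra.TensorProduct.lmul' (S := k') k
  let P : Submonoid (k' ⊗[k] k') := (nonZeroDivisors k').comap μ
  let φ : Localization P →+* k' := IsLocalization.lift (M := P) (g := μ.toRingHom)
    (fun y => (mem_nonZeroDivisors_iff_ne_zero.1 y.2).isUnit)
  have hφ : ∀ x, φ (algebraMap _ _ x) = μ x := fun x => IsLocalization.lift_eq _ x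
  have hsurj : Function.Surjective φ := fun a => ⟨algebraMap _ _ (a ⊗ₜ[k] (1 : k')), by rw [hφ]; simp [μ]⟩
  have key : ∀ x : k' ⊗[k] k', μ x = 0 → ∃ s : P, (s : k' ⊗[k] k') * x = 0 := by
    intro x hx
    obtain ⟨fs, rfl⟩ := TensorProduct.exists_finset x
    let T : Set k' := ↑(fs.image Prod.fst ∪ fs.image Prod.snd)
    let L := IntermediateField.adjoin k T
    have : FiniteDimensional k L := IntermediateField.finiteDimensional_adjoin fun a _ => Algebra.IsIntegral.isIntegral a
    have : Algebra.IsSeparable k L := Algebra.isSeparable_tower_bot_of_isSeparable k L k'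
    obtain ⟨t, ht, ht1⟩ := (Algebra.FormallyUnramified.iff_exists_tensorProduct (R := k) (S := L)).1 (Algebra.FormallyUnramified.of_isSeparable k L)
    let ι := Algebra.TensorProduct.map L.val L.val
    have hι : ∀ a : L, ((1 : k') ⊗ₜ[k] (a : k') - (a : k') ⊗ₜ[k] (1 : k')) * ι t = 0 := fun a => by
      have := congrArg ι (ht a)
      rw [map_mul, map_sub, map_zero] at this
      simpa [ι] using this
    have hμ : μ (ι t) = 1 := by
      have hcomp : μ.comp ι = L.val.comp (Algebra.TensorProduct.lmul' (S := L) k) := by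
        apply Algebra.TensorProduct.ext' ; intro a b; simp [μ, ι]
      have := DFunLike.congr_fun hcomp t
      simp only [AlgHom.comp_apply, ht1, map_one] at this
      exact this
    refine ⟨⟨ι t, by show μ (ι t) ∈ nonZeroDivisors k'; rw [hμ]; exact one_mem _⟩, ?_⟩
    have hrw : ∀ a b : k', b ∈ L → ι t * (a ⊗ₜ[k] b) = ι t * ((a * b) ⊗ₜ[k] (1 : k')) := fun a b hb => by
      have := hι ⟨b, hb⟩
      have h2 : (a ⊗ₜ[k] b) = (a ⊗ₜ[k] (1 : k')) * ((1 : k') ⊗ₜ[k] b) := by simp
      have h3 : ((a * b) ⊗ₜ[k] (1 : k')) = (a ⊗ₜ[k] (1 : k')) * (b ⊗ₜ[k] (1 : k')) := by simp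
      rw [h2, h3]
      linear_combination (a ⊗ₜ[k] (1 : k')) * this
    show ι t * _ = 0
    rw [Finset.mul_sum, Finset.sum_congr rfl fun i hi => hrw i.1 i.2 (IntermediateField.subset_adjoin k T (Finset.mem_coe.2 (Finset.mem_union_right _ (Finset.mem_image_of_mem _ hi)))),
      ← Finset.mul_sum, ← TensorProduct.sum_tmul]
    have : (∑ i ∈ fs, i.1 * i.2) = 0 := by
      rw [← hx, map_sum]; simp [μ]
    rw [this, TensorProduct.zero_tmul, mul_zero]
  have hinj : Function.Injective φ := by
    rw [injective_iff_map_eq_zero]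
    intro z hz
    obtain ⟨⟨x, s⟩, hs⟩ := IsLocalization.surj P z
    have : μ x = 0 := by
      rw [← hφ, ← hs, map_mul, hz, zero_mul]
    obtain ⟨s', hs'⟩ := key x this
    have h0 : algebraMap _ (Localization P) x = 0 := (IsLocalization.map_eq_zero_iff P _ x).2 ⟨s', hs'⟩
    rw [h0] at hs
    exact ((IsLocalization.map_units (Localization P) s).mul_left_eq_zero).1 hs
  exact ⟨P, RingEquiv.ofBijective φ ⟨hinj, hsurj⟩, hφ⟩

end Groth.Agent.S9636
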