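import Groth.Statements.S9637
import Mathlib

set_option autoImplicit false
universe u
open CAlg

namespace Groth.Agent.S9637

/-- Let R be a local Noetherian ring, I an ideal contained in its maximal ideal, and M a finite
R-module. Then I contains an M-regular element (one acting injectively on M) if and only if no
associated prime of M contains I. -/
theorem result {R : Type u} [CommRing R] [IsNoetherianRing R] [IsLocalRing R] (I : Ideal R) (hI : I ≤ IsLocalRing.maximalIdeal R) (M : Type u) [AddCommGroup M] [Module R M] [Module.Finite R M] :
    (∃ x ∈ I, IsSMulRegular M x) ↔ ∀ q ∈ associatedPrimes R M, ¬ I ≤ q := by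
  have hfin := associatedPrimes.finite R M
  constructor
  · rintro ⟨x, hxI, hx⟩ q hq hle
    have : x ∈ ⋃ p ∈ associatedPrimes R M, (p : Set R) := Set.mem_biUnion hq (hle hxI)
    rw [biUnion_associatedPrimes_eq_zero_divisors] at this
    obtain ⟨m, hm, hm'⟩ := this
    exact hm (hx (hm'.trans (smul_zero x).symm))
  · intro h
    by_contra hc
    push Not at hc
    have : (I : Set R) ⊆ ⋃ p ∈ associatedPrimes R M, (p : Set R) := by
      intro x hx
      rw [biUnion_associatedPrimes_eq_zero_divisors]
      have := hc x hx
      rw [isSMulRegular_iff_right_eq_zero_of_smul] at this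
      push Not at this
      obtain ⟨m, h1, h2⟩ := this
      exact ⟨m, h2, h1⟩
    rw [← hfin.coe_toFinset] at this
    obtain ⟨q, hq, hle⟩ := (Ideal.subset_union_prime ⊤ ⊤ (fun p hp _ _ => by
      have := (hfin.mem_toFinset.1 hp)
      exact this.isPrime)).1 (by simpa using this)
    exact h q (hfin.mem_toFinset.1 hq) hle

end Groth.Agent.S9637
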