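import Groth.Statements.S9638
import Mathlib
import Groth.Agent.CAlg5.WeakAss

set_option autoImplicit false
universe u
open CAlg

namespace Groth.Agent.S9638

/-- Let R → S be a ring map with R a domain with fraction field K, and N an S-module flat over R.
Writing T for the image in S of the nonzero elements of R, so that T⁻¹S = S ⊗_R K and T⁻¹N = N ⊗_R
K, the associated primes of N over S (primes equal to the annihilator of an element) coincide with
those of T⁻¹N over S, and these are exactly the inverse images in S of the associated primes of T⁻¹N
over T⁻¹S. -/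
theorem result {R S : Type u} [CommRing R] [IsDomain R] [CommRing S] [Algebra R S] (N : Type u) [AddCommGroup N] [Module S N] [Module R N] [IsScalarTower R S N] [Module.Flat R N] :
    FlatCA.ass S N = FlatCA.ass S (LocalizedModule (Algebra.algebraMapSubmonoid S (nonZeroDivisors R)) N) ∧
      FlatCA.ass S N = Ideal.comap (algebraMap S (Localization (Algebra.algebraMapSubmonoid S (nonZeroDivisors R)))) '' FlatCA.ass (Localization (Algebra.algebraMapSubmonoid S (nonZeroDivisors R))) (LocalizedModule (Algebra.algebraMapSubmonoid S (nonZeroDivisors R)) N) := by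
  set T := Algebra.algebraMapSubmonoid S (nonZeroDivisors R) with hTdef
  let g := LocalizedModule.mkLinearMap T N
  have hreg : ∀ t ∈ T, ∀ x : N, t • x = 0 → x = 0 := by
    rintro _ ⟨r, hr, rfl⟩ x hx
    have hsm : algebraMap R S r • x = r • x := algebraMap_smul S r x
    rw [hsm] at hx
    rcases smul_eq_zero.1 hx with h | h
    · exact absurd h (nonZeroDivisors.ne_zero hr)
    · exact h
  have hinj : Function.Injective g := by
    rw [injective_iff_map_eq_zero]
    intro x hx
    obtain ⟨t, ht⟩ := (IsLocalizedModule.eq_zero_iff T g).1 hx
    exact hreg t t.2 x ht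
  have hann : ∀ (x : LocalizedModule T N) (m : N) (t : T), (t : S) • x = g m →
      (Submodule.span S {x}).annihilator = (Submodule.span S {m}).annihilator := by
    intro x m t htx
    ext r
    rw [Submodule.mem_annihilator_span_singleton, Submodule.mem_annihilator_span_singleton]
    constructor
    · intro h
      exact hinj (by rw [map_smul, ← htx, smul_comm, h, smul_zero, map_zero])
    · intro h
      refine IsLocalizedModule.smul_injective g t (?_ : t • (r • x) = t • (0 : LocalizedModule T N))
      rw [Submonoid.smul_def, Submonoid.smul_def, smul_zero, smul_comm, htx, ← map_smul, h, map_zero]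
  have h1 : FlatCA.ass S N = FlatCA.ass S (LocalizedModule T N) := by
    ext p
    constructor
    · rintro ⟨hp, m, rfl⟩
      exact ⟨hp, g m, (hann (g m) m 1 (one_smul _ _)).symm⟩
    · rintro ⟨hp, x, rfl⟩
      obtain ⟨⟨m, t⟩, ht⟩ := IsLocalizedModule.surj T g x
      exact ⟨hp, m, hann x m t ht⟩
  refine ⟨h1, ?_⟩
  rw [h1]
  apply Set.Subset.antisymm
  · rintro _ ⟨hp, x, rfl⟩
    have hd : Disjoint (T : Set S) ((Submodule.span S {x}).annihilator : Set S) := by
      rw [Set.disjoint_left]
      intro t ht htx
      have := hp.ne_top
      apply this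
      rw [SetLike.mem_coe, Submodule.mem_annihilator_span_singleton] at htx
      have hx : x = 0 := IsLocalizedModule.smul_injective g ⟨t, ht⟩
        (show (⟨t, ht⟩ : T) • x = (⟨t, ht⟩ : T) • (0 : LocalizedModule T N) by rw [Submonoid.smul_def, htx, smul_zero])
      rw [Ideal.eq_top_iff_one, Submodule.mem_annihilator_span_singleton, hx, smul_zero]
    have hc : ((Submodule.span (Localization T) {x}).annihilator).comap (algebraMap S (Localization T)) = (Submodule.span S {x}).annihilator := by
      ext r
      rw [Ideal.mem_comap, Submodule.mem_annihilator_span_singleton, Submodule.mem_annihilator_span_singleton, algebraMap_smul]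
    refine ⟨_, ⟨?_, x, rfl⟩, hc⟩
    rw [IsLocalization.isPrime_iff_isPrime_disjoint T (Localization T)]
    rw [show Ideal.under S ((Submodule.span (Localization T) {x}).annihilator) = (Submodule.span S {x}).annihilator from hc]
    exact ⟨hp, hd⟩
  · rintro _ ⟨q, ⟨hq, x, rfl⟩, rfl⟩
    refine ⟨Ideal.comap_isPrime _ _, x, ?_⟩
    ext r
    rw [Ideal.mem_comap, Submodule.mem_annihilator_span_singleton, Submodule.mem_annihilator_span_singleton, algebraMap_smul]

end Groth.Agent.S9638
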