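import Groth.Statements.S9639
import Mathlib
import Groth.Agent.CAlg6.GeomTensor

set_option autoImplicit false
universe u
open CAlg
open Groth.Agent

namespace Groth.Agent.S9639

open TensorProduct in
/-- Let k be a field and S a k-algebra such that Spec(k' ⊗_k S) is connected for every field extension
k'/k. Then every k-subalgebra of S has the same property. Here the test fields range over field
extensions in the universe of k; this is equivalent to the unrestricted notion, since an algebraic
closure of k suffices as a test. -/
theorem result {k S : Type u} [Field k] [CommRing S] [Algebra k S]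
    (hS : ∀ (k' : Type u) [Field k'] [Algebra k k'], ConnectedSpace (PrimeSpectrum (k' ⊗[k] S))) (S' : Subalgebra k S) :
    ∀ (k' : Type u) [Field k'] [Algebra k k'], ConnectedSpace (PrimeSpectrum (k' ⊗[k] S')) := by
  intro k' _ _
  obtain ⟨hnt, hid⟩ := (CAlg6.connectedSpace_iff_idempotent _).1 (hS k')
  let f := Algebra.TensorProduct.map (AlgHom.id k k') S'.val
  have hf : Function.Injective f :=
    Module.Flat.lTensor_preserves_injective_linearMap (M := k') S'.val.toLinearMap Subtype.val_injective
  refine (CAlg6.connectedSpace_iff_idempotent _).2 ⟨?_, fun e he => ?_⟩
  · exact RingHom.domain_nontrivial (f.toRingHom)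
  · rcases hid (f e) (he.map f) with h | h
    · exact .inl (hf (h.trans (map_zero f).symm))
    · exact .inr (hf (h.trans (map_one f).symm))

end Groth.Agent.S9639
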