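import Groth.Statements.S9640
import Mathlib
import Groth.Agent.CAlg5.WeakAss

set_option autoImplicit false
universe u
open CAlg

namespace Groth.Agent.S9640

/-- Let R → S be a ring map with R a domain with fraction field K and N an S-module flat over R. Writing
T for the image in S of the nonzero elements of R, so that T⁻¹S = S ⊗_R K and T⁻¹N = N ⊗_R K, the
primes of S weakly associated to N are exactly the inverse images in S of the primes of T⁻¹S weakly
associated to T⁻¹N. -/
theorem result {R S : Type u} [CommRing R] [IsDomain R] [CommRing S] [Algebra R S] (N : Type u) [AddCommGroup N] [Module S N] [Module R N] [IsScalarTower R S N] [Module.Flat R N] :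
    FlatCA.weakAss S N = Ideal.comap (algebraMap S (Localization (Algebra.algebraMapSubmonoid S (nonZeroDivisors R)))) '' FlatCA.weakAss (Localization (Algebra.algebraMapSubmonoid S (nonZeroDivisors R))) (LocalizedModule (Algebra.algebraMapSubmonoid S (nonZeroDivisors R)) N) := by
  set T := Algebra.algebraMapSubmonoid S (nonZeroDivisors R) with hTdef
  let g := LocalizedModule.mkLinearMap T N
  have hreg : ∀ t ∈ T, ∀ x : N, t • x = 0 → x = 0 := by
    rintro _ ⟨r, hr, rfl⟩ x hx
    have hsm : algebraMap R S r • x = r • x := algebraMap_smul S r x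
    rw [hsm] at hx
    rcases smul_eq_zero.1 hx with h | h
    · exact absurd h (nonZeroDivisors.ne_zero hr)
    · exact h
  have hdisj : ∀ p ∈ FlatCA.weakAss S N, Disjoint (T : Set S) (p : Set S) := by
    intro p hp
    have := Groth.Agent.CAlg5.weakAss_isPrime hp
    obtain ⟨m, h1, h2⟩ := Groth.Agent.CAlg5.mem_weakAss_iff.1 hp
    rw [Set.disjoint_left]
    intro t ht htp
    obtain ⟨s, hs, n, hn⟩ := h2 t htp
    rw [mul_comm, mul_smul] at hn
    exact hs (h1 s (hreg _ (pow_mem ht n) _ hn))
  apply Set.Subset.antisymm
  · intro p hp
    have hpp := Groth.Agent.CAlg5.weakAss_isPrime hp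
    have hd := hdisj p hp
    let q := p.map (algebraMap S (Localization T))
    have : q.IsPrime := IsLocalization.isPrime_of_isPrime_disjoint T (Localization T) p hpp hd
    have hq : q.comap (algebraMap S (Localization T)) = p := IsLocalization.under_map_of_isPrime_disjoint T (Localization T) hpp hd
    refine ⟨q, ?_, hq⟩
    rw [Groth.Agent.CAlg5.mem_weakAss_iff_comap_mem T (R' := Localization T), hq]
    exact (Groth.Agent.CAlg5.mem_weakAss_localized_iff T g hd).1 hp
  · rintro _ ⟨q, hq, rfl⟩
    have := Groth.Agent.CAlg5.weakAss_isPrime hq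
    have hd : Disjoint (T : Set S) (q.comap (algebraMap S (Localization T)) : Set S) := by
      rw [Set.disjoint_left]
      intro t ht htq
      exact Ideal.IsPrime.ne_top ‹q.IsPrime› (Ideal.eq_top_of_isUnit_mem q htq (IsLocalization.map_units (Localization T) ⟨t, ht⟩))
    rw [Groth.Agent.CAlg5.mem_weakAss_localized_iff T g hd]
    exact (Groth.Agent.CAlg5.mem_weakAss_iff_comap_mem T (R' := Localization T)).1 hq

end Groth.Agent.S9640
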