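import Groth.Statements.S9641
import Mathlib

set_option autoImplicit false
universe u
open CAlg

namespace Groth.Agent.S9641

open TensorProduct in
/-- Let k be a field and R, S two k-algebras. If R ⊗_k S is not reduced then there are finitely
generated k-subalgebras R' ⊆ R and S' ⊆ S such that R' ⊗_k S' is not reduced. -/
theorem result {k R S : Type u} [Field k] [CommRing R] [CommRing S] [Algebra k R] [Algebra k S] (h : ¬ IsReduced (R ⊗[k] S)) :
    ∃ (R' : Subalgebra k R) (S' : Subalgebra k S), R'.FG ∧ S'.FG ∧ ¬ IsReduced (R' ⊗[k] S') := by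
  classical
  obtain ⟨x, hnil, hx0⟩ : ∃ x : R ⊗[k] S, IsNilpotent x ∧ x ≠ 0 := by
    rw [isReduced_iff] at h; push Not at h; exact h
  obtain ⟨S', R', hR, hS, hxx⟩ : ∃ (S' : Subalgebra k S) (R' : Subalgebra k R), R'.FG ∧ S'.FG ∧ x ∈ Set.range (Algebra.TensorProduct.map R'.val S'.val) := by
    obtain ⟨s, rfl⟩ := TensorProduct.exists_finset x
    refine ⟨Algebra.adjoin k ↑(s.image Prod.snd), Algebra.adjoin k ↑(s.image Prod.fst), ⟨_, rfl⟩, ⟨_, rfl⟩, ?_⟩
    refine ⟨∑ i ∈ s.attach, ⟨i.1.1, Algebra.subset_adjoin (Finset.mem_coe.2 (Finset.mem_image_of_mem _ i.2))⟩ ⊗ₜ ⟨i.1.2, Algebra.subset_adjoin (Finset.mem_coe.2 (Finset.mem_image_of_mem _ i.2))⟩, ?_⟩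
    rw [map_sum]
    simp only [Algebra.TensorProduct.map_tmul, Subalgebra.coe_val]
    exact Finset.sum_attach s (fun i => i.1 ⊗ₜ i.2)
  refine ⟨R', S', hR, hS, fun hred => hx0 ?_⟩
  obtain ⟨y, rfl⟩ := hxx
  have hinj : Function.Injective (Algebra.TensorProduct.map R'.val S'.val) :=
    TensorProduct.map_injective_of_flat_flat R'.val.toLinearMap S'.val.toLinearMap Subtype.val_injective Subtype.val_injective
  have : IsNilpotent y := (IsNilpotent.map_iff hinj).1 hnil
  rw [this.eq_zero, map_zero]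

end Groth.Agent.S9641
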