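import Groth.Statements.S9642
import Mathlib

set_option autoImplicit false
universe u
open CAlg

namespace Groth.Agent.S9642

/-- In the general form stated there: let R → S be a ring map inducing an open map Spec(S) → Spec(R),
with Spec(R) irreducible, such that for a dense set of primes p of R the fibre ring κ(p) ⊗_R S has
irreducible spectrum. Then Spec(S) is irreducible. The flat and finitely presented case is the
special case in which the map on spectra is open by fppf-openness. -/
theorem result {R S : Type u} [CommRing R] [CommRing S] [Algebra R S]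
    (hopen : IsOpenMap (PrimeSpectrum.comap (algebraMap R S))) [IrreducibleSpace (PrimeSpectrum R)]
    (D : Set (PrimeSpectrum R)) (hD : Dense D) (hfib : ∀ p ∈ D, IrreducibleSpace (PrimeSpectrum (p.asIdeal.Fiber S))) :
    IrreducibleSpace (PrimeSpectrum S) := by
  let φ := PrimeSpectrum.comap (algebraMap R S)
  have hfibirr : ∀ p ∈ D, IrreducibleSpace ↥(φ ⁻¹' {p}) := fun p hp =>
    (PrimeSpectrum.preimageHomeomorphFiber R S p).irreducibleSpace_iff.2 (hfib p hp)
  have hne : Nonempty (PrimeSpectrum S) := by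
    obtain ⟨p, hp⟩ := hD.nonempty
    obtain ⟨x⟩ := (hfibirr p hp).toNonempty
    exact ⟨x.1⟩
  have : PreirreducibleSpace (PrimeSpectrum S) := by
    refine ⟨fun U V hU hV hUne hVne => ?_⟩
    rw [Set.univ_inter] at hUne hVne
    obtain ⟨w, hwU, hwV⟩ : (φ '' U ∩ φ '' V).Nonempty :=
      nonempty_preirreducible_inter (hopen U hU) (hopen V hV) (hUne.image _) (hVne.image _)
    obtain ⟨p, hpUV, hpD⟩ := hD.inter_open_nonempty _ ((hopen U hU).inter (hopen V hV)) ⟨w, hwU, hwV⟩
    obtain ⟨⟨a, ha, hap⟩, ⟨b, hb, hbp⟩⟩ := hpUV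
    have := hfibirr p hpD
    obtain ⟨z, hz⟩ := nonempty_preirreducible_inter (X := ↥(φ ⁻¹' {p})) (hU.preimage continuous_subtype_val) (hV.preimage continuous_subtype_val)
      ⟨⟨a, hap⟩, ha⟩ ⟨⟨b, hbp⟩, hb⟩
    exact ⟨z.1, trivial, hz⟩
  exact { this with toNonempty := hne }

end Groth.Agent.S9642
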