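import Groth.Statements.S9643
import Mathlib

set_option autoImplicit false
universe u
open CAlg

namespace Groth.Agent.S9643

/-- Let R be a Noetherian ring, M a finite R-module and 0 = M_0 ⊆ M_1 ⊆ ⋯ ⊆ M_n = M a chain of
submodules whose successive quotients M_i/M_{i-1} are isomorphic to R/p_i for prime ideals p_i. Then
the primes minimal among p_1, …, p_n are exactly the primes minimal in the support of M. -/
theorem result {R : Type u} [CommRing R] [IsNoetherianRing R] (M : Type u) [AddCommGroup M] [Module R M] [Module.Finite R M]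
    {n : ℕ} (N : Fin (n + 1) → Submodule R M) (hN : Monotone N) (h0 : N 0 = ⊥) (hlast : N (Fin.last n) = ⊤)
    (p : Fin n → PrimeSpectrum R)
    (hquot : ∀ i : Fin n, Nonempty ((↥(N i.succ) ⧸ Submodule.comap (N i.succ).subtype (N i.castSucc)) ≃ₗ[R] (R ⧸ (p i).asIdeal))) :
    {q : PrimeSpectrum R | Minimal (fun x => x ∈ Set.range p) q} = {q : PrimeSpectrum R | Minimal (fun x => x ∈ Module.support R M) q} := by
  have key : ∀ i : Fin (n + 1), Module.support R (N i) = ⋃ j : Fin n, ⋃ _ : j.castSucc < i, PrimeSpectrum.zeroLocus ((p j).asIdeal : Set R) := by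
    intro i
    induction i using Fin.induction with
    | zero =>
      rw [h0]
      have : Subsingleton (⊥ : Submodule R M) := inferInstance
      rw [Module.support_eq_empty_iff.2 this]
      simp
    | succ i ih =>
      let f : N i.castSucc →ₗ[R] N i.succ := Submodule.inclusion (hN (Fin.le_of_lt i.castSucc_lt_succ))
      let g := (Submodule.comap (N i.succ).subtype (N i.castSucc)).mkQ
      have hex : Function.Exact f g := by
        intro y
        simp only [g, Submodule.mkQ_apply, Submodule.Quotient.mk_eq_zero, Submodule.mem_comap, Submodule.subtype_apply, Set.mem_range]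
        exact ⟨fun h => ⟨⟨_, h⟩, rfl⟩, fun ⟨x, hx⟩ => hx ▸ x.2⟩
      rw [Module.support_of_exact hex (Submodule.inclusion_injective _) (Submodule.mkQ_surjective _)]
      obtain ⟨e⟩ := hquot i
      rw [e.support_eq, ih, Module.support_eq_zeroLocus, Ideal.annihilator_quotient]
      ext q
      simp only [Set.mem_union, Set.mem_iUnion, Fin.lt_def, Fin.val_castSucc, Fin.val_succ]
      constructor
      · rintro (⟨j, hj, hq⟩ | hq)
        · exact ⟨j, by omega, hq⟩
        · exact ⟨i, by omega, hq⟩
      · rintro ⟨j, hj, hq⟩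
        rcases lt_or_eq_of_le (Nat.lt_succ_iff.1 hj) with h | h
        · exact .inl ⟨j, h, hq⟩
        · exact .inr (Fin.ext h ▸ hq)
  have hsupp : Module.support R M = ⋃ j : Fin n, PrimeSpectrum.zeroLocus ((p j).asIdeal : Set R) := by
    rw [← Submodule.topEquiv.support_eq, ← hlast, key]
    simp [Fin.castSucc_lt_last]
  have hmem : ∀ q, q ∈ Module.support R M ↔ ∃ j, p j ≤ q := fun q => by
    rw [hsupp, Set.mem_iUnion]; rfl
  ext q
  constructor
  · rintro ⟨⟨j, rfl⟩, hmin⟩
    refine ⟨(hmem _).2 ⟨j, le_rfl⟩, fun y hy hyle => ?_⟩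
    obtain ⟨l, hl⟩ := (hmem _).1 hy
    exact (hmin ⟨l, rfl⟩ (hl.trans hyle)).trans hl
  · rintro ⟨hq, hmin⟩
    obtain ⟨j, hj⟩ := (hmem _).1 hq
    have : p j = q := le_antisymm hj (hmin ((hmem _).2 ⟨j, le_rfl⟩) hj)
    refine ⟨⟨j, this⟩, fun y hy hyle => ?_⟩
    obtain ⟨l, rfl⟩ := hy
    exact hmin ((hmem _).2 ⟨l, le_rfl⟩) hyle

end Groth.Agent.S9643
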