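import Groth.Statements.S9644
import Mathlib
import Groth.Agent.CAlg6.PSEndo

set_option autoImplicit false
universe u
open CAlg

namespace Groth.Agent.S9644

/-- Let R be a Noetherian ring and M a finite R-module. Among the submodules K' of M whose support is
nowhere dense inside Supp(M) there is a largest one, K. The quotient M' = M/K then satisfies
Supp(M') = Supp(M), its associated primes are pairwise incomparable (no embedded ones), and whenever
f ∈ R belongs to every embedded associated prime of M the localized map M_f → M'_f is bijective. -/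
theorem result {R : Type u} [CommRing R] [IsNoetherianRing R] (M : Type u) [AddCommGroup M] [Module R M] [Module.Finite R M] :
    ∃ K : Submodule R M,
      IsGreatest {K' : Submodule R M | ∀ U : Set (PrimeSpectrum R), IsOpen U → U ∩ Module.support R M ⊆ closure (Module.support R ↥K') → U ∩ Module.support R M = ∅} K ∧
      Module.support R (M ⧸ K) = Module.support R M ∧
      (∀ p ∈ associatedPrimes R (M ⧸ K), ∀ q ∈ associatedPrimes R (M ⧸ K), p ≤ q → p = q) ∧
      ∀ f : R, (∀ p ∈ associatedPrimes R M, ¬ Minimal (fun x => x ∈ associatedPrimes R M) p → f ∈ p) →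
        Function.Bijective (LocalizedModule.map (Submonoid.powers f) K.mkQ) := by
  classical
  let Q : Set (PrimeSpectrum R) := {q | Minimal (fun x => x ∈ Module.support R M) q}
  let W : Submodule R M → Prop := fun K' => ∀ q ∈ Q, q ∉ Module.support R K'
  let loc : ∀ q : PrimeSpectrum R, M →ₗ[R] LocalizedModule q.asIdeal.primeCompl M := fun q => LocalizedModule.mkLinearMap _ _
  let K : Submodule R M := ⨅ q : Q, LinearMap.ker (loc q.1)
  have hQmin : ∀ q, q ∈ Q ↔ q.asIdeal ∈ (Module.annihilator R M).minimalPrimes := by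
    intro q
    simp only [Q, Set.mem_ofPred_eq, Module.support_eq_zeroLocus, PrimeSpectrum.mem_zeroLocus, SetLike.coe_subset_coe]
    constructor
    · rintro ⟨h1, h2⟩
      exact ⟨⟨q.isPrime, h1⟩, fun I hI hle => h2 (y := ⟨I, hI.1⟩) hI.2 hle⟩
    · rintro ⟨⟨_, h1⟩, h2⟩
      exact ⟨h1, fun y hy hle => h2 ⟨y.isPrime, hy⟩ hle⟩
  have hQfin : Q.Finite := ((Ideal.finite_minimalPrimes_of_isNoetherianRing R (Module.annihilator R M)).preimage
      (fun a _ b _ h => PrimeSpectrum.ext h)).subset fun q hq => (hQmin q).1 hq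
  have hexQ : ∀ x ∈ Module.support R M, ∃ q ∈ Q, q ≤ x := by
    intro x hx
    rw [Module.support_eq_zeroLocus, PrimeSpectrum.mem_zeroLocus, SetLike.coe_subset_coe] at hx
    obtain ⟨I, hI, hle⟩ := Ideal.exists_minimalPrimes_le hx
    exact ⟨⟨I, hI.1.1⟩, (hQmin _).2 hI, hle⟩
  -- the condition on supports
  have hW : ∀ K' : Submodule R M, (∀ U : Set (PrimeSpectrum R), IsOpen U → U ∩ Module.support R M ⊆ closure (Module.support R K') → U ∩ Module.support R M = ∅) ↔ W K' := by
    intro K'
    have hcl : closure (Module.support R K') = Module.support R K' := Module.isClosed_support.closure_eq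
    rw [hcl]
    constructor
    · intro h q hq hqK
      let U : Set (PrimeSpectrum R) := (⋃ q' ∈ Q \ {q}, PrimeSpectrum.zeroLocus (q'.asIdeal : Set R))ᶜ
      have hU : IsOpen U := ((hQfin.diff).isClosed_biUnion fun q' _ => PrimeSpectrum.isClosed_zeroLocus _).isOpen_compl
      have hqU : q ∈ U := by
        simp only [U, Set.mem_compl_iff, Set.mem_iUnion, not_exists]
        intro q' hq' hle
        exact hq'.2 (le_antisymm hle (hq.2 hq'.1.1 hle))
      have := h U hU (fun x ⟨hxU, hxM⟩ => by
        obtain ⟨q', hq', hle⟩ := hexQ x hxM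
        by_cases he : q' = q
        · exact Module.mem_support_mono (he ▸ hle) hqK
        · exact absurd (Set.mem_biUnion (show q' ∈ Q \ {q} from ⟨hq', he⟩) (show x ∈ PrimeSpectrum.zeroLocus (q'.asIdeal : Set R) from hle)) hxU)
      exact Set.eq_empty_iff_forall_notMem.1 this q ⟨hqU, hq.1⟩
    · intro h U hU hsub
      rw [Set.eq_empty_iff_forall_notMem]
      rintro x ⟨hxU, hxM⟩
      obtain ⟨q, hq, hle⟩ := hexQ x hxM
      have hqU : q ∈ U := ((PrimeSpectrum.le_iff_specializes q x).1 hle).mem_open hU hxU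
      exact h q hq (hsub ⟨hqU, hq.1⟩)
  have hker : ∀ (q : PrimeSpectrum R) (m : M), loc q m = 0 ↔ ∃ r ∉ q.asIdeal, r • m = 0 := by
    intro q m
    rw [IsLocalizedModule.eq_zero_iff q.asIdeal.primeCompl (loc q)]
    exact ⟨fun ⟨⟨r, hr⟩, h⟩ => ⟨r, hr, h⟩, fun ⟨r, hr, h⟩ => ⟨⟨r, hr⟩, h⟩⟩
  have hKW : W K := by
    intro q hq hqK
    rw [Module.mem_support_iff'] at hqK
    obtain ⟨⟨m, hm⟩, hm'⟩ := hqK
    obtain ⟨r, hr, hrm⟩ := (hker q m).1 (by simpa using (Submodule.mem_iInf _).1 hm ⟨q, hq⟩)
    exact hm' r hr (Subtype.ext hrm)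
  have hKtop : ∀ K', W K' → K' ≤ K := by
    intro K' hK' m hm
    rw [Submodule.mem_iInf]
    rintro ⟨q, hq⟩
    rw [LinearMap.mem_ker, hker]
    have := hK' q hq
    rw [Module.notMem_support_iff'] at this
    obtain ⟨r, hr, h⟩ := this ⟨m, hm⟩
    exact ⟨r, hr, congrArg Subtype.val h⟩
  have hsupp : Module.support R (M ⧸ K) = Module.support R M := by
    refine Set.Subset.antisymm (Module.support_subset_of_surjective K.mkQ K.mkQ_surjective) fun x hx => ?_
    obtain ⟨q, hq, hle⟩ := hexQ x hx
    refine Module.mem_support_mono hle ?_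
    have hu := hq.1
    rw [Module.support_of_exact (LinearMap.exact_subtype_mkQ K) K.injective_subtype K.mkQ_surjective] at hu
    exact hu.resolve_left (hKW q hq)
  have hass : ∀ P ∈ associatedPrimes R (M ⧸ K), ∃ q ∈ Q, q.asIdeal = P := by
    intro P hP
    obtain ⟨hPp, x, hx⟩ := isAssociatedPrime_iff.1 hP
    obtain ⟨m, rfl⟩ := Submodule.Quotient.mk_surjective K x
    let A : PrimeSpectrum R → Ideal R := fun q => LinearMap.ker ((loc q).comp (LinearMap.toSpanSingleton R M m))
    have hA : P = hQfin.toFinset.inf A := by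
      rw [hx]; ext r
      rw [Submodule.mem_colon_singleton, Submodule.mem_bot, ← Submodule.Quotient.mk_smul, Submodule.Quotient.mk_eq_zero, Submodule.mem_iInf, Submodule.mem_finsetInf]
      simp [A, LinearMap.mem_ker]
    obtain ⟨q, hq, hle⟩ := hPp.inf_le'.1 hA.ge
    rw [Set.Finite.mem_toFinset] at hq
    have hAP : A q = P := le_antisymm hle (hA.le.trans (Finset.inf_le (hQfin.mem_toFinset.2 hq)))
    have hne : loc q m ≠ 0 := fun h => hPp.ne_top (by
      rw [← hAP, Ideal.eq_top_iff_one]; simp [A, h])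
    have hPq : P ≤ q.asIdeal := by
      intro r hr
      rw [← hAP] at hr
      simp only [A, LinearMap.mem_ker, LinearMap.comp_apply, LinearMap.toSpanSingleton_apply] at hr
      by_contra hc
      obtain ⟨t, ht, h0⟩ := (hker q (r • m)).1 hr
      exact hne ((hker q m).2 ⟨t * r, q.asIdeal.primeCompl.mul_mem ht hc, by rw [mul_smul, h0]⟩)
    have hPS : (⟨P, hPp⟩ : PrimeSpectrum R) ∈ Module.support R M := by
      rw [← hsupp, Module.mem_support_iff']
      exact ⟨Submodule.Quotient.mk m, fun r hr h0 => hr (show r ∈ P by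
        rw [hx, Submodule.mem_colon_singleton, Submodule.mem_bot]; exact h0)⟩
    exact ⟨q, hq, le_antisymm (hq.2 hPS hPq) hPq⟩
  refine ⟨K, ⟨(hW K).2 hKW, fun K' hK' => hKtop K' ((hW K').1 hK')⟩, hsupp, ?_, ?_⟩
  · intro p hp q hq hpq
    obtain ⟨a, ha, rfl⟩ := hass p hp
    obtain ⟨b, hb, rfl⟩ := hass q hq
    exact le_antisymm hpq (hb.2 ha.1 hpq)
  · intro f hf
    have hzero : ∀ x ∈ Module.support R K, f ∈ x.asIdeal := by
      intro x hx
      rw [Module.support_eq_zeroLocus, PrimeSpectrum.mem_zeroLocus, SetLike.coe_subset_coe] at hx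
      obtain ⟨P, hP, hle⟩ := Ideal.exists_minimalPrimes_le hx
      have hPK : P ∈ associatedPrimes R K := Module.associatedPrimes.minimalPrimes_annihilator_subset_associatedPrimes R K hP
      have hPM : P ∈ associatedPrimes R M := associatedPrimes.subset_of_injective K.injective_subtype hPK
      refine hle (hf P hPM fun hmin => ?_)
      have hPp := hP.1.1
      have hsK : (⟨P, hPp⟩ : PrimeSpectrum R) ∈ Module.support R K := by
        rw [Module.support_eq_zeroLocus]; exact hP.1.2
      obtain ⟨q, hq, hqle⟩ := hexQ ⟨P, hPp⟩ (Module.support_subset_of_injective K.subtype K.injective_subtype hsK)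
      have hqM : q.asIdeal ∈ associatedPrimes R M := Module.associatedPrimes.minimalPrimes_annihilator_subset_associatedPrimes R M ((hQmin q).1 hq)
      have he : q = ⟨P, hPp⟩ := PrimeSpectrum.ext (le_antisymm hqle (hmin.2 hqM hqle))
      exact hKW q hq (he ▸ hsK)
    obtain ⟨N, hN⟩ : ∃ N, f ^ N ∈ Module.annihilator R K := by
      show f ∈ (Module.annihilator R K).radical
      rw [← PrimeSpectrum.vanishingIdeal_zeroLocus_eq_radical, PrimeSpectrum.mem_vanishingIdeal]
      exact fun x hx => hzero x (by rw [Module.support_eq_zeroLocus]; exact hx)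
    refine ⟨?_, LocalizedModule.map_surjective _ K.mkQ K.mkQ_surjective⟩
    rw [injective_iff_map_eq_zero]
    intro z hz
    induction z using LocalizedModule.induction_on with
    | h m s =>
      rw [LocalizedModule.map_mk, ← LocalizedModule.zero_mk 1, LocalizedModule.mk_eq] at hz
      obtain ⟨⟨t, ht⟩, hz⟩ := hz
      simp only [one_smul, smul_zero] at hz
      rw [Submonoid.mk_smul, ← map_smul, Submodule.mkQ_apply, Submodule.Quotient.mk_eq_zero] at hz
      rw [← LocalizedModule.zero_mk 1, LocalizedModule.mk_eq]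
      refine ⟨⟨f ^ N * t, mul_mem ⟨N, rfl⟩ ht⟩, ?_⟩
      simp only [one_smul, smul_zero]
      rw [Submonoid.mk_smul, mul_smul]
      exact congrArg Subtype.val (Module.mem_annihilator.1 hN ⟨t • m, hz⟩)

end Groth.Agent.S9644
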