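import Groth.Statements.S9645
import Mathlib

set_option autoImplicit false
universe u
open CAlg

namespace Groth.Agent.S9645

/-- Integral closure commutes with localization. Let A → B be a ring map, S a multiplicative subset of
A, and A_S, B_S the localizations of A at S and of B at the image of S. Then an element x of B_S is
integral over A_S if and only if x·s = b for some s ∈ S and some b ∈ B integral over A (images taken
in B_S); that is, the integral closure of A_S in B_S is S⁻¹B' for B' the integral closure of A in B. -/
theorem result {A B As Bs : Type u} [CommRing A] [CommRing B] [CommRing As] [CommRing Bs] [Algebra A B] [Algebra A As] [Algebra B Bs] [Algebra As Bs] [Algebra A Bs] [IsScalarTower A B Bs] [IsScalarTower A As Bs]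
    (S : Submonoid A) [IsLocalization S As] [IsLocalization (Algebra.algebraMapSubmonoid B S) Bs] (x : Bs) :
    IsIntegral As x ↔ ∃ b : B, IsIntegral A b ∧ ∃ s ∈ S, x * algebraMap A Bs s = algebraMap B Bs b := by
  constructor
  · intro hx
    obtain ⟨⟨s₂, hs₂⟩, h2⟩ := IsIntegral.exists_multiple_integral_of_isLocalization S x hx
    obtain ⟨⟨b, ⟨_, s₁, hs₁, rfl⟩⟩, hb⟩ := IsLocalization.surj (Algebra.algebraMapSubmonoid B S) x
    simp only [← IsScalarTower.algebraMap_apply] at hb
    rw [Submonoid.smul_def, Algebra.smul_def] at h2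
    obtain ⟨s₃, hs₃, h3⟩ := IsLocalization.exists_isIntegral_smul_of_isIntegral_map (Sₘ := Bs) S (x := s₂ • b) (by
      rw [Algebra.smul_def, map_mul, ← IsScalarTower.algebraMap_apply, ← hb, ← mul_assoc]
      exact h2.mul isIntegral_algebraMap)
    refine ⟨_, h3, s₁ * s₂ * s₃, mul_mem (mul_mem hs₁ hs₂) hs₃, ?_⟩
    simp only [Algebra.smul_def, map_mul, ← IsScalarTower.algebraMap_apply, ← hb]
    ring
  · rintro ⟨b, hb, s, hs, he⟩
    have hu : IsUnit (algebraMap A As s) := IsLocalization.map_units As ⟨s, hs⟩
    have : x = algebraMap As Bs ↑hu.unit⁻¹ * algebraMap B Bs b := by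
      rw [← he, mul_left_comm, IsScalarTower.algebraMap_apply A As Bs, ← map_mul, IsUnit.val_inv_mul, map_one, mul_one]
    rw [this]
    exact isIntegral_algebraMap.mul ((hb.map (IsScalarTower.toAlgHom A B Bs)).tower_top)

end Groth.Agent.S9645
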