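import Groth.Statements.S9646
import Groth.Agent.S9645
import Mathlib

set_option autoImplicit false
universe u
open CAlg

namespace Groth.Agent.S9646

/-- (2) ⇒ (1): let R → S be a ring map and x ∈ S. If for every prime ideal p of R the image of x in S_p
(the localization of S at the image of R ∖ p) is integral over R_p, then x is integral over R. Here
R_p and S_p are any rings satisfying the localization universal properties. -/
theorem result {R S : Type u} [CommRing R] [CommRing S] [Algebra R S] (x : S)
    (h : ∀ (p : Ideal R) [p.IsPrime] (Rp Sp : Type u) [CommRing Rp] [CommRing Sp] [Algebra R Rp] [Algebra S Sp] [Algebra Rp Sp] [Algebra R Sp] [IsScalarTower R S Sp] [IsScalarTower R Rp Sp] [IsLocalization.AtPrime Rp p] [IsLocalization (Algebra.algebraMapSubmonoid S p.primeCompl) Sp], IsIntegral Rp (algebraMap S Sp x)) :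
    IsIntegral R x := by
  let J : Ideal R := (integralClosure R S).toSubmodule.comap ((LinearMap.id (R := R) (M := R)).smulRight x)
  suffices J = ⊤ by
    have h1 : (1 : R) • x ∈ integralClosure R S := (Ideal.eq_top_iff_one J).1 this
    rwa [one_smul] at h1
  by_contra hJ
  obtain ⟨p, hp, hJp⟩ := Ideal.exists_le_maximal J hJ
  have := hp.isPrime
  let Sp := Localization (Algebra.algebraMapSubmonoid S p.primeCompl)
  have hi := h p (Localization.AtPrime p) Sp
  obtain ⟨b, hb, t, ht, he⟩ := (Groth.Agent.S9645.result (A := R) (B := S) (As := Localization.AtPrime p) (Bs := Sp) p.primeCompl (algebraMap S Sp x)).1 hi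
  rw [IsScalarTower.algebraMap_apply R S Sp, ← map_mul] at he
  obtain ⟨⟨_, u, hu, rfl⟩, hueq⟩ := (IsLocalization.eq_iff_exists (Algebra.algebraMapSubmonoid S p.primeCompl) Sp).1 he
  have hmem : u * t ∈ J := by
    show (u * t) • x ∈ integralClosure R S
    rw [show (u * t) • x = algebraMap R S u * b by
      rw [Algebra.smul_def, map_mul, mul_assoc, mul_comm _ x]; exact hueq]
    exact mul_mem (Subalgebra.algebraMap_mem _ u) hb
  exact (mul_mem (S := Submonoid R) hu ht : u * t ∈ p.primeCompl) (hJp hmem)

end Groth.Agent.S9646
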