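import Groth.Statements.S9647
import Mathlib
import Groth.Agent.CAlg6.GeomTensor

set_option autoImplicit false
set_option maxHeartbeats 1000000
universe u
open CAlg
open Groth.Agent

namespace Groth.Agent.S9647

open TensorProduct in
/-- Let K/k be a field extension and k^sep a separable algebraic closure of k. Then the automorphism
group of k^sep over k acts transitively on the primes of k^sep ⊗_k K: for any two primes P, Q there
is a k-automorphism σ of k^sep with Q the inverse image of P under σ ⊗ id_K. -/
theorem result {k K : Type u} [Field k] [Field K] [Algebra k K]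
    (P Q : Ideal (SeparableClosure k ⊗[k] K)) [P.IsPrime] [Q.IsPrime] :
    ∃ σ : SeparableClosure k ≃ₐ[k] SeparableClosure k, Q = P.comap (Algebra.TensorProduct.map (σ : SeparableClosure k →ₐ[k] SeparableClosure k) (AlgHom.id k K)) := by
  classical
  let G := (SeparableClosure k) ≃ₐ[k] (SeparableClosure k)
  let : Algebra K ((SeparableClosure k) ⊗[k] K) := Algebra.TensorProduct.rightAlgebra
  let : TopologicalSpace ((SeparableClosure k) ⊗[k] K) := ⊥
  have : DiscreteTopology ((SeparableClosure k) ⊗[k] K) := ⟨rfl⟩
  let act : G → ((SeparableClosure k) ⊗[k] K) →ₐ[k] ((SeparableClosure k) ⊗[k] K) := fun σ => Algebra.TensorProduct.map (σ : (SeparableClosure k) →ₐ[k] (SeparableClosure k)) (AlgHom.id k K)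
  have act_tmul : ∀ (σ : G) a b, act σ (a ⊗ₜ[k] b) = σ a ⊗ₜ[k] b := fun σ a b => rfl
  have act_one : ∀ x, act 1 x = x := fun x => by
    induction x using TensorProduct.induction_on with
    | zero => simp
    | tmul a b => rfl
    | add a b ha hb => rw [map_add, ha, hb]
  have act_mul : ∀ σ τ x, act (σ * τ) x = act σ (act τ x) := fun σ τ x => by
    induction x using TensorProduct.induction_on with
    | zero => simp
    | tmul a b => rfl
    | add a b ha hb => simp only [map_add, ha, hb]
  let instA : MulSemiringAction G ((SeparableClosure k) ⊗[k] K) :=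
    { smul := fun σ x => act σ x
      one_smul := act_one
      mul_smul := act_mul
      smul_zero := fun σ => map_zero (act σ)
      smul_add := fun σ x y => map_add (act σ) x y
      smul_one := fun σ => (act σ).toRingHom.map_one
      smul_mul := fun σ x y => map_mul (act σ) x y }
  let instG : SMul G ((SeparableClosure k) ⊗[k] K) := instA.toDistribMulAction.toMulAction.toSMul
  have hsmul : ∀ (σ : G) (x : (SeparableClosure k) ⊗[k] K), σ • x = act σ x := fun _ _ => rfl
  have : SMulCommClass G K ((SeparableClosure k) ⊗[k] K) := ⟨fun σ c x => by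
    rw [hsmul, hsmul, Algebra.smul_def, Algebra.smul_def, map_mul]
    congr 1
    show act σ ((1 : (SeparableClosure k)) ⊗ₜ[k] c) = _
    rw [act_tmul, map_one]; rfl⟩
  have : ContinuousSMul G ((SeparableClosure k) ⊗[k] K) := by
    refine ⟨continuous_def.2 fun U _ => isOpen_iff_mem_nhds.2 ?_⟩
    rintro ⟨σ, x⟩ hσx
    obtain ⟨fs, rfl⟩ := TensorProduct.exists_finset x
    let E := IntermediateField.adjoin k (↑(fs.image Prod.fst) : Set (SeparableClosure k))
    have : FiniteDimensional k E := IntermediateField.finiteDimensional_adjoin fun a _ => Algebra.IsIntegral.isIntegral a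
    have hH : IsOpen (E.fixingSubgroup : Set G) := IntermediateField.fixingSubgroup_isOpen E
    refine mem_nhds_prod_iff.2 ⟨(fun τ => σ * τ) '' (E.fixingSubgroup : Set G), ?_, {∑ i ∈ fs, i.1 ⊗ₜ[k] i.2}, mem_nhds_discrete.2 rfl, ?_⟩
    · exact ((Homeomorph.mulLeft σ).isOpenMap _ hH).mem_nhds ⟨1, one_mem _, mul_one σ⟩
    · rintro ⟨τ', y⟩ ⟨⟨τ, hτ, rfl⟩, rfl⟩
      have hfix : act τ (∑ i ∈ fs, i.1 ⊗ₜ[k] i.2) = ∑ i ∈ fs, i.1 ⊗ₜ[k] i.2 := by
        rw [map_sum]
        refine Finset.sum_congr rfl fun i hi => ?_
        rw [act_tmul, (IntermediateField.mem_fixingSubgroup_iff E τ).1 hτ i.1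
          (IntermediateField.subset_adjoin k _ (Finset.mem_coe.2 (Finset.mem_image_of_mem _ hi)))]
      show act (σ * τ) _ ∈ U
      rw [act_mul, hfix]
      exact hσx
  have : IsGalois k (SeparableClosure k) := inferInstance
  have : Algebra.IsInvariant K ((SeparableClosure k) ⊗[k] K) G := by
    refine ⟨fun x hx => ?_⟩
    let b := Module.Free.chooseBasis k K
    let B := Algebra.TensorProduct.basis (SeparableClosure k) b
    have hcoef : ∀ i, B.repr x i ∈ (⊥ : IntermediateField k (SeparableClosure k)) := fun i => by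
      rw [InfiniteGalois.mem_bot_iff_fixed]
      intro σ
      have := FBase64.coord_map (σ : (SeparableClosure k) →ₐ[k] (SeparableClosure k)) b x i
      rw [show Algebra.TensorProduct.map (σ : (SeparableClosure k) →ₐ[k] (SeparableClosure k)) (AlgHom.id k K) x = x from hx σ] at this
      exact this.symm
    choose c hc using fun i => IntermediateField.mem_bot.1 (hcoef i)
    refine ⟨∑ i ∈ (B.repr x).support, c i • b i, ?_⟩
    conv_rhs => rw [← B.linearCombination_repr x, Finsupp.linearCombination_apply, Finsupp.sum]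
    show (1 : (SeparableClosure k)) ⊗ₜ[k] _ = _
    rw [TensorProduct.tmul_sum]
    refine Finset.sum_congr rfl fun i _ => ?_
    rw [Algebra.TensorProduct.basis_apply, ← hc i, TensorProduct.smul_tmul', TensorProduct.tmul_smul,
      TensorProduct.smul_tmul', Algebra.algebraMap_eq_smul_one, smul_eq_mul, smul_mul_assoc, one_mul]
  have hPQ : P.under K = Q.under K := by
    have h1 : ∀ (I : Ideal ((SeparableClosure k) ⊗[k] K)) [I.IsPrime], I.under K = ⊥ := fun I _ =>
      (Ideal.eq_bot_or_top _).resolve_right (Ideal.IsPrime.ne_top inferInstance)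
    rw [h1 P, h1 Q]
  obtain ⟨g, hg⟩ := Algebra.IsInvariant.exists_smul_of_under_eq_of_profinite (A := K) (B := (SeparableClosure k) ⊗[k] K) (G := G) P Q hPQ
  refine ⟨g⁻¹, ?_⟩
  rw [hg, Ideal.pointwise_smul_eq_comap]
  rfl

end Groth.Agent.S9647
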