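import Groth.Statements.S9669
import Mathlib
import Groth.Agent.CAlg6.FiberMod

set_option autoImplicit false
universe u
open CAlg
open Groth.Agent

namespace Groth.Agent.S9669

/-- Part (4): (A = A_fin = A'_fin): let R → S be a ring map, N an S-module flat over R and p a prime of
R; an associated prime of a module is a prime ideal equal to the annihilator of some element. Then
the set of associated primes of the S-module N/pN equals the set of associated primes of the
S-module N ⊗_R κ(p) (the fibre module over p, an S-module by restriction of scalars), and every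
prime in this set lies over p. -/
theorem result {R S : Type u} [CommRing R] [CommRing S] [Algebra R S] (N : Type u) [AddCommGroup N] [Module S N] [Module R N] [IsScalarTower R S N] [Module.Flat R N] (p : Ideal R) [p.IsPrime] :
    FlatCA.ass S (N ⧸ (p.map (algebraMap R S)) • (⊤ : Submodule S N)) = FlatCA.ass S (FlatCA.fiberMod p S N) ∧
      ∀ q ∈ FlatCA.ass S (N ⧸ (p.map (algebraMap R S)) • (⊤ : Submodule S N)), q.comap (algebraMap R S) = p := by
  have hinjq : ∀ (r : R), r ∉ p → ∀ n : N, algebraMap R S r • n ∈ p.map (algebraMap R S) • (⊤ : Submodule S N) → n ∈ p.map (algebraMap R S) • (⊤ : Submodule S N) := by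
    intro r hr n hn
    rw [CAlg6.mem_map_smul_top_iff] at hn ⊢
    exact CAlg6.mem_smul_top_of_smul_mem hr (by rwa [algebraMap_smul] at hn)
  have hμ : ∀ n : N, FlatCA.toFiberMod p S N n = 0 ↔ n ∈ p.map (algebraMap R S) • (⊤ : Submodule S N) := by
    intro n
    rw [CAlg6.toFiberMod_eq_zero_iff]
    exact ⟨fun ⟨r, hr, h⟩ => hinjq r hr n h, fun h => ⟨1, p.primeCompl.one_mem, by rwa [map_one, one_smul]⟩⟩
  refine ⟨Set.Subset.antisymm (fun q hq => ?_) (fun q hq => ?_), ?_⟩
  · obtain ⟨hqp, x, hx⟩ := CAlg6.mem_ass_iff.1 hq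
    obtain ⟨n, rfl⟩ := Submodule.Quotient.mk_surjective _ x
    refine CAlg6.mem_ass_iff.2 ⟨hqp, FlatCA.toFiberMod p S N n, fun s => ?_⟩
    rw [← map_smul, hμ, hx, ← Submodule.Quotient.mk_smul, Submodule.Quotient.mk_eq_zero]
  · obtain ⟨hqp, x, hx⟩ := CAlg6.mem_ass_iff.1 hq
    obtain ⟨r, hr, n, hn⟩ := CAlg6.exists_smul_eq_toFiberMod x
    refine CAlg6.mem_ass_iff.2 ⟨hqp, Submodule.Quotient.mk n, fun s => ?_⟩
    rw [← Submodule.Quotient.mk_smul, Submodule.Quotient.mk_eq_zero, ← hμ, map_smul, ← hn, hx]
    constructor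
    · intro h; rw [smul_comm, h, smul_zero]
    · intro h
      rw [← CAlg6.includeRight_smul (p := p) (algebraMap R S r), ← CAlg6.includeRight_smul (p := p) s, smul_smul, mul_comm, mul_smul] at h
      rw [← CAlg6.includeRight_smul (p := p) s]
      exact ((CAlg6.isUnit_includeRight_algebraMap (S := S) hr).smul_eq_zero).1 h
  · intro q hq
    obtain ⟨hqp, x, hx⟩ := CAlg6.mem_ass_iff.1 hq
    obtain ⟨n, rfl⟩ := Submodule.Quotient.mk_surjective _ x
    ext r
    rw [Ideal.mem_comap, hx, ← Submodule.Quotient.mk_smul, Submodule.Quotient.mk_eq_zero]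
    constructor
    · intro h
      by_contra hr
      apply hqp.ne_top
      rw [Ideal.eq_top_iff_one, hx, one_smul, Submodule.Quotient.mk_eq_zero]
      exact hinjq r hr n h
    · intro hr
      exact Submodule.smul_mem_smul (Ideal.mem_map_of_mem _ hr) trivial

end Groth.Agent.S9669
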