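import Groth.Statements.S9648
import Groth.Agent.S9669
import Mathlib
import Groth.Agent.CAlg6.FiberMod

set_option autoImplicit false
universe u
open CAlg
open Groth.Agent

namespace Groth.Agent.S9648

open TensorProduct in
/-- The inclusion, valid for any ring R: let R → S be a ring map, M an R-module and N an S-module which
is flat over R. For an associated prime p of M (a prime equal to the annihilator of an element) and
an associated prime Q of the fibre module N ⊗_R κ(p) over the fibre ring S ⊗_R κ(p), the inverse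
image of Q in S is an associated prime of N ⊗_R M. -/
theorem result {R S : Type u} [CommRing R] [CommRing S] [Algebra R S] (M : Type u) [AddCommGroup M] [Module R M] (N : Type u) [AddCommGroup N] [Module S N] [Module R N] [IsScalarTower R S N] [Module.Flat R N]
    (p : Ideal R) [p.IsPrime] (hp : p ∈ FlatCA.ass R M) (Q : Ideal (p.Fiber S)) (hQ : Q ∈ FlatCA.ass (p.Fiber S) (FlatCA.fiberMod p S N)) :
    Q.comap (Algebra.TensorProduct.includeRight (R := R) (A := p.ResidueField) (B := S)).toRingHom ∈ FlatCA.ass S (N ⊗[R] M) := by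
  obtain ⟨-, m, hm⟩ := CAlg6.mem_ass_iff.1 hp
  obtain ⟨hq, hqp⟩ := (CAlg6.ass_fiberMod_iff (p := p) (N := N) (Q.comap (Algebra.TensorProduct.includeRight (R := R) (A := p.ResidueField) (B := S)).toRingHom)).2 ⟨Q, hQ, rfl⟩
  rw [← (Groth.Agent.S9669.result N p).1] at hq
  obtain ⟨hqprime, x, hx⟩ := CAlg6.mem_ass_iff.1 hq
  obtain ⟨n, rfl⟩ := Submodule.Quotient.mk_surjective _ x
  let ι : (R ⧸ p) →ₗ[R] M := Submodule.liftQ p (LinearMap.toSpanSingleton R M m) (fun r hr => (hm r).1 hr)
  have hι : Function.Injective ι := by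
    rw [injective_iff_map_eq_zero]
    intro a ha
    obtain ⟨a, rfl⟩ := Submodule.Quotient.mk_surjective _ a
    exact (Submodule.Quotient.mk_eq_zero p).2 ((hm a).2 ha)
  let e := TensorProduct.tensorQuotEquivQuotSMul N p
  have he : ∀ y : N, e (y ⊗ₜ[R] (Ideal.Quotient.mk p 1)) = Submodule.Quotient.mk y := fun y => by
    show TensorProduct.quotTensorEquivQuotSMul N p ((Ideal.Quotient.mk p 1) ⊗ₜ[R] y) = _
    rw [TensorProduct.quotTensorEquivQuotSMul_mk_tmul, one_smul]
  have key : ∀ y : N, y ⊗ₜ[R] m = 0 ↔ y ∈ p • (⊤ : Submodule R N) := by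
    intro y
    have h1 : ι.lTensor N (y ⊗ₜ[R] Ideal.Quotient.mk p 1) = y ⊗ₜ[R] m := by
      rw [LinearMap.lTensor_tmul]
      show y ⊗ₜ[R] ((1 : R) • m) = _
      rw [one_smul]
    rw [← h1, map_eq_zero_iff _ (Module.Flat.lTensor_preserves_injective_linearMap (M := N) ι hι), ← e.map_eq_zero_iff, he, Submodule.Quotient.mk_eq_zero]
  refine CAlg6.mem_ass_iff.2 ⟨hqprime, n ⊗ₜ[R] m, fun s => ?_⟩
  rw [hx, ← Submodule.Quotient.mk_smul, Submodule.Quotient.mk_eq_zero, CAlg6.mem_map_smul_top_iff, TensorProduct.smul_tmul', key]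

end Groth.Agent.S9648
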