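import Groth.Statements.S9649
import Mathlib
import Groth.Agent.CAlg6.SepKaehler
import Groth.Agent.Sep12.Basic

set_option autoImplicit false
universe u
open CAlg
open Groth.Agent
open scoped IntermediateField

namespace Groth.Agent.S9649

/-- A separably generated field extension is separable. Precisely: let K/k be a field extension
admitting a transcendence basis x over whose generated subfield k(x) the field K is separable
algebraic; then every finitely generated subextension K' of K/k also admits such a transcendence
basis. -/
theorem result {k K : Type u} [Field k] [Field K] [Algebra k K]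
    (h : ∃ (ι : Type u) (x : ι → K), IsTranscendenceBasis k x ∧ Algebra.IsSeparable (IntermediateField.adjoin k (Set.range x)) K)
    (K' : IntermediateField k K) (hK' : ∃ s : Finset K, IntermediateField.adjoin k (s : Set K) = K') :
    ∃ (ι : Type u) (x : ι → K'), IsTranscendenceBasis k x ∧ Algebra.IsSeparable (IntermediateField.adjoin k (Set.range x)) K' := by
  obtain ⟨ι, x, hx, hsep⟩ := h
  have : Algebra.EssFiniteType k K' := IntermediateField.essFiniteType_iff.2 (hK')
  suffices ∃ s : Finset K', IsTranscendenceBasis k ((↑) : s → K') ∧
      Algebra.IsSeparable (IntermediateField.adjoin k (s : Set K')) K' by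
    obtain ⟨s, hs, hs'⟩ := this
    refine ⟨s, (↑), hs, ?_⟩
    rwa [show Set.range ((↑) : s → K') = (s : Set K') from Subtype.range_coe]
  obtain _ | ⟨p, hp, hpk⟩ := CharP.exists' k
  · exact exists_isTranscendenceBasis_and_isSeparable_of_perfectField k K'
  have : ExpChar k p := .prime hp.out
  have : Algebra.FormallySmooth k K :=
    Algebra.FormallySmooth.of_algebraicIndependent_of_isSeparable hx.1
  have : Algebra.IsGeometricallyReduced k K := Sep12.formallySmooth_iff_isGeometricallyReduced.1 this
  have hpow := Sep12.powIndep_of_isGeometricallyReduced (k := k) (K := K) p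
  refine exists_isTranscendenceBasis_and_isSeparable_of_linearIndepOn_pow_of_essFiniteType p hp.out
    fun s hs => ?_
  let e := s.equivFin
  have h1 : LinearIndependent k (fun i : Fin s.card => ((e.symm i : K') : K)) :=
    ((LinearIndependent.map' hs K'.val.toLinearMap
      (LinearMap.ker_eq_bot.2 Subtype.val_injective)).comp _ e.symm.injective)
  have h2 := (hpow _ _ h1).comp _ e.injective
  refine LinearIndependent.of_comp K'.val.toLinearMap ?_
  have h3 : ((fun i => ((e.symm i : K') : K) ^ p) ∘ ⇑e) = fun i : s => ((i : K') : K) ^ p := by
    funext i
    simp
  rw [h3] at h2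
  exact h2

end Groth.Agent.S9649
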