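import Groth.Statements.S9651
import Mathlib
import Groth.Agent.CAlg6.ConsImage

set_option autoImplicit false
universe u
open CAlg
open Groth.Agent Groth.Agent.CAlg6.ConsImage Topology

namespace Groth.Agent.S9651

/-- Let R → S be a ring map of finite type, f : Spec(S) → Spec(R) the induced map and E ⊆ Spec(S) a
constructible subset. If ξ ∈ f(E) then f(E) ∩ cl{ξ} contains an open dense subset of the closure
cl{ξ}: some open U of Spec(R) has U ∩ cl{ξ} dense in cl{ξ} and contained in f(E). -/
theorem result {R S : Type u} [CommRing R] [CommRing S] [Algebra R S] [Algebra.FiniteType R S]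
    (E : Set (PrimeSpectrum S)) (hE : Topology.IsConstructible E) (ξ : PrimeSpectrum R) (hξ : ξ ∈ PrimeSpectrum.comap (algebraMap R S) '' E) :
    ∃ U : Set (PrimeSpectrum R), IsOpen U ∧ closure ({ξ} : Set (PrimeSpectrum R)) ⊆ closure (U ∩ closure {ξ}) ∧ U ∩ closure {ξ} ⊆ PrimeSpectrum.comap (algebraMap R S) '' E := by
  obtain ⟨g, hg, hsub⟩ := exists_open_piece hE hξ
  refine ⟨PrimeSpectrum.basicOpen g, PrimeSpectrum.isOpen_basicOpen, ?_, fun p hp => ?_⟩
  · refine closure_mono ?_
    rintro _ rfl
    exact ⟨hg, subset_closure rfl⟩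
  · exact hsub p ((mem_closure_iff ξ p).1 hp.2) hp.1

end Groth.Agent.S9651
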