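import Groth.Statements.S9652
import Mathlib
import Groth.Agent.CAlg6.ConsImage

set_option autoImplicit false
universe u
open CAlg
open Groth.Agent Groth.Agent.CAlg6.ConsImage Topology

namespace Groth.Agent.S9652

/-- Let R and S be Jacobson rings, R → S a ring map of finite type with induced map f : Spec(S) →
Spec(R), and E ⊆ Spec(S) a constructible subset. Writing T₀ for the set of points of a subspace T
which are closed in T, one has f(E)₀ = f(E₀) = (Spec R)₀ ∩ f(E). -/
theorem result {R S : Type u} [CommRing R] [CommRing S] [Algebra R S] [IsJacobsonRing R] [IsJacobsonRing S] [Algebra.FiniteType R S]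
    (E : Set (PrimeSpectrum S)) (hE : Topology.IsConstructible E) :
    {x | x ∈ PrimeSpectrum.comap (algebraMap R S) '' E ∧ closure {x} ∩ PrimeSpectrum.comap (algebraMap R S) '' E = {x}} =
        PrimeSpectrum.comap (algebraMap R S) '' {y | y ∈ E ∧ closure {y} ∩ E = {y}} ∧
      PrimeSpectrum.comap (algebraMap R S) '' {y | y ∈ E ∧ closure {y} ∩ E = {y}} =
        {x | IsClosed ({x} : Set (PrimeSpectrum R))} ∩ PrimeSpectrum.comap (algebraMap R S) '' E := by
  have h2 : PrimeSpectrum.comap (algebraMap R S) '' {y | y ∈ E ∧ closure {y} ∩ E = {y}} =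
      {x | IsClosed ({x} : Set (PrimeSpectrum R))} ∩ PrimeSpectrum.comap (algebraMap R S) '' E := by
    refine Set.Subset.antisymm ?_ ?_
    · rintro _ ⟨y, ⟨hy, hycl⟩, rfl⟩
      exact ⟨isClosed_comap (isClosed_of_closedIn hE hy hycl), y, hy, rfl⟩
    · rintro x ⟨hx, hxE⟩
      obtain ⟨y, hy, hyc, rfl⟩ := exists_closed_over hE hx hxE
      exact ⟨y, closedIn_of_isClosed hy hyc, rfl⟩
  refine ⟨?_, h2⟩
  rw [h2]
  refine Set.Subset.antisymm ?_ ?_
  · rintro x ⟨hx, hxcl⟩
    refine ⟨?_, hx⟩
    obtain ⟨g, hg, hsub⟩ := exists_open_piece hE hx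
    refine isClosed_singleton_of_isLocallyClosed_singleton
      ⟨PrimeSpectrum.basicOpen g, closure {x}, PrimeSpectrum.isOpen_basicOpen, isClosed_closure, ?_⟩
    refine Set.Subset.antisymm ?_ ?_
    · rintro _ rfl
      exact ⟨hg, subset_closure rfl⟩
    · rintro p ⟨hp, hp'⟩
      rw [← hxcl]
      exact ⟨hp', hsub p ((mem_closure_iff x p).1 hp') hp⟩
  · rintro x ⟨hx, hxE⟩
    exact closedIn_of_isClosed hxE hx

end Groth.Agent.S9652
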