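import Groth.Statements.S9653
import Mathlib
import Groth.Agent.CAlg6.ConsImage

set_option autoImplicit false
universe u
open CAlg
open Groth.Agent Groth.Agent.CAlg6.ConsImage Topology

namespace Groth.Agent.S9653

/-- Let R and S be Jacobson rings, R → S a ring map of finite type with induced map f : Spec(S) →
Spec(R), E ⊆ Spec(S) constructible and E₀ the set of points of E closed in E. Then a point ξ of
Spec(R) lies in f(E) if and only if cl{ξ} ∩ f(E₀) is dense in the closure cl{ξ}. -/
theorem result {R S : Type u} [CommRing R] [CommRing S] [Algebra R S] [IsJacobsonRing R] [IsJacobsonRing S] [Algebra.FiniteType R S]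
    (E : Set (PrimeSpectrum S)) (hE : Topology.IsConstructible E) (ξ : PrimeSpectrum R) :
    ξ ∈ PrimeSpectrum.comap (algebraMap R S) '' E ↔
      closure ({ξ} : Set (PrimeSpectrum R)) ⊆ closure (closure {ξ} ∩ PrimeSpectrum.comap (algebraMap R S) '' {y | y ∈ E ∧ closure {y} ∩ E = {y}}) := by
  constructor
  · intro hξ
    obtain ⟨g, hg, hsub⟩ := exists_open_piece hE hξ
    let Z : Set (PrimeSpectrum R) := (PrimeSpectrum.basicOpen g : Set (PrimeSpectrum R)) ∩ closure {ξ}
    have hZ : IsLocallyClosed Z := ⟨_, _, PrimeSpectrum.isOpen_basicOpen, isClosed_closure, rfl⟩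
    refine (closure_mono (t := Z) ?_).trans ?_
    · rintro _ rfl
      exact ⟨hg, subset_closure rfl⟩
    · rw [← JacobsonSpace.closure_inter_closedPoints_eq_closure hZ]
      refine closure_mono fun p hp => ⟨hp.1.2, ?_⟩
      obtain ⟨y, hy, hyc, rfl⟩ := exists_closed_over hE hp.2 (hsub p ((mem_closure_iff ξ p).1 hp.1.2) hp.1.1)
      exact ⟨y, closedIn_of_isClosed hy hyc, rfl⟩
  · intro h
    by_contra hξ
    obtain ⟨g, hg, hgp⟩ := exists_avoid hE hξ
    obtain ⟨p, hp, hp1, y, hy, rfl⟩ := mem_closure_iff_nhds.1 (h (subset_closure rfl))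
      (PrimeSpectrum.basicOpen g) (PrimeSpectrum.isOpen_basicOpen.mem_nhds hg)
    exact hp (hgp _ ⟨y, hy.1, rfl⟩ ((Groth.Agent.CAlg6.ConsImage.mem_closure_iff ξ _).1 hp1))

end Groth.Agent.S9653
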