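import Groth.Statements.S9654
import Mathlib
import Groth.Agent.CAlg6.InterAdjoin

set_option autoImplicit false
universe u
open CAlg
open Groth.Agent Groth.Agent.CAlg6

namespace Groth.Agent.S9654

/-- Let R be a ring and x, y ∈ R nonzerodivisors. In the localization R_{xy} let a = x/y and b = y/x,
and let R[a], R[b], R[a, b] be the R-subalgebras they generate. If R is integrally closed in R_x or
in R_y, then the sequence 0 → R → R[a] ⊕ R[b] → R[a, b] → 0 (difference map, then sum map) is short
exact; equivalently R[a] ∩ R[b] is the image of R and R[a] + R[b] = R[a, b] inside R_{xy}. -/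
theorem result {R : Type u} [CommRing R] (x y : R) (hx : x ∈ nonZeroDivisors R) (hy : y ∈ nonZeroDivisors R)
    (hint : IsIntegrallyClosedIn R (Localization.Away x) ∨ IsIntegrallyClosedIn R (Localization.Away y)) :
    (Algebra.adjoin R {algebraMap R (Localization.Away (x * y)) (x * x) * IsLocalization.Away.invSelf (x * y)}).toSubmodule ⊓
        (Algebra.adjoin R {algebraMap R (Localization.Away (x * y)) (y * y) * IsLocalization.Away.invSelf (x * y)}).toSubmodule =
        (⊥ : Subalgebra R (Localization.Away (x * y))).toSubmodule ∧
      (Algebra.adjoin R {algebraMap R (Localization.Away (x * y)) (x * x) * IsLocalization.Away.invSelf (x * y)}).toSubmodule ⊔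
        (Algebra.adjoin R {algebraMap R (Localization.Away (x * y)) (y * y) * IsLocalization.Away.invSelf (x * y)}).toSubmodule =
        (Algebra.adjoin R {algebraMap R (Localization.Away (x * y)) (x * x) * IsLocalization.Away.invSelf (x * y), algebraMap R (Localization.Away (x * y)) (y * y) * IsLocalization.Away.invSelf (x * y)}).toSubmodule := by
  set a := algebraMap R (Localization.Away (x * y)) (x * x) * IsLocalization.Away.invSelf (x * y) with ha_def
  set b := algebraMap R (Localization.Away (x * y)) (y * y) * IsLocalization.Away.invSelf (x * y) with hb_def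
  have hab : a * b = 1 := by
    have h := IsLocalization.Away.mul_invSelf (S := Localization.Away (x * y)) (x * y)
    calc a * b = (algebraMap R _ (x * y) * IsLocalization.Away.invSelf (x * y)) *
          (algebraMap R (Localization.Away (x * y)) (x * y) * IsLocalization.Away.invSelf (x * y)) := by
            rw [ha_def, hb_def]; simp only [map_mul]; ring
      _ = 1 := by rw [h, mul_one]
  refine ⟨le_antisymm ?_ (le_inf (Subalgebra.toSubmodule.monotone bot_le) (Subalgebra.toSubmodule.monotone bot_le)),
    adjoin_sup_adjoin_eq hab⟩
  rintro z ⟨hza, hzb⟩
  have hi := isIntegral_of_mem_adjoin_inter hab hza hzb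
  have hxy : x * y ∈ nonZeroDivisors R := mul_mem hx hy
  rcases hint with h | h
  · have : IsLocalization.Away (y * x) (Localization.Away (x * y)) := by rw [mul_comm]; infer_instance
    obtain ⟨f, hf, hmem⟩ := exists_away_hom (T := Localization.Away (x * y)) y x hx (mul_comm x y ▸ hxy)
    refine mem_bot_of_isIntegral f hf ?_ hi
    refine (Algebra.adjoin_le (S := f.range) ?_ : Algebra.adjoin R {b} ≤ f.range) hzb
    rintro _ rfl
    have hinv : IsLocalization.Away.invSelf (S := Localization.Away (x * y)) (y * x) =
        IsLocalization.Away.invSelf (S := Localization.Away (x * y)) (x * y) := by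
      have h1 := IsLocalization.Away.mul_invSelf (S := Localization.Away (x * y)) (y * x)
      have h2 := IsLocalization.Away.mul_invSelf (S := Localization.Away (x * y)) (x * y)
      rw [show algebraMap R (Localization.Away (x * y)) (y * x) = algebraMap R _ (x * y) by rw [map_mul, map_mul]; exact mul_comm _ _] at h1
      have hu : IsUnit (algebraMap R (Localization.Away (x * y)) (x * y)) :=
        IsLocalization.Away.algebraMap_isUnit (x * y)
      exact hu.mul_left_cancel (h1.trans h2.symm)
    rw [hinv] at hmem
    exact hmem
  · obtain ⟨f, hf, hmem⟩ := exists_away_hom (T := Localization.Away (x * y)) x y hy hxy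
    refine mem_bot_of_isIntegral f hf ?_ hi
    refine (Algebra.adjoin_le (S := f.range) ?_ : Algebra.adjoin R {a} ≤ f.range) hza
    rintro _ rfl
    exact hmem

end Groth.Agent.S9654
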