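import Groth.Statements.S9655
import Groth.Agent.CAlg6.EssLocal

set_option autoImplicit false
universe u
open CAlg

namespace Groth.Agent.S9655

/-- Let R and S be local rings and R → S a ring map, not necessarily local, that is essentially of
finite type. Then for some n there is a maximal ideal m of the polynomial ring R[x_1, …, x_n] lying
over the maximal ideal of R, together with an R-algebra map φ : R[x_1, …, x_n]_m → S making S a
localization of the image of φ; thus S arises from R[x_1, …, x_n]_m by passing to a quotient and
then localizing. -/
theorem result {R S : Type u} [CommRing R] [CommRing S] [Algebra R S] [IsLocalRing R] [IsLocalRing S] [Algebra.EssFiniteType R S] :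
    ∃ (n : ℕ) (m : Ideal (MvPolynomial (Fin n) R)) (_ : m.IsMaximal), m.under R = IsLocalRing.maximalIdeal R ∧
      ∃ (φ : Localization.AtPrime m →ₐ[R] S) (T : Submonoid φ.range), IsLocalization T S := by
  exact Groth.Agent.CAlg6.exists_localization_presentation R S

end Groth.Agent.S9655
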