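import Groth.Statements.S9656
import Mathlib

set_option autoImplicit false
universe u
open CAlg

namespace Groth.Agent.S9656

/-- Let R_i → S_i be ring maps indexed by a finite type ι, with product map R = Π R_i → S = Π S_i. Then
an element (s_i) of S is integral over R exactly when s_i is integral over R_i for every i; so
integral closure in a finite product is computed factor by factor. -/
theorem result {ι : Type u} [Fintype ι] {R S : ι → Type u} [∀ i, CommRing (R i)] [∀ i, CommRing (S i)] (f : ∀ i, R i →+* S i) (s : ∀ i, S i) :
    (RingHom.pi fun i => (f i).comp (Pi.evalRingHom R i)).IsIntegralElem s ↔ ∀ i, (f i).IsIntegralElem (s i) := by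
  classical
  constructor
  · rintro ⟨p, hp, he⟩ i
    refine ⟨p.map (Pi.evalRingHom R i), hp.map _, ?_⟩
    have := congrArg (Pi.evalRingHom S i) he
    rw [Polynomial.hom_eval₂] at this
    rw [Polynomial.eval₂_map]
    exact this.trans (map_zero _)
  · intro h
    choose p hp he using h
    -- raise all to a common degree
    let N := Finset.univ.sup fun i => (p i).natDegree
    let q : ∀ i, Polynomial (R i) := fun i => p i * Polynomial.X ^ (N - (p i).natDegree)
    have hqm : ∀ i, (q i).Monic := fun i => (hp i).mul (Polynomial.monic_X_pow _)
    have hqd : ∀ i, (q i).natDegree ≤ N := fun i => by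
      refine (Polynomial.natDegree_mul_le).trans ?_
      have : (p i).natDegree ≤ N := Finset.le_sup (f := fun i => (p i).natDegree) (Finset.mem_univ i)
      have := Polynomial.natDegree_X_pow_le (R := R i) (N - (p i).natDegree)
      omega
    have hqN : ∀ i, (q i).coeff N = 1 := fun i => by
      have : (p i).natDegree ≤ N := Finset.le_sup (f := fun i => (p i).natDegree) (Finset.mem_univ i)
      show (p i * Polynomial.X ^ (N - (p i).natDegree)).coeff N = 1
      rw [show N = (p i).natDegree + (N - (p i).natDegree) by omega, Polynomial.coeff_mul_X_pow']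
      simp [(hp i).coeff_natDegree]
    let Q : Polynomial (∀ i, R i) := ∑ n ∈ Finset.range (N+1), Polynomial.monomial n (fun i => (q i).coeff n)
    have hQ : ∀ n, n ≤ N → Q.coeff n = fun i => (q i).coeff n := fun n hn => by
      simp [Q, Polynomial.coeff_monomial, Nat.lt_succ_iff, hn]
    refine ⟨Q, ?_, ?_⟩
    · refine Polynomial.monic_of_natDegree_le_of_coeff_eq_one N ?_ ?_
      · refine Polynomial.natDegree_sum_le_of_forall_le _ _ fun n hn => (Polynomial.natDegree_monomial_le _).trans ?_
        simpa [Nat.lt_succ_iff] using hn
      · rw [hQ N le_rfl]; funext i; exact hqN i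
    · funext i
      have h0 : (Q.map (Pi.evalRingHom R i)) = q i := by
        ext n
        rw [Polynomial.coeff_map]
        rcases le_or_gt n N with hn | hn
        · rw [hQ n hn]; rfl
        · rw [Polynomial.coeff_eq_zero_of_natDegree_lt (p := q i) ((hqd i).trans_lt hn)]
          simp [Q, Polynomial.coeff_monomial, Nat.lt_succ_iff, not_le.2 hn]
      have := Polynomial.hom_eval₂ Q (RingHom.pi fun i => (f i).comp (Pi.evalRingHom R i)) (Pi.evalRingHom S i) s
      simp only [Pi.evalRingHom_apply] at this
      rw [Pi.zero_apply, this]
      rw [show (Pi.evalRingHom S i).comp (RingHom.pi fun i => (f i).comp (Pi.evalRingHom R i)) = (f i).comp (Pi.evalRingHom R i) from rfl]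
      rw [← Polynomial.eval₂_map, h0]
      simp [q, Polynomial.eval₂_mul, he i]

end Groth.Agent.S9656
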