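import Groth.Statements.S9657
import Mathlib
import Groth.Agent.CAlg6.RatFuncIrred

set_option autoImplicit false
universe u
open CAlg
open Groth.Agent

namespace Groth.Agent.S9657

open TensorProduct in
/-- Let K/k be a field extension and let k(t) ⊆ K(t) be the purely transcendental extensions in one
variable, realised as fraction fields of k[t] and K[t] compatibly with k[t] → K[t]. Then K is
geometrically irreducible over k (Spec(k' ⊗_k K) irreducible for every field extension k'/k) if and
only if K(t) is geometrically irreducible over k(t). Here the test fields range over field
extensions of k, respectively of k(t), in the universe of k; this is equivalent to the unrestricted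
notions, since an algebraic closure of the base field suffices as a test. -/
theorem result {k K : Type u} [Field k] [Field K] [Algebra k K]
    (kt Kt : Type u) [Field kt] [Field Kt] [Algebra (Polynomial k) kt] [IsFractionRing (Polynomial k) kt] [Algebra (Polynomial K) Kt] [IsFractionRing (Polynomial K) Kt]
    [Algebra kt Kt] (hcompat : ∀ p : Polynomial k, algebraMap kt Kt (algebraMap (Polynomial k) kt p) = algebraMap (Polynomial K) Kt (Polynomial.map (algebraMap k K) p)) :
    (∀ (k' : Type u) [Field k'] [Algebra k k'], IrreducibleSpace (PrimeSpectrum (k' ⊗[k] K))) ↔
      ∀ (L : Type u) [Field L] [Algebra kt L], IrreducibleSpace (PrimeSpectrum (L ⊗[kt] Kt)) := by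
  simp only [PrimeSpectrum.irreducibleSpace_iff_isPrime_nilradical]
  constructor
  · intro h L _ _
    let _ : Algebra k L :=
      ((algebraMap kt L).comp ((algebraMap (Polynomial k) kt).comp Polynomial.C)).toAlgebra
    exact CAlg6.RatFuncIrred.prime_baseChange kt Kt hcompat L (fun c => rfl) (h L)
  · intro h k' _ _
    exact CAlg6.RatFuncIrred.prime_descend kt Kt hcompat k' h

end Groth.Agent.S9657
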