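import Groth.Statements.S9658
import Mathlib

set_option autoImplicit false
universe u
open CAlg

namespace Groth.Agent.S9658

/-- Let R be a ring, f_1, …, f_n ∈ R generating the unit ideal and M an R-module. With M_i = M_{f_i},
M_ij = M_{f_i f_j} (any localizations, with the canonical compatible maps M → M_i → M_ij), the
sequence 0 → M → ⊕ M_i → ⊕ M_ij is exact: an element of M whose image vanishes in every M_i is zero,
and every family (m_i ∈ M_i) such that m_i and m_j have the same image in M_ij for all i, j is the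
image of an element of M. -/
theorem result {R : Type u} [CommRing R] {ι : Type u} [Fintype ι] (f : ι → R) (hf : Ideal.span (Set.range f) = ⊤)
    (M : Type u) [AddCommGroup M] [Module R M]
    (Mi : ι → Type u) [∀ i, AddCommGroup (Mi i)] [∀ i, Module R (Mi i)] (g : ∀ i, M →ₗ[R] Mi i) [∀ i, IsLocalizedModule (Submonoid.powers (f i)) (g i)]
    (Mij : ι → ι → Type u) [∀ i j, AddCommGroup (Mij i j)] [∀ i j, Module R (Mij i j)] (gij : ∀ i j, M →ₗ[R] Mij i j) [∀ i j, IsLocalizedModule (Submonoid.powers (f i * f j)) (gij i j)]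
    (ρ₁ : ∀ i j, Mi i →ₗ[R] Mij i j) (hρ₁ : ∀ i j, ρ₁ i j ∘ₗ g i = gij i j) (ρ₂ : ∀ i j, Mi j →ₗ[R] Mij i j) (hρ₂ : ∀ i j, ρ₂ i j ∘ₗ g j = gij i j) :
    (∀ m : M, (∀ i, g i m = 0) → m = 0) ∧
      ∀ s : ∀ i, Mi i, (∀ i j, ρ₁ i j (s i) = ρ₂ i j (s j)) → ∃ m : M, ∀ i, g i m = s i := by
  classical
  have hu : ∀ i j, IsUnit (algebraMap R (Module.End R (Mij i j)) (f i * f j)) := fun i j =>
    IsLocalizedModule.map_units (gij i j) ⟨_, Submonoid.mem_powers _⟩
  have hone : ∀ (N : ℕ), ∃ a : ι → R, ∑ i, a i * f i ^ N = 1 := by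
    intro N
    have := Ideal.span_pow_eq_top (Set.range f) hf N
    rw [← Set.range_comp, Ideal.eq_top_iff_one, Ideal.mem_span_range_iff_exists_fun] at this
    simpa using this
  refine ⟨?_, ?_⟩
  · intro m hm
    have : ∀ i, ∃ n, f i ^ n • m = 0 := fun i => by
      obtain ⟨⟨_, n, rfl⟩, hn⟩ := (IsLocalizedModule.eq_zero_iff (Submonoid.powers (f i)) (g i)).1 (hm i)
      exact ⟨n, hn⟩
    choose n hn using this
    obtain ⟨a, ha⟩ := hone (Finset.univ.sup n)
    rw [← one_smul R m, ← ha, Finset.sum_smul]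
    refine Finset.sum_eq_zero fun i _ => ?_
    rw [← Nat.sub_add_cancel (Finset.le_sup (f := n) (Finset.mem_univ i)), pow_add, ← mul_assoc, mul_smul, hn, smul_zero]
  · intro s hs
    have : ∀ i, ∃ n : ℕ, ∃ m, f i ^ n • s i = g i m := fun i => by
      obtain ⟨⟨m, ⟨_, n, rfl⟩⟩, hn⟩ := IsLocalizedModule.surj (Submonoid.powers (f i)) (g i) (s i)
      exact ⟨n, m, hn⟩
    choose n m hm using this
    let N := Finset.univ.sup n
    let m' := fun i => f i ^ (N - n i) • m i
    have hm' : ∀ i, f i ^ N • s i = g i (m' i) := fun i => by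
      rw [show g i (m' i) = f i ^ (N - n i) • g i (m i) from map_smul _ _ _, ← hm, smul_smul, ← pow_add, Nat.sub_add_cancel (Finset.le_sup (f := n) (Finset.mem_univ i))]
    have hc : ∀ i j, ∃ k : ℕ, (f i * f j) ^ k • f j ^ N • m' i = (f i * f j) ^ k • f i ^ N • m' j := by
      intro i j
      have e : gij i j (f j ^ N • m' i) = gij i j (f i ^ N • m' j) := by
        have h1 : gij i j (m' i) = f i ^ N • ρ₁ i j (s i) := by
          rw [← map_smul, hm', ← hρ₁]; rfl
        have h2 : gij i j (m' j) = f j ^ N • ρ₂ i j (s j) := by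
          rw [← map_smul, hm', ← hρ₂]; rfl
        change gij i j (f j ^ N • m' i) = gij i j (f i ^ N • m' j)
        generalize hmi : m' i = mi, hmj : m' j = mj at h1 h2
        rw [map_smul, map_smul, h1, h2, hs, smul_comm]
      obtain ⟨⟨_, k, rfl⟩, hk⟩ := IsLocalizedModule.exists_of_eq (S := Submonoid.powers (f i * f j)) e
      exact ⟨k, hk⟩
    choose k hk using hc
    let Q := Finset.univ.sup fun p : ι × ι => k p.1 p.2
    have hQ : ∀ i j, f j ^ (N + Q) • f i ^ Q • m' i = f i ^ (N + Q) • f j ^ Q • m' j := fun i j => by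
      have hle : k i j ≤ Q := Finset.le_sup (f := fun p : ι × ι => k p.1 p.2) (Finset.mem_univ (i, j))
      have := congrArg ((f i * f j) ^ (Q - k i j) • ·) (hk i j)
      simp only [smul_smul, ← mul_assoc, ← pow_add, Nat.sub_add_cancel hle] at this
      simp only [smul_smul]
      convert this using 2 <;> ring
    obtain ⟨a, ha⟩ := hone (N + Q)
    refine ⟨∑ i, a i • f i ^ Q • m' i, fun j => ?_⟩
    have h1 : f j ^ (N + Q) • ∑ i, a i • f i ^ Q • m' i = f j ^ Q • m' j := by
      rw [Finset.smul_sum]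
      conv_rhs => rw [← one_smul R (f j ^ Q • m' j), ← ha, Finset.sum_smul]
      exact Finset.sum_congr rfl fun i _ => by rw [smul_comm, hQ, smul_smul]
    have hunit := IsLocalizedModule.map_units (g j) (⟨f j ^ (N + Q), N + Q, rfl⟩ : Submonoid.powers (f j))
    apply ((Module.End.isUnit_iff _).1 hunit).1
    simp only [Module.algebraMap_end_apply]
    rw [← map_smul, h1, map_smul, ← hm', smul_smul, ← pow_add, add_comm Q N]

end Groth.Agent.S9658
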