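import Groth.Statements.S9659
import Mathlib

set_option autoImplicit false
universe u
open CAlg
open DirectSum

namespace Groth.Agent.S9659

/-- Let S be a ℤ-graded ring which contains an invertible homogeneous element of positive degree. Then
the set of homogeneous prime ideals of S, with the topology induced from Spec(S), maps
homeomorphically onto Spec(S₀) by p ↦ p ∩ S₀. -/
theorem result {R S : Type u} [CommRing R] [CommRing S] [Algebra R S] (𝒜 : ℤ → Submodule R S) [GradedAlgebra 𝒜]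
    (f : S) (d : ℤ) (hd : 0 < d) (hf : f ∈ 𝒜 d) (hu : IsUnit f) :
    IsHomeomorph (fun p : {p : PrimeSpectrum S // p.asIdeal.IsHomogeneous 𝒜} => PrimeSpectrum.comap (SetLike.GradeZero.subring 𝒜).subtype p.1) := by
  classical
  obtain ⟨g, hg⟩ := hu.exists_right_inv
  let v : S := decompose 𝒜 g (-d)
  have hv : v ∈ 𝒜 (-d) := (decompose 𝒜 g (-d)).2
  have hfv : f * v = 1 := by
    have h1 := DirectSum.coe_decompose_mul_add_of_left_mem 𝒜 (b := g) (j := -d) hf
    rw [hg, add_neg_cancel, decompose_of_mem_same 𝒜 (SetLike.one_mem_graded 𝒜)] at h1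
    exact h1.symm
  obtain ⟨e, he⟩ : ∃ e : ℕ, d = e := ⟨d.toNat, (Int.toNat_of_nonneg hd.le).symm⟩
  let w : ℤ → S := fun n => v ^ n.toNat * f ^ (-n).toNat
  have hw : ∀ n, IsUnit (w n) := fun n =>
    ((IsUnit.of_mul_eq_one (a := v) f (by rw [mul_comm]; exact hfv)).pow _).mul (hu.pow _)
  have hρ : ∀ {n : ℤ} {x : S}, x ∈ 𝒜 n → x ^ e * w n ∈ SetLike.GradeZero.subring 𝒜 := by
    intro n x hx
    show x ^ e * (v ^ n.toNat * f ^ (-n).toNat) ∈ 𝒜 0
    have h := SetLike.mul_mem_graded (SetLike.pow_mem_graded e hx)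
      (SetLike.mul_mem_graded (SetLike.pow_mem_graded n.toNat hv) (SetLike.pow_mem_graded (-n).toNat hf))
    convert h using 2
    simp only [nsmul_eq_mul]
    rw [← he]
    rcases le_or_gt 0 n with h | h
    · rw [Int.toNat_of_nonneg h, Int.toNat_of_nonpos (by omega)]; push_cast; ring
    · rw [Int.toNat_of_nonpos h.le, Int.toNat_of_nonneg (by omega)]; push_cast; ring
  have he0 : 0 < e := by omega
  have key : ∀ (P : Ideal S), P.IsPrime → ∀ {n : ℤ} {x : S}, x ∈ 𝒜 n → (x ^ e * w n ∈ P ↔ x ∈ P) := by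
    intro P hP n x _
    constructor
    · intro h
      exact hP.mem_of_pow_mem e ((hP.mem_or_mem h).resolve_right fun hwP => hP.ne_top (P.eq_top_of_isUnit_mem hwP (hw n)))
    · exact fun h => P.mul_mem_right _ (Ideal.pow_mem_of_mem P h e he0)
  let Φ : {p : PrimeSpectrum S // p.asIdeal.IsHomogeneous 𝒜} → PrimeSpectrum (SetLike.GradeZero.subring 𝒜) :=
    fun p => PrimeSpectrum.comap (SetLike.GradeZero.subring 𝒜).subtype p.1
  have hcont : Continuous Φ := (PrimeSpectrum.continuous_comap _).comp continuous_subtype_val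
  have hinj : Function.Injective Φ := by
    intro p q h
    refine Subtype.ext (PrimeSpectrum.ext ?_)
    have hle : ∀ p q : {p : PrimeSpectrum S // p.asIdeal.IsHomogeneous 𝒜}, Φ p = Φ q → p.1.asIdeal ≤ q.1.asIdeal := by
      intro p q h x hx
      rw [← DirectSum.sum_support_decompose 𝒜 x]
      refine Submodule.sum_mem _ fun i _ => ?_
      have hxi := (decompose 𝒜 x i).2
      have h1 : (⟨_, hρ hxi⟩ : SetLike.GradeZero.subring 𝒜) ∈ (Φ p).asIdeal := (key _ p.1.2 hxi).2 (p.2 i hx)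
      rw [h] at h1
      exact (key _ q.1.2 hxi).1 h1
    exact le_antisymm (hle p q h) (hle q p h.symm)
  have hsurj : Function.Surjective Φ := by
    intro p₀
    let J : Ideal S := p₀.asIdeal.map (SetLike.GradeZero.subring 𝒜).subtype
    have hJ : J.IsHomogeneous 𝒜 := by
      refine Ideal.homogeneous_span 𝒜 _ ?_
      rintro _ ⟨z, -, rfl⟩
      exact ⟨0, z.2⟩
    have hJ0 : ∀ z : SetLike.GradeZero.subring 𝒜, (z : S) ∈ J → z ∈ p₀.asIdeal := by
      intro z hz
      have hcl : ∀ x ∈ J, ∀ s : S, (⟨(decompose 𝒜 (s * x) 0 : S), (decompose 𝒜 (s * x) 0).2⟩ :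
          SetLike.GradeZero.subring 𝒜) ∈ p₀.asIdeal := by
        intro x hx
        induction hx using Submodule.span_induction with
        | mem x hx =>
          obtain ⟨π, hπ, rfl⟩ := hx
          intro s
          have h1 : (decompose 𝒜 (s * (SetLike.GradeZero.subring 𝒜).subtype π) 0 : S) = (decompose 𝒜 s 0 : S) * π := by
            have := DirectSum.coe_decompose_mul_add_of_right_mem 𝒜 (a := s) (i := (0 : ℤ)) π.2
            rwa [add_zero] at this
          convert p₀.asIdeal.mul_mem_left (⟨_, (decompose 𝒜 s 0).2⟩ : SetLike.GradeZero.subring 𝒜) hπ using 1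
          exact Subtype.ext h1
        | zero =>
          intro s
          convert p₀.asIdeal.zero_mem using 1
          exact Subtype.ext (by simp)
        | add a b _ _ ha hb =>
          intro s
          convert p₀.asIdeal.add_mem (ha s) (hb s) using 1
          exact Subtype.ext (by simp [mul_add]; rfl)
        | smul t a _ ha =>
          intro s
          convert ha (s * t) using 1
          exact Subtype.ext (by rw [smul_eq_mul, mul_assoc])
      have := hcl _ hz 1
      rwa [show (⟨(decompose 𝒜 (1 * (z : S)) 0 : S), (decompose 𝒜 (1 * (z : S)) 0).2⟩ :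
          SetLike.GradeZero.subring 𝒜) = z from Subtype.ext (by
        show (decompose 𝒜 (1 * (z : S)) 0 : S) = (z : S)
        rw [one_mul, decompose_of_mem_same 𝒜 z.2])] at this
    have hQ : ∀ {n : ℤ} {x : S} (hx : x ∈ 𝒜 n), x ∈ J.radical → (⟨_, hρ hx⟩ : SetLike.GradeZero.subring 𝒜) ∈ p₀.asIdeal := by
      intro n x hx h
      obtain ⟨k, hk⟩ := h
      refine p₀.2.mem_of_pow_mem k (hJ0 _ ?_)
      show (x ^ e * w n) ^ k ∈ J
      rw [mul_pow, ← pow_mul, mul_comm e k, pow_mul]
      exact J.mul_mem_right _ (Ideal.pow_mem_of_mem J hk e he0)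
    have hQ' : ∀ {n : ℤ} {x : S} (hx : x ∈ 𝒜 n), (⟨_, hρ hx⟩ : SetLike.GradeZero.subring 𝒜) ∈ p₀.asIdeal → x ∈ J.radical := by
      intro n x hx h
      refine ⟨e, ?_⟩
      have h1 : x ^ e * w n ∈ J := Ideal.mem_map_of_mem (SetLike.GradeZero.subring 𝒜).subtype h
      obtain ⟨u, hu'⟩ := hw n
      rw [← hu'] at h1
      simpa [mul_assoc] using J.mul_mem_right (↑u⁻¹) h1
    have hne : J.radical ≠ ⊤ := fun h => by
      have := hJ0 1 (Ideal.radical_eq_top.1 h ▸ Submodule.mem_top)
      exact p₀.2.ne_top ((Ideal.eq_top_iff_one _).2 this)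
    have hprime : J.radical.IsPrime := Ideal.IsHomogeneous.isPrime_of_homogeneous_mem_or_mem hJ.radical hne
      fun {x y} ⟨i, hxi⟩ ⟨j, hyj⟩ hxy => by
        have h := hQ (SetLike.mul_mem_graded hxi hyj) hxy
        have hzu : ∀ z : SetLike.GradeZero.subring 𝒜, IsUnit (z : S) → z ∉ p₀.asIdeal := fun z hz hzp =>
          p₀.2.ne_top ((Ideal.eq_top_iff_one _).2 (hJ0 1 (by
            have h2 : (z : S) ∈ J := Ideal.mem_map_of_mem (SetLike.GradeZero.subring 𝒜).subtype hzp
            rw [J.eq_top_of_isUnit_mem h2 hz]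
            trivial)))
        obtain ⟨c, hc⟩ : ∃ c : S, (x * y) ^ e * w (i + j) * c = (x ^ e * w i) * (y ^ e * w j) ∧ True := by
          refine ⟨((hw (i + j)).unit⁻¹ : Sˣ) * (w i * w j), ?_, trivial⟩
          rw [mul_assoc ((x * y) ^ e), ← mul_assoc (w (i + j)), IsUnit.mul_val_inv, one_mul, mul_pow]
          ring
        have h2 : (x ^ e * w i) * (y ^ e * w j) ∈ J := by
          rw [← hc.1]
          exact J.mul_mem_right _ (Ideal.mem_map_of_mem (SetLike.GradeZero.subring 𝒜).subtype h)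
        have h3 := hJ0 (⟨_, hρ hxi⟩ * ⟨_, hρ hyj⟩) h2
        rcases p₀.2.mem_or_mem h3 with h | h
        · exact Or.inl (hQ' hxi h)
        · exact Or.inr (hQ' hyj h)
    refine ⟨⟨⟨J.radical, hprime⟩, hJ.radical⟩, PrimeSpectrum.ext (le_antisymm ?_ ?_)⟩
    · intro z hz
      obtain ⟨k, hk⟩ : (z : S) ∈ J.radical := hz
      exact p₀.2.mem_of_pow_mem k (hJ0 _ (by rw [Subring.coe_pow] at *; exact hk))
    · intro z hz
      exact Ideal.le_radical (Ideal.mem_map_of_mem (SetLike.GradeZero.subring 𝒜).subtype hz)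
  refine ⟨hcont, ?_, hinj, hsurj⟩
  intro U hU
  obtain ⟨V, hV, rfl⟩ := isOpen_induced_iff.1 hU
  rw [isOpen_iff_forall_mem_open]
  rintro _ ⟨p, hp, rfl⟩
  obtain ⟨_, ⟨s, rfl⟩, hps, hsV⟩ :=
    PrimeSpectrum.isTopologicalBasis_basic_opens.exists_subset_of_mem_open (show p.1 ∈ V from hp) hV
  obtain ⟨i, hi⟩ : ∃ i, (decompose 𝒜 s i : S) ∉ p.1.asIdeal := by
    by_contra hc
    push Not at hc
    apply hps
    rw [← DirectSum.sum_support_decompose 𝒜 s]
    exact Submodule.sum_mem _ fun i _ => hc i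
  have hsi := (decompose 𝒜 s i).2
  refine ⟨PrimeSpectrum.basicOpen (⟨_, hρ hsi⟩ : SetLike.GradeZero.subring 𝒜), ?_, PrimeSpectrum.isOpen_basicOpen,
    fun h => hi ((key _ p.1.2 hsi).1 h)⟩
  intro q hq
  obtain ⟨r, rfl⟩ := hsurj q
  refine ⟨r, hsV ?_, rfl⟩
  intro hrs
  exact hq ((key _ r.1.2 hsi).2 (r.2 i hrs))

end Groth.Agent.S9659
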