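import Groth.Statements.S9660
import Mathlib

set_option autoImplicit false
universe u
open CAlg

namespace Groth.Agent.S9660

/-- Let S be an ℕ-graded ring and I a homogeneous ideal of S. Then V₊(I) ⊆ Proj(S) is empty if and only
if S₊ ⊆ √I. -/
theorem result {R S : Type u} [CommRing R] [CommRing S] [Algebra R S] (𝒜 : ℕ → Submodule R S) [GradedAlgebra 𝒜] (I : HomogeneousIdeal 𝒜) :
    ProjectiveSpectrum.zeroLocus 𝒜 (I : Set S) = ∅ ↔ (HomogeneousIdeal.irrelevant 𝒜).toIdeal ≤ I.toIdeal.radical := by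
  constructor
  · intro h
    rw [I.isHomogeneous.radical_eq]
    refine le_sInf fun J ⟨hJ, hIJ, hJp⟩ => ?_
    by_contra hirr
    exact Set.eq_empty_iff_forall_notMem.1 h ⟨⟨J, hJ⟩, hJp, hirr⟩ hIJ
  · intro h
    rw [Set.eq_empty_iff_forall_notMem]
    intro x hx
    exact x.not_irrelevant_le (show (HomogeneousIdeal.irrelevant 𝒜).toIdeal ≤ x.asHomogeneousIdeal.toIdeal from
      h.trans (x.isPrime.radical_le_iff.2 hx))

end Groth.Agent.S9660
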