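import Groth.Statements.S9661
import Mathlib
import Groth.Agent.CAlg6.K0Hilbert
import Groth.Agent.CAlg6.HilbertBound

set_option autoImplicit false
universe u
attribute [local instance] MvPolynomial.gradedAlgebra
open CAlg CategoryTheory
open Groth.Agent Groth.Agent.CAlg6 MvPolynomial

namespace Groth.Agent.S9661

/-- Let k be a field, d ≥ 1, and I a nonzero homogeneous ideal of the standard-graded polynomial ring
k[X_1, …, X_d]; put M = k[X_1, …, X_d]/I. Then the function n ↦ dim_k M_n (equal to dim_k of the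
degree-n part of the polynomial ring minus dim_k of the degree-n part of I) coincides for all large
n with a polynomial of degree < d - 1, the zero polynomial if d = 1. -/
theorem result {k : Type u} [Field k] (d : ℕ) (hd : 0 < d)
    (I : HomogeneousIdeal (MvPolynomial.homogeneousSubmodule (Fin d) k)) (hI : I ≠ ⊥) :
    ∃ P : Polynomial ℚ, P.degree < ((d - 1 : ℕ) : WithBot ℕ) ∧ ∃ N : ℕ, ∀ n : ℕ, N ≤ n →
      ((Module.finrank k ↥(MvPolynomial.homogeneousSubmodule (Fin d) k n) : ℚ) -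
        (Module.finrank k ↥(I.toIdeal.restrictScalars k ⊓ MvPolynomial.homogeneousSubmodule (Fin d) k n) : ℚ)) = P.eval (n : ℚ) := by
  classical
  obtain ⟨D, rfl⟩ : ∃ D, d = D + 1 := ⟨d - 1, by omega⟩
  let S := MvPolynomial (Fin (D + 1)) k
  let 𝒜 : ℕ → Submodule k S := homogeneousSubmodule (Fin (D + 1)) k
  have h0 : ∀ s ∈ 𝒜 0, s ∈ Set.range (algebraMap k S) := fun s hs => by
    have h1 : s ∈ (1 : Submodule k S) := by rw [← homogeneousSubmodule_zero]; exact hs
    obtain ⟨c, hc⟩ := Submodule.mem_one.1 h1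
    exact ⟨c, hc⟩
  let L : Submodule S S := I.toIdeal
  have hL : CAlg6.K0Hilbert.IsHom 𝒜 L := fun z hz i => I.isHomogeneous i hz
  let l : List S := (List.finRange (D + 1)).map X
  have hl : ∀ x ∈ l, x ∈ 𝒜 1 := fun x hx => by
    obtain ⟨i, -, rfl⟩ := List.mem_map.1 hx
    exact isHomogeneous_X k i
  have hnp := CAlg6.K0Hilbert.np_sub 𝒜 𝒜 h0 (Set.range (X : Fin (D + 1) → S)) (irrelevant_eq_span_X k (D + 1))
    l hl L ⊤ hL (CAlg6.K0Hilbert.isHom_top 𝒜)
    (fun x ⟨i, hi⟩ hx => absurd (hi ▸ List.mem_map.2 ⟨i, List.mem_finRange i, rfl⟩) hx) le_top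
  obtain ⟨r, a, N, -, hN⟩ := hnp
  obtain ⟨φ, hφ⟩ := exists_rank_hom k
  let P : Polynomial ℚ := ∑ i ∈ Finset.range r,
    Polynomial.C ((φ (a i) : ℤ) : ℚ) * (Polynomial.C ((i.factorial : ℚ)⁻¹) * descPochhammer ℚ i)
  have hP : ∀ n, N ≤ n → (Module.finrank k ↥(𝒜 n) : ℚ) -
      (Module.finrank k ↥(I.toIdeal.restrictScalars k ⊓ 𝒜 n) : ℚ) = P.eval (n : ℚ) := by
    intro n hn
    have hfin := fun N' : Submodule S S => CAlg6.K0Hilbert.finite_pc 𝒜 𝒜 h0 N' n
    have h := congrArg φ (hN n hn)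
    simp only [CAlg6.K0Hilbert.c, map_sub, map_sum, map_zsmul, smul_eq_mul] at h
    rw [hφ _ (hfin ⊤), hφ _ (hfin L)] at h
    have htop : CAlg6.K0Hilbert.pc 𝒜 (⊤ : Submodule S S) n = 𝒜 n := by
      rw [CAlg6.K0Hilbert.pc, Submodule.restrictScalars_top, top_inf_eq]
    rw [(LinearEquiv.ofEq _ _ htop).finrank_eq] at h
    have h' := congrArg (fun z : ℤ => (z : ℚ)) h
    push_cast at h'
    rw [h', Polynomial.eval_finset_sum]
    refine Finset.sum_congr rfl fun i _ => ?_
    rw [Polynomial.eval_mul, Polynomial.eval_C, Polynomial.eval_mul, Polynomial.eval_C, inv_mul_eq_div,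
      ← Nat.cast_choose_eq_descPochhammer_div, mul_comm]
  obtain ⟨f, hfI, e, hfe, hf0⟩ : ∃ f : S, f ∈ I.toIdeal ∧ ∃ e, f ∈ 𝒜 e ∧ f ≠ 0 := by
    by_contra hc
    push Not at hc
    refine hI (HomogeneousIdeal.toIdeal_injective ?_)
    rw [HomogeneousIdeal.toIdeal_bot, eq_bot_iff]
    intro z hz
    rw [Ideal.mem_bot, ← DirectSum.sum_support_decompose 𝒜 z]
    exact Finset.sum_eq_zero fun i _ => hc _ (I.isHomogeneous i hz) i (DirectSum.decompose 𝒜 z i).2
  have hlow : ∀ m, (m + D).choose D ≤ Module.finrank k ↥(I.toIdeal.restrictScalars k ⊓ 𝒜 (e + m)) := by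
    intro m
    have : Module.Finite k ↥(I.toIdeal.restrictScalars k ⊓ 𝒜 (e + m)) :=
      CAlg6.K0Hilbert.finite_pc 𝒜 𝒜 h0 L (e + m)
    rw [← finrank_homog k D m]
    let ψ : ↥(homogeneousSubmodule (Fin (D + 1)) k m) →ₗ[k] ↥(I.toIdeal.restrictScalars k ⊓ 𝒜 (e + m)) :=
      ((LinearMap.mulLeft k f).comp (Submodule.subtype _)).codRestrict _ fun z =>
        ⟨Ideal.mul_mem_right _ _ hfI, SetLike.mul_mem_graded hfe z.2⟩
    refine LinearMap.finrank_le_finrank_of_injective (f := ψ) fun z w h => Subtype.ext ?_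
    exact mul_left_cancel₀ hf0 (congrArg Subtype.val h)
  let Q : Polynomial ℚ := Polynomial.preHilbertPoly ℚ D 0 - Polynomial.preHilbertPoly ℚ D e
  have hQ : Q.degree < (D : WithBot ℕ) := by
    have hne : ∀ j, Polynomial.preHilbertPoly ℚ D j ≠ 0 := fun j h => by
      have := Polynomial.coeff_preHilbertPoly_self ℚ D j
      rw [h, Polynomial.coeff_zero] at this
      exact inv_ne_zero (Nat.cast_ne_zero.2 D.factorial_ne_zero) this.symm
    have hdeg : ∀ j, (Polynomial.preHilbertPoly ℚ D j).degree = (D : WithBot ℕ) := fun j => by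
      rw [Polynomial.degree_eq_natDegree (hne j), Polynomial.natDegree_preHilbertPoly]
    refine (Polynomial.degree_sub_lt ((hdeg 0).trans (hdeg e).symm) (hne 0) ?_).trans_eq (hdeg 0)
    rw [Polynomial.leadingCoeff_preHilbertPoly, Polynomial.leadingCoeff_preHilbertPoly]
  refine ⟨P, ?_, N, hP⟩
  rw [Nat.add_sub_cancel]
  refine degree_lt_of_bounded hQ (max N e) (fun n hn => ?_) fun n hn => ?_
  · rw [← hP n (le_of_max_le_left hn), sub_nonneg, Nat.cast_le]
    have : Module.Finite k ↥(𝒜 n) := by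
      have := CAlg6.K0Hilbert.finite_pc 𝒜 𝒜 h0 (⊤ : Submodule S S) n
      rw [CAlg6.K0Hilbert.pc, Submodule.restrictScalars_top, top_inf_eq] at this
      exact this
    exact Submodule.finrank_mono inf_le_right
  · obtain ⟨m, rfl⟩ := Nat.exists_eq_add_of_le (le_of_max_le_right hn)
    rw [← hP _ (le_of_max_le_left hn), Polynomial.eval_sub,
      Polynomial.preHilbertPoly_eq_choose_sub_add ℚ D (Nat.zero_le _),
      Polynomial.preHilbertPoly_eq_choose_sub_add ℚ D (Nat.le_add_right e m), Nat.sub_zero, Nat.add_sub_cancel_left,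
      show Module.finrank k ↥(𝒜 (e + m)) = (e + m + D).choose D from finrank_homog k D (e + m)]
    exact sub_le_sub_left (Nat.cast_le.2 (hlow m)) _

end Groth.Agent.S9661
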