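import Groth.Statements.S9663
import Mathlib
import Groth.Agent.CAlg6.PSEndo

set_option autoImplicit false
universe u
open CAlg

namespace Groth.Agent.S9663

/-- Let R be a ring and f_i, i in a finite index set, elements of R (no condition on the ideal they
generate). Suppose given for each i an R-module M_i on which f_i acts invertibly, for each pair (i,
j) an R-linear isomorphism ψ_ij : (M_i)_{f_j} → (M_j)_{f_i}, and suppose the cocycle condition ψ_jk
∘ ψ_ij = ψ_ik holds as maps (M_i)_{f_j f_k} → (M_k)_{f_i f_j} for all triples (i, j, k). All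
localizations are given through their universal properties: (M_i)_{f_j} with its map g from M_i;
(M_i)_{f_j f_k} with its map t from M_i and the compatible maps u from (M_i)_{f_j} and v from
(M_i)_{f_k}; and the three localized isomorphisms Ψ₁ (ψ_ij on (M_i)_{f_j f_k}), Ψ₂ (ψ_jk on
(M_j)_{f_i f_k}) and Ψ₃ (ψ_ik on (M_i)_{f_j f_k}) are given as maps compatible with the ψ's. Let M ⊆
Π_i M_i be the submodule of families (m_i) with m_i/1 = ψ_ji(m_j/1) in (M_i)_{f_j} for all i, j.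
Then for each i the projection M → M_i exhibits M_i as the localization of M at f_i. -/
theorem result {R : Type u} [CommRing R] {ι : Type u} [Finite ι] (f : ι → R)
    (Mi : ι → Type u) [∀ i, AddCommGroup (Mi i)] [∀ i, Module R (Mi i)]
    (hMi : ∀ i, IsUnit (algebraMap R (Module.End R (Mi i)) (f i)))
    (Mij : ι → ι → Type u) [∀ i j, AddCommGroup (Mij i j)] [∀ i j, Module R (Mij i j)]
    (g : ∀ i j, Mi i →ₗ[R] Mij i j) [∀ i j, IsLocalizedModule (Submonoid.powers (f j)) (g i j)]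
    (ψ : ∀ i j, Mij i j ≃ₗ[R] Mij j i)
    (T : ι → ι → ι → Type u) [∀ i j k, AddCommGroup (T i j k)] [∀ i j k, Module R (T i j k)]
    (t : ∀ i j k, Mi i →ₗ[R] T i j k) [∀ i j k, IsLocalizedModule (Submonoid.powers (f j * f k)) (t i j k)]
    (u : ∀ i j k, Mij i j →ₗ[R] T i j k) (hu : ∀ i j k, u i j k ∘ₗ g i j = t i j k)
    (v : ∀ i j k, Mij i k →ₗ[R] T i j k) (hv : ∀ i j k, v i j k ∘ₗ g i k = t i j k)
    (Ψ₁ : ∀ i j k, T i j k →ₗ[R] T j i k) (hΨ₁ : ∀ i j k, Ψ₁ i j k ∘ₗ u i j k = u j i k ∘ₗ (ψ i j).toLinearMap)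
    (Ψ₂ : ∀ i j k, T j i k →ₗ[R] T k i j) (hΨ₂ : ∀ i j k, Ψ₂ i j k ∘ₗ v j i k = v k i j ∘ₗ (ψ j k).toLinearMap)
    (Ψ₃ : ∀ i j k, T i j k →ₗ[R] T k i j) (hΨ₃ : ∀ i j k, Ψ₃ i j k ∘ₗ v i j k = u k i j ∘ₗ (ψ i k).toLinearMap)
    (hcoc : ∀ i j k, Ψ₂ i j k ∘ₗ Ψ₁ i j k = Ψ₃ i j k)
    (M : Submodule R (∀ i, Mi i)) (hM : ∀ m : ∀ i, Mi i, m ∈ M ↔ ∀ i j, g i j (m i) = ψ j i (g j i (m j))) (i : ι) :
    IsLocalizedModule (Submonoid.powers (f i)) ((LinearMap.proj i).comp M.subtype : ↥M →ₗ[R] Mi i) := by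
  classical
  have : Fintype ι := Fintype.ofFinite ι
  have hp : ∀ a b : R, a * b ∈ Submonoid.powers (a * b) := fun a b => Submonoid.mem_powers _
  -- units
  have hunitij : ∀ a b, IsUnit (algebraMap R (Module.End R (Mij a b)) (f b)) := fun a b =>
    IsLocalizedModule.map_units (g a b) ⟨f b, Submonoid.mem_powers _⟩
  have hunit : ∀ a b (n : ℕ) (x y : Mij a b), f b ^ n • x = f b ^ n • y → x = y := by
    intro a b n x y h
    have h2 := IsLocalizedModule.map_units (g a b) (⟨f b ^ n, n, rfl⟩ : Submonoid.powers (f b))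
    exact ((Module.End.isUnit_iff _).1 h2).1 (show algebraMap R (Module.End R (Mij a b)) (f b ^ n) x = algebraMap R (Module.End R (Mij a b)) (f b ^ n) y by rw [Module.algebraMap_end_apply, Module.algebraMap_end_apply]; exact h)
  have hMiu : ∀ n : ℕ, Function.Bijective (fun x : Mi i => f i ^ n • x) := fun n => by
    have := (Module.End.isUnit_iff _).1 (show IsUnit (algebraMap R (Module.End R (Mi i)) (f i ^ n)) by rw [map_pow]; exact (hMi i).pow n)
    exact this
  have hv0 : ∀ a b c (e : Mij a c), v a b c e = 0 → ∃ n : ℕ, f b ^ n • e = 0 := by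
    intro a b c e he
    obtain ⟨⟨w, ⟨_, k, rfl⟩⟩, hw⟩ := IsLocalizedModule.surj (Submonoid.powers (f c)) (g a c) e
    change f c ^ k • e = g a c w at hw
    have ht : t a b c w = 0 := by
      rw [← hv, LinearMap.comp_apply, ← hw, map_smul, he, smul_zero]
    obtain ⟨⟨_, l, rfl⟩, hl⟩ := (IsLocalizedModule.eq_zero_iff (Submonoid.powers (f b * f c)) (t a b c)).1 ht
    change (f b * f c) ^ l • w = 0 at hl
    refine ⟨l, hunit a c (l + k) _ _ ?_⟩
    rw [smul_zero, smul_smul, show f c ^ (l + k) * f b ^ l = (f b * f c) ^ l * f c ^ k by ring, mul_smul, hw, ← map_smul, hl, map_zero]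
  have hinjii : Function.Injective (g i i) := by
    rw [injective_iff_map_eq_zero]
    intro x hx
    obtain ⟨⟨_, n, rfl⟩, hn⟩ := (IsLocalizedModule.eq_zero_iff (Submonoid.powers (f i)) (g i i)).1 hx
    exact (hMiu n).1 (hn.trans (smul_zero _).symm)
  have hsurii : Function.Surjective (g i i) := by
    intro y
    obtain ⟨⟨w, ⟨_, k, rfl⟩⟩, hw⟩ := IsLocalizedModule.surj (Submonoid.powers (f i)) (g i i) y
    change f i ^ k • y = g i i w at hw
    obtain ⟨w', hw'⟩ := (hMiu k).2 w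
    change f i ^ k • w' = w at hw'
    exact ⟨w', hunit i i k _ _ (by rw [← map_smul, hw', hw])⟩
  have hψid : ∀ a, ψ i i a = a := by
    intro a
    have huv : ∀ b, u i i i b = v i i i b := fun b => by
      obtain ⟨w, rfl⟩ := hsurii b
      exact (LinearMap.congr_fun (hu i i i) w).trans (LinearMap.congr_fun (hv i i i) w).symm
    have hvinj : Function.Injective (v i i i) := by
      rw [injective_iff_map_eq_zero]
      intro e he
      obtain ⟨n, hn⟩ := hv0 i i i e he
      exact hunit i i n _ _ (hn.trans (smul_zero _).symm)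
    have h1 : Ψ₁ i i i (u i i i a) = u i i i (ψ i i a) := LinearMap.congr_fun (hΨ₁ i i i) a
    have h2 : Ψ₂ i i i (v i i i (ψ i i a)) = v i i i (ψ i i (ψ i i a)) := LinearMap.congr_fun (hΨ₂ i i i) _
    have h3 : Ψ₃ i i i (v i i i a) = u i i i (ψ i i a) := LinearMap.congr_fun (hΨ₃ i i i) a
    have h4 : Ψ₂ i i i (Ψ₁ i i i (u i i i a)) = Ψ₃ i i i (u i i i a) := LinearMap.congr_fun (hcoc i i i) _
    rw [h1, huv (ψ i i a), h2, huv a, h3, huv (ψ i i a)] at h4
    exact (ψ i i).injective (hvinj h4)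
  refine ⟨?_, ?_, ?_⟩
  · rintro ⟨_, n, rfl⟩
    show IsUnit (algebraMap R (Module.End R (Mi i)) (f i ^ n))
    rw [map_pow]; exact (hMi i).pow n
  · intro x
    have : ∀ j, ∃ n : ℕ, ∃ z : Mi j, f i ^ n • ψ i j (g i j x) = g j i z := fun j => by
      obtain ⟨⟨z, ⟨_, n, rfl⟩⟩, hz⟩ := IsLocalizedModule.surj (Submonoid.powers (f i)) (g j i) (ψ i j (g i j x))
      exact ⟨n, z, hz⟩
    choose n z hz using this
    let N := Finset.univ.sup n
    obtain ⟨z', hz'⟩ : ∃ z' : ∀ j, Mi j, ∀ j, g j i (z' j) = f i ^ N • ψ i j (g i j x) :=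
      ⟨fun j => f i ^ (N - n j) • z j, fun j => by
        rw [map_smul, ← hz, smul_smul, ← pow_add, Nat.sub_add_cancel (Finset.le_sup (f := n) (Finset.mem_univ j))]⟩
    have hzi : z' i = f i ^ N • x := hinjii (by rw [hz', hψid, map_smul])
    have hcomp : ∀ j k, ∃ l : ℕ, f i ^ l • (ψ j k (g j k (z' j)) - g k j (z' k)) = 0 := by
      intro j k
      apply hv0
      rw [map_sub, sub_eq_zero]
      have e1 : u j i k (g j i (z' j)) = v j i k (g j k (z' j)) :=
        (LinearMap.congr_fun (hu j i k) _).trans (LinearMap.congr_fun (hv j i k) _).symm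
      have e2 : u i j k (g i j x) = v i j k (g i k x) :=
        (LinearMap.congr_fun (hu i j k) _).trans (LinearMap.congr_fun (hv i j k) _).symm
      have e3 : u k i j (g k i (z' k)) = v k i j (g k j (z' k)) :=
        (LinearMap.congr_fun (hu k i j) _).trans (LinearMap.congr_fun (hv k i j) _).symm
      have h1 : Ψ₁ i j k (u i j k (g i j x)) = u j i k (ψ i j (g i j x)) := LinearMap.congr_fun (hΨ₁ i j k) _
      have h2 : Ψ₂ i j k (v j i k (g j k (z' j))) = v k i j (ψ j k (g j k (z' j))) := LinearMap.congr_fun (hΨ₂ i j k) _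
      have h3 : Ψ₃ i j k (v i j k (g i k x)) = u k i j (ψ i k (g i k x)) := LinearMap.congr_fun (hΨ₃ i j k) _
      have h4 : Ψ₂ i j k (Ψ₁ i j k (u i j k (g i j x))) = Ψ₃ i j k (u i j k (g i j x)) := LinearMap.congr_fun (hcoc i j k) _
      rw [← h2, ← e3, hz', map_smul, ← h3, ← e2, ← h4, h1, ← map_smul (Ψ₂ i j k), ← map_smul (u j i k), ← hz', e1]
    choose l hl using hcomp
    let Q := Finset.univ.sup fun p : ι × ι => l p.1 p.2
    let m : ∀ j, Mi j := fun j => f i ^ Q • z' j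
    have hm : m ∈ M := by
      rw [hM]
      intro a b
      have hle : l b a ≤ Q := Finset.le_sup (f := fun p : ι × ι => l p.1 p.2) (Finset.mem_univ (b, a))
      show g a b (f i ^ Q • z' a) = ψ b a (g b a (f i ^ Q • z' b))
      rw [map_smul, map_smul, map_smul, eq_comm, ← sub_eq_zero, ← smul_sub, ← Nat.sub_add_cancel hle, pow_add, mul_smul, hl, smul_zero]
    refine ⟨⟨⟨m, hm⟩, ⟨f i ^ (Q + N), Q + N, rfl⟩⟩, ?_⟩
    show f i ^ (Q + N) • x = f i ^ Q • z' i
    rw [hzi, smul_smul, pow_add]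
  · rintro ⟨m₁, h₁⟩ ⟨m₂, h₂⟩ he
    change m₁ i = m₂ i at he
    have hd := (hM _).1 (sub_mem h₁ h₂)
    have : ∀ j, ∃ n : ℕ, f i ^ n • (m₁ - m₂) j = 0 := fun j => by
      have h := hd i j
      rw [Pi.sub_apply, he, sub_self, map_zero, eq_comm, LinearEquiv.map_eq_zero_iff] at h
      obtain ⟨⟨_, n, rfl⟩, hn⟩ := (IsLocalizedModule.eq_zero_iff (Submonoid.powers (f i)) (g j i)).1 h
      exact ⟨n, hn⟩
    choose n hn using this
    refine ⟨⟨f i ^ Finset.univ.sup n, _, rfl⟩, Subtype.ext (funext fun j => ?_)⟩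
    show f i ^ Finset.univ.sup n • m₁ j = f i ^ Finset.univ.sup n • m₂ j
    rw [← sub_eq_zero, ← smul_sub, ← Nat.sub_add_cancel (Finset.le_sup (f := n) (Finset.mem_univ j)), pow_add, mul_smul]
    rw [show m₁ j - m₂ j = (m₁ - m₂) j from rfl, hn, smul_zero]

end Groth.Agent.S9663
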