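import Groth.Statements.S9666
import Mathlib
import Groth.Agent.CAlg6.FiberMod

set_option autoImplicit false
universe u
open CAlg
open Groth.Agent

namespace Groth.Agent.S9666

/-- Part (3): (A ⊆ A_fin): let R → S be a ring map with S Noetherian, N an S-module, q a prime of S and
p the prime of R below q; an associated prime of a module is a prime ideal equal to the annihilator
of some element. If q is an associated prime of the S-module N ⊗_R κ(p) (the fibre module over p, an
S-module by restriction of scalars), then q is an associated prime of the S-module N/pN. -/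
theorem result {R S : Type u} [CommRing R] [CommRing S] [Algebra R S] (N : Type u) [AddCommGroup N] [Module S N] [Module R N] [IsScalarTower R S N] [IsNoetherianRing S]
    (p : Ideal R) [p.IsPrime] (q : Ideal S) [q.IsPrime] (hq : q.comap (algebraMap R S) = p)
    (h : q ∈ FlatCA.ass S (FlatCA.fiberMod p S N)) :
    q ∈ FlatCA.ass S (N ⧸ (p.map (algebraMap R S)) • (⊤ : Submodule S N)) := by
  classical
  obtain ⟨hqp, x, hx⟩ := CAlg6.mem_ass_iff.1 h
  obtain ⟨r, hr, n, hn⟩ := CAlg6.exists_smul_eq_toFiberMod x
  obtain ⟨G, hG⟩ := IsNoetherian.noetherian (R := S) (M := S) q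
  have : ∀ g : G, ∃ t ∉ p, algebraMap R S t • ((g : S) • n) ∈ p.map (algebraMap R S) • (⊤ : Submodule S N) := by
    intro g
    rw [← CAlg6.toFiberMod_eq_zero_iff, map_smul, ← hn, smul_comm, (hx g).1 (hG ▸ Submodule.subset_span g.2), smul_zero]
  choose t ht htn using this
  have hT : (∏ g : G, t g) ∈ p.primeCompl := prod_mem fun g _ => ht g
  refine CAlg6.mem_ass_iff.2 ⟨hqp, Submodule.Quotient.mk (algebraMap R S (∏ g : G, t g) • n), fun s => ?_⟩
  rw [← Submodule.Quotient.mk_smul, Submodule.Quotient.mk_eq_zero]
  constructor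
  · intro hs
    rw [← hG] at hs
    induction hs using Submodule.span_induction with
    | mem g hg =>
      rw [← Finset.mul_prod_erase Finset.univ _ (Finset.mem_univ (⟨g, hg⟩ : G)), mul_comm, map_mul, mul_smul, smul_comm]
      exact Submodule.smul_mem _ _ (by rw [smul_comm]; exact htn ⟨g, hg⟩)
    | zero => rw [zero_smul]; exact zero_mem _
    | add a b _ _ ha hb => rw [add_smul]; exact add_mem ha hb
    | smul c a _ ha => rw [smul_eq_mul, mul_smul]; exact Submodule.smul_mem _ c ha
  · intro hs
    have h0 : FlatCA.toFiberMod p S N (s • algebraMap R S (∏ g : G, t g) • n) = 0 :=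
      (CAlg6.toFiberMod_eq_zero_iff _).2 ⟨1, p.primeCompl.one_mem, by rwa [map_one, one_smul]⟩
    rw [map_smul, map_smul, ← hn, smul_smul, smul_smul, ← hx, mul_assoc, ← map_mul] at h0
    refine (hqp.mem_or_mem h0).resolve_right fun hc => ?_
    have : (∏ g : G, t g) * r ∈ p := hq ▸ hc
    exact p.primeCompl.mul_mem hT hr this

end Groth.Agent.S9666
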