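import Groth.Statements.S9667
import Mathlib
import Groth.Agent.CAlg6.FiberMod

set_option autoImplicit false
universe u
open CAlg
open Groth.Agent

namespace Groth.Agent.S9667

open TensorProduct in
/-- Part (3): (B = B_fin): let R → S be a ring map with S Noetherian, N an S-module, M an R-module and q
a prime of S; an associated prime of a module is a prime ideal equal to the annihilator of some
element. If q is an associated prime of the S-module N ⊗_R M, then there is a finitely generated
R-submodule M' ⊆ M such that q is an associated prime of the S-module N ⊗_R M'. -/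
theorem result {R S : Type u} [CommRing R] [CommRing S] [Algebra R S] (N : Type u) [AddCommGroup N] [Module S N] [Module R N] [IsScalarTower R S N] [IsNoetherianRing S]
    (M : Type u) [AddCommGroup M] [Module R M] (q : Ideal S) [q.IsPrime] (h : q ∈ FlatCA.ass S (N ⊗[R] M)) :
    ∃ M' : Submodule R M, M'.FG ∧ q ∈ FlatCA.ass S (N ⊗[R] ↥M') := by
  classical
  obtain ⟨hqp, z, hz⟩ := CAlg6.mem_ass_iff.1 h
  obtain ⟨P, hP, t, ht⟩ := TensorProduct.exists_of_fg ((TensorProduct.comm R N M) z)
  let z0 : N ⊗[R] ↥P := (TensorProduct.comm R ↥P N) t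
  let F : ∀ (A : Submodule R M), N ⊗[R] ↥A →ₗ[S] N ⊗[R] M := fun A => AlgebraTensorModule.map LinearMap.id A.subtype
  let ι : ∀ (A B : Submodule R M), A ≤ B → (N ⊗[R] ↥A →ₗ[S] N ⊗[R] ↥B) := fun A B h => AlgebraTensorModule.map LinearMap.id (Submodule.inclusion h)
  have hcommF : ∀ (A : Submodule R M) (y : N ⊗[R] ↥A), (TensorProduct.comm R N M) (F A y) = LinearMap.rTensor N A.subtype ((TensorProduct.comm R N ↥A) y) := by
    intro A y
    induction y using TensorProduct.induction_on with
    | zero => simp
    | tmul a b => simp [F]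
    | add a b ha hb => simp only [map_add, ha, hb]
  have hcommι : ∀ (A B : Submodule R M) (h : A ≤ B) (y : N ⊗[R] ↥A), (TensorProduct.comm R N ↥B) (ι A B h y) = LinearMap.rTensor N (Submodule.inclusion h) ((TensorProduct.comm R N ↥A) y) := by
    intro A B h y
    induction y using TensorProduct.induction_on with
    | zero => simp
    | tmul a b => simp [ι]
    | add a b ha hb => simp only [map_add, ha, hb]
  have hFι : ∀ (A B : Submodule R M) (h : A ≤ B) (y : N ⊗[R] ↥A), F B (ι A B h y) = F A y := by
    intro A B h y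
    induction y using TensorProduct.induction_on with
    | zero => simp
    | tmul a b => simp [F, ι]
    | add a b ha hb => simp only [map_add, ha, hb]
  have hιι : ∀ (A B C : Submodule R M) (h : A ≤ B) (h' : B ≤ C) (y : N ⊗[R] ↥A), ι B C h' (ι A B h y) = ι A C (h.trans h') y := by
    intro A B C h h' y
    induction y using TensorProduct.induction_on with
    | zero => simp
    | tmul a b => rfl
    | add a b ha hb => simp only [map_add, ha, hb]
  have hF : F P z0 = z := by
    apply (TensorProduct.comm R N M).injective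
    rw [hcommF, ← ht]
    simp [z0]
  obtain ⟨G, hG⟩ := IsNoetherian.noetherian (R := S) (M := S) q
  have : ∀ g : G, ∃ (Q : Submodule R M) (hPQ : P ≤ Q), Q.FG ∧ ι P Q hPQ ((g : S) • z0) = 0 := by
    intro g
    have h0 : LinearMap.rTensor N P.subtype ((TensorProduct.comm R N ↥P) ((g : S) • z0)) = 0 := by
      rw [← hcommF, map_smul, hF, (hz g).1 (hG ▸ Submodule.subset_span g.2), map_zero]
    obtain ⟨Q, hPQ, hQ, hQ0⟩ := TensorProduct.eq_zero_of_fg_of_subtype_eq_zero hP h0
    exact ⟨Q, hPQ, hQ, (TensorProduct.comm R N ↥Q).injective (by rw [hcommι, hQ0, map_zero])⟩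
  choose Q hPQ hQ hQ0 using this
  let Q' : Submodule R M := P ⊔ ⨆ g, Q g
  refine ⟨Q', hP.sup (Submodule.fg_iSup _ hQ), CAlg6.mem_ass_iff.2 ⟨hqp, ι P Q' le_sup_left z0, fun s => ?_⟩⟩
  constructor
  · intro hs
    rw [← hG] at hs
    induction hs using Submodule.span_induction with
    | mem g hg =>
      rw [← map_smul]
      rw [← hιι P (Q ⟨g, hg⟩) Q' (hPQ _) ((le_iSup Q _).trans le_sup_right), hQ0 ⟨g, hg⟩, map_zero]
    | zero => rw [zero_smul]
    | add a b _ _ ha hb => rw [add_smul, ha, hb, add_zero]
    | smul c a _ ha => rw [smul_eq_mul, mul_smul, ha, smul_zero]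
  · intro hs
    have := congrArg (F Q') hs
    rw [map_smul, hFι, hF, map_zero] at this
    exact (hz s).2 this

end Groth.Agent.S9667
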