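import Groth.Statements.S9668
import Mathlib
import Groth.Agent.CAlg6.FiberMod

set_option autoImplicit false
universe u
open CAlg
open Groth.Agent

namespace Groth.Agent.S9668

open TensorProduct in
/-- Part (4): (B = B_fin): let R → S be a ring map, N an S-module flat over R, M an R-module and q a
prime of S; an associated prime of a module is a prime ideal equal to the annihilator of some
element. If q is an associated prime of the S-module N ⊗_R M, then there is a finitely generated
R-submodule M' ⊆ M such that q is an associated prime of the S-module N ⊗_R M'. -/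
theorem result {R S : Type u} [CommRing R] [CommRing S] [Algebra R S] (N : Type u) [AddCommGroup N] [Module S N] [Module R N] [IsScalarTower R S N] [Module.Flat R N]
    (M : Type u) [AddCommGroup M] [Module R M] (q : Ideal S) [q.IsPrime] (h : q ∈ FlatCA.ass S (N ⊗[R] M)) :
    ∃ M' : Submodule R M, M'.FG ∧ q ∈ FlatCA.ass S (N ⊗[R] ↥M') := by
  obtain ⟨hqp, z, hz⟩ := CAlg6.mem_ass_iff.1 h
  obtain ⟨P, hP, t, ht⟩ := TensorProduct.exists_of_fg ((TensorProduct.comm R N M) z)
  let z0 : N ⊗[R] ↥P := (TensorProduct.comm R ↥P N) t
  let F : N ⊗[R] ↥P →ₗ[S] N ⊗[R] M := AlgebraTensorModule.map LinearMap.id P.subtype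
  have hF : F z0 = z := by
    apply (TensorProduct.comm R N M).injective
    rw [← ht]
    show (TensorProduct.comm R N M) (F ((TensorProduct.comm R ↥P N) t)) = _
    clear ht
    induction t using TensorProduct.induction_on with
    | zero => simp
    | tmul a b => simp [F]
    | add a b ha hb => simp only [map_add, ha, hb]
  have hinj : Function.Injective F :=
    Module.Flat.lTensor_preserves_injective_linearMap (M := N) P.subtype P.injective_subtype
  refine ⟨P, hP, CAlg6.mem_ass_iff.2 ⟨hqp, z0, fun s => ?_⟩⟩
  rw [hz, ← hF, ← map_smul, map_eq_zero_iff F hinj]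

end Groth.Agent.S9668
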