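import Groth.Statements.S9670
import Mathlib
import Groth.Agent.CAlg6.FiberMod

set_option autoImplicit false
universe u
open CAlg
open Groth.Agent

namespace Groth.Agent.S9670

open TensorProduct in
/-- Part (5): (B_fin ⊆ A_fin): let R → S be a ring map with R Noetherian, N an S-module flat over R, M a
finite R-module, q a prime of S and p the prime of R below q; an associated prime of a module is a
prime ideal equal to the annihilator of some element. If q is an associated prime of the S-module N
⊗_R M, then q is an associated prime of the S-module N/pN. -/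
theorem result {R S : Type u} [CommRing R] [CommRing S] [Algebra R S] (N : Type u) [AddCommGroup N] [Module S N] [Module R N] [IsScalarTower R S N] [IsNoetherianRing R] [Module.Flat R N]
    (M : Type u) [AddCommGroup M] [Module R M] [Module.Finite R M] (p : Ideal R) [p.IsPrime] (q : Ideal S) [q.IsPrime] (hq : q.comap (algebraMap R S) = p)
    (h : q ∈ FlatCA.ass S (N ⊗[R] M)) :
    q ∈ FlatCA.ass S (N ⧸ (p.map (algebraMap R S)) • (⊤ : Submodule S N)) := by
  have main : ∀ q' : Ideal S, q' ∈ FlatCA.ass S (N ⊗[R] M) →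
      q' ∈ FlatCA.ass S (N ⧸ ((q'.comap (algebraMap R S)).map (algebraMap R S)) • (⊤ : Submodule S N)) := by
    refine IsNoetherianRing.induction_on_isQuotientEquivQuotientPrime R ‹Module.Finite R M›
      (motive := fun A _ _ _ => ∀ q' : Ideal S, q' ∈ FlatCA.ass S (N ⊗[R] A) →
        q' ∈ FlatCA.ass S (N ⧸ ((q'.comap (algebraMap R S)).map (algebraMap R S)) • (⊤ : Submodule S N))) ?_ ?_ ?_
    · intro A _ _ _ _ q' hq'
      obtain ⟨hqp, z, hz⟩ := CAlg6.mem_ass_iff.1 hq'
      exact absurd ((Ideal.eq_top_iff_one q').2 ((hz 1).2 (Subsingleton.elim _ _))) hqp.ne_top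
    · intro A _ _ _ p₁ e₁ q' hq'
      obtain ⟨hqp, z, hz⟩ := CAlg6.mem_ass_iff.1 hq'
      have : p₁.1.IsPrime := p₁.2
      let E := TensorProduct.tensorQuotEquivQuotSMul N p₁.1
      let φ : N ⊗[R] A →ₗ[S] N ⊗[R] (R ⧸ p₁.1) := AlgebraTensorModule.map LinearMap.id e₁.toLinearMap
      have hφ : Function.Injective φ :=
        Module.Flat.lTensor_preserves_injective_linearMap (M := N) e₁.toLinearMap e₁.injective
      have hE : ∀ y : N, E (y ⊗ₜ[R] (Ideal.Quotient.mk p₁.1 1)) = Submodule.Quotient.mk y := fun y => by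
        show TensorProduct.quotTensorEquivQuotSMul N p₁.1 ((Ideal.Quotient.mk p₁.1 1) ⊗ₜ[R] y) = _
        rw [TensorProduct.quotTensorEquivQuotSMul_mk_tmul, one_smul]
      obtain ⟨n, hn⟩ : ∃ n : N, φ z = n ⊗ₜ[R] (Ideal.Quotient.mk p₁.1 1) := by
        obtain ⟨n, hn⟩ := Submodule.Quotient.mk_surjective _ (E (φ z))
        exact ⟨n, E.injective (by rw [hE, hn])⟩
      have hs : ∀ s : S, s ∈ q' ↔ s • n ∈ p₁.1 • (⊤ : Submodule R N) := fun s => by
        rw [hz, ← map_eq_zero_iff φ hφ, map_smul, hn, TensorProduct.smul_tmul', ← E.map_eq_zero_iff, hE, Submodule.Quotient.mk_eq_zero]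
      have hp : q'.comap (algebraMap R S) = p₁.1 := by
        ext r
        rw [Ideal.mem_comap, hs, algebraMap_smul]
        constructor
        · intro h
          by_contra hr
          apply hqp.ne_top
          rw [Ideal.eq_top_iff_one, hs, one_smul]
          exact CAlg6.mem_smul_top_of_smul_mem hr h
        · exact fun hr => Submodule.smul_mem_smul hr trivial
      rw [hp]
      refine CAlg6.mem_ass_iff.2 ⟨hqp, Submodule.Quotient.mk n, fun s => ?_⟩
      rw [hs, ← Submodule.Quotient.mk_smul, Submodule.Quotient.mk_eq_zero, CAlg6.mem_map_smul_top_iff]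
    · intro A _ _ _ B _ _ _ C _ _ _ f g hf hg hex hA hC q' hq'
      obtain ⟨hqp, z, hz⟩ := CAlg6.mem_ass_iff.1 hq'
      let F : N ⊗[R] A →ₗ[S] N ⊗[R] B := AlgebraTensorModule.map LinearMap.id f
      let G : N ⊗[R] B →ₗ[S] N ⊗[R] C := AlgebraTensorModule.map LinearMap.id g
      have hF : Function.Injective F := Module.Flat.lTensor_preserves_injective_linearMap (M := N) f hf
      have hFG : Function.Exact F G := lTensor_exact N hex hg
      by_cases hc : ∀ s : S, s • G z = 0 → s ∈ q'
      · refine hC q' (CAlg6.mem_ass_iff.2 ⟨hqp, G z, fun s => ⟨fun hs => ?_, hc s⟩⟩)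
        rw [← map_smul, (hz s).1 hs, map_zero]
      · push Not at hc
        obtain ⟨t, ht, htq⟩ := hc
        obtain ⟨y, hy⟩ := (hFG (t • z)).1 (by rw [map_smul, ht])
        refine hA q' (CAlg6.mem_ass_iff.2 ⟨hqp, y, fun s => ?_⟩)
        rw [← map_eq_zero_iff F hF, map_smul, hy, smul_smul, ← hz]
        exact ⟨fun hs => Ideal.mul_mem_right _ _ hs, fun hs => (hqp.mem_or_mem hs).resolve_right htq⟩
  have := main q h
  rwa [hq] at this

end Groth.Agent.S9670
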