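import Groth.Statements.S9671
import Mathlib
import Groth.Agent.CAlg6.GradedCone

set_option autoImplicit false
universe u
open CAlg
open Groth.Agent

namespace Groth.Agent.S9671

/-- Let R be a ring and R' an R-algebra of finite type. Then there are an ℕ-graded R-algebra S such that
R → S₀ is bijective and S is generated as an R-algebra by a finite set of degree-1 elements, an
element f ∈ S₁, and a ring isomorphism e between the degree-zero part S_(f) of the localization S_f
and R' which matches r/1 with the image of r in R' for every r ∈ R (so R' is identified with S_(f)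
as an R-algebra). The published statement also produces, from a finite R'-module, a finite graded
S-module whose degree-zero localization at f recovers it; that half is not part of this row. -/
theorem result (R R' : Type u) [CommRing R] [CommRing R'] [Algebra R R'] [Algebra.FiniteType R R'] :
    ∃ (S : Type u) (_ : CommRing S) (_ : Algebra R S) (𝒜 : ℕ → Submodule R S) (_ : GradedAlgebra 𝒜) (f : S) (_ : f ∈ 𝒜 1) (s : Finset S)
      (e : HomogeneousLocalization.Away 𝒜 f ≃+* R'),
      Function.Injective (algebraMap R S) ∧ (∀ x ∈ 𝒜 0, x ∈ Set.range (algebraMap R S)) ∧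
      (↑s ⊆ (𝒜 1 : Set S)) ∧ Algebra.adjoin R (s : Set S) = ⊤ ∧
      ∀ r : R, (e.symm (algebraMap R R' r)).val = algebraMap S (Localization.Away f) (algebraMap R S r) := by
  classical
  obtain ⟨m, φ, hφ⟩ := Algebra.FiniteType.iff_quotient_mvPolynomial''.1 ‹Algebra.FiniteType R R'›
  let x : Fin m → R' := fun i => φ (MvPolynomial.X i)
  have htop : Algebra.adjoin R (Set.range x) = ⊤ := by
    rw [show Set.range x = φ '' Set.range MvPolynomial.X from (Set.range_comp φ MvPolynomial.X),
      ← AlgHom.map_adjoin, MvPolynomial.adjoin_range_X, Algebra.map_top]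
    exact (AlgHom.range_eq_top φ).2 hφ
  let e := RingEquiv.ofBijective (CAlg6.GradedCone.toR'0 R R' x) ((CAlg6.GradedCone.bijective R R' x).2 htop)
  refine ⟨_, inferInstance, inferInstance, CAlg6.GradedCone.grade R R' x, inferInstance,
    CAlg6.GradedCone.genS R R' x none, CAlg6.GradedCone.genS_mem R R' x none,
    Finset.univ.image (CAlg6.GradedCone.genS R R' x), e,
    CAlg6.GradedCone.algebraMap_injective R R' x, fun z hz => CAlg6.GradedCone.grade_zero_le R R' x hz, ?_, ?_, fun r => ?_⟩
  · intro z hz
    simp only [Finset.coe_image, Finset.coe_univ, Set.image_univ] at hz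
    obtain ⟨o, rfl⟩ := hz
    exact CAlg6.GradedCone.genS_mem R R' x o
  · rw [Finset.coe_image, Finset.coe_univ, Set.image_univ]
    exact CAlg6.GradedCone.adjoin_genS R R' x
  · have h0 : algebraMap R (CAlg6.GradedCone.Sub R R' x) r ∈ CAlg6.GradedCone.grade R R' x (0 • 1) := by
      rw [zero_smul]; exact Submodule.mem_one.2 ⟨r, rfl⟩
    have : e.symm (algebraMap R R' r) = HomogeneousLocalization.Away.mk (CAlg6.GradedCone.grade R R' x)
        (CAlg6.GradedCone.genS_mem R R' x none) 0 (algebraMap R _ r) h0 := by
      rw [RingEquiv.symm_apply_eq]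
      show _ = CAlg6.GradedCone.toR'0 R R' x _
      rw [CAlg6.GradedCone.toR'0, RingHom.comp_apply, HomogeneousLocalization.algebraMap_apply,
        HomogeneousLocalization.Away.val_mk, CAlg6.GradedCone.toR'_mk, AlgHom.commutes]
    rw [this, HomogeneousLocalization.Away.val_mk, ← Localization.mk_one_eq_algebraMap]
    simp only [pow_zero]
    rfl

end Groth.Agent.S9671
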