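import Groth.Statements.S9676
import Groth.Agent.NagaNorm57.Codim1

set_option autoImplicit false
universe u
open CategoryTheory CategoryTheory.Limits AlgebraicGeometry
open Mor

namespace Groth.Agent.S9676

/-- Let f : Y ⟶ X be of finite type with Y reduced and every affine open of X having Nagata coordinate
ring, and let X' be the normalization of X in Y. If x' is a point of X' whose local ring has
dimension 1 and over which the fibre of Y ⟶ X' is empty, then the local ring of X' at x' is a
discrete valuation ring. (Such an f is automatically quasi-separated; the binder is carried only to
form the relative normalization.) -/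
theorem result {X Y : Scheme.{u}} (f : Y ⟶ X)
    [LocallyOfFiniteType f] [QuasiCompact f] [QuasiSeparated f] [IsReduced Y]
    (hX : ∀ U : X.affineOpens, CAlg.IsNagata Γ(X, U))
    (x' : ↥f.normalization) (hdim : ringKrullDim (f.normalization.presheaf.stalk x') = 1)
    (hx' : x' ∉ Set.range f.toNormalization.base) :
    ∃ _ : IsDomain (f.normalization.presheaf.stalk x'),
      IsDiscreteValuationRing (f.normalization.presheaf.stalk x') := by
  haveI : IsLocallyNoetherian X := ⟨fun U => (hX U).1⟩
  haveI : IsLocallyNoetherian Y := LocallyOfFiniteType.isLocallyNoetherian f
  haveI : IsFinite f.fromNormalization := NagaNorm57.isFinite_fromNormalization f hX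
    NagaNorm57.locallyFinite_irreducibleComponents
    fun x _ => Desc59.EtaleDim.essFiniteType_residueFieldMap f x
  haveI : IsLocallyNoetherian f.normalization :=
    LocallyOfFiniteType.isLocallyNoetherian f.fromNormalization
  exact NagaNorm57.isDVR_stalk_normalization f x' hdim hx'

end Groth.Agent.S9676
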