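import Groth.Statements.S9692
import Groth.Agent.Approx60.Segre

set_option autoImplicit false
universe u
open CategoryTheory CategoryTheory.Limits AlgebraicGeometry
open Mor

namespace Groth.Agent.S9692

/-- A composition of H-projective morphisms (closed immersions into a projective space P^n over the
target, followed by the projection) is H-projective. -/
theorem result {X Y Z : Scheme.{u}} (f : X ⟶ Y) (g : Y ⟶ Z)
    (hf : RelProj.IsHProjective f) (hg : RelProj.IsHProjective g) :
    RelProj.IsHProjective (f ≫ g) := by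
  obtain ⟨n, i, hi, hif⟩ := hf
  obtain ⟨m, j, hj, hjg⟩ := hg
  let t := CohB1.ProjSpace.toSpec n (ULift.{u} ℤ)
  let π : CohB1.ProjSpaceOver n Y ⟶ CohB1.ProjSpaceOver n Z :=
    pullback.lift (pullback.fst t (specULiftZIsTerminal.from Y)) (pullback.snd t (specULiftZIsTerminal.from Y) ≫ g)
      (specULiftZIsTerminal.hom_ext _ _)
  have hπ : IsPullback π (CohB1.ProjSpaceOver.toBase n Y) (CohB1.ProjSpaceOver.toBase n Z) g := by
    refine IsPullback.of_right ?_ (pullback.lift_snd _ _ _) (IsPullback.of_hasPullback t (specULiftZIsTerminal.from Z))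
    rw [show π ≫ pullback.fst _ _ = pullback.fst t _ from pullback.lift_fst _ _ _,
      show g ≫ specULiftZIsTerminal.from Z = specULiftZIsTerminal.from Y from specULiftZIsTerminal.hom_ext _ _]
    exact IsPullback.of_hasPullback _ _
  let q : CohB1.ProjSpaceOver n Y ⟶
      pullback (CohB1.ProjSpaceOver.toBase n Z) (CohB1.ProjSpaceOver.toBase m Z) :=
    pullback.lift π (CohB1.ProjSpaceOver.toBase n Y ≫ j) (by rw [hπ.w, Category.assoc, hjg])
  have hq : IsClosedImmersion q := by
    have h : IsPullback q (CohB1.ProjSpaceOver.toBase n Y)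
        (pullback.snd (CohB1.ProjSpaceOver.toBase n Z) (CohB1.ProjSpaceOver.toBase m Z)) j := by
      refine IsPullback.of_right ?_ (pullback.lift_snd _ _ _) (IsPullback.of_hasPullback _ _)
      rw [hjg, show q ≫ pullback.fst _ _ = π from pullback.lift_fst _ _ _]
      exact hπ
    exact MorphismProperty.of_isPullback h.flip hj
  obtain ⟨φ, hφ, hφw⟩ := Approx60.Segre.exists_segre Z n m
  refine ⟨n * m + n + m, i ≫ q ≫ φ, inferInstance, ?_⟩
  simp only [Category.assoc, hφw]
  rw [pullback.lift_fst_assoc, hπ.w, reassoc_of% hif]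

end Groth.Agent.S9692
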