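import Groth.Statements.S9693


set_option autoImplicit false
universe u
open CategoryTheory CategoryTheory.Limits AlgebraicGeometry
open Mor

namespace Groth.Agent.S9693

/-- A base change of an H-projective morphism (a closed immersion into some P^n over the base followed
by the projection) is H-projective. -/
theorem result {X S S' : Scheme.{u}} (f : X ⟶ S) (hf : RelProj.IsHProjective f)
    (g : S' ⟶ S) : RelProj.IsHProjective (pullback.snd f g) := by
  obtain ⟨n, i, hi, hif⟩ := hf
  let t := CohB1.ProjSpace.toSpec n (ULift.{u} ℤ)
  let π : CohB1.ProjSpaceOver n S' ⟶ CohB1.ProjSpaceOver n S :=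
    pullback.lift (pullback.fst t (specULiftZIsTerminal.from S')) (pullback.snd t (specULiftZIsTerminal.from S') ≫ g)
      (specULiftZIsTerminal.hom_ext _ _)
  have hπ : IsPullback π (CohB1.ProjSpaceOver.toBase n S') (CohB1.ProjSpaceOver.toBase n S) g := by
    refine IsPullback.of_right ?_ (pullback.lift_snd _ _ _) (IsPullback.of_hasPullback t (specULiftZIsTerminal.from S))
    rw [show π ≫ pullback.fst _ _ = pullback.fst t _ from pullback.lift_fst _ _ _,
      show g ≫ specULiftZIsTerminal.from S = specULiftZIsTerminal.from S' from specULiftZIsTerminal.hom_ext _ _]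
    exact IsPullback.of_hasPullback _ _
  let i' : pullback f g ⟶ CohB1.ProjSpaceOver n S' :=
    hπ.lift (pullback.fst f g ≫ i) (pullback.snd f g) (by rw [Category.assoc, hif, pullback.condition])
  refine ⟨n, i', ?_, hπ.lift_snd _ _ _⟩
  have h : IsPullback (pullback.fst f g) i' i π := by
    refine IsPullback.of_bot ?_ (hπ.lift_fst _ _ _).symm hπ
    rw [hπ.lift_snd, hif]
    exact IsPullback.of_hasPullback f g
  exact MorphismProperty.of_isPullback h hi

end Groth.Agent.S9693
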