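import Groth.Statements.S9695
import Groth.Agent.S9710
import Groth.Agent.EGA73.VeryAmplePnAmple
import Groth.Agent.Amp73.Local

set_option autoImplicit false
set_option backward.isDefEq.respectTransparency.types false
set_option linter.style.haveILetI false
universe u
open CategoryTheory CategoryTheory.Limits AlgebraicGeometry
open Mor

namespace Groth.Agent.S9695

/-- Suppose f : X ⟶ S is a morphism of finite type and L is an invertible O_X-module. Then L is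
f-relatively ample exactly when S can be covered by open subsets V with the following property: for
every such V there is an integer d ≥ 1 for which the tensor power L^{⊗d}, restricted to f⁻¹(V), is
isomorphic to the pullback of O(1) under some V-immersion of f⁻¹(V) into a projective space P^n_V. -/
theorem result {X S : Scheme.{u}} (f : X ⟶ S)
    [LocallyOfFiniteType f] [QuasiCompact f] (L : X.Modules) (hLinv : PicF.IsInvertible L) :
    RelAmple.IsRelAmple f L ↔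
      ∃ (ι : Type u) (V : ι → S.Opens), (⨆ j, V j) = ⊤ ∧
        ∀ j, ∃ d : ℕ, 0 < d ∧
          RelAmple.IsRelVeryAmplePn (f ∣_ V j) ((CohB1.tensorPow L d).restrict (f ⁻¹ᵁ V j).ι) := by
  refine ⟨fun hL => ⟨S.affineOpens, fun V => V.1, iSup_affineOpens_eq_top S, fun V => ?_⟩,
    fun ⟨ι, V, hV, h⟩ => Amp73.isRelAmple_of_cover f fun y => ?_⟩
  · obtain ⟨d₀, hd₀, h⟩ := S9710.result (f ∣_ V.1) _ (hL.2 V)
    obtain ⟨n, i, hi, hif, ⟨e⟩⟩ := h d₀ le_rfl
    exact ⟨d₀, hd₀, n, i, hi, hif, ⟨(Amp73.powRestrict (f ⁻¹ᵁ V.1).ι L d₀).symm ≪≫ e⟩⟩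
  · obtain ⟨j, hyj⟩ : ∃ j, y ∈ V j := TopologicalSpace.Opens.mem_iSup.mp (hV ▸ trivial)
    obtain ⟨d, hd, hva⟩ := h j
    obtain ⟨V', hV', hyV', hle⟩ := exists_isAffineOpen_mem_and_subset (U := V j) (x := y) hyj
    haveI : CompactSpace (f ⁻¹ᵁ V' : Scheme.{u}) := Amp73.compactSpace_preimage f hV'
    have hU : IsAffineOpen ((V j).ι ⁻¹ᵁ V') :=
      hV'.preimage_of_isOpenImmersion _ (by rw [Scheme.Opens.opensRange_ι]; exact hle)
    have hA := (EGA73.VeryAmplePnAmple.isRelAmple_of_isRelVeryAmplePn hva).2 ⟨_, hU⟩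
    let a := ((f ∣_ V j) ⁻¹ᵁ ((V j).ι ⁻¹ᵁ V')).ι
    have hB : CohB1.IsAmple ((CohB1.tensorPow L d).restrict (a ≫ (f ⁻¹ᵁ V j).ι)) :=
      Amp73.isAmple_of_iso ((Scheme.Modules.restrictFunctorComp a (f ⁻¹ᵁ V j).ι).app _).symm hA
    have hC : CohB1.IsAmple ((CohB1.tensorPow L d).restrict (f ⁻¹ᵁ V').ι) := by
      refine Amp73.isAmple_restrict_mono _ (a ≫ (f ⁻¹ᵁ V j).ι) ?_ hB
      rintro _ ⟨z, rfl⟩
      let z' : (f ⁻¹ᵁ V j : Scheme.{u}) := ⟨z.1, hle z.2⟩
      have hz : z' ∈ (f ∣_ V j) ⁻¹ᵁ ((V j).ι ⁻¹ᵁ V') := by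
        show (V j).ι ((f ∣_ V j) z') ∈ V'
        rw [← Scheme.Hom.comp_apply, morphismRestrict_ι]
        exact z.2
      exact ⟨⟨z', hz⟩, rfl⟩
    have hD : CohB1.IsAmple (CohB1.tensorPow (L.restrict (f ⁻¹ᵁ V').ι) d) :=
      Amp73.isAmple_of_iso (Amp73.powRestrict (f ⁻¹ᵁ V').ι L d).symm hC
    have hE : CohB1.IsAmple (L.restrict (f ⁻¹ᵁ V').ι) :=
      (Amp73.isAmple_tensorPow_iff (EGA73.isInvertible_restrict hLinv (f ⁻¹ᵁ V').ι) hd).2 hD
    exact ⟨⟨V', hV'⟩, hyV', hE⟩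

end Groth.Agent.S9695
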