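import Groth.Statements.S9698


set_option autoImplicit false
universe u
open CategoryTheory CategoryTheory.Limits AlgebraicGeometry
open Mor

namespace Groth.Agent.S9698

set_option backward.isDefEq.respectTransparency.types false in
lemma isClosedImmersion_restrict {X Y : Scheme.{u}} (i : X ⟶ Y) (W : Y.Opens) (hW : IsAffineOpen W)
    (hD : IsAffineOpen (i ⁻¹ᵁ W)) (hs : Function.Surjective (i.app W)) : IsClosedImmersion (i ∣_ W) := by
  haveI : IsAffine (W : Scheme.{u}) := hW
  rw [HasAffineProperty.iff_of_isAffine (P := @IsClosedImmersion)]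
  refine ⟨hD, ?_⟩
  have : Function.Surjective (i.app (W.ι ''ᵁ ⊤)) := by
    rw [Scheme.Opens.ι_image_top]; exact hs
  rw [morphismRestrict_appTop]
  exact ((ConcreteCategory.bijective_of_isIso (X.presheaf.map (eqToHom _).op)).2).comp this


/-- Let π : X ⟶ S be locally of finite type with X quasi-affine. Then there exist n ≥ 0 and an immersion
i : X ⟶ A^n_S over S (affine n-space on the index type Fin n, lifted to the ambient universe). -/
theorem result {X S : Scheme.{u}} (π : X ⟶ S)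
    [LocallyOfFiniteType π] [X.IsQuasiAffine] :
    ∃ (n : ℕ) (i : X ⟶ 𝔸(ULift.{u} (Fin n); S)), IsImmersion i ∧ i ≫ (𝔸(ULift.{u} (Fin n); S) ↘ S) = π := by
  classical
  have key : ∀ x : X, ∃ (V : S.Opens) (r : Γ(X, ⊤)), IsAffineOpen V ∧ IsAffineOpen (X.basicOpen r) ∧
      x ∈ X.basicOpen r ∧ X.basicOpen r ≤ π ⁻¹ᵁ V := by
    intro x
    obtain ⟨_, ⟨V, hV, rfl⟩, hxV, -⟩ :=
      S.isBasis_affineOpens.exists_subset_of_mem_open (Set.mem_univ (π x)) isOpen_univ
    obtain ⟨_, ⟨_, ⟨r, hr, rfl⟩, rfl⟩, hxr, hsub⟩ :=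
      (Scheme.IsQuasiAffine.isBasis_basicOpen X).exists_subset_of_mem_open
        (show x ∈ ((π ⁻¹ᵁ V : X.Opens) : Set X) from hxV) (π ⁻¹ᵁ V).2
    exact ⟨V, r, hV, hr, hxr, hsub⟩
  choose V r hV hr hxr hle using key
  obtain ⟨t, ht⟩ := isCompact_univ.elim_finite_subcover (fun x : X => (X.basicOpen (r x) : Set X))
    (fun x => (X.basicOpen (r x)).2) (fun x _ => Set.mem_iUnion.2 ⟨x, hxr x⟩)
  have hgen : ∀ x : X, ∃ s : Finset Γ(X, ⊤), ∀ R : Subring Γ(X, X.basicOpen (r x)),
      (∀ b, π.appLE (V x) (X.basicOpen (r x)) (hle x) b ∈ R) →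
      (∀ a ∈ s, X.presheaf.map (homOfLE le_top).op a ∈ R) →
      (∀ u, u * X.presheaf.map (homOfLE le_top).op (r x) = 1 → u ∈ R) → R = ⊤ := by
    intro x
    have hft := LocallyOfFiniteType.finiteType_appLE π (hV x) (hr x) (hle x)
    algebraize [(π.appLE (V x) (X.basicOpen (r x)) (hle x)).hom]
    letI : Algebra Γ(X, ⊤) Γ(X, X.basicOpen (r x)) := (X.presheaf.map (homOfLE le_top).op).hom.toAlgebra
    haveI : IsLocalization.Away (r x) Γ(X, X.basicOpen (r x)) :=
      isLocalization_basicOpen_of_qcqs (U := ⊤) isCompact_univ isQuasiSeparated_univ (r x)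
    obtain ⟨s, hs⟩ := Algebra.FiniteType.out (R := Γ(S, V x)) (A := Γ(X, X.basicOpen (r x)))
    refine ⟨s.image fun g => (IsLocalization.Away.sec (r x) g).1, fun R hb ha hu => eq_top_iff.2 fun g _ => ?_⟩
    obtain ⟨u, hu'⟩ := (IsLocalization.Away.algebraMap_isUnit (S := Γ(X, X.basicOpen (r x))) (r x)).exists_left_inv
    have hg : g ∈ Algebra.adjoin Γ(S, V x) (s : Set Γ(X, X.basicOpen (r x))) := by rw [hs]; trivial
    induction hg using Algebra.adjoin_induction with
    | mem g hg =>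
      have e := IsLocalization.Away.sec_spec (r x) g
      have : g = algebraMap Γ(X, ⊤) Γ(X, X.basicOpen (r x)) (IsLocalization.Away.sec (r x) g).1 *
          u ^ (IsLocalization.Away.sec (r x) g).2 := by
        rw [← e, map_pow, mul_assoc, ← mul_pow, mul_comm (algebraMap _ _ (r x)), hu', one_pow, mul_one]
      rw [this]
      exact R.mul_mem (ha _ (Finset.mem_image_of_mem _ hg)) (R.pow_mem (hu u hu') _)
    | algebraMap b => exact hb b
    | add g₁ g₂ _ _ h₁ h₂ => exact R.add_mem (h₁ trivial) (h₂ trivial)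
    | mul g₁ g₂ _ _ h₁ h₂ => exact R.mul_mem (h₁ trivial) (h₂ trivial)
  choose s hs using hgen
  let T : Finset Γ(X, ⊤) := t.image r ∪ t.biUnion s
  let ev : ULift.{u} (Fin T.card) → Γ(X, ⊤) := fun k => T.equivFin.symm k.down
  let A : Scheme.{u} := 𝔸(ULift.{u} (Fin T.card); S)
  let p : A ⟶ S := 𝔸(ULift.{u} (Fin T.card); S) ↘ S
  let i : X ⟶ A := AffineSpace.homOfVector π ev
  have hip : i ≫ p = π := AffineSpace.homOfVector_over _ _
  have hcoord : ∀ a ∈ T, ∃ c : Γ(A, ⊤), i.appTop c = a := fun a ha =>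
    ⟨AffineSpace.coord S ⟨T.equivFin ⟨a, ha⟩⟩,
      (AffineSpace.homOfVector_appTop_coord _ _ _).trans (by simp [ev])⟩
  choose! c hc using hcoord
  let W : t → A.Opens := fun x => p ⁻¹ᵁ V x ⊓ A.basicOpen (c (r x))
  have hW : ∀ x, IsAffineOpen (W x) := fun x => by
    have h := ((hV x.1).preimage p).basicOpen (A.presheaf.map (homOfLE le_top).op (c (r x)))
    rwa [Scheme.basicOpen_res] at h
  have hpre : ∀ x : t, i ⁻¹ᵁ W x = X.basicOpen (r x) := by
    intro x
    show i ⁻¹ᵁ (p ⁻¹ᵁ V x ⊓ A.basicOpen (c (r x))) = _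
    rw [Scheme.Hom.preimage_inf, ← Scheme.Hom.comp_preimage, hip, Scheme.preimage_basicOpen_top,
      hc _ (Finset.mem_union_left _ (Finset.mem_image_of_mem r x.2))]
    exact inf_eq_right.2 (hle x)
  have hcl : ∀ x : t, IsClosedImmersion (i ∣_ W x) := by
    intro x
    refine isClosedImmersion_restrict i (W x) (hW x) (hpre x ▸ hr x) ?_
    have hle' : X.basicOpen (r x) ≤ i ⁻¹ᵁ W x := (hpre x).ge
    let φ := i.appLE (W x) (X.basicOpen (r x)) hle'
    have htop : φ.hom.range = ⊤ := by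
      refine hs x φ.hom.range (fun b => ⟨p.appLE (V x) (W x) inf_le_left b, ?_⟩) (fun a ha => ?_) (fun w hw => ?_)
      · rw [← CommRingCat.comp_apply, Scheme.Hom.appLE_comp_appLE]
        simp only [hip]
      · refine ⟨A.presheaf.map (homOfLE le_top).op (c a), ?_⟩
        rw [← CommRingCat.comp_apply, Scheme.Hom.map_appLE]
        exact congrArg (X.presheaf.map (homOfLE le_top).op)
          (hc a (Finset.mem_union_right _ (Finset.mem_biUnion.2 ⟨x, x.2, ha⟩)))
      · have hunit : IsUnit (A.presheaf.map (homOfLE (le_top : W x ≤ ⊤)).op (c (r x))) := by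
          have h : IsUnit (A.presheaf.map (homOfLE (le_top : A.basicOpen (c (r x)) ≤ ⊤)).op (c (r x))) :=
            RingedSpace.isUnit_res_basicOpen _ _
          have := h.map (A.presheaf.map (homOfLE (inf_le_right : W x ≤ A.basicOpen (c (r x)))).op).hom
          rwa [← CommRingCat.comp_apply, ← Functor.map_comp] at this
        obtain ⟨z, hz⟩ := hunit.exists_left_inv
        refine ⟨z, left_inv_eq_right_inv ?_ ((mul_comm _ _).trans hw)⟩
        have h1 : φ (A.presheaf.map (homOfLE (le_top : W x ≤ ⊤)).op (c (r x))) =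
            X.presheaf.map (homOfLE le_top).op (r x) := by
          rw [← CommRingCat.comp_apply, Scheme.Hom.map_appLE]
          exact congrArg (X.presheaf.map (homOfLE le_top).op)
            (hc (r x) (Finset.mem_union_left _ (Finset.mem_image_of_mem r x.2)))
        rw [← h1, ← map_mul, hz, map_one]
    intro g
    obtain ⟨b, hb⟩ := htop.ge (x := X.presheaf.map (homOfLE hle').op g) trivial
    refine ⟨b, (ConcreteCategory.bijective_of_isIso (X.presheaf.map (eqToHom (hpre x).symm).op)).1 ?_⟩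
    exact hb
  let W' : A.Opens := ⨆ x, W x
  haveI : IsClosedImmersion (i ∣_ W') := by
    refine IsZariskiLocalAtTarget.of_iSup_eq_top (fun x => W'.ι ⁻¹ᵁ W x) ?_ fun x => ?_
    · rw [← Scheme.Hom.preimage_iSup, Scheme.Opens.ι_preimage_self]
    · rw [MorphismProperty.arrow_mk_iso_iff (P := @IsClosedImmersion) (morphismRestrictRestrict _ _ _),
        MorphismProperty.arrow_mk_iso_iff (P := @IsClosedImmersion) (morphismRestrictEq _
          (show W'.ι ''ᵁ (W'.ι ⁻¹ᵁ W x) = W x by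
            rw [Scheme.Hom.image_preimage_eq_opensRange_inf, Scheme.Opens.opensRange_ι]
            exact inf_eq_right.2 (le_iSup W x)))]
      exact hcl x
  have htopW : i ⁻¹ᵁ W' = ⊤ := by
    rw [eq_top_iff]
    intro y _
    obtain ⟨x, hx, hyx⟩ := Set.mem_iUnion₂.1 (ht (Set.mem_univ y))
    exact TopologicalSpace.Opens.mem_iSup.2 ⟨⟨x, hx⟩, (hpre ⟨x, hx⟩).ge hyx⟩
  refine ⟨T.card, i, ?_, hip⟩
  have hi : X.topIso.inv ≫ (X.isoOfEq htopW).inv ≫ (i ∣_ W') ≫ W'.ι = i := by
    simp [morphismRestrict_ι]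
  rw [← hi]
  infer_instance

end Groth.Agent.S9698
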