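import Groth.Statements.S9702
import Groth.Agent.Fin57.FunctionField

set_option autoImplicit false
set_option backward.isDefEq.respectTransparency.types false
universe u
open CategoryTheory CategoryTheory.Limits AlgebraicGeometry
open Mor

namespace Groth.Agent.S9702

/-- Let X, Y be integral and f : X ⟶ Y dominant and locally of finite type, with ξ the generic point of
X (so f ξ is the generic point of Y). Then the following are equivalent: the residue field of ξ is
finite over that of f ξ; some nonempty affine opens U ⊆ X and V ⊆ Y with f(U) ⊆ V have U ⟶ V finite;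
every point of X that f sends to the generic point of Y equals ξ. Under the extra assumption that f
is quasi-compact or separated, these are also equivalent to: f⁻¹(V) ⟶ V is finite for some nonempty
affine open V ⊆ Y. (The published statement also lists transcendence degree 0 of the function field
extension, which for this finitely generated extension is equivalent to finiteness; this row omits
it.) -/
theorem result {X Y : Scheme.{u}} [IsIntegral X] [IsIntegral Y] (f : X ⟶ Y)
    [IsDominant f] [LocallyOfFiniteType f] :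
    let ξ := genericPoint ↥X
    let A := letI := (f.residueFieldMap ξ).hom.toAlgebra
      Module.Finite (Y.residueField (f.base ξ)) (X.residueField ξ)
    let B := ∃ (U : X.Opens) (V : Y.Opens) (hUV : U ≤ f ⁻¹ᵁ V), IsAffineOpen U ∧ IsAffineOpen V ∧
      Nonempty ↥U ∧ IsFinite (f.resLE V U hUV)
    let C := ∀ x : X, f.base x = genericPoint ↥Y → x = ξ
    let D := ∃ V : Y.Opens, IsAffineOpen V ∧ Nonempty ↥V ∧ IsFinite (f ∣_ V)
    (A ↔ B) ∧ (A ↔ C) ∧ (IsSeparated f ∨ QuasiCompact f → (A ↔ D)) := by
  intro ξ A B C D
  have hξ : f ξ = genericPoint Y := Fin57.apply_genericPoint_eq f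
  have hAC : A ↔ C := by
    constructor
    · intro hA x hx
      exact (Fin57.finite_residueField_iff f ξ).mp hA x (hx.trans hξ.symm)
        (genericPoint_specializes x)
    · intro hC
      exact (Fin57.finite_residueField_iff f ξ).mpr fun x hx _ => hC x (hx.trans hξ)
  have hBC : B → C := by
    rintro ⟨U, V, hUV, -, -, ⟨⟨u, hu⟩⟩, hf⟩ x hx
    exact Fin57.closed_in_fibre_of_isFinite_resLE f hUV
      ((genericPoint_specializes u).mem_open U.2 hu) x (hx.trans hξ.symm) (genericPoint_specializes x)
  have hCB : C → B := fun hC => Fin57.exists_isFinite_resLE f hC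
  refine ⟨hAC.trans ⟨hCB, hBC⟩, hAC, fun hsq => hAC.trans ⟨fun hC => ?_, ?_⟩⟩
  · rcases hsq with hs | hq
    · obtain ⟨U, V, hUV, hU, hV, hne, hf⟩ := hCB hC
      have hUe := Fin57.eq_preimage_of_isFinite_resLE f hUV hne
      subst hUe
      obtain ⟨⟨u, hu⟩⟩ := hne
      exact ⟨V, hV, ⟨⟨f u, hu⟩⟩, Scheme.Hom.resLE_eq_morphismRestrict f ▸ hf⟩
    · exact Fin57.exists_isFinite_restrict_of_quasiCompact f hC
  · rintro ⟨V, hV, ⟨⟨y, hy⟩⟩, hf⟩
    have hVa : IsAffineOpen (f ⁻¹ᵁ V) := by
      haveI : IsAffine V := hV
      exact isAffine_of_isAffineHom (f ∣_ V)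
    refine hBC ⟨f ⁻¹ᵁ V, V, le_rfl, hVa, hV, ?_, ?_⟩
    · refine ⟨⟨ξ, show f ξ ∈ V from hξ.symm ▸ ?_⟩⟩
      exact (genericPoint_specializes y).mem_open V.2 hy
    · exact (Scheme.Hom.resLE_eq_morphismRestrict f).symm ▸ hf

end Groth.Agent.S9702
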