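import Groth.Statements.S9703
import Groth.Agent.SplitCov57.Ring

set_option autoImplicit false
set_option backward.isDefEq.respectTransparency.types false
universe u
open CategoryTheory CategoryTheory.Limits AlgebraicGeometry
open Mor

namespace Groth.Agent.S9703

/-- Let f : Y ⟶ X be finite with X affine. Then there exist a surjective finite locally free b : X' ⟶ X,
a finite locally free c : Z' ⟶ X' and a closed immersion i of Y' = X' ×_X Y into Z' over X' such
that Z' is, as a set, the union of finitely many closed subschemes each mapping isomorphically onto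
X'. (The published statement also records that Y' ⟶ Y is surjective finite locally free, which
follows by base change; this row omits it.) -/
theorem result {X Y : Scheme.{u}} [IsAffine X] (f : Y ⟶ X)
    [IsFinite f] :
    ∃ (X' : Scheme.{u}) (b : X' ⟶ X) (Z' : Scheme.{u}) (c : Z' ⟶ X') (i : pullback f b ⟶ Z'),
      Mor2.IsFinLocFree b ∧ Surjective b ∧ Mor2.IsFinLocFree c ∧ IsClosedImmersion i ∧
      i ≫ c = pullback.snd f b ∧
      ∃ (m : ℕ) (Zj : Fin m → Scheme.{u}) (ιj : ∀ j, Zj j ⟶ Z'),
        (∀ j, IsClosedImmersion (ιj j)) ∧ (∀ j, IsIso (ιj j ≫ c)) ∧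
        (⋃ j, Set.range (ιj j).base) = Set.univ := by
  have : IsAffine Y := isAffine_of_isAffineHom f
  let A : Type u := Γ(X, ⊤)
  let B : Type u := Γ(Y, ⊤)
  algebraize [f.appTop.hom]
  have : Module.Finite A B := Scheme.Hom.finite_appTop f
  obtain ⟨S, _, _, C, _, _, φ, m, σ, hfin, hfree, hnt, hCfin, hCfree, hsurj, hcomp, hcov⟩ :=
    Groth.Agent.SplitCov57.exists_cover A B
  let b0 : Spec (CommRingCat.of S) ⟶ Spec (CommRingCat.of A) := Spec.map (CommRingCat.ofHom (algebraMap A S))
  let f0 : Spec (CommRingCat.of B) ⟶ Spec (CommRingCat.of A) := Spec.map (CommRingCat.ofHom (algebraMap A B))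
  let b : Spec (CommRingCat.of S) ⟶ X := b0 ≫ X.isoSpec.inv
  have hf : f ≫ X.isoSpec.hom = Y.isoSpec.hom ≫ f0 := (Scheme.isoSpec_hom_naturality f).symm
  let e : pullback f b ⟶ pullback f0 b0 :=
    pullback.map _ _ _ _ Y.isoSpec.hom (𝟙 _) X.isoSpec.hom hf (by simp [b])
  let c : Spec (CommRingCat.of C) ⟶ Spec (CommRingCat.of S) := Spec.map (CommRingCat.ofHom (algebraMap S C))
  let i : pullback f b ⟶ Spec (CommRingCat.of C) :=
    e ≫ (pullbackSpecIso A B S).hom ≫ Spec.map (CommRingCat.ofHom φ)
  have hflfS : Mor2.IsFinLocFree b0 :=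
    have : Module.FinitePresentation A S := Module.finitePresentation_of_projective A S
    ⟨(IsFinite.SpecMap_iff _).2 (RingHom.finite_algebraMap.2 hfin),
      (HasRingHomProperty.Spec_iff (P := @Flat)).2 (RingHom.flat_algebraMap_iff.2 inferInstance),
      (HasRingHomProperty.Spec_iff (P := @LocallyOfFinitePresentation)).2
        (RingHom.finitePresentation_algebraMap.2 inferInstance)⟩
  have hflfC : Mor2.IsFinLocFree c :=
    have : Module.FinitePresentation S C := Module.finitePresentation_of_projective S C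
    ⟨(IsFinite.SpecMap_iff _).2 (RingHom.finite_algebraMap.2 hCfin),
      (HasRingHomProperty.Spec_iff (P := @Flat)).2 (RingHom.flat_algebraMap_iff.2 inferInstance),
      (HasRingHomProperty.Spec_iff (P := @LocallyOfFinitePresentation)).2
        (RingHom.finitePresentation_algebraMap.2 inferInstance)⟩
  refine ⟨_, b, _, c, i, ?_, ?_, hflfC, ?_, ?_, m, fun _ => Spec (CommRingCat.of S),
    fun j => Spec.map (CommRingCat.ofHom (σ j).toRingHom), fun j => ?_, fun j => ?_, ?_⟩
  · obtain ⟨h1, h2, h3⟩ := hflfS
    exact ⟨inferInstanceAs (IsFinite (b0 ≫ X.isoSpec.inv)), inferInstanceAs (Flat (b0 ≫ X.isoSpec.inv)),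
      inferInstanceAs (LocallyOfFinitePresentation (b0 ≫ X.isoSpec.inv))⟩
  · have : Surjective b0 := by
      rcases subsingleton_or_nontrivial A with hA | hA
      · exact ⟨fun p => isEmptyElim (α := PrimeSpectrum A) p⟩
      · have := hnt hA
        exact ⟨PrimeSpectrum.comap_surjective_of_faithfullyFlat⟩
    exact inferInstanceAs (Surjective (b0 ≫ X.isoSpec.inv))
  · have : IsClosedImmersion (Spec.map (CommRingCat.ofHom φ)) :=
      IsClosedImmersion.spec_of_surjective _ hsurj
    exact inferInstanceAs (IsClosedImmersion (e ≫ (pullbackSpecIso A B S).hom ≫ _))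
  · simp only [i, c, Category.assoc]
    rw [← Spec.map_comp, ← CommRingCat.ofHom_comp, hcomp]
    erw [pullbackSpecIso_hom_snd]
    exact (pullback.lift_snd _ _ _).trans (Category.comp_id _)
  · exact IsClosedImmersion.spec_of_surjective _ fun s => ⟨algebraMap S C s, (σ j).commutes s⟩
  · rw [← Spec.map_comp, ← CommRingCat.ofHom_comp,
      show (σ j).toRingHom.comp (algebraMap S C) = RingHom.id S from RingHom.ext (σ j).commutes,
      CommRingCat.ofHom_id, Spec.map_id]
    infer_instance
  · refine Set.eq_univ_of_forall fun q => ?_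
    obtain ⟨j, hj⟩ := hcov q
    refine Set.mem_iUnion.2 ⟨j, ?_⟩
    have hs : Function.Surjective (σ j).toRingHom := fun s => ⟨algebraMap S C s, (σ j).commutes s⟩
    show q ∈ Set.range (PrimeSpectrum.comap (σ j).toRingHom)
    rw [range_comap_of_surjective _ _ hs]
    exact hj

end Groth.Agent.S9703
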