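import Groth.Statements.S9704
import Groth.Agent.EGA73.QuasiProjective

set_option autoImplicit false
universe u
open CategoryTheory CategoryTheory.Limits AlgebraicGeometry
open Mor

namespace Groth.Agent.S9704

/-- A morphism f : X ⟶ S is locally projective if and only if S has an open covering by opens U such
that each restriction f⁻¹(U) ⟶ U is H-projective (a closed immersion into some P^n_U followed by the
projection). Here f⁻¹(U) ⟶ U projective means isomorphic over U to the relative Proj of a
quasi-coherent graded algebra generated by its finite-type degree-one part; the published definition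
uses closed subschemes of P(E) with E of finite type, an equivalent condition. -/
theorem result {X S : Scheme.{u}} (f : X ⟶ S) :
    RelProj.IsLocallyProjective f ↔ ∀ s : S, ∃ U : S.Opens, s ∈ U ∧ RelProj.IsHProjective (f ∣_ U) := by
  refine ⟨fun h s => ?_, fun h s => ?_⟩
  · obtain ⟨U, hsU, hU⟩ := h s
    obtain ⟨V, hV, hsV, hVU⟩ := exists_isAffineOpen_mem_and_subset (U := U) (x := s) hsU
    have : IsAffine (V : Scheme.{u}) := hV
    let k : (V : Scheme.{u}) ⟶ U := S.homOfLE hVU
    have hz : f ⁻¹ᵁ V ≤ f ⁻¹ᵁ U := f.preimage_mono hVU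
    have hw : (f ∣_ V) ≫ k = X.homOfLE hz ≫ (f ∣_ U) := by
      rw [← cancel_mono U.ι, Category.assoc, Category.assoc, Scheme.homOfLE_ι, morphismRestrict_ι,
        morphismRestrict_ι, Scheme.homOfLE_ι_assoc]
    have h1 : IsPullback (f ∣_ V) (X.homOfLE hz ≫ (f ⁻¹ᵁ U).ι) (k ≫ U.ι) f := by
      simp only [k, Scheme.homOfLE_ι]
      exact isPullback_morphismRestrict f V
    have hp : RelProj.IsProjective (f ∣_ V) :=
      EGA73.isProjective_of_isPullback (IsPullback.of_bot h1 hw (isPullback_morphismRestrict f U)).flip hU
    refine ⟨V, hsV, (EGA73.AmpleBaseImmersion.isProjective_iff_isHProjective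
      ⟨Coh.structureModule _, ?_⟩ _).1 hp⟩
    exact Amp73.isAmple_of_isQuasiAffine EGA73.isInvertible_structureModule
  · obtain ⟨U, hsU, hU⟩ := h s
    exact ⟨U, hsU, EGA73.ProjSpaceProjective.isProjective_of_isHProjective hU⟩

end Groth.Agent.S9704
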