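import Groth.Statements.S9712
import Groth.Agent.EGA73.AmpleBaseImmersion
import Groth.Agent.LimTop61.RelAmpleStage
import Groth.Agent.Approx60.Segre

set_option autoImplicit false
set_option backward.isDefEq.respectTransparency.types false
set_option linter.style.haveILetI false
universe u
open CategoryTheory CategoryTheory.Limits AlgebraicGeometry
open Mor

namespace Groth.Agent.S9712

/-- A morphism f : X ⟶ S is locally quasi-projective (S is covered by opens U with f⁻¹(U) ⟶ U
quasi-projective) if and only if S is covered by opens U such that f⁻¹(U) ⟶ U is H-quasi-projective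
(a quasi-compact immersion into some P^n_U followed by the projection). -/
theorem result {X S : Scheme.{u}} (f : X ⟶ S) :
    (∀ s : S, ∃ U : S.Opens, s ∈ U ∧ RelProj.IsQuasiProjective (f ∣_ U)) ↔
      (∀ s : S, ∃ U : S.Opens, s ∈ U ∧ RelProj.IsHQuasiProjective (f ∣_ U)) := by
  refine ⟨fun h s => ?_, fun h s => ?_⟩
  · obtain ⟨U, hsU, h1, h2, L, hL⟩ := h s
    obtain ⟨V, hV, hsV, hVU⟩ := exists_isAffineOpen_mem_and_subset (U := U) (x := s) hsU
    have : IsAffine (V : Scheme.{u}) := hV
    let k : (V : Scheme.{u}) ⟶ U := S.homOfLE hVU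
    have hz : f ⁻¹ᵁ V ≤ f ⁻¹ᵁ U := f.preimage_mono hVU
    have hw : (f ∣_ V) ≫ k = X.homOfLE hz ≫ (f ∣_ U) := by
      rw [← cancel_mono U.ι, Category.assoc, Category.assoc, Scheme.homOfLE_ι, morphismRestrict_ι,
        morphismRestrict_ι, Scheme.homOfLE_ι_assoc]
    have sq1 : IsPullback (f ∣_ V) (X.homOfLE hz ≫ (f ⁻¹ᵁ U).ι) (k ≫ U.ι) f := by
      simp only [k, Scheme.homOfLE_ι]
      exact isPullback_morphismRestrict f V
    have sq := (IsPullback.of_bot sq1 hw (isPullback_morphismRestrict f U)).flip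
    haveI : LocallyOfFiniteType (f ∣_ V) := MorphismProperty.of_isPullback sq h1
    haveI : QuasiCompact (f ∣_ V) := MorphismProperty.of_isPullback sq h2
    obtain ⟨r, i, hi, hif⟩ := EGA73.AmpleBaseImmersion.exists_immersion
      ⟨Coh.structureModule _, Amp73.isAmple_of_isQuasiAffine EGA73.isInvertible_structureModule⟩
      (f := f ∣_ V) ⟨inferInstance, inferInstance, _, LimTop61.isRelAmple_of_isPullback sq hL⟩
    haveI : QuasiCompact (i ≫ CohB1.ProjSpaceOver.toBase r (V : Scheme.{u})) := hif.symm ▸ inferInstance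
    haveI := Approx60.Segre.isProper_toBase r (V : Scheme.{u})
    exact ⟨V, hsV, r, i, hi, QuasiCompact.of_comp i (CohB1.ProjSpaceOver.toBase r _), hif⟩
  · obtain ⟨U, hsU, n, i, hi, hqc, hif⟩ := h s
    haveI := Approx60.Segre.isProper_toBase n (U : Scheme.{u})
    haveI : LocallyOfFiniteType (f ∣_ U) := by rw [← hif]; infer_instance
    haveI : QuasiCompact (f ∣_ U) := by rw [← hif]; infer_instance
    exact ⟨U, hsU, EGA73.AmpleBaseImmersion.isQuasiProjective_of_immersion i hif⟩

end Groth.Agent.S9712
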