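import Groth.Statements.S9713
import Groth.Agent.EGA73.ProjectiveBaseChange

set_option autoImplicit false
universe u
open CategoryTheory CategoryTheory.Limits AlgebraicGeometry
open Mor

namespace Groth.Agent.S9713

/-- A base change of a locally projective morphism (every point of the base has an open neighbourhood U
with f⁻¹(U) ⟶ U projective) is locally projective. Here f⁻¹(U) ⟶ U projective means isomorphic over
U to the relative Proj of a quasi-coherent graded algebra generated by its finite-type degree-one
part; the published definition uses closed subschemes of P(E) with E of finite type, an equivalent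
condition. -/
theorem result {X S S' : Scheme.{u}} (f : X ⟶ S) (hf : RelProj.IsLocallyProjective f)
    (g : S' ⟶ S) : RelProj.IsLocallyProjective (pullback.snd f g) := by
  intro s'
  obtain ⟨U, hU, hP⟩ := hf (g.base s')
  refine ⟨g ⁻¹ᵁ U, hU, ?_⟩
  have h1 := ((isPullback_morphismRestrict (pullback.snd f g) (g ⁻¹ᵁ U)).flip.paste_horiz
    (IsPullback.of_hasPullback f g))
  let W := pullback.snd f g ⁻¹ᵁ g ⁻¹ᵁ U
  have hW : W = pullback.fst f g ⁻¹ᵁ f ⁻¹ᵁ U := by
    simp only [W, ← Scheme.Hom.comp_preimage, pullback.condition]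
  let a : (W : Scheme.{u}) ⟶ (f ⁻¹ᵁ U : X.Opens) := (pullback.fst f g).resLE (f ⁻¹ᵁ U) W hW.le
  have ha : a ≫ (f ⁻¹ᵁ U).ι = W.ι ≫ pullback.fst f g := Scheme.Hom.resLE_comp_ι _ _
  have h2 : IsPullback (a ≫ (f ⁻¹ᵁ U).ι) (pullback.snd f g ∣_ g ⁻¹ᵁ U) f ((g ∣_ U) ≫ U.ι) := by
    rw [ha, morphismRestrict_ι]
    exact h1
  refine EGA73.isProjective_of_isPullback (IsPullback.of_right h2 ?_ (isPullback_morphismRestrict f U).flip) hP
  rw [← cancel_mono U.ι]
  simp only [Category.assoc, morphismRestrict_ι, reassoc_of% ha, pullback.condition, morphismRestrict_ι_assoc, W]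

end Groth.Agent.S9713
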