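import Groth.Statements.S9714
import Groth.Agent.Unr57.FieldSum

set_option autoImplicit false
universe u
open CategoryTheory CategoryTheory.Limits AlgebraicGeometry
open Mor

namespace Groth.Agent.S9714

/-- Let k be a field and X a scheme over k. The structure morphism X ⟶ Spec k is unramified (formally
unramified and locally of finite type) if and only if X is isomorphic over k to a disjoint union of
spectra of finite separable field extensions of k. -/
theorem result (k : Type u) [Field k] {X : Scheme.{u}}
    (f : X ⟶ Spec (CommRingCat.of k)) :
    (FormallyUnramified f ∧ LocallyOfFiniteType f) ↔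
      ∃ (ι : Type u) (K : ι → Type u) (_ : ∀ i, Field (K i)) (_ : ∀ i, Algebra k (K i)),
        (∀ i, FiniteDimensional k (K i) ∧ Algebra.IsSeparable k (K i)) ∧
        ∃ e : X ≅ ∐ (fun i => Spec (CommRingCat.of (K i))),
          e.hom ≫ Sigma.desc (fun i => Spec.map (CommRingCat.ofHom (algebraMap k (K i)))) = f := by
  constructor
  · rintro ⟨_, _⟩
    exact Unr57.exists_iso_sigma f
  · rintro ⟨ι, K, hF, hA, hK, e, he⟩
    refine ⟨Unr57.formallyUnramified_of_iso_sigma f (fun i => CommRingCat.of (K i))
      (fun i => CommRingCat.ofHom (algebraMap k (K i))) (fun i => ?_) e he, ?_⟩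
    · haveI := (hK i).1
      haveI := (hK i).2
      exact Unr57.formallyUnramified_algebraMap k (K i)
    · rw [← he]
      haveI : LocallyOfFiniteType (Sigma.desc (fun i => Spec.map (CommRingCat.ofHom (algebraMap k (K i))))) := by
        haveI : IsZariskiLocalAtSource @LocallyOfFiniteType.{u} :=
          HasRingHomProperty.instIsZariskiLocalAtSource (P := @LocallyOfFiniteType.{u}) (Q := RingHom.FiniteType)
        rw [IsZariskiLocalAtSource.iff_of_openCover (P := @LocallyOfFiniteType.{u}) (sigmaOpenCover _)]
        have key : ∀ i : ι, LocallyOfFiniteType (Sigma.ι (fun i => Spec (CommRingCat.of (K i))) i ≫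
            Sigma.desc (fun i => Spec.map (CommRingCat.ofHom (algebraMap k (K i))))) := by
          intro i
          haveI := (hK i).1
          rw [Sigma.ι_desc, HasRingHomProperty.Spec_iff (P := @LocallyOfFiniteType)]
          exact RingHom.finiteType_algebraMap.2 inferInstance
        exact key
      infer_instance

end Groth.Agent.S9714
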