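import Groth.Statements.S9794
import Groth.Agent.Props58.Points

set_option autoImplicit false
universe u
open CategoryTheory AlgebraicGeometry TopologicalSpace
open Props

namespace Groth.Agent.S9794

/-- In a Noetherian scheme, an infinite dense set of points contains a countable subset which is dense. -/
theorem result (S : Scheme.{u}) [IsNoetherian S]
    (T : Set S) (hT : T.Infinite) (hd : Dense T) :
    ∃ E : Set S, E ⊆ T ∧ E.Countable ∧ Dense E := by
  exact Groth.Agent.Props58.exists_countable_dense
    (Groth.Agent.Props58.exists_minimal_generization S) T hd

end Groth.Agent.S9794
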