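import Groth.Statements.S9799
import Groth.Agent.Props58.Comp

set_option autoImplicit false
universe u
open CategoryTheory AlgebraicGeometry TopologicalSpace
open Props

namespace Groth.Agent.S9799

/-- Let X be a normal scheme (all local rings are integrally closed domains) such that every
quasi-compact open subset has finitely many irreducible components. Then the irreducible components
of X are open and pairwise disjoint; hence X is the disjoint union of its irreducible components,
each an open subscheme which is normal and integral. -/
theorem result (X : Scheme.{u})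
    (hfin : ∀ U : X.Opens, IsCompact (U : Set X) → (irreducibleComponents ↥U).Finite)
    (hN : Pi1.IsNormalScheme X) :
    (∀ Z ∈ irreducibleComponents X, IsOpen Z) ∧
      ∀ Z ∈ irreducibleComponents X, ∀ Z' ∈ irreducibleComponents X, Z ≠ Z' → Disjoint Z Z' := by
  have hu := fun x => Groth.Agent.Props58.eq_of_isDomain_stalk x (hN x).1
  refine ⟨fun Z hZ => Groth.Agent.Props58.isOpen_irreducibleComponent hu (fun x => ?_) hZ,
    fun Z hZ Z' hZ' hne => Set.disjoint_left.mpr fun x hx hx' => hne (hu x Z hZ Z' hZ' hx hx')⟩
  obtain ⟨U, hU, hxU, -⟩ := exists_isAffineOpen_mem_and_subset (x := x) (U := (⊤ : X.Opens)) trivial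
  exact ⟨U, hxU, hfin U hU.isCompact⟩

end Groth.Agent.S9799
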