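import Groth.Statements.S9804
import Mathlib.AlgebraicGeometry.QuasiAffine
import Mathlib.AlgebraicGeometry.Morphisms.QuasiSeparated

set_option autoImplicit false
universe u
open CategoryTheory AlgebraicGeometry TopologicalSpace
open Props

namespace Groth.Agent.S9804

/-- For quasi-affine schemes U and V and an open immersion j : U → V, the scheme U is the fibre product
of the composite U → V → Spec Γ(V, O_V) and the morphism Spec Γ(U, O_U) → Spec Γ(V, O_V) induced by
restriction of sections along j: the square whose sides are the identity of U, the canonical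
morphism U → Spec Γ(U, O_U), that composite and that induced morphism is cartesian. -/
theorem result {U V : Scheme.{u}} (j : U ⟶ V)
    [IsOpenImmersion j] [U.IsQuasiAffine] [V.IsQuasiAffine] :
    IsPullback (𝟙 U) U.toSpecΓ (j ≫ V.toSpecΓ) (Spec.map j.appTop) := by
  refine IsOpenImmersion.isPullback (𝟙 U) U.toSpecΓ (j ≫ V.toSpecΓ) (Spec.map j.appTop)
    (by rw [Category.id_comp, Scheme.toSpecΓ_naturality]) ?_
  refine le_antisymm (fun p hp => ?_) ?_
  · obtain ⟨_, ⟨_, ⟨r, rfl⟩, rfl⟩, hqr, hrO⟩ := (PrimeSpectrum.isBasis_basic_opens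
      (R := Γ(V, ⊤))).exists_subset_of_mem_open hp (j ≫ V.toSpecΓ).opensRange.2
    have hV : IsAffineOpen (V.basicOpen r) := by
      rw [← Scheme.toSpecΓ_preimage_basicOpen]
      exact (IsAffineOpen.Spec_basicOpen r).preimage_of_isOpenImmersion V.toSpecΓ
        (fun x hx => by obtain ⟨y, hy⟩ := hrO hx; exact ⟨j y, hy⟩)
    have hVj : V.basicOpen r ≤ j.opensRange := by
      rw [← Scheme.toSpecΓ_preimage_basicOpen]
      intro x hx
      obtain ⟨y, hy⟩ := hrO hx
      exact ⟨y, V.toSpecΓ.isOpenEmbedding.injective hy⟩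
    have hU : IsAffineOpen (U.basicOpen (j.appTop r)) := by
      rw [← Scheme.preimage_basicOpen_top]
      exact hV.preimage_of_isOpenImmersion j hVj
    have := isLocalization_basicOpen_of_qcqs isCompact_univ
      (isQuasiSeparated_univ (α := U)) (j.appTop r)
    have hp' : p ∈ Set.range (Spec.map (U.presheaf.map (homOfLE le_top :
        U.basicOpen (j.appTop r) ⟶ (⊤ : U.Opens)).op)) := by
      show (p : PrimeSpectrum Γ(U, ⊤)) ∈ Set.range (PrimeSpectrum.comap (algebraMap Γ(U, ⊤) _))
      rw [PrimeSpectrum.localization_away_comap_range _ (j.appTop r)]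
      exact hqr
    obtain ⟨s, hs⟩ := hp'
    obtain ⟨t, ht⟩ := hU.isoSpec.hom.surjective s
    refine ⟨(U.basicOpen (j.appTop r)).ι t, ?_⟩
    rw [← hs, ← ht]
    have e := Scheme.Opens.toSpecΓ_SpecMap_presheaf_map_top (U.basicOpen (j.appTop r))
    exact congr($e t).symm
  · rintro _ ⟨x, rfl⟩
    refine ⟨x, ?_⟩
    exact congr($(Scheme.toSpecΓ_naturality j) x)

end Groth.Agent.S9804
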