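import Groth.Statements.S9813
import Groth.Agent.Amp73.Ample
import Groth.Agent.S4363

set_option autoImplicit false
universe u
open CategoryTheory CategoryTheory.Limits AlgebraicGeometry TopologicalSpace
open Props Groth.Agent.Var76.LineBundle Groth.Agent.Var76.ZeroScheme

namespace Groth.Agent.S9813

/-- Let L be an invertible module on a scheme X such that every point lies in an affine open of the form
X_s for some global section s of a positive tensor power of L. Then X is separated. In particular a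
scheme carrying an ample invertible module is separated. -/
theorem result (X : Scheme.{u}) (L : X.Modules) (hL : PicF.IsInvertible L)
    (h : ∀ x : X, ∃ (n : ℕ) (s : Coh.structureModule X ⟶ CohB1.tensorPow L (n + 1)),
      x ∈ CohB1.genLocus _ s ∧ IsAffineOpen (CohB1.genLocus _ s)) :
    X.IsSeparated := by
  classical
  have key : ∀ G ∈ Amp73.GenSet L, IsAffineOpen G → ∀ G' ∈ Amp73.GenSet L, IsAffineOpen G' →
      IsAffineOpen (G ⊓ G') ∧
      Subring.closure (Set.range (X.presheaf.map (homOfLE (inf_le_left : G ⊓ G' ≤ G)).op).hom ∪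
        Set.range (X.presheaf.map (homOfLE (inf_le_right : G ⊓ G' ≤ G')).op).hom) = ⊤ := by
    intro G hG hGa G' hG' hGa'
    obtain ⟨n, s, rfl⟩ := hG
    obtain ⟨n', s', rfl⟩ := hG'
    obtain ⟨t, ht⟩ := Amp73.exists_genLocus_pow hL s (Nat.succ_pos n')
    obtain ⟨t'₀, ht'₀⟩ := Amp73.exists_genLocus_pow hL s' (Nat.succ_pos n)
    obtain ⟨t', ht'⟩ : ∃ t' : Coh.structureModule X ⟶ CohB1.tensorPow L ((n + 1) * (n' + 1)),
        CohB1.genLocus _ t' = CohB1.genLocus _ s' :=
      ⟨t'₀ ≫ eqToHom (congrArg _ (Nat.mul_comm _ _)), (Amp73.genLocus_comp_iso _ _).trans ht'₀⟩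
    rw [← ht] at hGa ⊢
    rw [← ht'] at hGa' ⊢
    set G := CohB1.genLocus _ t
    set G' := CohB1.genLocus _ t'
    have he := Amp73.isFrame_genLocus t
    have he' := Amp73.isFrame_genLocus t'
    obtain ⟨c, hc⟩ := Amp73.exists_coord t' he
    obtain ⟨c', hc'⟩ := Amp73.exists_coord t he'
    have hW : G ⊓ G' = X.basicOpen c :=
      inf_comm G G' ▸ Amp73.genLocus_inf_eq_basicOpen t' he hc
    refine ⟨hW ▸ hGa.basicOpen c, eq_top_iff.2 fun z _ => ?_⟩
    obtain ⟨k, a, hka⟩ : ∃ (k : ℕ) (a : Γ(X, G)),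
        z * (fres (inf_le_left : G ⊓ G' ≤ G) c) ^ k = fres (inf_le_left : G ⊓ G' ≤ G) a := by
      suffices ∀ (W : X.Opens) (hle : W ≤ G), W = X.basicOpen c → ∀ z : Γ(X, W),
          ∃ (k : ℕ) (a : Γ(X, G)), z * (fres hle c) ^ k = fres hle a from this _ inf_le_left hW z
      intro W hle hWeq z
      subst hWeq
      have := hGa.isLocalization_basicOpen c
      obtain ⟨k, a, hka⟩ := IsLocalization.Away.surj c z
      exact ⟨k, a, hka⟩
    have hcc : fres (inf_le_left : G ⊓ G' ≤ G) c * fres (inf_le_right : G ⊓ G' ≤ G') c' = 1 := by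
      have h1 := congrArg (res _ (inf_le_left : G ⊓ G' ≤ G)) hc
      have h2 := congrArg (res _ (inf_le_right : G ⊓ G' ≤ G')) hc'
      rw [res_smul, res_val, res_val] at h1 h2
      have hf := he.res (inf_le_left : G ⊓ G' ≤ G)
      rw [res_val] at hf
      refine (hf _ le_rfl).1 ?_
      dsimp only
      rw [Amp73.res_self, mul_comm (fres _ c), mul_smul, h1, h2, one_smul]
    have hz : z = fres (inf_le_left : G ⊓ G' ≤ G) a * (fres (inf_le_right : G ⊓ G' ≤ G') c') ^ k := by
      rw [← hka, mul_assoc, ← mul_pow, hcc, one_pow, mul_one]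
    rw [hz]
    refine Subring.mul_mem _ (Subring.subset_closure ?_) (Subring.pow_mem _ (Subring.subset_closure ?_) k)
    · exact Set.mem_union_left _ ⟨a, rfl⟩
    · exact Set.mem_union_right _ ⟨c', rfl⟩
  choose n s hx ha using h
  let U : X → X.Opens := fun x => CohB1.genLocus _ (s x)
  have hcov : ⨆ x, U x = ⊤ := top_le_iff.mp fun x _ => Opens.mem_iSup.mpr ⟨x, hx x⟩
  refine (Scheme.isSeparated_iff X).2 ?_
  exact (S4363.result _ U ha hcov).2 fun i j =>
    key _ ⟨_, _, rfl⟩ (ha i) _ ⟨_, _, rfl⟩ (ha j)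

end Groth.Agent.S9813
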