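import Groth.Statements.S9815
import Groth.Agent.Props58.PullTensor

set_option autoImplicit false
universe u
open CategoryTheory CategoryTheory.Limits AlgebraicGeometry TopologicalSpace
open Props

namespace Groth.Agent.S9815

/-- Case (4) (which implies the other cases): let L be an ample invertible module on a scheme X and let
i : X' → X be a morphism from a quasi-compact scheme which is a homeomorphism onto its image. Then
i^*L is ample. -/
theorem result {X X' : Scheme.{u}} (i : X' ⟶ X) [CompactSpace X']
    (hi : Topology.IsEmbedding i) (L : X.Modules) (hL : CohB1.IsAmple L) :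
    CohB1.IsAmple ((Scheme.Modules.pullback i).obj L) := by
  refine Amp73.isAmple_of_le_basis (PicLoc.isInvertible_pullback i hL.1) fun x U hx => ?_
  obtain ⟨W, hW, hWU⟩ := hi.isInducing.isOpen_iff.1 U.2
  have hxW : i.base x ∈ W := (Set.ext_iff.1 hWU x).2 hx
  obtain ⟨G, hG, hxG, hle, -⟩ := Amp73.exists_affine_genSet_le hL (i.base x) ⟨W, hW⟩ hxW
  refine ⟨_, Props58.PullTensor.preimage_mem_genSet i hL.1 hG, hxG, fun y hy => ?_⟩
  exact (Set.ext_iff.1 hWU y).1 (hle hy)

end Groth.Agent.S9815
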