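import Groth.Statements.S9816
import Groth.Agent.Props58.PullTensor

set_option autoImplicit false
universe u
open CategoryTheory CategoryTheory.Limits AlgebraicGeometry TopologicalSpace
open Props

namespace Groth.Agent.S9816

/-- Over a quasi-separated base S, if X and Y carry ample invertible modules L and N, then the tensor
product of their pullbacks along the two projections is an ample invertible module on the fibre
product of X and Y over S. -/
theorem result {X Y S : Scheme.{u}} [QuasiSeparatedSpace S]
    (f : X ⟶ S) (g : Y ⟶ S) (L : X.Modules) (N : Y.Modules) (hL : CohB1.IsAmple L) (hN : CohB1.IsAmple N) :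
    CohB1.IsAmple (CohB1.tensorMod ((Scheme.Modules.pullback (pullback.fst f g)).obj L)
      ((Scheme.Modules.pullback (pullback.snd f g)).obj N)) := by
  have hcX : CompactSpace X := hL.2.1
  have hcY : CompactSpace Y := hN.2.1
  have : CompactSpace (pullback f g : Scheme.{u}) :=
    QuasiCompact.compactSpace_of_compactSpace (pullback.fst f g)
  have hL' := PicLoc.isInvertible_pullback (pullback.fst f g) hL.1
  have hN' := PicLoc.isInvertible_pullback (pullback.snd f g) hN.1
  refine Amp73.isAmple_iff.2 ⟨EGA73.isInvertible_tensorMod hL' hN', inferInstance, fun z => ?_⟩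
  obtain ⟨W, hW, hzW, -⟩ := exists_isAffineOpen_mem_and_subset (U := (⊤ : S.Opens))
    (x := f.base ((pullback.fst f g).base z)) trivial
  have hzW' : g.base ((pullback.snd f g).base z) ∈ W := by
    rw [← Scheme.Hom.comp_apply, ← pullback.condition, Scheme.Hom.comp_apply]
    exact hzW
  obtain ⟨G, hG, hxG, hGle, hGa⟩ := Amp73.exists_affine_genSet_le hL ((pullback.fst f g).base z) (f ⁻¹ᵁ W) hzW
  obtain ⟨H, hH, hyH, hHle, hHa⟩ := Amp73.exists_affine_genSet_le hN ((pullback.snd f g).base z) (g ⁻¹ᵁ W) hzW'
  refine ⟨_, Amp73.inf_mem_genSet_tensor hL' hN' (Props58.PullTensor.preimage_mem_genSet _ hL.1 hG)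
    (Props58.PullTensor.preimage_mem_genSet _ hN.1 hH), ⟨hxG, hyH⟩, ?_⟩
  have := hW.isCompact
  have : IsAffine W.toScheme := hW
  have : IsAffine G.toScheme := hGa
  have : IsAffine H.toScheme := hHa
  let m : pullback (f.resLE W G hGle) (g.resLE W H hHle) ⟶ pullback f g :=
    pullback.map _ _ _ _ G.ι H.ι W.ι (Scheme.Hom.resLE_comp_ι _ _) (Scheme.Hom.resLE_comp_ι _ _)
  have : IsOpenImmersion m := inferInstance
  convert! isAffineOpen_opensRange m
  ext1
  simp [m, Scheme.Pullback.range_map]

end Groth.Agent.S9816
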