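import Groth.Statements.S9819
import Groth.Agent.SubMod72.Main

set_option autoImplicit false
universe u
open CategoryTheory CategoryTheory.Limits AlgebraicGeometry TopologicalSpace Opposite
open Props

namespace Groth.Agent.S9819

/-- On a quasi-compact quasi-separated scheme, every local section of a quasi-coherent module over an
affine open lies in some quasi-coherent submodule of finite type; hence the module is the directed
union of its quasi-coherent submodules of finite type. -/
theorem result {X : Scheme.{u}} [CompactSpace X]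
    [QuasiSeparatedSpace X] (F : X.Modules) [Coh.IsQCoh F] (U : X.affineOpens)
    (s : F.val.obj (op (U : X.Opens))) :
    ∃ (G : X.Modules) (i : G ⟶ F), Mono i ∧ Coh.IsQCoh G ∧ CohB1.IsFT G ∧
      ∃ g : G.val.obj (op (U : X.Opens)), (i.val.app (op (U : X.Opens))).hom g = s := by
  open Groth.Agent.SubMod72 in
  haveI : F.IsQuasicoherent := ‹Coh.IsQCoh F›
  obtain ⟨Q, hQ, hQP⟩ := exists_extension_qcqs U.2.isCompact
    (fg_locSpan (F := F) (Set.finite_singleton (s : Γ(F, U.1))))
  obtain ⟨h1, h2⟩ := isQuasicoherent_isFiniteType_toMod hQ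
  have hs : (s : Γ(F, U.1)) ∈ Q.carrier U.1 := by
    rw [hQP U.1 le_rfl]
    have h := self_mem_locSpan (F := F) (S := {(s : Γ(F, U.1))}) (le_refl U.1) (Set.mem_singleton _)
    rwa [Groth.Agent.QC70.res_self] at h
  exact ⟨toMod Q, toModι Q, inferInstance, h1, h2, ⟨s, hs⟩, rfl⟩

end Groth.Agent.S9819
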