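import Groth.Statements.S9820
import Groth.Agent.Props58.Ext.FPExt

set_option autoImplicit false
universe u
open CategoryTheory CategoryTheory.Limits AlgebraicGeometry TopologicalSpace Opposite
open Props

namespace Groth.Agent.S9820

/-- On a quasi-compact quasi-separated scheme, a quasi-coherent module of finite type which is of finite
presentation over a quasi-compact open U is the quotient of a module of finite presentation by a
surjection which is an isomorphism over U. -/
theorem result {X : Scheme.{u}} [CompactSpace X]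
    [QuasiSeparatedSpace X] (F : X.Modules) [Coh.IsQCoh F] (hF : CohB1.IsFT F) (U : X.Opens)
    (hU : IsCompact (U : Set X)) (hFU : CohB1.IsFP (F.restrict U.ι)) :
    ∃ (G : X.Modules) (φ : G ⟶ F), CohB1.IsFP G ∧ Epi φ ∧
      IsIso ((Scheme.Modules.restrictFunctor U.ι).map φ) := by
  haveI : F.IsQuasicoherent := ‹Coh.IsQCoh F›
  haveI : F.IsFiniteType := hF
  haveI := hFU
  obtain ⟨P, φ, hP, hφ⟩ := Groth.Agent.Props58.Ext.exists_fp_epi F
  haveI := hP
  have hFP : Groth.Agent.Props58.Ext.FPOn F U := by
    have h := Groth.Agent.Props58.Ext.fpOn_of_isFP (F.restrict U.ι) ⊤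
    rwa [Groth.Agent.Props58.Ext.fpOn_restrict_iff, Scheme.Hom.image_top_eq_opensRange,
      Scheme.Opens.opensRange_ι] at h
  obtain ⟨N, π, χ, -, hπχ, hN, hNfp, hbij⟩ := Groth.Agent.Props58.Ext.exists_fp_quotient φ
    (Groth.Agent.Props58.Ext.fpOn_of_isFP P ⊤) hU hFP
  refine ⟨N, χ, Groth.Agent.Props58.Ext.isFP_of_fpOn N hNfp, epi_of_epi_fac hπχ, ?_⟩
  refine Scheme.Modules.Hom.isIso_iff_isIso_app.2 fun T => ?_
  rw [ConcreteCategory.isIso_iff_bijective]
  exact hbij _ (Groth.Agent.SubMod72.image_le U T)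

end Groth.Agent.S9820
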