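import Groth.Statements.S9831
import Groth.Agent.SubMod72.Main

set_option autoImplicit false
universe u
open CategoryTheory CategoryTheory.Limits AlgebraicGeometry TopologicalSpace Opposite
open Props

namespace Groth.Agent.S9831

/-- On a quasi-compact quasi-separated scheme, a quasi-coherent module of finite type on a quasi-compact
open U is the restriction of a quasi-coherent module of finite type on the whole scheme. -/
theorem result {X : Scheme.{u}} [CompactSpace X]
    [QuasiSeparatedSpace X] (U : X.Opens) (hU : IsCompact (U : Set X)) (G : (U : Scheme.{u}).Modules)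
    [Coh.IsQCoh G] (hG : CohB1.IsFT G) :
    ∃ G' : X.Modules, Coh.IsQCoh G' ∧ CohB1.IsFT G' ∧ Nonempty (G'.restrict U.ι ≅ G) := by
  open Groth.Agent.SubMod72 in
  haveI : G.IsQuasicoherent := ‹Coh.IsQCoh G›
  haveI : G.IsFiniteType := hG
  haveI : CompactSpace (U : Scheme.{u}) := isCompact_iff_compactSpace.mp hU
  haveI := Groth.Agent.QCqs72.isQuasicoherent_pushforward G U.ι
  let i : G ⟶ ((Scheme.Modules.pushforward U.ι).obj G).restrict U.ι :=
    (Scheme.Modules.restrictFunctorAdjCounitIso U.ι).inv.app G
  obtain ⟨Q, hQ, hQP⟩ := exists_extension_qcqs hU (fg_ofMono U i)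
  obtain ⟨G', i', e, -, h1, h2, -⟩ := exists_submodule_of_sub i hQ hQP
  exact ⟨G', h1, h2, ⟨e⟩⟩

end Groth.Agent.S9831
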