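import Groth.Statements.S9832
import Groth.Agent.Helper62.JacobsonPts
import Mathlib.AlgebraicGeometry.Noetherian

set_option autoImplicit false
universe u
open Props

namespace Groth.Agent.S9832

/-- For a Noetherian ring R and an ideal I inside the Jacobson radical of R, the complement of V(I) in
Spec R is a Jacobson topological space. -/
theorem result (R : Type u) [CommRing R] [IsNoetherianRing R]
    (I : Ideal R) (hI : I ≤ (⊥ : Ideal R).jacobson) :
    JacobsonSpace ↥((PrimeSpectrum.zeroLocus (I : Set R))ᶜ) := by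
  refine Groth.Agent.Goldman62.jacobsonSpace_compl (AlgebraicGeometry.Spec (CommRingCat.of R))
    (PrimeSpectrum.zeroLocus (I : Set R)) (PrimeSpectrum.isClosed_zeroLocus _) fun Z hZ ⟨p, hp⟩ => ?_
  let p' : PrimeSpectrum R := p
  obtain ⟨m, hm, hle⟩ := Ideal.exists_le_maximal p'.asIdeal p'.isPrime.ne_top
  let q : PrimeSpectrum R := ⟨m, hm.isPrime⟩
  exact ⟨q, ((PrimeSpectrum.le_iff_specializes p' q).mp hle).mem_closed hZ hp,
    hI.trans (sInf_le ⟨bot_le, hm⟩)⟩

end Groth.Agent.S9832
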