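import Groth.Statements.S9843
import Mathlib.AlgebraicGeometry.Sites.Fpqc

set_option autoImplicit false
open CategoryTheory.MorphismProperty (IsLocalAtTarget IsLocalAtSource)
open CategoryTheory CategoryTheory.Limits AlgebraicGeometry Opposite
universe u
open Desc

namespace Groth.Agent.S9843

/-- Being dominant is fppf local on the base: for every fppf covering family Y i ⟶ Y (flat, locally of
finite presentation, jointly surjective), a morphism X ⟶ Y is dominant if and only if all its base
changes X ×_Y Y i ⟶ Y i are. -/
theorem result :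
    MorphismProperty.IsLocalAtTarget (@IsDominant : MorphismProperty Scheme.{u}) Scheme.fppfPrecoverage := by
  show IsLocalAtTarget _ (Scheme.precoverage (@Flat ⊓ @LocallyOfFinitePresentation))
  refine IsLocalAtTarget.mk_of_iff_of_zeroHypercover fun {X Y} f 𝒰 => ?_
  have ho : ∀ i, IsOpenMap (𝒰.f i) := fun i => by
    obtain ⟨_, _⟩ : (@Flat ⊓ @LocallyOfFinitePresentation : MorphismProperty Scheme) (𝒰.f i) :=
        Scheme.Cover.map_prop 𝒰 i
    exact (𝒰.f i).isOpenMap
  simp only [isDominant_iff, denseRange_iff_closure_range, Scheme.Pullback.range_snd,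
    ← (ho _).preimage_closure_eq_closure_preimage (Scheme.Hom.continuous _)]
  refine ⟨fun h i => by rw [h, Set.preimage_univ], fun h => Set.eq_univ_of_forall fun y => ?_⟩
  obtain ⟨i, z, rfl⟩ := Scheme.Cover.exists_eq 𝒰 y
  exact Set.eq_univ_iff_forall.mp (h i) z

end Groth.Agent.S9843
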