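import Groth.Statements.S9845
import Mathlib.AlgebraicGeometry.Sites.Fpqc

set_option autoImplicit false
open CategoryTheory.MorphismProperty (IsLocalAtTarget IsLocalAtSource)
open CategoryTheory CategoryTheory.Limits AlgebraicGeometry Opposite
universe u
open Desc

namespace Groth.Agent.S9845

/-- Being an open morphism (open underlying map) is fppf local on the source: for every fppf covering
family g i : X i ⟶ X, a morphism f : X ⟶ Y has open underlying map if and only if every composite g
i ≫ f does. -/
theorem result :
    MorphismProperty.IsLocalAtSource (topologically (fun f => IsOpenMap f) : MorphismProperty Scheme.{u})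
      Scheme.fppfPrecoverage := by
  show IsLocalAtSource _ (Scheme.precoverage (@Flat ⊓ @LocallyOfFinitePresentation))
  refine IsLocalAtSource.mk_of_iff_of_zeroHypercover fun f 𝒰 => ?_
  constructor
  · intro hf i
    have : UniversallyOpen (𝒰.f i) := by
      obtain ⟨_, _⟩ : (@Flat ⊓ @LocallyOfFinitePresentation : MorphismProperty Scheme) (𝒰.f i) :=
        Scheme.Cover.map_prop 𝒰 i
      infer_instance
    intro U hU
    rw [Scheme.Hom.comp_base, TopCat.coe_comp, Set.image_comp]
    exact hf _ ((𝒰.f i).isOpenMap _ hU)
  · intro h U hU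
    have : f '' U = ⋃ i, (𝒰.f i ≫ f) '' ((𝒰.f i) ⁻¹' U) := by
      ext y
      simp only [Set.mem_image, Set.mem_iUnion, Scheme.Hom.comp_apply, Set.mem_preimage]
      exact ⟨fun ⟨x, hx, e⟩ => by
          obtain ⟨i, z, rfl⟩ := Scheme.Cover.exists_eq 𝒰 x
          exact ⟨i, z, hx, e⟩,
        fun ⟨i, z, hz, e⟩ => ⟨_, hz, e⟩⟩
    rw [this]
    exact isOpen_iUnion fun i => h i _ (hU.preimage (𝒰.f i).continuous)

end Groth.Agent.S9845
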