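import Groth.Statements.S9846
import Groth.Agent.S9845

set_option autoImplicit false
open CategoryTheory.MorphismProperty (IsLocalAtTarget IsLocalAtSource)
open CategoryTheory CategoryTheory.Limits AlgebraicGeometry Opposite
universe u
open Desc

namespace Groth.Agent.S9846

set_option backward.isDefEq.respectTransparency.types false in
/-- Being universally open is fppf local on the source: for every fppf covering family g i : X i ⟶ X, a
morphism f : X ⟶ Y is universally open if and only if every composite g i ≫ f is. -/
theorem result :
    MorphismProperty.IsLocalAtSource (@UniversallyOpen : MorphismProperty Scheme.{u}) Scheme.fppfPrecoverage := by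
  show IsLocalAtSource _ (Scheme.precoverage (@Flat ⊓ @LocallyOfFinitePresentation))
  refine IsLocalAtSource.mk_of_iff_of_zeroHypercover fun {X Y} f 𝒰 => ?_
  constructor
  · intro hf i
    have : UniversallyOpen (𝒰.f i) := by
      obtain ⟨_, _⟩ : (@Flat ⊓ @LocallyOfFinitePresentation : MorphismProperty Scheme) (𝒰.f i) :=
        Scheme.Cover.map_prop 𝒰 i
      infer_instance
    infer_instance
  · intro h
    refine ⟨fun X' Y' i₁ i₂ f' hsq => ?_⟩
    have : IsLocalAtSource (topologically (fun f => IsOpenMap f) : MorphismProperty Scheme.{u})
        (Scheme.precoverage (@Flat ⊓ @LocallyOfFinitePresentation)) := Groth.Agent.S9845.result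
    refine IsLocalAtSource.of_forall_comp (P := topologically (fun f => IsOpenMap f))
      (𝒰.pullback₁ i₁).mem₀ ?_
    rintro _ _ ⟨i⟩
    exact (h i).universally_isOpenMap (pullback.snd i₁ (𝒰.f i)) i₂
      (pullback.fst i₁ (𝒰.f i) ≫ f') ((IsPullback.of_hasPullback i₁ (𝒰.f i)).paste_horiz hsq)

end Groth.Agent.S9846
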