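import Groth.Statements.S9848
import Groth.Agent.RelGCI94.SyntProperty
import Groth.Agent.RelGCI94.SyntKoszul
import Groth.Agent.S1492
import Groth.Agent.SpFP87.FpqcBase
set_option backward.isDefEq.respectTransparency.types false

set_option autoImplicit false
open CategoryTheory CategoryTheory.Limits AlgebraicGeometry Opposite
universe u
open Desc

namespace Groth.Agent.S9848

/-- Being syntomic is fpqc local on the base; the descent direction, stated for a single flat surjective
quasi-compact base change g : Y' ⟶ Y: if the base change X ×_Y Y' ⟶ Y' of f : X ⟶ Y is syntomic,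
then f is syntomic. (With Zariski-locality on the target this gives the statement for arbitrary fpqc
coverings; stability of syntomic morphisms under base change is the other direction.) -/
theorem result {X Y Y' : Scheme.{u}} (f : X ⟶ Y) (g : Y' ⟶ Y)
    [Flat g] [Surjective g] [QuasiCompact g] (h : Synt.IsSyntomicMor (pullback.snd f g)) :
    Synt.IsSyntomicMor f := by
  have hc : IsPullback (pullback.fst f g) (pullback.snd f g) f g := IsPullback.of_hasPullback f g
  have hs := (Groth.Agent.RelGCI94.isSyntomicMor_iff _).1 h
  have key : ∀ (U : (pullback f g).Opens) (V : Y'.Opens), IsAffineOpen U → IsAffineOpen V →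
      ∀ e : U ≤ pullback.snd f g ⁻¹ᵁ V,
      letI := ((pullback.snd f g).appLE V U e).hom.toAlgebra
      Module.Flat Γ(Y', V) Γ(pullback f g, U) ∧ LCI.IsLCI Γ(Y', V) Γ(pullback f g, U) :=
    fun U V hU hV e => by
      letI := ((pullback.snd f g).appLE V U e).hom.toAlgebra
      exact Groth.Agent.RelGCI94.isSyntomic_iff_flat_and_isLCI.1
        (Groth.Agent.RelGCI94.syntomicHom_algebraMap.1
          (HasRingHomProperty.appLE Groth.Agent.RelGCI94.syntomicProp _ hs ⟨V, hV⟩ ⟨U, hU⟩ e))
  have hflat' : Flat (pullback.snd f g) := by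
    rw [HasRingHomProperty.iff_appLE (P := @Flat)]
    exact fun V U e => (key U.1 V.1 U.2 V.2 e).1
  have := Groth.Agent.SpFP87.flat_descendsAlong.{u}
  have hflat : Flat f := MorphismProperty.of_isPullback_of_descendsAlong
    (P := @Flat) (Q := (@Surjective ⊓ @Flat ⊓ @QuasiCompact : MorphismProperty Scheme.{u}))
    hc.flip ⟨⟨inferInstance, inferInstance⟩, inferInstance⟩ hflat'
  have hlci := Groth.Agent.S1492.result f (pullback.snd f g) (pullback.fst f g) g hc
    fun U V hU hV e => (key U V hU hV e).2
  rw [Groth.Agent.RelGCI94.isSyntomicMor_iff, HasRingHomProperty.iff_appLE (P := Groth.Agent.RelGCI94.syntomicProp)]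
  intro V U e
  letI := (f.appLE V U e).hom.toAlgebra
  exact Groth.Agent.RelGCI94.isSyntomic_iff_flat_and_isLCI.2
    ⟨HasRingHomProperty.appLE @Flat f hflat V U e, hlci U.1 V.1 U.2 V.2 e⟩

end Groth.Agent.S9848
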