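import Groth.Statements.S9856
import Groth.Agent.Desc59.DDRefine

set_option autoImplicit false
open CategoryTheory CategoryTheory.Limits AlgebraicGeometry Opposite
universe u
open Desc

namespace Groth.Agent.S9856

/-- Let u i : U i ⟶ S and v j : V j ⟶ S be fpqc coverings of S such that (u i) refines (v j) through
maps g i : U i ⟶ V (α i) with g i ≫ v (α i) = u i. Then the pullback functor from descent data for
schemes relative to (v j) to descent data relative to (u i) is full and faithful. In particular
schemes over S form a full subcategory of descent data relative to any fpqc covering. -/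
theorem result {ι κ : Type u} {S : Scheme.{u}} {U : ι → Scheme.{u}} {V : κ → Scheme.{u}}
    (u : ∀ i, U i ⟶ S) (v : ∀ j, V j ⟶ S) (hu : Presieve.ofArrows U u ∈ Scheme.fpqcPrecoverage S)
    (hv : Presieve.ofArrows V v ∈ Scheme.fpqcPrecoverage S)
    (α : ι → κ) (g : ∀ i, U i ⟶ V (α i)) (w : ∀ i, g i ≫ v (α i) = u i) :
    (Desc.pullDDFam (f := v) (f' := u) (α := α) (p := 𝟙 S) (p' := g) (fun i => (w i).trans (Category.comp_id (u i)).symm)).Full ∧ (Desc.pullDDFam (f := v) (f' := u) (α := α) (p := 𝟙 S) (p' := g) (fun i => (w i).trans (Category.comp_id (u i)).symm)).Faithful := by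
  have hc : ∀ j, Groth.Agent.Desc59.Refine.coverSieve u (v j) ∈ Scheme.fpqcTopology (V j) :=
    fun j => Groth.Agent.Desc59.Refine.coverSieve_mem_of_family hu (v j)
  exact ⟨Groth.Agent.Desc59.Refine.full _ hc,
    Groth.Agent.Desc59.Refine.faithful _ (Groth.Agent.Desc59.Refine.separates_of_sieve hc)⟩

end Groth.Agent.S9856
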