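import Groth.Statements.S9861
import Groth.Agent.Desc59.ModDesc
import Groth.Agent.Div89.Fitting
set_option backward.isDefEq.respectTransparency.types false

set_option autoImplicit false
open CategoryTheory CategoryTheory.Limits AlgebraicGeometry Opposite TopologicalSpace
universe u
open Desc

namespace Groth.Agent.S9861

/-- The free module on a type of the universe of the scheme. -/
noncomputable abbrev free' (X : Scheme.{u}) (I : Type u) : X.Modules :=
  SheafOfModules.free (R := X.ringCatSheaf) I

/-- A module generated near a point by at most `r` sections has Fitting support away from the point. -/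
theorem notMem_support_of_card {Y : Scheme.{u}} (M : Y.Modules) (hM : M.IsQuasicoherent) (hft : M.IsFiniteType)
    {V : Y.Opens} (G₀ : SheafOfModules.GeneratingSections (SheafOfModules.over.{u} (R := Y.ringCatSheaf) M V))
    (hfin : Finite G₀.I) {r : ℕ} (hcard : Nat.card G₀.I ≤ r) {y : Y} (hy : y ∈ V) :
    y ∉ (Fitt.sheafIdeal M r).support := by
  let E := Scheme.Modules.overEquiv V
  let G₁ := G₀.map E.functor (V.sheafOfModulesEquivOverUnit Y.ringCatSheaf).symm
  let G : (M.restrict V.ι).GeneratingSections :=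
    G₁.ofEpi ((Scheme.Modules.overFunctorEquiv V).app M).hom
  have : Finite G.I := hfin
  let φ : free' (V : Scheme.{u}) G.I ⟶ M.restrict V.ι := G.π
  have hφ : Epi φ := G.epi
  let e := Finite.equivFin G.I
  let q : FlatMod.freeMod (V : Scheme.{u}) (Nat.card G.I) ⟶
      free' (V : Scheme.{u}) G.I :=
    Sigma.desc fun j => SheafOfModules.ιFree (e.symm j)
  let ιs : G.I → (Coh.structureModule (V : Scheme.{u}) ⟶ FlatMod.freeMod (V : Scheme.{u}) (Nat.card G.I)) :=
    fun a => Sigma.ι (fun _ : Fin (Nat.card G.I) => Coh.structureModule (V : Scheme.{u})) (e a)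
  let s : free' (V : Scheme.{u}) G.I ⟶ FlatMod.freeMod (V : Scheme.{u}) (Nat.card G.I) :=
    Cofan.IsColimit.desc (SheafOfModules.isColimitFreeCofan G.I) ιs
  have hsq : s ≫ q = 𝟙 _ := Cofan.IsColimit.hom_ext (SheafOfModules.isColimitFreeCofan G.I) _ _ fun a => by
    have h1 : SheafOfModules.ιFree a ≫ s = ιs a := Cofan.IsColimit.fac _ _ a
    refine (Category.assoc _ _ _).symm.trans ((congrArg (· ≫ q) h1).trans ((Sigma.ι_desc _ _).trans ?_))
    rw [Equiv.symm_apply_apply]
    exact (Category.comp_id _).symm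
  have : IsSplitEpi q := IsSplitEpi.mk' ⟨s, hsq⟩
  have h1 : y ∉ (Fitt.sheafIdeal M (Nat.card G.I)).support :=
    (Div89.fitting_epi_iff M hM hft y _).mp ⟨V, hy, q ≫ φ, @epi_comp _ _ _ _ _ q inferInstance φ hφ⟩
  obtain ⟨v, hv⟩ := (Div89.notMem_support_fitting_iff M hM hft _ y).mp h1
  refine (Div89.notMem_support_fitting_iff M hM hft r y).mpr
    ⟨fun a => if h : a.1 < Nat.card G.I then v ⟨a.1, h⟩ else 0, eq_top_iff.mpr (hv ▸ Submodule.span_mono ?_)⟩
  rintro _ ⟨j, rfl⟩
  exact ⟨Fin.castLE hcard j, by simp; intro h; have := j.2; omega⟩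

/-- An epimorphism from a free module gives generating sections. -/
theorem exists_generators {Y : Scheme.{u}} (M : Y.Modules) (V : Y.Opens) {r : ℕ}
    (π : FlatMod.freeMod (V : Scheme.{u}) r ⟶ M.restrict V.ι) (hπ : Epi π) :
    ∃ G : SheafOfModules.GeneratingSections (SheafOfModules.over.{u} (R := Y.ringCatSheaf) M V),
      Finite G.I ∧ Nat.card G.I ≤ r := by
  let ιs : ULift.{u} (Fin r) → (Coh.structureModule (V : Scheme.{u}) ⟶ FlatMod.freeMod (V : Scheme.{u}) r) :=
    fun a => Sigma.ι (fun _ : Fin r => Coh.structureModule (V : Scheme.{u})) a.down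
  let q : free' (V : Scheme.{u}) (ULift.{u} (Fin r)) ⟶
      FlatMod.freeMod (V : Scheme.{u}) r :=
    Cofan.IsColimit.desc (SheafOfModules.isColimitFreeCofan (ULift.{u} (Fin r))) ιs
  let s : FlatMod.freeMod (V : Scheme.{u}) r ⟶
      free' (V : Scheme.{u}) (ULift.{u} (Fin r)) :=
    Sigma.desc fun j => SheafOfModules.ιFree (ULift.up j)
  have hsq : s ≫ q = 𝟙 _ := Sigma.hom_ext _ _ fun j => by
    rw [Sigma.ι_desc_assoc, Category.comp_id]
    exact Cofan.IsColimit.fac (SheafOfModules.isColimitFreeCofan _) _ _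
  have : IsSplitEpi q := IsSplitEpi.mk' ⟨s, hsq⟩
  let φ : free' (V : Scheme.{u}) (ULift.{u} (Fin r)) ⟶ M.restrict V.ι := q ≫ π
  have : Epi φ := @epi_comp _ _ _ _ _ q inferInstance π hπ
  let G₀ : (M.restrict V.ι).GeneratingSections :=
    ⟨ULift.{u} (Fin r), SheafOfModules.freeHomEquiv _ φ, by rw [Equiv.symm_apply_apply]; exact this⟩
  let E := Scheme.Modules.overEquiv V
  let G₁ := G₀.ofEpi ((Scheme.Modules.overFunctorEquiv V).app M).inv
  let G₂ := G₁.map E.inverse (V.sheafOfModulesEquivOverInverseUnit Y.ringCatSheaf).symm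
  exact ⟨G₂.ofEpi (E.unitIso.app (M.over V)).inv, inferInstanceAs (Finite (ULift.{u} (Fin r))),
    le_of_eq (by show Nat.card (ULift.{u} (Fin r)) = r; simp)⟩


/-- Let F be a quasi-coherent O_X-module, r a natural number and f i : X i ⟶ X an fpqc covering family
such that every pullback (f i)^* F is locally generated by at most r sections. Then F is locally
generated by at most r sections. ('Locally generated by at most r sections' is written as: there are
local generators data for the module, indexed in the universe of the scheme, all of whose generating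
families are indexed by finite types of cardinality at most r.) -/
theorem result {ι : Type u} {X : Scheme.{u}} {Xi : ι → Scheme.{u}} (f : ∀ i, Xi i ⟶ X)
    (hf : Presieve.ofArrows Xi f ∈ Scheme.fpqcPrecoverage X) (F : X.Modules) [F.IsQuasicoherent] (r : ℕ)
    (h : ∀ i, ∃ σ : SheafOfModules.LocalGeneratorsData.{u} (R := (Xi i).ringCatSheaf) ((Scheme.Modules.pullback (f i)).obj F),
      ∀ k, Finite (σ.generators k).I ∧ Nat.card (σ.generators k).I ≤ r) :
    ∃ σ : SheafOfModules.LocalGeneratorsData.{u} (R := X.ringCatSheaf) F,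
      ∀ k, Finite (σ.generators k).I ∧ Nat.card (σ.generators k).I ≤ r := by
  have : QuasiCompactCover (⟨ι, Xi, f⟩ : PreZeroHypercover.{u} X) :=
    Scheme.presieve₀_mem_qcPrecoverage_iff.mp hf.1
  have hP := (Scheme.presieve₀_mem_precoverage_iff (E := (⟨ι, Xi, f⟩ : PreZeroHypercover.{u} X))).mp hf.2
  have hft : ∀ i, ((Scheme.Modules.pullback (f i)).obj F).IsFiniteType := fun i => by
    obtain ⟨σ, hσ⟩ := h i
    exact SheafOfModules.IsFiniteType.mk (R := (Xi i).ringCatSheaf) (M := (Scheme.Modules.pullback (f i)).obj F)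
      ⟨σ, SheafOfModules.LocalGeneratorsData.IsFiniteType.mk (p := σ) fun k =>
        SheafOfModules.GeneratingSections.IsFiniteType.mk (σ := σ.generators k) (hσ k).1⟩
  have hF : Coh.IsQCoh F := inferInstanceAs F.IsQuasicoherent
  have hFT : CohB1.IsFT F := Desc59.ModDesc.isFiniteType_of_pullback f hP.2 F
  have hmem : ∀ x : X, x ∉ (Fitt.sheafIdeal F r).support := by
    intro x
    obtain ⟨i, y, rfl⟩ := hP.1 x
    have hq : ((Scheme.Modules.pullback (f i)).obj F).IsQuasicoherent :=
      QCPull72.isQuasicoherent_pullback (f i) F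
    obtain ⟨σ, hσ⟩ := h i
    have hcov : IsOpenCover σ.X := (Opens.coversTop_iff _ _).mp σ.coversTop
    obtain ⟨k, hk⟩ := hcov.exists_mem y
    intro hx
    have hy : y ∈ (Fitt.sheafIdeal ((Scheme.Modules.pullback (f i)).obj F) r).support := by
      rw [← Div89.fitting_comap (f i) F hF hFT, Scheme.IdealSheafData.support_comap]
      exact hx
    refine notMem_support_of_card _ hq (hft i) (σ.generators k) (hσ k).1 (hσ k).2 hk hy
  choose U hU π hπ using fun x : X => (Div89.fitting_epi_iff F hF hFT x r).mpr (hmem x)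
  have hsurj : ∀ x, ∃ G : SheafOfModules.GeneratingSections (F.over (U x)), Finite G.I ∧ Nat.card G.I ≤ r :=
    fun x => exists_generators F (U x) (π x) (hπ x)
  choose G hG using hsurj
  refine ⟨{ I := X, X := U, coversTop := ?_, generators := G }, fun k => hG k⟩
  exact (Opens.coversTop_iff _ _).mpr (IsOpenCover.mk (top_le_iff.mp fun x _ => Opens.mem_iSup.mpr ⟨x, hU x⟩))

end Groth.Agent.S9861
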