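import Groth.Statements.S9871
import Groth.Agent.SpPts86.QuotRestrict

set_option autoImplicit false
universe u
open CategoryTheory CategoryTheory.Limits AlgebraicGeometry
open AlgSp

namespace Groth.Agent.S9871

/-- Let `s, t : R ⟶ U` be an etale equivalence relation on a scheme `U` over `S` and let `g : U' ⟶ U` be
an etale morphism over `S`. Let `s', t' : R' ⟶ U'` be the restriction to `U'`: `R'`, with `(t', s')`
and `R' ⟶ R`, is the fibre product of `U' ×_S U'` and `R` over `U ×_S U`. Then `s', t'` is again an
etale equivalence relation. -/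
theorem result (S : Scheme.{u}) {R U R' U' : Over S} (s t : R ⟶ U)
    (g : U' ⟶ U) (s' t' : R' ⟶ U') (r : R' ⟶ R)
    (hsq : IsPullback (prod.lift t' s') r (prod.map g g) (prod.lift t s))
    (h : AlgSp.IsEtaleEqvRel s t) [Etale g.left] :
    AlgSp.IsEtaleEqvRel s' t' := by
  have := h.etale_left
  have := h.etale_right
  exact ⟨Groth.Agent.SpPts86.isEqvRel_restrict hsq h.toIsEqvRel,
    (Groth.Agent.SpPts86.etale_restrict hsq).1, (Groth.Agent.SpPts86.etale_restrict hsq).2⟩

end Groth.Agent.S9871
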