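import Groth.Statements.S9873
import Groth.Agent.SpPts86.QuotSpace

set_option autoImplicit false
universe u
open CategoryTheory CategoryTheory.Limits AlgebraicGeometry
open AlgSp

namespace Groth.Agent.S9873

/-- Let `X` be an algebraic space over `S`, `F` an fppf sheaf of sets over `S`, and `f : X ⟶ F` a map of
sheaves which is representable by schemes, etale and surjective (in the representable sense). Then
`F` is an algebraic space over `S`; in particular an fppf sheaf receiving a representable etale
surjective map from a scheme is an algebraic space. -/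
theorem result (S : Scheme.{u}) (X : AlgSp.Space S) (F : AlgSp.Sp S)
    (f : X.obj ⟶ F) (he : AlgSp.RepWith @Etale f) (hs : AlgSp.RepWith @Surjective f) :
    AlgSp.IsAlgSpace F := by
  obtain ⟨U, a, ha, has⟩ := X.property.atlas
  have he' : RepWith @Etale (a ≫ f) := (repWith_isMultiplicative (S := S) @Etale).comp_mem _ _ ha he
  have hs' : RepWith @Surjective (a ≫ f) :=
    (repWith_isMultiplicative (S := S) @Surjective).comp_mem _ _ has hs
  obtain ⟨R, s, fst, sq⟩ := he'.rep (a ≫ f)
  obtain ⟨t, rfl⟩ := (yon S).map_surjective fst
  have : Etale s.left := (Groth.Agent.SpPts86.etale_of_isPullback he' sq).1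
  have : Etale t.left := (Groth.Agent.SpPts86.etale_of_isPullback he' sq).2
  exact (Groth.Agent.SpPts86.isAlgSpace_of_kernelPair
    (Groth.Agent.SpFP87.locLift_of_atlas he' hs') sq).1

end Groth.Agent.S9873
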