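import Groth.Statements.S9877
import Groth.Agent.SpPts86.OpenCoverSp

set_option autoImplicit false
universe u
open CategoryTheory CategoryTheory.Limits AlgebraicGeometry
open AlgSp

namespace Groth.Agent.S9877

/-- Let `F` be an fppf sheaf of sets over `S` and `F_i ⟶ F` a family of maps of sheaves such that each
`F_i` is an algebraic space over `S`, each `F_i ⟶ F` is representable by open immersions, the
induced map from the coproduct `∐ F_i` (in sheaves) to `F` is a surjective map of sheaves, and `∐
F_i` is an algebraic space. Then `F` is an algebraic space over `S`. -/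
theorem result (S : Scheme.{u}) (F : AlgSp.Sp S) {ι : Type u} (Fi : ι → AlgSp.Sp S)
    (f : ∀ i, Fi i ⟶ F) (halg : ∀ i, AlgSp.IsAlgSpace (Fi i))
    (hopen : ∀ i, AlgSp.RepWith @IsOpenImmersion (f i)) (c : Cofan Fi) (hc : IsColimit c)
    (hsurj : Sheaf.IsLocallySurjective (Cofan.IsColimit.desc hc f)) (hcop : AlgSp.IsAlgSpace c.pt) :
    AlgSp.IsAlgSpace F := by
  refine Groth.Agent.SpPts86.isAlgSpace_of_open_cover Fi f halg hopen fun x => ?_
  have : Sheaf.IsLocallySurjective (Cofan.IsColimit.desc hc f) := hsurj
  obtain ⟨y, rfl⟩ := (Groth.Agent.SpPts86.covLift_of_isLocallySurjective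
    (Cofan.IsColimit.desc hc f)).surjective_points x
  obtain ⟨i, z, rfl⟩ := Groth.Agent.SpPts86.exists_mem_range_cofan_inj hc y
  exact ⟨i, z, by rw [← Points.map_comp, Cofan.IsColimit.fac]⟩

end Groth.Agent.S9877
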