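import Groth.Statements.S9879
import Groth.Agent.SpPts86.Coprod

set_option autoImplicit false
universe u
open CategoryTheory CategoryTheory.Limits AlgebraicGeometry
open AlgSp

namespace Groth.Agent.S9879

/-- Let `U` be a scheme over `S` and `F_i` a family of fppf sheaves of sets over `S` whose coproduct in
sheaves is isomorphic to `h_U`. Then each `F_i` is representable by a scheme `V_i` over `S` such
that `V_i ⟶ U` (the morphism inducing `h_{V_i} ≅ F_i ⟶ ∐ F_i ≅ h_U`) is an open and closed
immersion, and `U` is the coproduct of the `V_i` in schemes. -/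
theorem result (S : Scheme.{u}) (U : Over S) {ι : Type u}
    (F : ι → AlgSp.Sp S) (c : Cofan F) (hc : IsColimit c) (e : c.pt ≅ (AlgSp.yon S).obj U) :
    ∃ (V : ι → Over S) (g : ∀ i, V i ⟶ U) (ei : ∀ i, (AlgSp.yon S).obj (V i) ≅ F i),
      (∀ i, IsOpenImmersion (g i).left ∧ IsClosedImmersion (g i).left) ∧
      (∀ i, (ei i).hom ≫ c.inj i ≫ e.hom = (AlgSp.yon S).map (g i)) ∧
      Nonempty (IsColimit (Cofan.mk U.left (fun i => (g i).left))) := by
  obtain ⟨O, a, hcov, hdis, hsq⟩ := Groth.Agent.SpPts86.exists_decomp hc e.inv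
  let g : ∀ i, Groth.Agent.SpPts86.openOver U (O i) ⟶ U := fun i =>
    Groth.Agent.SpPts86.openIncl U (O i)
  have hiso : ∀ i, IsIso (a i) := fun i => (hsq i).isIso_fst_of_isIso
  refine ⟨fun i => Groth.Agent.SpPts86.openOver U (O i), g, fun i => @asIso _ _ _ _ (a i) (hiso i),
    fun i => ?_, fun i => ?_, ?_⟩
  · refine ⟨inferInstanceAs (IsOpenImmersion (O i).ι), ?_⟩
    change IsClosedImmersion (O i).ι
    refine IsClosedImmersion.of_isPreimmersion _ ?_
    rw [(O i).range_ι, ← isOpen_compl_iff, isOpen_iff_forall_mem_open]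
    intro t ht
    obtain ⟨j, hj⟩ := hcov t
    exact ⟨O j, fun x hx hxi => Set.disjoint_left.1 (hdis j i fun e => ht (e ▸ hj)) hx hxi, (O j).isOpen, hj⟩
  · change a i ≫ c.inj i ≫ e.hom = (yon S).map (g i)
    rw [reassoc_of% (hsq i).w, Iso.inv_hom_id, Category.comp_id]
  · have : ∀ i, IsOpenImmersion (g i).left := fun i => inferInstanceAs (IsOpenImmersion (O i).ι)
    have hr : ∀ i, (g i).left.opensRange = O i := fun i => Scheme.Opens.opensRange_ι _
    refine nonempty_isColimit_cofanMk_of _ ?_ ?_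
    · rw [eq_top_iff]
      intro t _
      obtain ⟨i, hi⟩ := hcov t
      exact TopologicalSpace.Opens.mem_iSup.2 ⟨i, by rw [hr]; exact hi⟩
    · intro i j hij
      change Disjoint (g i).left.opensRange (g j).left.opensRange
      rw [hr, hr, disjoint_iff, TopologicalSpace.Opens.ext_iff]
      exact Set.disjoint_iff_inter_eq_empty.1 (hdis i j hij)

end Groth.Agent.S9879
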