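import Groth.Statements.S9886
import Groth.Agent.SpPts86.Basic

set_option autoImplicit false
universe u
open CategoryTheory CategoryTheory.Limits AlgebraicGeometry
open AlgSp

namespace Groth.Agent.S9886

/-- Let `F` be an fppf sheaf of sets over `S` and `P` a property of morphisms of schemes stable under
base change. Assume that for all schemes `U`, `V` over `S` and all `a : h_U ⟶ F`, `b : h_V ⟶ F` the
fibre product `h_U ×_F h_V` is represented by some scheme `W` over `S` with its projections induced
by morphisms `W ⟶ U`, `W ⟶ V`, and that for every such represented fibre product the morphism `W ⟶ U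
×_S V` has `P`. Then the diagonal `F ⟶ F × F` is representable by schemes and has `P`. (The
published statement is for a presheaf of sets `F` and a property `P` that is also fppf local on the
base; this row takes `F` an fppf sheaf and `P` only stable under base change.) -/
theorem result (S : Scheme.{u}) (F : AlgSp.Sp S) (P : MorphismProperty Scheme.{u})
    [P.IsStableUnderBaseChange]
    (h₁ : ∀ ⦃U V : Over S⦄ (a : (AlgSp.yon S).obj U ⟶ F) (b : (AlgSp.yon S).obj V ⟶ F),
      ∃ (W : Over S) (fst : W ⟶ U) (snd : W ⟶ V), IsPullback ((AlgSp.yon S).map fst) ((AlgSp.yon S).map snd) a b)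
    (h₂ : ∀ ⦃U V W : Over S⦄ (a : (AlgSp.yon S).obj U ⟶ F) (b : (AlgSp.yon S).obj V ⟶ F) (fst : W ⟶ U)
      (snd : W ⟶ V), IsPullback ((AlgSp.yon S).map fst) ((AlgSp.yon S).map snd) a b → P (prod.lift fst snd).left) :
    AlgSp.RepWith P (Limits.diag F) := by
  have hd : AlgSp.Representable (Limits.diag F) := by
    refine Functor.relativelyRepresentable.diag_of_map_from_obj fun U a => ?_
    intro V b
    obtain ⟨W, fst, snd, sq⟩ := h₁ a b
    exact ⟨W, snd, (AlgSp.yon S).map fst, sq⟩
  refine ⟨hd, fun T V g fst snd sq => ?_⟩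
  obtain ⟨W, p, q, sqW⟩ := h₁ (g ≫ prod.fst) (g ≫ prod.snd)
  have hW : P (prod.lift p q).left := h₂ _ _ _ _ sqW
  have c₁ : fst = (AlgSp.yon S).map snd ≫ g ≫ prod.fst := by
    have e := congrArg (· ≫ prod.fst) sq.w
    simp only [Category.assoc, prod.lift_fst, Category.comp_id] at e
    exact e
  have c₂ : fst = (AlgSp.yon S).map snd ≫ g ≫ prod.snd := by
    have e := congrArg (· ≫ prod.snd) sq.w
    simp only [Category.assoc, prod.lift_snd, Category.comp_id] at e
    exact e
  obtain ⟨k, hk⟩ := (AlgSp.yon S).map_surjective
    (sqW.lift ((AlgSp.yon S).map snd) ((AlgSp.yon S).map snd) (by rw [← c₁, ← c₂]))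
  have hkp : k ≫ p = snd := (AlgSp.yon S).map_injective (by
    rw [Functor.map_comp, hk, sqW.lift_fst])
  have hkq : k ≫ q = snd := (AlgSp.yon S).map_injective (by
    rw [Functor.map_comp, hk, sqW.lift_snd])
  have key : IsPullback k snd (prod.lift p q) (Limits.diag T) := by
    have w : k ≫ prod.lift p q = snd ≫ Limits.diag T := by
      ext1 <;> simp [hkp, hkq]
    have hc : ∀ s : PullbackCone (prod.lift p q) (Limits.diag T),
        ∃ l : s.pt ⟶ V, l ≫ k = s.fst ∧ l ≫ snd = s.snd := by
      intro s
      have hp : s.fst ≫ p = s.snd := by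
        have e := congrArg (· ≫ prod.fst) s.condition
        simp only [Category.assoc, prod.lift_fst, Category.comp_id] at e
        exact e
      have hq : s.fst ≫ q = s.snd := by
        have e := congrArg (· ≫ prod.snd) s.condition
        simp only [Category.assoc, prod.lift_snd, Category.comp_id] at e
        exact e
      have e : (AlgSp.yon S).map s.snd ≫ g ≫ prod.fst =
          (AlgSp.yon S).map s.snd ≫ g ≫ prod.snd := by
        conv_lhs => rw [← hp]
        conv_rhs => rw [← hq]
        rw [Functor.map_comp_assoc, Functor.map_comp_assoc, sqW.w]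
      obtain ⟨l, hl⟩ := (AlgSp.yon S).map_surjective
        (sq.lift ((AlgSp.yon S).map s.snd ≫ g ≫ prod.fst) ((AlgSp.yon S).map s.snd)
          (by
          ext1
          · simp only [Category.assoc, prod.lift_fst, Category.comp_id]
          · simp only [Category.assoc, prod.lift_snd, Category.comp_id, e]))
      have hls : l ≫ snd = s.snd := (AlgSp.yon S).map_injective (by
        rw [Functor.map_comp, hl, sq.lift_snd])
      refine ⟨l, (AlgSp.yon S).map_injective (sqW.hom_ext ?_ ?_), hls⟩
      · simp only [← Functor.map_comp, Category.assoc, hkp, hls, hp]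
      · simp only [← Functor.map_comp, Category.assoc, hkq, hls, hq]
    choose l hl₁ hl₂ using hc
    refine ⟨⟨w⟩, ⟨PullbackCone.IsLimit.mk _ l hl₁ hl₂ fun s m h₁ h₂ => ?_⟩⟩
    apply (AlgSp.yon S).map_injective
    have e2 : (AlgSp.yon S).map m ≫ (AlgSp.yon S).map snd =
        (AlgSp.yon S).map (l s) ≫ (AlgSp.yon S).map snd := by
      rw [← Functor.map_comp, ← Functor.map_comp, h₂, hl₂]
    refine sq.hom_ext ?_ e2
    rw [c₁]
    simp only [← Category.assoc, e2]
  exact P.of_isPullback (key.map (Over.forget S)) hW

end Groth.Agent.S9886
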