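import Groth.Statements.S9896
import Groth.Agent.SpPts86.SliceAlg

set_option autoImplicit false
universe u
open CategoryTheory CategoryTheory.Limits AlgebraicGeometry
open AlgSp

namespace Groth.Agent.S9896

/-- Let `g : S ⟶ S'` be a morphism of schemes and let `j_!` be the left adjoint of the restriction
functor from fppf sheaves of sets on schemes over `S'` to fppf sheaves of sets on schemes over `S`
(restriction along `Over.map g`). Then for a scheme `X` over `S`, `j_! h_X` is representable by `X`
viewed as a scheme over `S'` (stated as existence of a representation by that scheme), and for an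
algebraic space `F` over `S`, `j_! F` is an algebraic space over `S'`. (The clause about
presentations is not included.) -/
theorem result {S S' : Scheme.{u}} (g : S ⟶ S') :
    (∀ X : Over S, Nonempty ((((Over.map g).sheafPullback (Type (u + 1)) (AlgSp.J S) (AlgSp.J S')).obj ((AlgSp.yon S).obj X)).obj.RepresentableBy ((Over.map g).obj X))) ∧
      (∀ F : AlgSp.Space S, AlgSp.IsAlgSpace (((Over.map g).sheafPullback (Type (u + 1)) (AlgSp.J S) (AlgSp.J S')).obj F.obj)) := by
  refine ⟨fun X => ⟨AlgSp.representableByOfIso
    (((SpPts86.Slice.pullbackIso g).app _ ≪≫ SpPts86.Slice.eYon g X).symm)⟩, fun F => ?_⟩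
  exact ((SpPts86.Slice.isAlgSpace_eFun_iff g F.obj).2 F.property).of_iso
    ((SpPts86.Slice.pullbackIso g).app F.obj).symm

end Groth.Agent.S9896
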