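import Groth.Statements.S9898
import Groth.Agent.SpPts86.SliceAlg

set_option autoImplicit false
universe u
open CategoryTheory CategoryTheory.Limits AlgebraicGeometry
open AlgSp

namespace Groth.Agent.S9898

/-- Let `g : S ⟶ S'` be a morphism of schemes and `j_!` the left adjoint of the restriction functor from
fppf sheaves of sets on schemes over `S'` to those on schemes over `S`. Then there is an equivalence
between the category of algebraic spaces over `S` and the category of pairs (an algebraic space `F'`
over `S'`, a morphism `F' ⟶ h_S` of algebraic spaces over `S'`), i.e. the over category of `h_S` in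
algebraic spaces over `S'`, sending `F` to `j_! F`: the equivalence composed with the forgetful
functor to sheaves over `S'` is isomorphic to `j_!` on underlying sheaves. (Only this compatibility
is pinned; the structure maps `j_! F ⟶ h_S` are not.) -/
theorem result {S S' : Scheme.{u}} (g : S ⟶ S') :
    ∃ E : AlgSp.Space S ≌ Over ((AlgSp.ofScheme S').obj (Over.mk g)),
      Nonempty (E.functor ⋙ Over.forget _ ⋙ ObjectProperty.ι (AlgSp.IsAlgSpace (S := S')) ≅
        ObjectProperty.ι (AlgSp.IsAlgSpace (S := S)) ⋙ ((Over.map g).sheafPullback (Type (u + 1)) (AlgSp.J S) (AlgSp.J S'))) := by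
  let Φ : AlgSp.Space S ⥤ Over ((AlgSp.ofScheme S').obj (Over.mk g)) :=
    { obj := fun F => Over.mk (ObjectProperty.homMk (SpPts86.Slice.eπ g F.obj) :
        (⟨_, (SpPts86.Slice.isAlgSpace_eFun_iff g F.obj).2 F.property⟩ : AlgSp.Space S') ⟶
          (AlgSp.ofScheme S').obj (Over.mk g))
      map := fun b => Over.homMk (ObjectProperty.homMk ((SpPts86.Slice.eFun g).map b.hom))
        (ObjectProperty.hom_ext _ (SpPts86.Slice.eπ_naturality g b.hom)) }
  haveI : Φ.Faithful := ⟨fun {F G} b b' h => ObjectProperty.hom_ext _ ((SpPts86.Slice.eOver g).map_injective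
    (Over.OverMorphism.ext (congrArg (fun q => q.left.hom) h)))⟩
  haveI : Φ.Full := ⟨fun {F G} k => by
    obtain ⟨b, hb⟩ := SpPts86.Slice.eFun_map_surjective g k.left.hom (congrArg (·.hom) (Over.w k))
    exact ⟨ObjectProperty.homMk b, Over.OverMorphism.ext (ObjectProperty.hom_ext _ hb)⟩⟩
  haveI : Φ.EssSurj := ⟨fun X => by
    let Y : Over (SpPts86.Slice.hB g) := Over.mk X.hom.hom
    let F := (SpPts86.Slice.eOver g).objPreimage Y
    let e := (SpPts86.Slice.eOver g).objObjPreimageIso Y
    have hF : AlgSp.IsAlgSpace F := (SpPts86.Slice.isAlgSpace_eFun_iff g F).1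
      (X.left.property.of_iso ((Over.forget _).mapIso e).symm)
    exact ⟨⟨F, hF⟩, ⟨Over.isoMk (ObjectProperty.isoMk _ ((Over.forget _).mapIso e))
      (ObjectProperty.hom_ext _ (Over.w e.hom))⟩⟩⟩
  haveI : Φ.IsEquivalence := { }
  exact ⟨Φ.asEquivalence, ⟨NatIso.ofComponents (fun F => ((SpPts86.Slice.pullbackIso g).app F.obj).symm)
    (fun b => (SpPts86.Slice.pullbackIso g).inv.naturality b.hom)⟩⟩

end Groth.Agent.S9898
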