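import Groth.Statements.S9908
import Groth.Agent.SpPts86.UnivTop

set_option autoImplicit false
universe u
open CategoryTheory CategoryTheory.Limits AlgebraicGeometry
open AlgSp

namespace Groth.Agent.S9908

/-- For a morphism of algebraic spaces representable by schemes, representable universal openness is
equivalent to openness of |Z x_Y X| -> |Z| after every base change along a morphism of algebraic
spaces. -/
theorem result {S : Scheme.{u}} {X Y : AlgSp.Space S} (f : X ⟶ Y)
    (hf : AlgSp.Representable f.hom) :
    AlgSp.RepWith @UniversallyOpen f.hom ↔ AlgSp.IsUnivOpenMor f.hom := by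
  constructor
  · intro h Z Z' hZ g fst snd sq
    exact Groth.Agent.SpPts86.isOpenMap_map_of_repWith
      ((AlgSp.repWith_isStableUnderBaseChange _).of_isPullback sq h)
  · intro h
    refine ⟨hf, fun T V g p s sq => ?_⟩
    change UniversallyOpen s.left
    rw [UniversallyOpen.eq]
    refine Groth.Agent.SpPts86.universally_of_repr (R := topologically @IsOpenMap) (f := f.hom) ?_ sq
    intro T' V' g p s sq'
    exact (Groth.Agent.SpPts86.isOpenMap_map_yon_iff s).1
      (h (AlgSp.IsAlgSpace.yon_obj T') g p _ sq')

end Groth.Agent.S9908
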