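import Groth.Statements.S9911
import Groth.Agent.SpPts86.UnivTop

set_option autoImplicit false
universe u
open CategoryTheory CategoryTheory.Limits AlgebraicGeometry
open AlgSp

namespace Groth.Agent.S9911

/-- A morphism from an algebraic space to the spectrum of a field is universally open. -/
theorem result {S : Scheme.{u}} (X : AlgSp.Space S) {k : Type u} [Field k]
    (str : Spec (CommRingCat.of k) ⟶ S) (p : X ⟶ (AlgSp.ofScheme S).obj (Over.mk str)) :
    AlgSp.IsUnivOpenMor p.hom := by
  refine Groth.Agent.SpPts86.isUnivOpenMor_of_affine fun T hT g Q fst snd sq => ?_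
  obtain ⟨U, a, ha, has⟩ := X.property.atlas
  obtain ⟨h, hh⟩ := (AlgSp.yon S).map_surjective
    (a ≫ (p.hom : X.obj ⟶ (AlgSp.yon S).obj (Over.mk str)))
  obtain ⟨l, rfl⟩ := (AlgSp.yon S).map_surjective g
  have hfld : ∀ {A : Scheme.{u}} (f : A ⟶ Spec (CommRingCat.of k)), UniversallyOpen f := fun f => by
    have : Subsingleton ↥(Spec (CommRingCat.of k)) := inferInstanceAs (Subsingleton (PrimeSpectrum k))
    infer_instance
  have sqS := IsPullback.of_hasPullback h l
  have hU : UniversallyOpen h.left := hfld h.left
  have : UniversallyOpen (pullback.snd h l).left :=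
    MorphismProperty.of_isPullback (P := @UniversallyOpen) (sqS.map (Over.forget S)) hU
  have sqY := sqS.map (AlgSp.yon S)
  rw [hh] at sqY
  let m : (AlgSp.yon S).obj (pullback h l) ⟶ Q :=
    sq.lift ((AlgSp.yon S).map (pullback.fst h l) ≫ a) ((AlgSp.yon S).map (pullback.snd h l))
      (by rw [Category.assoc]; exact sqY.w)
  have hm : m ≫ snd = (AlgSp.yon S).map (pullback.snd h l) := sq.lift_snd _ _ _
  have sqm : IsPullback m ((AlgSp.yon S).map (pullback.fst h l)) fst a :=
    IsPullback.of_right (by rw [hm]; exact sqY.flip) (sq.lift_fst _ _ _) sq.flip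
  have hms : Function.Surjective (AlgSp.Points.map m) :=
    Groth.Agent.SpPts86.surjective_map_fst_of_isPullback sqm
      (Groth.Agent.SpPts86.isSurjectiveMor_of_repWith has)
  intro A hA
  rw [← hms.image_preimage A, ← Set.image_comp,
    show AlgSp.Points.map snd ∘ AlgSp.Points.map m = AlgSp.Points.map (m ≫ snd) from
      (funext fun x => (AlgSp.Points.map_comp m snd x).symm), hm]
  exact (Groth.Agent.SpPts86.isOpenMap_map_yon_iff _).2 (Scheme.Hom.isOpenMap _) _
    (hA.preimage (AlgSp.Points.continuous_map m))

end Groth.Agent.S9911
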