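import Groth.Statements.S9913
import Groth.Agent.SpPts86.QCMor

set_option autoImplicit false
universe u
open CategoryTheory CategoryTheory.Limits AlgebraicGeometry
open AlgSp

namespace Groth.Agent.S9913

/-- For a quasi-compact morphism of algebraic spaces, the induced map on points pulls quasi-compact
opens back to quasi-compact subsets. -/
theorem result {S : Scheme.{u}} {X Y : AlgSp.Space S} (f : X ⟶ Y)
    (hf : AlgSp.IsQuasiCompactMor f.hom) (V : Set (AlgSp.Points Y.obj)) (hV : IsOpen V) (hVc : IsCompact V) :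
    IsCompact (AlgSp.Points.map f.hom ⁻¹' V) := by
  have hal := Groth.Agent.SpPts86.isAlgSpace_restrictSheaf Y.property hV
  have hemb := (Groth.Agent.SpPts86.isEmbedding_map_of_openImmersion
    (Groth.Agent.SpPts86.repWith_restrictι (F := Y.obj) hV)).toIsEmbedding
  have hr := Groth.Agent.SpPts86.range_map_restrictι (F := Y.obj) hV
  have : CompactSpace (AlgSp.Points (Groth.Agent.SpPts86.restrictSheaf Y.obj V)) :=
    ⟨hemb.isCompact_iff.2 (by rw [Set.image_univ, hr]; exact hVc)⟩
  have sq := IsPullback.of_hasPullback f.hom (Groth.Agent.SpPts86.restrictι Y.obj V)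
  have := Groth.Agent.SpPts86.compactSpace_of_isQuasiCompactMor hf hal sq
  convert isCompact_range (AlgSp.Points.continuous_map
    (pullback.fst f.hom (Groth.Agent.SpPts86.restrictι Y.obj V))) using 1
  ext x
  constructor
  · intro hx
    obtain ⟨v, hv⟩ := hr.ge hx
    obtain ⟨z, hz, -⟩ := Groth.Agent.SpPts86.exists_of_isPullback sq x v hv.symm
    exact ⟨z, hz⟩
  · rintro ⟨z, rfl⟩
    refine hr.le ⟨AlgSp.Points.map (pullback.snd f.hom (Groth.Agent.SpPts86.restrictι Y.obj V)) z, ?_⟩
    rw [← AlgSp.Points.map_comp, ← sq.w, AlgSp.Points.map_comp]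

end Groth.Agent.S9913
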