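import Groth.Statements.S9915
import Groth.Agent.SpPts86.QCMor

set_option autoImplicit false
universe u
open CategoryTheory CategoryTheory.Limits AlgebraicGeometry
open AlgSp

namespace Groth.Agent.S9915

/-- In a commutative triangle of algebraic spaces with f : X -> Y surjective, if X -> Z is quasi-compact
then Y -> Z is quasi-compact. -/
theorem result {S : Scheme.{u}} {X Y Z : AlgSp.Space S} (f : X ⟶ Y)
    (p : X ⟶ Z) (q : Y ⟶ Z) (comm : f ≫ q = p) (hf : AlgSp.IsSurjectiveMor f.hom)
    (hp : AlgSp.IsQuasiCompactMor p.hom) : AlgSp.IsQuasiCompactMor q.hom := by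
  refine Groth.Agent.SpPts86.isQuasiCompactMor_of_affine Y.property Z.property fun T hT g Q fst snd sq => ?_
  have sq2 := IsPullback.of_hasPullback f.hom fst
  have e : f.hom ≫ q.hom = p.hom := congrArg InducedCategory.Hom.hom comm
  have hp' : AlgSp.IsQuasiCompactMor (f.hom ≫ q.hom) := e ▸ hp
  have := Groth.Agent.SpPts86.compactSpace_points_yon T
  have := Groth.Agent.SpPts86.compactSpace_of_isQuasiCompactMor hp' (AlgSp.IsAlgSpace.yon_obj T)
    (sq2.paste_vert sq.flip.flip)
  exact Groth.Agent.SpPts86.compactSpace_of_surjectiveMor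
    (Groth.Agent.SpPts86.surjective_map_fst_of_isPullback sq2.flip hf)

end Groth.Agent.S9915
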