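import Groth.Statements.S9926
import Groth.Agent.SpPts86.ProperCrit
import Groth.Agent.SpFP87.ThickSep
import Groth.Agent.SpPts86.QCMor
import Groth.Agent.SpPts86.Compact
import Groth.Agent.S9925
import Groth.Agent.SpFP87.Basic
-- import your own Groth.Agent.* helpers here

set_option autoImplicit false
universe u
open CategoryTheory CategoryTheory.Limits AlgebraicGeometry
open AlgSp

namespace Groth.Agent.S9926

/-- Let B be an algebraic space and f : X -> Y a morphism over B that is surjective and universally
closed. Quasi-separatedness of X over B forces quasi-separatedness of Y over B, and likewise for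
separatedness. (The published lemma also has absolute versions; this row states the versions over
B.) -/
theorem result {S : Scheme.{u}} {X Y B : AlgSp.Space S} (f : X ⟶ Y) (p : X ⟶ B)
    (q : Y ⟶ B) (comm : f ≫ q = p) (hs : AlgSp.IsSurjectiveMor f.hom) (hc : AlgSp.IsUnivClosedMor f.hom) :
    (AlgSp.IsQuasiSeparatedMor p.hom → AlgSp.IsQuasiSeparatedMor q.hom) ∧
    (AlgSp.IsSeparatedMor p.hom → AlgSp.IsSeparatedMor q.hom) := by
  let h : X.obj ⟶ Y.obj := f.hom
  have hcomm : h ≫ q.hom = p.hom := congrArg (fun t => t.hom) comm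
  have hB := B.property
  have hXX := Groth.Agent.SpFP87.isAlgSpace_pullback p.hom p.hom X.property X.property hB
  have hYY := Groth.Agent.SpFP87.isAlgSpace_pullback q.hom q.hom Y.property Y.property hB
  have hXY := Groth.Agent.SpFP87.isAlgSpace_pullback p.hom q.hom X.property Y.property hB
  let m₁ : pullback p.hom p.hom ⟶ pullback p.hom q.hom :=
    pullback.lift (pullback.fst p.hom p.hom) (pullback.snd p.hom p.hom ≫ h)
      (by rw [Category.assoc, hcomm, pullback.condition])
  let m₂ : pullback p.hom q.hom ⟶ pullback q.hom q.hom :=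
    pullback.lift (pullback.fst p.hom q.hom ≫ h) (pullback.snd p.hom q.hom)
      (by rw [Category.assoc, hcomm, pullback.condition])
  have m₁f : m₁ ≫ pullback.fst p.hom q.hom = pullback.fst p.hom p.hom := pullback.lift_fst _ _ _
  have m₁s : m₁ ≫ pullback.snd p.hom q.hom = pullback.snd p.hom p.hom ≫ h := pullback.lift_snd _ _ _
  have m₂f : m₂ ≫ pullback.fst q.hom q.hom = pullback.fst p.hom q.hom ≫ h := pullback.lift_fst _ _ _
  have m₂s : m₂ ≫ pullback.snd q.hom q.hom = pullback.snd p.hom q.hom := pullback.lift_snd _ _ _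
  have sq1 : IsPullback (pullback.snd p.hom p.hom) m₁ h (pullback.snd p.hom q.hom) := by
    refine IsPullback.of_bot ?_ ?_ (IsPullback.of_hasPullback p.hom q.hom).flip
    · rw [m₁f, hcomm]
      exact (IsPullback.of_hasPullback p.hom p.hom).flip
    · exact m₁s.symm
  have sq2 : IsPullback (pullback.fst p.hom q.hom) m₂ h (pullback.fst q.hom q.hom) := by
    refine IsPullback.of_bot ?_ ?_ (IsPullback.of_hasPullback q.hom q.hom)
    · rw [m₂s, hcomm]
      exact IsPullback.of_hasPullback p.hom q.hom
    · exact m₂f.symm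
  have u1 : AlgSp.IsUnivClosedMor m₁ := Groth.Agent.SpPts86.univSp_baseChange' hc sq1
  have u2 : AlgSp.IsUnivClosedMor m₂ := Groth.Agent.SpPts86.univSp_baseChange' hc sq2
  have u : AlgSp.IsUnivClosedMor (m₁ ≫ m₂) := Groth.Agent.SpPts86.isUnivClosedMor_comp hXY hYY u1 u2
  have e : h ≫ pullback.diagonal q.hom = pullback.diagonal p.hom ≫ m₁ ≫ m₂ := by
    apply pullback.hom_ext
    · simp only [Category.assoc, pullback.diagonal_fst, m₂f, Category.comp_id]
      rw [reassoc_of% m₁f, pullback.diagonal_fst_assoc]
    · simp only [Category.assoc, pullback.diagonal_snd, m₂s, m₁s, Category.comp_id]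
      rw [pullback.diagonal_snd_assoc]
  constructor
  · intro hp
    have hd : AlgSp.IsQuasiCompactMor (h ≫ pullback.diagonal q.hom) := by
      rw [e]
      exact Groth.Agent.SpPts86.isQuasiCompactMor_comp hXX hYY
        (Groth.Agent.SpPts86.isQuasiCompactMor_of_repWith hXX hp)
        (Groth.Agent.AlgSt88.isQuasiCompactMor_of_isUnivClosedMor hXX hYY u)
    refine Groth.Agent.SpPts86.repWith_quasiCompact_of_isQuasiCompactMor
      (Groth.Agent.SpPts86.representable_diagonal Y.property.diag q.hom) ?_
    intro Z Z' hZ hqc g fst snd sq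
    have sq' := IsPullback.of_hasPullback h fst
    have h1 := hd hZ hqc g (pullback.fst h fst) _ (sq'.paste_vert sq)
    have hZ' : AlgSp.IsAlgSpace Z' := Groth.Agent.SpFP87.isAlgSpace_of_isPullback sq Y.property hZ hYY.diag
    haveI := Groth.Agent.SpPts86.compactSpace_points_of_isQuasiCompactSp h1
    haveI := Groth.Agent.SpPts86.compactSpace_of_surjectiveMor (f := pullback.snd h fst)
      (Groth.Agent.SpPts86.surjective_map_fst_of_isPullback sq'.flip hs)
    exact Groth.Agent.SpPts86.isQuasiCompactSp_of_compactSpace hZ'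
  · intro hp
    refine Groth.Agent.SpPts86.isSeparatedMor_of_diag_univClosed Y.property hB
      (Groth.Agent.SpPts86.isUnivClosedMor_of_surjective_comp (f := h) ?_ hs)
    rw [e]
    exact Groth.Agent.SpPts86.isUnivClosedMor_comp hXX hYY
      (Groth.Agent.SpFP87.isUnivClosedMor_diag_of_separated X.property hB hp) u

end Groth.Agent.S9926
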