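import Groth.Statements.S9930
import Groth.Agent.SpPts86.UnivTop

set_option autoImplicit false
universe u
open CategoryTheory CategoryTheory.Limits AlgebraicGeometry
open AlgSp

namespace Groth.Agent.S9930

/-- For a morphism of algebraic spaces representable by schemes, representable universal submersiveness
is equivalent to |Z x_Y X| -> |Z| being a quotient map after every base change along a morphism of
algebraic spaces. -/
theorem result {S : Scheme.{u}} {X Y : AlgSp.Space S} (f : X ⟶ Y)
    (hf : AlgSp.Representable f.hom) :
    AlgSp.RepWith SGA1.UnivSubmersive f.hom ↔ AlgSp.IsUnivSubmersiveMor f.hom := by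
  constructor
  · intro h Z Z' hZ g fst snd sq
    have h' := (AlgSp.repWith_isStableUnderBaseChange _).of_isPullback sq h
    have hq : ∀ {T V : Over S} (k : (AlgSp.yon S).obj T ⟶ Z) (p : (AlgSp.yon S).obj V ⟶ Z')
        (s : V ⟶ T), IsPullback p ((AlgSp.yon S).map s) snd k → Topology.IsQuotientMap s.left := fun k p s sqV =>
      MorphismProperty.universally_le _ _ (h'.property k p s sqV)
    refine (Topology.isQuotientMap_iff _).2 ⟨Topology.isCoinducing_iff.2 fun W =>
      ⟨fun hW => AlgSp.Points.isOpen_iff.2 fun T k => ?_,
        fun hW => hW.preimage (AlgSp.Points.continuous_map snd)⟩, fun y => ?_⟩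
    swap
    · obtain ⟨T, k, t, rfl, -⟩ := Groth.Agent.SpPts86.exists_ofPt_eq y
      obtain ⟨V, s, p, sqV⟩ := h'.rep k
      obtain ⟨v, rfl⟩ := (hq k p s sqV).surjective t
      exact ⟨_, Groth.Agent.SpPts86.map_ofPt_fst sqV v⟩
    · obtain ⟨V, s, p, sqV⟩ := h'.rep k
      refine (hq k p s sqV).isOpen_preimage.1 ?_
      convert hW.preimage (AlgSp.Points.continuous_ofPt p) using 1
      ext v
      simp only [Set.mem_preimage, Groth.Agent.SpPts86.map_ofPt_fst sqV v]
  · intro h
    refine ⟨hf, fun T V g p s sq => ?_⟩
    change MorphismProperty.universally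
      (AlgebraicGeometry.topologically fun f => Topology.IsQuotientMap f) s.left
    refine Groth.Agent.SpPts86.universally_of_repr
      (R := AlgebraicGeometry.topologically fun f => Topology.IsQuotientMap f) (f := f.hom) ?_ sq
    intro T' V' g p s sq'
    exact (Groth.Agent.SpPts86.isQuotientMap_map_yon_iff s).1
      (h (AlgSp.IsAlgSpace.yon_obj T') g p _ sq')

end Groth.Agent.S9930
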