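import Groth.Statements.S9931
import Groth.Agent.SpPts86.ImmDescent

set_option autoImplicit false
universe u
open CategoryTheory CategoryTheory.Limits AlgebraicGeometry
open AlgSp

namespace Groth.Agent.S9931

/-- (3) ⇒ (1): for P = closed immersion, open immersion or immersion, a morphism of algebraic spaces
whose base change to every affine scheme over the target is representable with P is itself
representable with P. -/
theorem result {S : Scheme.{u}} (P : MorphismProperty Scheme.{u})
    (hP : P = @IsClosedImmersion ∨ P = @IsOpenImmersion ∨ P = @IsImmersion) {X Y : AlgSp.Space S} (f : X ⟶ Y)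
    (h : ∀ (Z : Over S), IsAffine Z.left → ∀ (g : (AlgSp.yon S).obj Z ⟶ Y.obj) (P₀ : AlgSp.Sp S)
      (fst : P₀ ⟶ X.obj) (snd : P₀ ⟶ (AlgSp.yon S).obj Z), IsPullback fst snd f.hom g → AlgSp.RepWith P snd) :
    AlgSp.RepWith P f.hom := by
  have key : ∀ (T : Over S), IsAffine T.left → ∀ g : (AlgSp.yon S).obj T ⟶ Y.obj,
      ∃ (V : Over S) (s : V ⟶ T) (p : (AlgSp.yon S).obj V ⟶ X.obj),
        IsPullback p ((AlgSp.yon S).map s) f.hom g ∧ P s.left := by
    intro T hT g
    have sq := IsPullback.of_hasPullback f.hom g
    have h' := h T hT g _ _ _ sq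
    obtain ⟨V, s, p, sq'⟩ := h'.rep (𝟙 _)
    have e := sq'.paste_horiz sq
    rw [Category.id_comp] at e
    exact ⟨V, s, _, e, h'.property _ p s sq'⟩
  rcases hP with rfl | rfl | rfl
  · exact Groth.Agent.SpPts86.repWith_of_affine_squares @IsClosedImmersion key
  · exact Groth.Agent.SpPts86.repWith_of_affine_squares @IsOpenImmersion key
  · exact Groth.Agent.SpPts86.repWith_of_affine_squares @IsImmersion key

end Groth.Agent.S9931
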