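import Groth.Statements.S9933
import Groth.Agent.SpPts86.Graph

set_option autoImplicit false
universe u
open CategoryTheory CategoryTheory.Limits AlgebraicGeometry
open AlgSp

namespace Groth.Agent.S9933

/-- Permanence for Z -> Y -> X: the five representable finiteness/separation properties of Z -> X pass
to Z -> Y, and a closed immersion Z -> X with Y -> X separated gives a closed immersion Z -> Y. -/
theorem result {S : Scheme.{u}} {Z Y X : AlgSp.Space S} (a : Z ⟶ Y) (b : Y ⟶ X) :
    ((AlgSp.Representable (a ≫ b).hom ∧ AlgSp.RepWith @LocallyOfFiniteType (a ≫ b).hom ∧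
        AlgSp.RepWith (@LocallyQuasiFinite ⊓ @LocallyOfFiniteType) (a ≫ b).hom ∧
        AlgSp.RepWith @IsSeparated (a ≫ b).hom ∧
        AlgSp.RepWith (MorphismProperty.monomorphisms Scheme.{u}) (a ≫ b).hom) →
      (AlgSp.Representable a.hom ∧ AlgSp.RepWith @LocallyOfFiniteType a.hom ∧
        AlgSp.RepWith (@LocallyQuasiFinite ⊓ @LocallyOfFiniteType) a.hom ∧
        AlgSp.RepWith @IsSeparated a.hom ∧
        AlgSp.RepWith (MorphismProperty.monomorphisms Scheme.{u}) a.hom)) ∧
    (AlgSp.RepWith @IsClosedImmersion (a ≫ b).hom → AlgSp.IsSeparatedMor b.hom →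
      AlgSp.RepWith @IsClosedImmersion a.hom) := by
  have hd := SpPts86.repWith_diagLike_diagonal Y.property b.hom
  have hab : (a ≫ b).hom = a.hom ≫ b.hom := rfl
  rw [hab]
  have : MorphismProperty.IsStableUnderComposition
      (@IsClosedImmersion : MorphismProperty Scheme.{u}) :=
    ⟨fun {_ _ _} g g' (_ : IsClosedImmersion g) (_ : IsClosedImmersion g') =>
      (inferInstance : IsClosedImmersion (g ≫ g'))⟩
  refine ⟨?_, fun h hsep => SpPts86.repWith_of_comp hsep h⟩
  rintro ⟨_, hlft, hlqf, hsep, hmono⟩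
  have h₁ := SpPts86.repWith_of_comp (SpPts86.repWith_mono SpPts86.diagLike_le_lft hd) hlft
  have hlqf' : AlgSp.RepWith (S := S) @LocallyQuasiFinite (a.hom ≫ b.hom) :=
    SpPts86.repWith_mono inf_le_left hlqf
  exact ⟨h₁.1, h₁,
    SpPts86.repWith_inf
      (SpPts86.repWith_of_comp (SpPts86.repWith_mono SpPts86.diagLike_le_lqf hd) hlqf') h₁,
    SpPts86.repWith_of_comp (SpPts86.repWith_mono SpPts86.diagLike_le_separated hd) hsep,
    SpPts86.repWith_of_comp (SpPts86.repWith_mono SpPts86.diagLike_le_mono hd) hmono⟩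

end Groth.Agent.S9933
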