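import Groth.Statements.S9934
import Groth.Agent.SpPts86.ImmDescent

set_option autoImplicit false
universe u
open CategoryTheory CategoryTheory.Limits AlgebraicGeometry
open AlgSp

namespace Groth.Agent.S9934

/-- An immersion of algebraic spaces is a closed immersion exactly when its image on points is closed. -/
theorem result {S : Scheme.{u}} {Z X : AlgSp.Space S} (i : Z ⟶ X)
    (hi : AlgSp.RepWith @IsImmersion i.hom) :
    AlgSp.RepWith @IsClosedImmersion i.hom ↔ IsClosed (Set.range (AlgSp.Points.map i.hom)) := by
  constructor
  · intro h
    refine isOpen_compl_iff.1 (AlgSp.Points.isOpen_iff.2 fun T g => ?_)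
    obtain ⟨V, s, p, sq⟩ := h.rep g
    have : IsClosedImmersion s.left := h.property g p s sq
    rw [Set.preimage_compl, Groth.Agent.SpPts86.preimage_ofPt_range_map sq]
    exact s.left.isClosedEmbedding.isClosed_range.isOpen_compl
  · intro h
    refine ⟨hi.rep, fun T V g p s sq => ?_⟩
    have : IsImmersion s.left := hi.property g p s sq
    refine IsClosedImmersion.of_isPreimmersion s.left ?_
    rw [← Groth.Agent.SpPts86.preimage_ofPt_range_map sq]
    exact h.preimage (AlgSp.Points.continuous_ofPt g)

end Groth.Agent.S9934
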