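import Groth.Statements.S9935
import Groth.Agent.SpPts86.ImmImage

set_option autoImplicit false
universe u
open CategoryTheory CategoryTheory.Limits AlgebraicGeometry
open AlgSp

namespace Groth.Agent.S9935

/-- A quasi-compact immersion of algebraic spaces factors as an open immersion followed by a closed
immersion. -/
theorem result {S : Scheme.{u}} {Z X : AlgSp.Space S}
    (i : Z ⟶ X) (hi : AlgSp.RepWith @IsImmersion i.hom) (hq : AlgSp.IsQuasiCompactMor i.hom) :
    ∃ (Zbar : AlgSp.Space S) (j : Z ⟶ Zbar) (c : Zbar ⟶ X), j ≫ c = i ∧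
      AlgSp.RepWith @IsOpenImmersion j.hom ∧ AlgSp.RepWith @IsClosedImmersion c.hom := by
  obtain ⟨hZ, hs⟩ := SpPts86.exists_isSchImage X.property i.hom
  obtain ⟨h', fac⟩ := hs.2.1
  haveI : Mono (SpPts86.schImageι i.hom) :=
    SpPts86.mono_of_repWith_le SpPts86.isClosedImmersion_le_monomorphisms hs.1
  have sq := SpPts86.isPullback_of_mono_fac fac
  have hh : AlgSp.RepWith @IsImmersion h' :=
    (AlgSp.repWith_isStableUnderBaseChange @IsImmersion).of_isPullback sq hi
  obtain ⟨ho, -, -⟩ := SpPts86.openImmersion_of_quasiCompact_immersion hZ hh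
    (SpPts86.isQuasiCompactMor_baseChange hq sq) (SpPts86.isSchImage_id_of_fac hs fac)
  refine ⟨⟨_, hZ⟩, ⟨h'⟩, ⟨SpPts86.schImageι i.hom⟩, ?_, ho, hs.1⟩
  exact ObjectProperty.hom_ext _ fac

end Groth.Agent.S9935
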