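import Groth.Statements.S9942
import Groth.Agent.SpPts86.ImmDescent

set_option autoImplicit false
universe u
open CategoryTheory CategoryTheory.Limits AlgebraicGeometry
open AlgSp

namespace Groth.Agent.S9942

/-- (3) ⇒ (2): if X x_Y V is an affine scheme for every affine scheme V etale over Y, then f : X -> Y is
affine. -/
theorem result {S : Scheme.{u}} {X Y : AlgSp.Space S} (f : X ⟶ Y)
    (h : ∀ (V : Over S), IsAffine V.left → ∀ (b : (AlgSp.yon S).obj V ⟶ Y.obj), AlgSp.RepWith @Etale b →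
      ∀ (P : AlgSp.Sp S) (fst : P ⟶ X.obj) (snd : P ⟶ (AlgSp.yon S).obj V), IsPullback fst snd f.hom b →
      ∃ (W : Over S), IsAffine W.left ∧ Nonempty ((AlgSp.yon S).obj W ≅ P)) :
    AlgSp.IsAffineMor f.hom := by
  obtain ⟨U, p, hp, hps⟩ := Y.property.atlas
  have key : ∀ O : U.left.affineOpens, ∃ (V : Over S) (s : V ⟶ Groth.Agent.SpPts86.openOver U O.1)
      (q : (AlgSp.yon S).obj V ⟶ X.obj), IsAffine V.left ∧ IsPullback q ((AlgSp.yon S).map s) f.hom
        ((AlgSp.yon S).map (Groth.Agent.SpPts86.openIncl U O.1) ≫ p) := by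
    intro O
    have he : AlgSp.RepWith @Etale ((AlgSp.yon S).map (Groth.Agent.SpPts86.openIncl U O.1) ≫ p) :=
      MorphismProperty.comp_mem _ _ _
        ((AlgSp.repWith_yon_map_iff _ _).2 (inferInstanceAs (Etale O.1.ι))) hp
    have sq := IsPullback.of_hasPullback f.hom ((AlgSp.yon S).map (Groth.Agent.SpPts86.openIncl U O.1) ≫ p)
    obtain ⟨W, hW, ⟨e⟩⟩ := h (Groth.Agent.SpPts86.openOver U O.1) O.2 _ he _ _ _ sq
    obtain ⟨s, hs⟩ := (AlgSp.yon S).map_surjective (e.hom ≫ pullback.snd f.hom _)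
    exact ⟨W, s, e.hom ≫ pullback.fst f.hom _, hW,
      IsPullback.of_iso sq e.symm (Iso.refl _) (Iso.refl _) (Iso.refl _)
        (by simp) (by simp [hs]) (by simp) (by simp)⟩
  obtain ⟨V, s, q, sq⟩ := Groth.Agent.SpPts86.exists_isPullback_of_opens p
    (fun O : U.left.affineOpens => O.1)
    (fun t => by
      obtain ⟨O, hO, htO, -⟩ := exists_isAffineOpen_mem_and_subset (x := t) (U := ⊤) trivial
      exact ⟨⟨O, hO⟩, htO⟩)
    (fun O => by obtain ⟨V, s, q, -, hq⟩ := key O; exact ⟨V, s, q, hq⟩)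
  have : IsAffineHom s.left := by
    refine ⟨fun O hO => ?_⟩
    obtain ⟨V', s', q', hV', sq'⟩ := key ⟨O, hO⟩
    obtain ⟨φ, hφ⟩ := (AlgSp.yon S).map_surjective
      (sq.lift q' ((AlgSp.yon S).map s' ≫ (AlgSp.yon S).map (Groth.Agent.SpPts86.openIncl U O))
        (by rw [Category.assoc]; exact sq'.w))
    have sqO := IsPullback.of_right (h₁₁ := (AlgSp.yon S).map φ) (v₁₁ := (AlgSp.yon S).map s')
      (by rw [hφ, sq.lift_fst]; exact sq') (by rw [hφ, sq.lift_snd]) sq
    have sq3 : IsPullback φ.left s'.left s.left O.ι :=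
      (IsPullback.of_map_of_faithful (AlgSp.yon S) sqO).map (Over.forget S)
    have hopen : IsOpenImmersion φ.left :=
      MorphismProperty.of_isPullback sq3.flip (inferInstanceAs (IsOpenImmersion O.ι))
    have hr : φ.left.opensRange = s.left ⁻¹ᵁ O := by
      ext1
      change Set.range φ.left = s.left ⁻¹' (O : Set ↥U.left)
      rw [← O.range_ι, ← Scheme.Pullback.range_fst, ← sq3.isoPullback_hom_fst]
      ext z
      constructor
      · rintro ⟨w, rfl⟩
        exact ⟨sq3.isoPullback.hom w, (Scheme.Hom.comp_apply _ _ w).symm⟩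
      · rintro ⟨w, rfl⟩
        refine ⟨sq3.isoPullback.inv w, ?_⟩
        rw [← Scheme.Hom.comp_apply, Iso.inv_hom_id_assoc]
    rw [← hr]
    exact isAffineOpen_opensRange φ.left
  exact Groth.Agent.SpPts86.isAffineMor_of_repWith
    (Groth.Agent.SpPts86.repWith_isAffineHom_of_cover (Groth.Agent.SpFP87.locLift_of_atlas hp hps) sq)

end Groth.Agent.S9942
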