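import Groth.Statements.S9944
import Groth.Agent.SpPts86.ImmDescent
import Groth.Agent.SpPts86.Graph

set_option autoImplicit false
universe u
open CategoryTheory CategoryTheory.Limits AlgebraicGeometry
open AlgSp

namespace Groth.Agent.S9944

/-- Let g : X -> Y be a morphism over a base algebraic space B with X affine over B. Then g is affine as
soon as the diagonal of Y over B is affine, and in particular as soon as Y is B-separated. (The
published lemma also has two versions with the absolute diagonal of Y; this row states the versions
over B.) -/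
theorem result {S : Scheme.{u}} {X Y B : AlgSp.Space S} (g : X ⟶ Y) (p : X ⟶ B)
    (q : Y ⟶ B) (comm : g ≫ q = p) (hp : AlgSp.IsAffineMor p.hom) :
    (AlgSp.IsAffineMor (pullback.diagonal q.hom) → AlgSp.IsAffineMor g.hom) ∧
    (AlgSp.IsSeparatedMor q.hom → AlgSp.IsAffineMor g.hom) := by
  have e : g.hom ≫ q.hom = p.hom := congrArg InducedCategory.Hom.hom comm
  have hp' : AlgSp.RepWith @IsAffineHom (g.hom ≫ q.hom) := by
    rw [e]; exact Groth.Agent.SpPts86.repWith_of_isAffineMor hp
  refine ⟨fun hd => ?_, fun hd => ?_⟩
  · exact Groth.Agent.SpPts86.isAffineMor_of_repWith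
      (Groth.Agent.SpPts86.repWith_of_comp (Groth.Agent.SpPts86.repWith_of_isAffineMor hd) hp')
  · have hd' : AlgSp.RepWith @IsAffineHom (pullback.diagonal q.hom) :=
      Groth.Agent.SpPts86.repWith_mono
        (fun _ _ f (_ : IsClosedImmersion f) => (inferInstance : IsAffineHom f)) hd
    exact Groth.Agent.SpPts86.isAffineMor_of_repWith (Groth.Agent.SpPts86.repWith_of_comp hd' hp')

end Groth.Agent.S9944
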