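import Groth.Statements.S9945
import Groth.Agent.SpPts86.ImmDescent
import Groth.Agent.SpPts86.QCQS
import Groth.Agent.SpProper61.AffineSteps

set_option autoImplicit false
set_option backward.isDefEq.respectTransparency false
universe u
open CategoryTheory CategoryTheory.Limits AlgebraicGeometry Topology TopologicalSpace
open AlgSp Groth.Agent.SpPts86 Groth.Agent.SpFP87 Groth.Agent.SpProper61

namespace Groth.Agent.S9945

/-- Over a base scheme with quasi-separated underlying space, every morphism from the spectrum of an
Artinian ring to an algebraic space quasi-separated over S is affine. (The published statement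
assumes X quasi-separated in the absolute sense over any base; this row assumes the base
quasi-separated and X quasi-separated over it, which on such bases is the same condition.) -/
theorem result {S : Scheme.{u}} [QuasiSeparatedSpace ↥S] (X : AlgSp.Space S)
    (hX : AlgSp.IsQuasiSeparatedSp X.obj) (A : Type u) [CommRing A] [IsArtinianRing A]
    (str : Spec (CommRingCat.of A) ⟶ S) (a : (AlgSp.yon S).obj (Over.mk str) ⟶ X.obj) :
    AlgSp.IsAffineMor a := by
  obtain ⟨U, g, hg, hgs⟩ := X.property.atlas
  obtain ⟨V, p, s, sq⟩ := exists_isPullback_yon X.property.diag a g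
  have : Etale p.left := etale_snd_of_isPullback sq.flip hg
  have : CompactSpace ↥(Over.mk str).left := inferInstanceAs (CompactSpace (PrimeSpectrum A))
  have := compactSpace_points_yon (Over.mk str)
  have : DiscreteTopology ↥(Over.mk str).left := inferInstanceAs (DiscreteTopology (PrimeSpectrum A))
  have : LocallyQuasiFinite p.left := Groth.Agent.Unr55.locallyQuasiFinite_of_formallyUnramified _
  have hdisc : DiscreteTopology ↥V.left := discreteTopology_iff_isOpen_singleton.2 fun v => by
    obtain ⟨O, hO, hv⟩ := isOpen_induced_iff.1 (@isOpen_discrete _ _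
      (Scheme.Hom.isDiscrete_preimage_singleton p.left (p.left v)).to_subtype
      ({⟨v, rfl⟩} : Set ↥(p.left ⁻¹' {p.left v})))
    have e : ({v} : Set ↥V.left) = O ∩ p.left ⁻¹' {p.left v} := by
      ext w
      constructor
      · rintro rfl
        exact ⟨(Set.ext_iff.1 hv ⟨_, rfl⟩).2 rfl, rfl⟩
      · rintro ⟨hwO, hw⟩
        exact congrArg Subtype.val ((Set.ext_iff.1 hv ⟨w, hw⟩).1 hwO)
    rw [e]
    exact hO.inter ((isOpen_discrete _).preimage p.left.continuous)
  have : IsAffineHom s.left := ⟨fun O hO => by
    have hc : IsCompact (s.left ⁻¹ᵁ O : Set ↥V.left) := by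
      let T : Over S := Over.mk (O.ι ≫ U.hom)
      let c : T ⟶ U := Over.homMk O.ι rfl
      have : CompactSpace ↥T.left := isCompact_iff_compactSpace.1 hO.isCompact
      have := compactSpace_points_yon T
      have sq' := ((IsPullback.of_hasPullback s c).map (yon S)).paste_horiz sq
      have := compactSpace_of_isQuasiCompactMor
        (isQuasiCompactMor_of_qc_qs (f := a) (IsAlgSpace.yon_obj _) X.property hX) (IsAlgSpace.yon_obj T) sq'
      have : CompactSpace ↥(pullback s c).left := (Points.schemeHomeo _).symm.compactSpace
      have hm := (IsPullback.of_hasPullback s c).map (Over.forget S)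
      have e : (s.left ⁻¹ᵁ O : Set ↥V.left) = Set.range (pullback.fst s c).left := by
        ext v
        constructor
        · intro hv
          obtain ⟨z, hz, -⟩ := Scheme.exists_preimage_of_isPullback hm v ⟨s.left v, hv⟩ rfl
          exact ⟨z, hz⟩
        · rintro ⟨z, rfl⟩
          show s.left ((pullback.fst s c).left z) ∈ O
          rw [← Scheme.Hom.comp_apply, show (pullback.fst s c).left ≫ s.left = (pullback.snd s c).left ≫ O.ι from hm.w]
          exact ((pullback.snd s c).left z).2
      rw [e]
      exact isCompact_range (pullback.fst s c).left.continuous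
    have : Finite ↥(s.left ⁻¹ᵁ O).toScheme := by
      have : CompactSpace ↥(s.left ⁻¹ᵁ O).toScheme := isCompact_iff_compactSpace.1 hc
      have : DiscreteTopology ↥(s.left ⁻¹ᵁ O).toScheme := inferInstanceAs (DiscreteTopology ↥(s.left ⁻¹ᵁ O))
      exact finite_of_compact_of_discrete
    have : DiscreteTopology ↥(s.left ⁻¹ᵁ O).toScheme := inferInstanceAs (DiscreteTopology ↥(s.left ⁻¹ᵁ O))
    show IsAffine (s.left ⁻¹ᵁ O).toScheme
    infer_instance⟩
  exact isAffineMor_of_repWith (repWith_isAffineHom_of_cover (locLift_of_atlas hg hgs) sq)

end Groth.Agent.S9945
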