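import Groth.Statements.S9946
import Groth.Agent.SpFP87.RepDescQA
import Groth.Agent.SpFP87.EtLocInst

set_option autoImplicit false
universe u
open CategoryTheory CategoryTheory.Limits AlgebraicGeometry
open AlgSp
set_option backward.isDefEq.respectTransparency false
set_option linter.style.haveILetI false

namespace Groth.Agent.S9946

/-- (3) ⇒ (1): if the base change of f along a surjective etale map from a scheme is quasi-affine, then
f is representable by schemes and quasi-affine. -/
theorem result {S : Scheme.{u}} {X Y : AlgSp.Space S} (f : X ⟶ Y)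
    (V : Over S) (p : (AlgSp.yon S).obj V ⟶ Y.obj) (hp : AlgSp.RepWith @Etale p) (hps : AlgSp.RepWith @Surjective p)
    {P : AlgSp.Sp S} (fst : P ⟶ X.obj) (snd : P ⟶ (AlgSp.yon S).obj V) (sq : IsPullback fst snd f.hom p)
    (h : AlgSp.IsQuasiAffineMor snd) : AlgSp.Representable f.hom ∧ AlgSp.IsQuasiAffineMor f.hom := by
  haveI : MorphismProperty.ContainsIdentities (@Flat.{u} : MorphismProperty Scheme.{u}) := ⟨fun _ => inferInstanceAs (Flat (𝟙 _))⟩
  have hcov : IsFpqcCover (fun _ : PUnit.{u+1} => (AlgSp.yon S).obj V) (fun _ => p) := by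
    refine ⟨fun _ => SpFP87.locP_of_chart (h := 𝟙 V) (IsAlgSpace.yon_obj V).diag Y.property.diag
      (repWith_id _ V) (repWith_id _ V) hp (by simp) (inferInstanceAs (Flat (𝟙 V.left))), fun Z hZ z => ?_⟩
    obtain ⟨W, r, c, sqV⟩ := SpFP87.exists_isPullback_yon Y.property.diag p z
    have hc : Etale c.left := SpFP87.etale_snd_of_isPullback sqV hp
    have hcs : Surjective c.left := SpFP87.etale_snd_of_isPullback sqV hps
    haveI := hZ
    obtain ⟨W₀, σ, hW₀, hσ, hσs⟩ := SpFP87.exists_affine_surjective c.left hc hcs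
    let w : (Over.mk (σ ≫ W.hom) : Over S) ⟶ W := Over.homMk σ rfl
    refine ⟨1, fun _ => Over.mk (σ ≫ W.hom), fun _ => w ≫ c, fun _ => hW₀, fun _ => ?_, fun t => ?_,
      fun _ => ⟨PUnit.unit, (AlgSp.yon S).map (w ≫ r), ?_⟩⟩
    · haveI := hc; haveI := hσ
      exact (inferInstance : Flat (σ ≫ c.left))
    · obtain ⟨s, hs⟩ := (σ ≫ c.left).surjective t
      exact ⟨0, s, hs⟩
    · rw [Functor.map_comp, Functor.map_comp, Category.assoc, Category.assoc, sqV.w]
  have hP : IsAlgSpace P := SpFP87.isAlgSpace_of_isPullback sq X.property (IsAlgSpace.yon_obj V) Y.property.diag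
  have hqa : IsQuasiAffineMor f.hom :=
    (SpFP87.isLocalOnBase_fpqc_quasiAffine (fun _ : PUnit.{u+1} => (AlgSp.yon S).obj V) (fun _ => p) Y.property
      (fun _ => IsAlgSpace.yon_obj V) hcov f.hom X.property (fun _ => P) (fun _ => snd) (fun _ => fst)
      (fun _ => hP) (fun _ => sq)).2 fun _ => h
  exact ⟨((SpFP87.repWith_qaMor_iff f.hom X.property Y.property).2 hqa).rep, hqa⟩

end Groth.Agent.S9946
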