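import Groth.Statements.S9949
import Groth.Agent.SpPts86.Props

set_option autoImplicit false
universe u
open CategoryTheory CategoryTheory.Limits AlgebraicGeometry
open AlgSp

namespace Groth.Agent.S9949

/-- (5) ⇒ (1): being locally of finite type descends along a surjective etale base change from a scheme. -/
theorem result {S : Scheme.{u}} {X Y : AlgSp.Space S} (f : X ⟶ Y) (V : Over S)
    (p : (AlgSp.yon S).obj V ⟶ Y.obj) (hp : AlgSp.RepWith @Etale p) (hps : AlgSp.RepWith @Surjective p)
    {P : AlgSp.Sp S} (fst : P ⟶ X.obj) (snd : P ⟶ (AlgSp.yon S).obj V) (sq : IsPullback fst snd f.hom p)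
    (h : AlgSp.LocP @LocallyOfFiniteType snd) : AlgSp.LocP @LocallyOfFiniteType f.hom := by
  have hP' := SpFP87.isAlgSpace_of_isPullback sq X.property (AlgSp.IsAlgSpace.yon_obj V) Y.property.diag
  have hidE : AlgSp.RepWith @Etale (𝟙 ((AlgSp.yon S).obj V)) := by
    rw [← (AlgSp.yon S).map_id]
    exact (AlgSp.repWith_yon_map_iff _ _).2 (by rw [Over.id_left]; infer_instance)
  have hidS : AlgSp.RepWith @Surjective (𝟙 ((AlgSp.yon S).obj V)) := by
    rw [← (AlgSp.yon S).map_id]
    exact (AlgSp.repWith_yon_map_iff _ _).2 (by rw [Over.id_left]; infer_instance)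
  obtain ⟨U, a, k, ha, has, w⟩ := SpFP87.exists_compatible_chart snd hP'
    (AlgSp.IsAlgSpace.yon_obj V).diag hidE hidS
  refine SpFP87.locP_of_chart (b := p) (h := k) (a := a ≫ fst) X.property.diag Y.property.diag
    ((AlgSp.repWith_isMultiplicative (S := S) @Etale).comp_mem _ _ ha
      ((AlgSp.repWith_isStableUnderBaseChange (S := S) @Etale).of_isPullback sq.flip hp))
    ((AlgSp.repWith_isMultiplicative (S := S) @Surjective).comp_mem _ _ has
      ((AlgSp.repWith_isStableUnderBaseChange (S := S) @Surjective).of_isPullback sq.flip hps))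
    hp ?_ (h a (𝟙 _) k ha hidE w)
  rw [Category.assoc, sq.w, ← Category.assoc, w, Category.comp_id]

end Groth.Agent.S9949
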