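import Groth.Statements.S9956
import Groth.Agent.SpPts86.LocPMore

set_option autoImplicit false
universe u
open CategoryTheory CategoryTheory.Limits AlgebraicGeometry
open AlgSp

namespace Groth.Agent.S9956

/-- For morphisms X -> Y -> Z of algebraic spaces, local quasi-finiteness of the composite implies that
of the first map (locally quasi-finite includes locally of finite type, etale locally on source and
target). -/
theorem result {S : Scheme.{u}} {X Y Z : AlgSp.Space S} (f : X ⟶ Y) (g : Y ⟶ Z)
    (h : AlgSp.LocP ((@LocallyQuasiFinite : MorphismProperty Scheme.{u}) ⊓ @LocallyOfFiniteType) (f ≫ g).hom) :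
    AlgSp.LocP ((@LocallyQuasiFinite : MorphismProperty Scheme.{u}) ⊓ @LocallyOfFiniteType) f.hom := by
  obtain ⟨_, _⟩ := SpPts86.etLoc_descends_of_cases
    ((@LocallyQuasiFinite : MorphismProperty Scheme.{u}) ⊓ @LocallyOfFiniteType)
    (.inr (.inr (.inr (.inr (.inr (.inl fun _ _ _ => Iff.rfl))))))
  refine SpPts86.locP_of_comp (Q := ⊤)
    (R := (@LocallyQuasiFinite : MorphismProperty Scheme.{u}) ⊓ @LocallyOfFiniteType) (fun f g h _ => ?_)
    X.property Y.property Z.property h (fun _ _ _ _ _ _ _ _ => trivial)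
  obtain ⟨h1, h2⟩ := h
  exact ⟨@LocallyQuasiFinite.of_comp _ _ _ f g h1, @locallyOfFiniteType_of_comp _ _ _ f g h2⟩

end Groth.Agent.S9956
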