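import Groth.Statements.S9957
import Groth.Agent.SpPts86.QCQS
import Groth.Agent.SpPts86.DiagCrit
import Groth.Agent.SpPts86.QCMor
import Groth.Agent.SpFP87.LocP

set_option autoImplicit false
universe u
open CategoryTheory CategoryTheory.Limits AlgebraicGeometry
open AlgSp

namespace Groth.Agent.S9957

/-- The source of a morphism of finite presentation whose target is Noetherian is itself Noetherian,
Noetherian meaning quasi-compact, quasi-separated over S and locally Noetherian. (The published
statement uses quasi-separatedness in the absolute sense; this row uses quasi-separatedness over S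
in hypothesis and conclusion.) -/
theorem result {S : Scheme.{u}} {X Y : AlgSp.Space S} (f : X ⟶ Y)
    (hf : AlgSp.IsFinitePresentationMor f.hom)
    (hY : AlgSp.IsQuasiCompactSp Y.obj ∧ AlgSp.IsQuasiSeparatedSp Y.obj ∧ AlgSp.IsLocNoethSp Y.obj) :
    AlgSp.IsQuasiCompactSp X.obj ∧ AlgSp.IsQuasiSeparatedSp X.obj ∧ AlgSp.IsLocNoethSp X.obj := by
  obtain ⟨hlfp, hqc, hqs⟩ := hf
  obtain ⟨hYc, hYs, hYn⟩ := hY
  refine ⟨hqc Y.property hYc (𝟙 Y.obj) (𝟙 X.obj) f.hom (IsPullback.of_horiz_isIso ⟨by simp⟩), ?_, ?_⟩
  · have sq := SpPts86.isPullback_prodLift (IsPullback.of_hasPullback f.hom f.hom)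
    have h1 := (AlgSp.repWith_isStableUnderBaseChange @QuasiCompact).of_isPullback sq hYs
    have e : Limits.diag X.obj =
        pullback.diagonal f.hom ≫ prod.lift (pullback.fst f.hom f.hom) (pullback.snd f.hom f.hom) := by
      apply Limits.prod.hom_ext <;> simp
    show AlgSp.RepWith @QuasiCompact (Limits.diag X.obj)
    rw [e]
    exact MorphismProperty.comp_mem (AlgSp.RepWith @QuasiCompact) _ _ hqs h1
  · obtain ⟨V, b, hb, hbs, hV⟩ := hYn
    obtain ⟨U, a, h, ha, has, w⟩ := SpFP87.exists_compatible_chart f.hom X.property Y.property.diag hb hbs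
    have := hlfp a b h ha hb w
    have : IsLocallyNoetherian V.left := hV
    exact ⟨U, a, ha, has, LocallyOfFiniteType.isLocallyNoetherian h.left⟩

end Groth.Agent.S9957
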