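import Groth.Statements.S9962
import Groth.Agent.SpFP87.LocP
import Groth.Agent.SpFP87.EtLocInst
import Groth.Agent.SpPts86.UnivTop
import Groth.Agent.SpPts86.Basic

set_option autoImplicit false
universe u
open CategoryTheory CategoryTheory.Limits AlgebraicGeometry
open AlgSp

namespace Groth.Agent.S9962

/-- A flat morphism locally of finite presentation between algebraic spaces is universally open. -/
theorem result {S : Scheme.{u}} {X Y : AlgSp.Space S} (f : X ⟶ Y)
    (hfl : AlgSp.LocP @Flat f.hom) (hfp : AlgSp.LocP @LocallyOfFinitePresentation f.hom) :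
    AlgSp.IsUnivOpenMor f.hom := by
  intro Z Z' hZ g fst snd sq
  have hZ' : AlgSp.IsAlgSpace Z' := SpFP87.isAlgSpace_of_isPullback sq X.property hZ Y.property.diag
  have h1 := SpFP87.locP_baseChange sq X.property Y.property hZ hfl
  have h2 := SpFP87.locP_baseChange sq X.property Y.property hZ hfp
  obtain ⟨V, b, hb, hbs⟩ := hZ.atlas
  obtain ⟨U, a, h, ha, has, w⟩ := SpFP87.exists_compatible_chart snd hZ' hZ.diag hb hbs
  haveI : Flat h.left := h1 a b h ha hb w
  haveI : LocallyOfFinitePresentation h.left := h2 a b h ha hb w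
  have hopen : IsOpenMap h.left := h.left.isOpenMap
  have hbo : IsOpenMap (AlgSp.Points.ofPt b) := SpPts86.isOpenMap_ofPt hb
  intro A hA
  have e : AlgSp.Points.map snd '' A =
      AlgSp.Points.ofPt b '' (h.left '' (AlgSp.Points.ofPt a ⁻¹' A)) := by
    ext y
    constructor
    · rintro ⟨x, hx, rfl⟩
      obtain ⟨t, rfl⟩ := SpPts86.surjective_ofPt has x
      exact ⟨h.left t, ⟨t, hx, rfl⟩, by rw [AlgSp.Points.map_ofPt, w, SpPts86.ofPt_comp]⟩
    · rintro ⟨_, ⟨t, ht, rfl⟩, rfl⟩
      exact ⟨_, ht, by rw [AlgSp.Points.map_ofPt, w, SpPts86.ofPt_comp]⟩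
  show IsOpen (AlgSp.Points.map snd '' A)
  rw [e]
  exact hbo _ (hopen _ (hA.preimage (AlgSp.Points.continuous_ofPt a)))

end Groth.Agent.S9962
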