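import Groth.Statements.S9970
import Groth.Agent.SpPts86.SchDense

set_option autoImplicit false
universe u
open CategoryTheory CategoryTheory.Limits AlgebraicGeometry
open AlgSp

namespace Groth.Agent.S9970

/-- The intersection of two scheme theoretically dense open subspaces is scheme theoretically dense. -/
theorem result {S : Scheme.{u}} {U V X P : AlgSp.Space S} (jU : U ⟶ X) (jV : V ⟶ X)
    (hU : AlgSp.IsSchDense jU.hom) (hV : AlgSp.IsSchDense jV.hom) (fst : P ⟶ U) (snd : P ⟶ V)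
    (sq : IsPullback fst.hom snd.hom jU.hom jV.hom) : AlgSp.IsSchDense (fst ≫ jU).hom := by
  have hfst : AlgSp.RepWith @IsOpenImmersion fst.hom :=
    (AlgSp.repWith_isStableUnderBaseChange @IsOpenImmersion).of_isPullback sq.flip hV.1
  have hP : AlgSp.RepWith @IsOpenImmersion (fst.hom ≫ jU.hom) :=
    (AlgSp.repWith_isMultiplicative (S := S) @IsOpenImmersion).comp_mem _ _ hfst hU.1
  obtain ⟨V₀, φ, hφ, hs⟩ := X.property.atlas
  obtain ⟨W, f₀, sq₀, hW⟩ := SpPts86.exists_isPullback_opens hP φ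
  obtain ⟨A, fA, sqA, hA⟩ := SpPts86.exists_isPullback_opens hU.1 φ
  obtain ⟨B, fB, sqB, hB⟩ := SpPts86.exists_isPullback_opens hV.1 φ
  refine ⟨hP, V₀, φ, W, f₀, hφ, hs, sq₀, ?_⟩
  have e : W = A ⊓ B := by
    ext v
    show v ∈ (W : Set ↥V₀.left) ↔ v ∈ (A : Set ↥V₀.left) ∧ v ∈ (B : Set ↥V₀.left)
    rw [hW, hA, hB]
    constructor
    · rintro ⟨z, hz⟩
      exact ⟨⟨_, by rw [← hz, AlgSp.Points.map_comp]⟩,
        ⟨AlgSp.Points.map snd.hom z, by rw [← hz, ← AlgSp.Points.map_comp, ← sq.w]⟩⟩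
    · rintro ⟨⟨a, ha⟩, ⟨b, hb⟩⟩
      obtain ⟨z, hz, -⟩ := SpPts86.exists_of_isPullback sq a b (ha.trans hb.symm)
      exact ⟨z, by rw [AlgSp.Points.map_comp, hz, ha]⟩
  rw [e]
  exact SpPts86.isSchematicallyDense_inf (SpPts86.isSchematicallyDense_chart X.property hU hφ A hA)
    (SpPts86.isSchematicallyDense_chart X.property hV hφ B hB)

end Groth.Agent.S9970
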