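import Groth.Statements.S9971
import Groth.Agent.SpPts86.ImmImage
import Groth.Agent.S9966

set_option autoImplicit false
universe u
open CategoryTheory CategoryTheory.Limits AlgebraicGeometry
open AlgSp

namespace Groth.Agent.S9971

/-- A quasi-compact (or reduced-source) immersion is a scheme theoretically dense, topologically dense
open immersion into its scheme theoretic image. -/
theorem result {S : Scheme.{u}} {Z X Zbar : AlgSp.Space S} (h : Z ⟶ X)
    (hh : AlgSp.RepWith @IsImmersion h.hom) (hq : AlgSp.IsQuasiCompactMor h.hom ∨ AlgSp.IsReducedSp Z.obj)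
    (c : Zbar ⟶ X) (hc : AlgSp.IsSchImage h.hom c.hom) (h' : Z ⟶ Zbar) (fac : h' ≫ c = h) :
    AlgSp.RepWith @IsOpenImmersion h'.hom ∧ AlgSp.IsSchDense h'.hom ∧
      Dense (Set.range (AlgSp.Points.map h'.hom)) := by
  have fac' : h'.hom ≫ c.hom = h.hom := congrArg (·.hom) fac
  haveI : Mono c.hom := SpPts86.mono_of_repWith_le SpPts86.isClosedImmersion_le_monomorphisms hc.1
  have sq := SpPts86.isPullback_of_mono_fac fac'
  have himm : AlgSp.RepWith @IsImmersion h'.hom :=
    (AlgSp.repWith_isStableUnderBaseChange @IsImmersion).of_isPullback sq hh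
  rcases hq with hq | hq
  · exact SpPts86.openImmersion_of_quasiCompact_immersion Zbar.property himm
      (SpPts86.isQuasiCompactMor_baseChange hq sq) (SpPts86.isSchImage_id_of_fac hc fac')
  · obtain ⟨-, hr, hred⟩ := S9966.result h c hq hc
    refine SpPts86.openImmersion_of_dense_immersion Zbar.property hred himm ?_
    have hcl := SpFP87.isClosedEmbedding_map_of_closedImmersion X.property hc.1
    have e : AlgSp.Points.map h.hom = AlgSp.Points.map c.hom ∘ AlgSp.Points.map h'.hom := by
      funext z
      rw [← fac', AlgSp.Points.map_comp]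
      rfl
    intro y
    rw [hcl.isEmbedding.isInducing.closure_eq_preimage_closure_image, ← Set.range_comp, Set.mem_preimage,
      ← e, ← hr]
    exact ⟨y, rfl⟩

end Groth.Agent.S9971
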