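import Groth.Statements.S9972
import Groth.Agent.SpPts86.Subspace

set_option autoImplicit false
universe u
open CategoryTheory CategoryTheory.Limits AlgebraicGeometry
open AlgSp

namespace Groth.Agent.S9972

/-- Two morphisms to an algebraic space separated over B that agree on an open subspace whose scheme
theoretic closure is everything are equal. -/
theorem result {S : Scheme.{u}} {U X Y B : AlgSp.Space S} (q : Y ⟶ B)
    (hq : AlgSp.IsSeparatedMor q.hom) (f g : X ⟶ Y) (hfg : f ≫ q = g ≫ q) (j : U ⟶ X)
    (hj : AlgSp.RepWith @IsOpenImmersion j.hom) (hcl : AlgSp.IsSchImage j.hom (𝟙 X.obj)) (heq : j ≫ f = j ≫ g) :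
    f = g := by
  obtain ⟨Zs, hZ⟩ : ∃ Z : AlgSp.Sp S, Z = pullback (pullback.diagonal q.hom)
      (pullback.lift f.hom g.hom (congrArg (·.hom) hfg)) := ⟨_, rfl⟩
  subst hZ
  have hi := (AlgSp.repWith_isStableUnderBaseChange @IsClosedImmersion).of_isPullback
    (IsPullback.of_hasPullback (pullback.diagonal q.hom) (pullback.lift f.hom g.hom (congrArg (·.hom) hfg))) hq
  have := SpPts86.mono_of_repWith_le (P := @IsClosedImmersion)
    (fun _ _ g (hg : IsClosedImmersion g) => inferInstanceAs (Mono g)) hi
  have hA : AlgSp.IsAlgSpace (pullback (pullback.diagonal q.hom)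
      (pullback.lift f.hom g.hom (congrArg (·.hom) hfg))) := SpPts86.isAlgSpace_of_representable_mono hi.1 X.property
  obtain ⟨k, hk⟩ := hcl.2.2 _ hA hi ⟨pullback.lift (j.hom ≫ f.hom) j.hom (by
    refine pullback.hom_ext ?_ ?_
    · rw [Category.assoc, Category.assoc, Category.assoc, pullback.diagonal, pullback.lift_fst, pullback.lift_fst, Category.comp_id]
    · rw [Category.assoc, Category.assoc, Category.assoc, pullback.diagonal, pullback.lift_snd, pullback.lift_snd, Category.comp_id]
      exact congrArg (·.hom) heq), pullback.lift_snd _ _ _⟩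
  have e := congrArg (k ≫ ·) (pullback.condition (f := pullback.diagonal q.hom)
    (g := pullback.lift f.hom g.hom (congrArg (·.hom) hfg)))
  simp only [← Category.assoc, hk, Category.id_comp] at e
  ext1
  have e1 := congrArg (· ≫ pullback.fst _ _) e
  have e2 := congrArg (· ≫ pullback.snd _ _) e
  simp [Category.assoc] at e1 e2
  rw [e1, pullback.lift_fst, pullback.lift_snd] at e2
  exact e2

end Groth.Agent.S9972
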