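import Groth.Statements.S9973
import Groth.Agent.SpPts86.SchImageApps

set_option autoImplicit false
universe u
open CategoryTheory CategoryTheory.Limits AlgebraicGeometry
open AlgSp

namespace Groth.Agent.S9973

/-- The inverse image of a quasi-compact scheme theoretically dense open under a flat morphism of
algebraic spaces is scheme theoretically dense. -/
theorem result {S : Scheme.{u}} {X Y V V' : AlgSp.Space S} (f : X ⟶ Y)
    (hf : AlgSp.LocP @Flat f.hom) (j : V ⟶ Y) (hj : AlgSp.IsSchDense j.hom) (hjq : AlgSp.IsQuasiCompactMor j.hom)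
    (fst : V' ⟶ V) (jX : V' ⟶ X) (sq : IsPullback fst.hom jX.hom j.hom f.hom) : AlgSp.IsSchDense jX.hom := by
  have hjX : AlgSp.RepWith @IsOpenImmersion jX.hom :=
    (AlgSp.repWith_isStableUnderBaseChange @IsOpenImmersion).of_isPullback sq hj.1
  refine (SpPts86.isSchDense_iff_isSchImage_id X.property hjX
    (SpPts86.isQuasiCompactMor_baseChange hjq sq)).2 ?_
  exact SpPts86.isSchImage_flat_pullback Y.property X.property hjq
    ((SpPts86.isSchDense_iff_isSchImage_id Y.property hj.1 hjq).1 hj) hf sq
    (IsPullback.of_vert_isIso (fst := f.hom) (snd := 𝟙 X.obj) (f := 𝟙 Y.obj) (g := f.hom) ⟨by rw [Category.comp_id, Category.id_comp]⟩)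

end Groth.Agent.S9973
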