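import Groth.Statements.S9976
import Groth.Agent.SpPts86.FTPoint
import Groth.Agent.SpFP87.Reduced

set_option autoImplicit false
universe u
open CategoryTheory CategoryTheory.Limits AlgebraicGeometry
open AlgSp

namespace Groth.Agent.S9976

/-- Under a surjective morphism locally of finite type, every finite type point of the target is the
image of a finite type point of the source. (The published lemma states that the two sets of finite
type points correspond exactly; the inclusion of the image in the finite type points of the target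
holds for every morphism locally of finite type and is omitted here.) -/
theorem result {S : Scheme.{u}} {X Y : AlgSp.Space S} (f : X ⟶ Y)
    (hf : AlgSp.LocP @LocallyOfFiniteType f.hom) (hs : AlgSp.IsSurjectiveMor f.hom) (y : AlgSp.Points Y.obj)
    (hy : ∃ (k : Type u) (_ : Field k) (str : Spec (CommRingCat.of k) ⟶ S) (ξ : (AlgSp.yon S).obj (Over.mk str) ⟶ Y.obj),
        AlgSp.LocP @LocallyOfFiniteType ξ ∧ AlgSp.Points.ofPt ξ (IsLocalRing.closedPoint k) = y) :
    ∃ x : AlgSp.Points X.obj, AlgSp.Points.map f.hom x = y ∧
      ∃ (k : Type u) (_ : Field k) (str : Spec (CommRingCat.of k) ⟶ S) (ξ : (AlgSp.yon S).obj (Over.mk str) ⟶ X.obj),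
        AlgSp.LocP @LocallyOfFiniteType ξ ∧ AlgSp.Points.ofPt ξ (IsLocalRing.closedPoint k) = x := by
  obtain ⟨V, b, v, hb, hv, rfl⟩ := (SpPts86.ftPoint_iff Y.property y).1 hy
  obtain ⟨U, a, h, ha, w, -, hsurj⟩ := SpFP87.exists_surjective_compatible_chart f.hom X.property Y.property hb
  have := hsurj hs
  obtain ⟨u₀, hu₀⟩ := h.left.surjective v
  obtain ⟨u, hu, hlc⟩ := Goldman62.exists_isLocallyClosed_singleton
    ((hv.preimage h.left.continuous).isLocallyClosed) ⟨u₀, hu₀⟩
  refine ⟨AlgSp.Points.ofPt a u, ?_, SpPts86.ftPoint_of_isLocallyClosed X.property ha hlc⟩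
  rw [AlgSp.Points.map_ofPt, w, SpPts86.ofPt_comp, show h.left u = v from hu]

end Groth.Agent.S9976
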