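import Groth.Statements.S9978
import Groth.Agent.SpPts86.HasAtMorInv
import Groth.Agent.Props58.Nagata
import Groth.Agent.CAlg1.NagataTheorem

set_option autoImplicit false
universe u
open CategoryTheory CategoryTheory.Limits AlgebraicGeometry
open AlgSp

namespace Groth.Agent.S9978

/-- An algebraic space locally of finite type over a Nagata algebraic space is Nagata. -/
theorem result {S : Scheme.{u}} {X Y : AlgSp.Space S} (f : X ⟶ Y)
    (hf : AlgSp.LocP @LocallyOfFiniteType f.hom)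
    (hY : AlgSp.EtaleLocally (fun U => ∀ V : U.Opens, IsAffineOpen V → CAlg.IsNagata ↑Γ(U, V)) Y.obj) :
    AlgSp.EtaleLocally (fun U => ∀ V : U.Opens, IsAffineOpen V → CAlg.IsNagata ↑Γ(U, V)) X.obj := by
  obtain ⟨V, b, hb, hbs, hV⟩ := hY
  obtain ⟨U, a, h, ha, has, w⟩ := SpFP87.exists_compatible_chart f.hom X.property Y.property.diag hb hbs
  have := hf a b h ha hb w
  refine ⟨U, a, ha, has, fun W hW => ?_⟩
  have hcov : ∀ u : ↥U.left, ∃ A : U.left.affineOpens, u ∈ A.1 ∧ CAlg.IsNagata ↑Γ(U.left, A.1) := fun u => by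
    obtain ⟨B, hB, huB, -⟩ := exists_isAffineOpen_mem_and_subset (x := h.left u) (U := ⊤) trivial
    obtain ⟨A, hA, huA, hAB⟩ := exists_isAffineOpen_mem_and_subset (x := u) (U := h.left ⁻¹ᵁ B) huB
    letI := (h.left.appLE B A hAB).hom.toAlgebra
    haveI : Algebra.FiniteType Γ(V.left, B) Γ(U.left, A) :=
      RingHom.finiteType_algebraMap.1 (h.left.finiteType_appLE hB hA hAB)
    exact ⟨⟨A, hA⟩, huA, CAlg1.Nag.isNagata_of_finiteType (R := Γ(V.left, B)) (hV B hB)⟩
  choose A hA hN using hcov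
  exact Props58.isNagata_affineOpen A
    (top_le_iff.1 fun u _ => TopologicalSpace.Opens.mem_iSup.2 ⟨u, hA u⟩) hN ⟨W, hW⟩

end Groth.Agent.S9978
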