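import Groth.Statements.S9980
import Groth.Agent.SpFP87.Residual
import Groth.Agent.SpPts86.FTPoint
import Groth.Agent.SpFP87.EtLocInst
import Groth.Agent.SpFP87.LocP

set_option autoImplicit false
universe u
open CategoryTheory CategoryTheory.Limits AlgebraicGeometry
open AlgSp

namespace Groth.Agent.S9980

/-- Characterizations of finite type points via one-point algebraic spaces locally of finite type over X
and via monomorphisms from quotients of spectra of fields. -/
theorem result {S : Scheme.{u}} (X : AlgSp.Space S) (x : AlgSp.Points X.obj) :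
    ((∃ (k : Type u) (_ : Field k) (str : Spec (CommRingCat.of k) ⟶ S) (ξ : (AlgSp.yon S).obj (Over.mk str) ⟶ X.obj),
        AlgSp.LocP @LocallyOfFiniteType ξ ∧ AlgSp.Points.ofPt ξ (IsLocalRing.closedPoint k) = x) ↔
      ∃ (Z : AlgSp.Space S) (f : Z ⟶ X), Nonempty (Unique (AlgSp.Points Z.obj)) ∧
        AlgSp.LocP @LocallyOfFiniteType f.hom ∧ Set.range (AlgSp.Points.map f.hom) = {x}) ∧
    ((∃ (k : Type u) (_ : Field k) (str : Spec (CommRingCat.of k) ⟶ S) (ξ : (AlgSp.yon S).obj (Over.mk str) ⟶ X.obj),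
        AlgSp.LocP @LocallyOfFiniteType ξ ∧ AlgSp.Points.ofPt ξ (IsLocalRing.closedPoint k) = x) ↔
      ∃ (Z : AlgSp.Space S) (f : Z ⟶ X) (k : Type u) (_ : Field k) (str : Spec (CommRingCat.of k) ⟶ S)
        (z : (AlgSp.yon S).obj (Over.mk str) ⟶ Z.obj), AlgSp.RepWith @Etale z ∧ AlgSp.RepWith @Surjective z ∧
        AlgSp.LocP @LocallyOfFiniteType f.hom ∧ Mono f.hom ∧
        AlgSp.Points.ofPt (z ≫ f.hom) (IsLocalRing.closedPoint k) = x) := by
  have key : (∃ (k : Type u) (_ : Field k) (str : Spec (CommRingCat.of k) ⟶ S) (ξ : (AlgSp.yon S).obj (Over.mk str) ⟶ X.obj),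
        AlgSp.LocP @LocallyOfFiniteType ξ ∧ AlgSp.Points.ofPt ξ (IsLocalRing.closedPoint k) = x) →
      ∃ (Z : AlgSp.Space S) (f : Z ⟶ X) (k : Type u) (_ : Field k) (str : Spec (CommRingCat.of k) ⟶ S)
        (z : (AlgSp.yon S).obj (Over.mk str) ⟶ Z.obj), AlgSp.RepWith @Etale z ∧ AlgSp.RepWith @Surjective z ∧
        AlgSp.LocP @LocallyOfFiniteType f.hom ∧ Mono f.hom ∧
        AlgSp.Points.ofPt (z ≫ f.hom) (IsLocalRing.closedPoint k) = x := fun h => by
    obtain ⟨U, φ, u, hφ, hu, hx⟩ := (SpPts86.ftPoint_iff X.property x).1 h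
    obtain ⟨Q, i, q, hQ, hm, -, hqe, hqs, hi⟩ := SpFP87.exists_residual X.property hφ u
    have : IsClosedImmersion (U.left.fromSpecResidueField u) := isClosed_singleton_iff_isClosedImmersion.1 hu
    refine ⟨⟨Q, hQ⟩, ObjectProperty.homMk i, U.left.residueField u, inferInstance,
      U.left.fromSpecResidueField u ≫ U.hom, q, hqe, hqs, ?_, hm, ?_⟩
    · exact SpFP87.locP_of_chart hQ.diag X.property.diag hqe hqs hφ hi
        (inferInstanceAs (LocallyOfFiniteType (U.left.fromSpecResidueField u)))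
    · refine Eq.trans ?_ hx
      show AlgSp.Points.ofPt (q ≫ i) _ = _
      rw [hi, SpPts86.ofPt_comp]
      exact congrArg (AlgSp.Points.ofPt φ) (SpFP87.resIncl_apply u _)
  refine ⟨⟨fun h => ?_, ?_⟩, ⟨key, ?_⟩⟩
  · obtain ⟨Z, f, k, _, str, z, hze, hzs, hf, hm, hx⟩ := key h
    have hone : ∀ p : AlgSp.Points Z.obj, p = AlgSp.Points.ofPt z (IsLocalRing.closedPoint k) := fun p => by
      obtain ⟨w, rfl⟩ := SpPts86.surjective_ofPt hzs p
      exact congrArg (AlgSp.Points.ofPt z) (Subsingleton.elim (α := PrimeSpectrum k) w _)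
    refine ⟨Z, f, ⟨⟨⟨AlgSp.Points.ofPt z (IsLocalRing.closedPoint k)⟩, hone⟩⟩, hf, ?_⟩
    ext y
    constructor
    · rintro ⟨p, rfl⟩
      show _ = x
      rw [hone p, AlgSp.Points.map_ofPt, hx]
    · intro hy
      refine ⟨AlgSp.Points.ofPt z (IsLocalRing.closedPoint k), ?_⟩
      rw [AlgSp.Points.map_ofPt]
      exact hx.trans hy.symm
  · rintro ⟨Z, f, ⟨hZ⟩, hf, hr⟩
    obtain ⟨p, -, k, _, str, ξ, hξ, -⟩ := SpPts86.exists_ftPoint_of_isLocallyClosed Z.property
      isOpen_univ.isLocallyClosed (Set.univ_nonempty (α := AlgSp.Points Z.obj))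
    refine ⟨k, ‹_›, str, ξ ≫ f.hom, SpFP87.locP_comp (AlgSp.IsAlgSpace.yon_obj _) Z.property X.property hξ hf, ?_⟩
    rw [← AlgSp.Points.map_ofPt]
    have hmem : AlgSp.Points.map f.hom (AlgSp.Points.ofPt ξ (IsLocalRing.closedPoint k)) ∈
        Set.range (AlgSp.Points.map f.hom) := ⟨_, rfl⟩
    rw [hr] at hmem
    exact hmem
  · rintro ⟨Z, f, k, _, str, z, hze, -, hf, -, hx⟩
    have hle : (@Etale : MorphismProperty Scheme.{u}) ≤ @LocallyOfFiniteType := fun A B g hg => by
      have : Etale g := hg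
      infer_instance
    have h1 : AlgSp.RepWith (@LocallyOfFiniteType : MorphismProperty Scheme.{u}) z :=
      SpPts86.repWith_mono hle hze
    have h2 : AlgSp.LocP (@LocallyOfFiniteType : MorphismProperty Scheme.{u}) z :=
      SpFP87.locP_of_repWith (AlgSp.IsAlgSpace.yon_obj _).diag Z.property h1
    have h3 : AlgSp.LocP (@LocallyOfFiniteType : MorphismProperty Scheme.{u}) (z ≫ f.hom) :=
      SpFP87.locP_comp (AlgSp.IsAlgSpace.yon_obj _) Z.property X.property h2 hf
    refine ⟨k, ‹_›, str, z ≫ f.hom, ?_, ?_⟩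
    · exact h3
    · exact hx

end Groth.Agent.S9980
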