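import Groth.Statements.S9981
import Groth.Agent.SpPts86.LocConstr
import Groth.Agent.SpPts86.HasAtMorInv

set_option autoImplicit false
universe u
open CategoryTheory CategoryTheory.Limits AlgebraicGeometry
open AlgSp

namespace Groth.Agent.S9981

/-- The inverse image of an etale locally constructible subset under a morphism of algebraic spaces is
etale locally constructible. -/
theorem result {S : Scheme.{u}} {X Y : AlgSp.Space S} (f : X ⟶ Y)
    (E : Set (AlgSp.Points Y.obj))
    (hE : (∀ (U : Over S) (φ : (AlgSp.yon S).obj U ⟶ Y.obj), AlgSp.RepWith @Etale φ →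
        Topology.IsLocallyConstructible (AlgSp.Points.ofPt φ ⁻¹' E))) :
    (∀ (U : Over S) (φ : (AlgSp.yon S).obj U ⟶ X.obj), AlgSp.RepWith @Etale φ →
        Topology.IsLocallyConstructible (AlgSp.Points.ofPt φ ⁻¹' (AlgSp.Points.map f.hom ⁻¹' E))) := by
  intro U φ hφ
  obtain ⟨V, b, hb, hbs⟩ := Y.property.atlas
  obtain ⟨T, t, d, sq⟩ := SpFP87.exists_isPullback_yon Y.property.diag (φ ≫ f.hom) b
  have := SpFP87.etale_snd_of_isPullback sq.flip hb
  have : Surjective t.left := SpFP87.etale_snd_of_isPullback sq.flip hbs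
  refine SpPts86.isLocallyConstructible_of_preimage t.left t.left.isOpenMap t.left.surjective ?_
  have e : t.left ⁻¹' (AlgSp.Points.ofPt φ ⁻¹' (AlgSp.Points.map f.hom ⁻¹' E)) =
      d.left ⁻¹' (AlgSp.Points.ofPt b ⁻¹' E) := by
    ext w
    simp only [Set.mem_preimage, AlgSp.Points.map_ofPt, SpPts86.ofPt_eq_of_isPullback sq w]
  rw [e]
  exact SpPts86.isLocallyConstructible_preimage d.left (hE V b hb)

end Groth.Agent.S9981
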