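import Groth.Statements.S9983
import Groth.Agent.SpPts86.EtPush

set_option autoImplicit false
universe u
open CategoryTheory CategoryTheory.Limits AlgebraicGeometry
open AlgSp
set_option backward.isDefEq.respectTransparency false
set_option linter.style.haveILetI false

namespace Groth.Agent.S9983

/-- For a closed immersion i of algebraic spaces, i_* on the small etale sites is fully faithful on
sheaves of sets and on abelian sheaves, with i⁻¹ a left inverse (the counit i⁻¹ i_* ⟶ id is an
isomorphism). (The published statement also describes the essential images of i_*; this row states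
only full faithfulness and the left inverse.) -/
theorem result {S : Scheme.{u}} {Z X : AlgSp.Space S} (i : Z ⟶ X)
    (hi : AlgSp.RepWith @IsClosedImmersion i.hom) :
    ((AlgSp.pushEt hi.1 (Type (u + 1))).Full ∧ (AlgSp.pushEt hi.1 (Type (u + 1))).Faithful) ∧
    ((AlgSp.pushEt hi.1 AddCommGrpCat.{u + 1}).Full ∧ (AlgSp.pushEt hi.1 AddCommGrpCat.{u + 1}).Faithful) ∧
    IsIso (AlgSp.pullPushAdjEt hi.1 (Type (u + 1))).counit := by
  have hr := SpPts86.repWith_intUI_of_closedImm hi
  obtain ⟨h1, h2⟩ := SpPts86.pushEt_full_faithful hi.1 hr X.property (Type (u + 1))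
  refine ⟨⟨h1, h2⟩, SpPts86.pushEt_full_faithful hi.1 hr X.property AddCommGrpCat.{u + 1}, ?_⟩
  haveI := h1; haveI := h2
  infer_instance

end Groth.Agent.S9983
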