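import Groth.Statements.S9993
import Groth.Agent.SpPts86.LocPNear

set_option autoImplicit false
universe u
open CategoryTheory CategoryTheory.Limits AlgebraicGeometry
open AlgSp

namespace Groth.Agent.S9993

/-- A morphism f : X ⟶ Y of algebraic spaces has P at the point x in the neighbourhood sense (some chart
diagram through x whose top arrow has P on an open neighbourhood of the chosen point) if and only if
some open subspace X' of X through x has its restriction X' ⟶ Y in the class P etale locally on the
source and target. -/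
theorem result {S : Scheme.{u}} (P : MorphismProperty Scheme.{u})
    (hP : P = @LocallyOfFiniteType ∨ P = @LocallyOfFinitePresentation ∨ P = @Flat ∨ P = @Smooth ∨ P = @Etale ∨
      (∀ ⦃A B : Scheme.{u}⦄ (g : A ⟶ B), P g ↔ (LocallyQuasiFinite g ∧ LocallyOfFiniteType g)) ∨
      (∀ ⦃A B : Scheme.{u}⦄ (g : A ⟶ B), P g ↔ (LocallyOfFiniteType g ∧ FormallyUnramified g)))
    {X Y : AlgSp.Space S} (f : X ⟶ Y) (x : AlgSp.Points X.obj) :
    AlgSp.HasAtMor (fun U _ h u => ∃ W : U.Opens, u ∈ W ∧ P (W.ι ≫ h)) f.hom x ↔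
      ∃ (X' : AlgSp.Space S) (j : X' ⟶ X), AlgSp.RepWith @IsOpenImmersion j.hom ∧
        x ∈ Set.range (AlgSp.Points.map j.hom) ∧ AlgSp.LocP P (j ≫ f).hom := by
  obtain ⟨_, _⟩ := SpPts86.etLoc_zarSource_of_list hP
  constructor
  · intro hx
    obtain ⟨O, hO, hxO, hl⟩ := SpPts86.exists_open_subspace_of_near X.property Y.property hx
    exact ⟨⟨SpPts86.restrictSheaf X.obj O, SpPts86.isAlgSpace_restrictSheaf X.property hO⟩,
      ObjectProperty.homMk (SpPts86.restrictι X.obj O), SpPts86.repWith_restrictι hO,
      (SpPts86.range_map_restrictι hO).ge hxO, hl⟩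
  · rintro ⟨X', j, hj, ⟨y, rfl⟩, hl⟩
    exact SpPts86.near_of_open_subspace X.property Y.property X'.property hj hl y

end Groth.Agent.S9993
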