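import Groth.Statements.S9995
import Groth.Agent.SpPts86.QFFinite
import Groth.Agent.SpPts86.QCMor
import Groth.Agent.SpPts86.LocPNear

set_option autoImplicit false
universe u
open CategoryTheory CategoryTheory.Limits AlgebraicGeometry
open AlgSp

namespace Groth.Agent.S9995

/-- For a morphism f : X ⟶ Y of algebraic spaces of finite type and a point y of |Y|, the set of points
of |X| over y where f is quasi-finite is finite (in the neighbourhood sense, through some chart
diagram). -/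
theorem result {S : Scheme.{u}} {X Y : AlgSp.Space S} (f : X ⟶ Y)
    (hf : AlgSp.IsFiniteTypeMor f.hom) (y : AlgSp.Points Y.obj) :
    {x : AlgSp.Points X.obj | AlgSp.Points.map f.hom x = y ∧
      AlgSp.HasAtMor (fun U _ h u => ∃ W : U.Opens, u ∈ W ∧ LocallyQuasiFinite (W.ι ≫ h) ∧
        LocallyOfFiniteType (W.ι ≫ h)) f.hom x}.Finite := by
  obtain ⟨hlft, hqc⟩ := hf
  obtain ⟨V0, b0, hb0, hbs0⟩ := Y.property.atlas
  obtain ⟨v0, hv0⟩ := SpPts86.surjective_ofPt hbs0 y
  obtain ⟨O, hO, hv0O, -⟩ := exists_isAffineOpen_mem_and_subset (x := v0) (U := ⊤) (Set.mem_univ v0)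
  let V : CategoryTheory.Over S := Over.mk (O.ι ≫ V0.hom)
  let i : V ⟶ V0 := Over.homMk O.ι rfl
  let b := (AlgSp.yon S).map i ≫ b0
  have : Etale i.left := inferInstanceAs (Etale O.ι)
  have hb : AlgSp.RepWith @Etale b := SpPts86.repWith_etale_comp i hb0
  let v : ↥V.left := (⟨v0, hv0O⟩ : O.toScheme)
  have hv : AlgSp.Points.ofPt b v = y := by rw [SpPts86.ofPt_comp]; exact hv0
  have hVc : CompactSpace ↥V.left := isCompact_iff_compactSpace.1 hO.isCompact
  have : IsAffine V.left := hO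
  have sq := IsPullback.of_hasPullback f.hom b
  have hP := SpFP87.isAlgSpace_of_isPullback sq X.property (AlgSp.IsAlgSpace.yon_obj V) Y.property.diag
  obtain ⟨U, p, hp, hps, hU⟩ :=
    hqc (AlgSp.IsAlgSpace.yon_obj V) (SpPts86.isQuasiCompactSp_yon V) b _ _ sq
  let h : U ⟶ V := (AlgSp.yon S).preimage (p ≫ pullback.snd f.hom b)
  have ha : AlgSp.RepWith @Etale (p ≫ pullback.fst f.hom b) :=
    SpPts86.isEtaleMor_baseChange sq.flip (AlgSp.IsAlgSpace.yon_obj V) Y.property X.property
      (SpPts86.isEtaleMor_of_repWith_etale hb) p hp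
  have w : (p ≫ pullback.fst f.hom b) ≫ f.hom = (AlgSp.yon S).map h ≫ b := by
    rw [Category.assoc, sq.w, Functor.map_preimage, Category.assoc]
  have := hlft _ b h ha hb w
  have : QuasiCompact h.left := HasAffineProperty.iff_of_isAffine.2 hU
  refine ((SpPts86.finite_quasiFiniteAt_fibre h.left v).image
    (AlgSp.Points.ofPt (p ≫ pullback.fst f.hom b))).subset ?_
  rintro x ⟨hx, hqf⟩
  obtain ⟨z, hz1, hz2⟩ := SpPts86.exists_of_isPullback sq x (AlgSp.Points.ofScheme V v)
    (by rw [← AlgSp.Points.ofPt_eq_map_ofScheme, hv, hx])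
  obtain ⟨u, rfl⟩ := SpPts86.surjective_ofPt hps z
  have hu : AlgSp.Points.ofPt (p ≫ pullback.fst f.hom b) u = x := by rw [← hz1, AlgSp.Points.map_ofPt]
  refine ⟨u, ⟨?_, (SpPts86.nearPt_lqf_iff h.left u).1 ?_⟩, hu⟩
  · rw [AlgSp.Points.map_ofPt, ← Functor.map_preimage (AlgSp.yon S) (p ≫ pullback.snd f.hom b),
      SpPts86.ofPt_yon_map] at hz2
    exact (AlgSp.Points.schemeHomeo V).injective hz2
  · exact SpPts86.forall_diagram_of_hasAtMor X.property Y.property
      (SpPts86.etInv_nearPt (@LocallyQuasiFinite ⊓ @LocallyOfFiniteType : MorphismProperty Scheme.{u}))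
      hqf ha hb w hu

end Groth.Agent.S9995
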