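import Groth.Statements.S9998
import Groth.Agent.SpPts86.EtStalkPush

set_option autoImplicit false
universe u
open CategoryTheory CategoryTheory.Limits AlgebraicGeometry Opposite
open AlgSp
set_option backward.isDefEq.respectTransparency false

namespace Groth.Agent.S9998

/-- For a closed immersion i : Z ⟶ X of algebraic spaces over S, a geometric point z of Z and a sheaf of
sets F on the small etale site of Z, the stalk of i_* F at the image point of z is the stalk of F at
z: the map sending the germ at an etale neighbourhood (U, u) of the image point of a section s ∈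
(i_* F)(U) = F(U ×_X Z) to the germ of s at the neighbourhood (U ×_X Z, lift of u) of z is a well
defined bijection. (The published statement writes the two stalks with their subscripts
interchanged; the stalk of i_* F is taken at the point of X and that of F at the point of Z, the
only meaningful reading.) -/
theorem result {S : Scheme.{u}} {Z X : AlgSp.Space S} (i : Z ⟶ X)
    (hi : AlgSp.RepWith @IsClosedImmersion i.hom) (z : AlgSp.FieldPt Z.obj) (hz : z.IsGeometric)
    (F : AlgSp.EtSh Z.obj (Type (u + 1))) :
    ∃ φ : AlgSp.stalkEt (z.map i.hom) ((AlgSp.pushEt hi.1 (Type (u + 1))).obj F) ≃ AlgSp.stalkEt z F,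
      ∀ (N : AlgSp.EtNbhd (z.map i.hom)) (s : F.obj.obj (op ((AlgSp.EtOver.bc hi.1).obj N.1))),
        φ (AlgSp.stalkEtι (z.map i.hom) ((AlgSp.pushEt hi.1 (Type (u + 1))).obj F) N s) =
          AlgSp.stalkEtι z F ⟨(AlgSp.EtOver.bc hi.1).obj N.1,
            ⟨hi.1.lift z.toHom N.2.1 ((N.2.2.trans (AlgSp.FieldPt.toHom_map i.hom z)).symm),
              hi.1.lift_fst _ _ _⟩⟩ s := by
  let h := Groth.Agent.SpPts86.repWith_intUI_of_closedImm hi
  refine ⟨Equiv.ofBijective (Groth.Agent.SpPts86.stalkPushHom z hi.1 F)
    (Groth.Agent.SpPts86.stalkPushHom_bijective h Z.property X.property hz F), fun N s => ?_⟩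
  exact ConcreteCategory.congr_hom (Groth.Agent.SpPts86.ι_stalkPushHom hi.1 F N) s

end Groth.Agent.S9998
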